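import Cfsg.Agent.Lib.Invol.GW.Dihedral.LocalsCore
import Cfsg.Agent.Lib.Alt.AutAlternating

/-!
# Gorenstein–Walter, dihedral case: a fusing subgroup with socle `A₇`

The odd part of the centraliser of `t` has order three there, `τ` inverts it, another involution commuting with
`t` centralises it, and the odd elements of `R ⊓ H` lie in the core.
-/

set_option autoImplicit false
set_option linter.unusedSectionVars false
set_option linter.style.haveILetI false

namespace Cfsg.Agent.Invol.GW.Dihedral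

open Subgroup Klein Equiv

universe u

variable {G : Type u} [Group G]

/-- A double transposition of seven points. -/
def sevenT : Perm (Fin 7) := swap 0 1 * swap 2 3

/-- The three-cycle commuting with it. -/
def sevenC : Perm (Fin 7) := swap 4 5 * swap 5 6

/-- A double transposition centralising both. -/
def sevenR : Perm (Fin 7) := swap 0 2 * swap 1 3

/-- An involution of `A₇` is conjugate in `S₇` to `sevenT`. -/
theorem exists_conj_sevenT {x : Perm (Fin 7)} (hs : Perm.sign x = 1) (h2 : x * x = 1) (h1 : x ≠ 1) :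
    ∃ g : Perm (Fin 7), g * x * g⁻¹ = sevenT := by
  have key : ∀ y : Perm (Fin 7), y * y = 1 → Perm.sign y = 1 → y ≠ 1 → y.cycleType = {2, 2} := by
    intro y hy hys hy1
    have hall : ∀ a ∈ y.cycleType, a = 2 := fun a ha => by
      have h3 : a ∣ 2 := (Perm.dvd_of_mem_cycleType ha).trans (orderOf_dvd_of_pow_eq_one (by rw [pow_two, hy]))
      have h4 := Perm.two_le_of_mem_cycleType ha
      have := Nat.le_of_dvd two_pos h3
      omega
    have hrep := Multiset.eq_replicate_card.2 hall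
    have hsum : y.cycleType.sum ≤ 7 := by
      rw [Perm.sum_cycleType]
      exact (Finset.card_le_univ _).trans (by simp)
    rw [hrep, Multiset.sum_replicate, smul_eq_mul] at hsum
    rw [Perm.sign_of_cycleType, hrep, Multiset.sum_replicate, Multiset.card_replicate] at hys
    have h0 : y.cycleType.card ≠ 0 := fun e => hy1 (Perm.cycleType_eq_zero.1 (Multiset.card_eq_zero.1 e))
    rw [hrep]
    have hc : y.cycleType.card = 2 := by
      generalize y.cycleType.card = k at hsum h0 hys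
      rcases k with _ | _ | _ | _ | k
      · omega
      · exact absurd hys (by decide)
      · rfl
      · exact absurd hys (by decide)
      · omega
    rw [hc]
    rfl
  refine isConj_iff.1 (Perm.isConj_of_cycleType_eq ?_)
  rw [key x h2 hs h1, key sevenT (by decide) (by decide) (by decide)]

-- the search for the decidability instances is large
set_option synthInstance.maxSize 100000 in
set_option maxRecDepth 100000 in
/-- The centraliser of `sevenT` in `S₇`. -/
theorem seven_facts : ∀ c : Perm (Fin 7), c * sevenT = sevenT * c →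
    c * c * c * c * (c * c * c * c) * (c * c * c * c) = 1 ∧
    (c * c * c = 1 → c = 1 ∨ c = sevenC ∨ c = sevenC * sevenC) ∧
    (c * sevenC * c⁻¹ = sevenC ∨ c * sevenC * c⁻¹ = sevenC⁻¹) := by
  decide +kernel

/-- Odd elements of the centraliser. -/
theorem seven_mem {c : Perm (Fin 7)} (hc : c * sevenT = sevenT * c)
    (ho : Odd (orderOf c)) : c ∈ zpowers sevenC := by
  obtain ⟨h12, h3, -⟩ := seven_facts c hc
  have h1 : orderOf c ∣ 4 * 3 := orderOf_dvd_of_pow_eq_one (by rw [pow_mul]; simpa [pow_succ, mul_assoc] using h12)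
  have h2 : orderOf c ∣ 3 :=
    ((Nat.coprime_two_right.2 ho).pow_right 2).dvd_of_dvd_mul_left h1
  have h4 : c * c * c = 1 := by
    have := orderOf_dvd_iff_pow_eq_one.1 h2
    rwa [pow_succ, pow_two] at this
  rcases h3 h4 with e | e | e <;> rw [e]
  exacts [one_mem _, mem_zpowers _, mul_mem (mem_zpowers _) (mem_zpowers _)]

/-- An automorphism of `A₇` of odd order is conjugation by an even permutation. -/
theorem exists_even_conj (θ : MulAut (alternatingGroup (Fin 7))) (ho : Odd (orderOf θ)) :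
    ∃ s : alternatingGroup (Fin 7), θ = MulAut.conj s ∧ Odd (orderOf (s : Perm (Fin 7))) := by
  have hb := Cfsg.Agent.AltAut.conjNormal_bijective (α := Fin 7) (by simp) (by simp)
  obtain ⟨s, hs⟩ := hb.2 θ
  have ho' : Odd (orderOf s) := by
    rw [← orderOf_injective _ hb.1 s, hs]
    exact ho
  have hsign : Perm.sign s = 1 := by
    obtain ⟨j, hj⟩ := ho'
    have h1 := congrArg Perm.sign (pow_orderOf_eq_one s)
    rw [map_pow, hj, pow_succ, pow_mul, Int.units_sq, one_pow, one_mul, map_one] at h1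
    exact h1
  refine ⟨⟨s, hsign⟩, ?_, ho'⟩
  rw [← hs]
  exact MulEquiv.ext fun a => Subtype.ext (by simp [MulAut.conjNormal_apply])

namespace Hyp

variable [Finite G] {S : Sylow 2 G} {σ τ : G} {n : ℕ} (h : Hyp S σ τ n)
include h

/-- The data of a subgroup with socle `A₇`. -/
theorem localData_seven {H E : Subgroup G} {φ₀ : ↥E →* alternatingGroup (Fin 7)}
    (hE₀ : EData σ τ n H E φ₀) (hO : oddOf H ≤ fixR (central σ n) τ)
    (hmov : ¬ coreCent (central σ n) ⊓ H ≤ centralizer ({τ} : Set G)) : LocalData σ τ n H := by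
  set U := coreCent (central σ n) with hU
  set t : ↥E := ⟨central σ n, hE₀.four_le (left_mem_four _ _)⟩ with ht
  set u : ↥E := ⟨τ, hE₀.four_le (right_mem_four _ _)⟩ with hu
  -- normalise the image of `t`
  have ht1 : φ₀ t ≠ 1 := fun e =>
    h.central_ne_one (h.eq_one_of_mem_oddOf (left_mem_four _ _) ((hE₀.ker t).1 e))
  obtain ⟨g, hg⟩ := exists_conj_sevenT (x := (φ₀ t : Perm (Fin 7))) (φ₀ t).2
    (congrArg Subtype.val (show φ₀ t * φ₀ t = 1 by
      rw [← map_mul, show t * t = 1 from Subtype.ext h.central_mul_self, map_one]))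
    (fun e => ht1 (Subtype.ext e))
  let ψ : MulAut (alternatingGroup (Fin 7)) := MulAut.conjNormal g
  set φ := ψ.toMonoidHom.comp φ₀ with hφ
  have hE : EData σ τ n H E φ :=
    ⟨hE₀.le, hE₀.normal, hE₀.four_le, ψ.surjective.comp hE₀.surj,
      fun x => (map_eq_one_iff ψ ψ.injective).trans (hE₀.ker x), hE₀.comm_core, hE₀.perfect, hE₀.odd_index,
      hE₀.locE_eq, hE₀.normalizer_locE, hE₀.self⟩
  have htT : (φ t : Perm (Fin 7)) = sevenT := hg
  obtain ⟨Θ, hΘ, hΘker⟩ := hE.exists_auto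
  have hct : ∀ x : ↥E, (x : G) ∈ U → (φ x : Perm (Fin 7)) * sevenT = sevenT * (φ x : Perm (Fin 7)) := fun x hx => by
    rw [← htT]
    exact congrArg Subtype.val ((show Commute x t from Subtype.ext (h.commute_central hx).eq).map φ).eq
  have hodd : ∀ x : ↥E, (x : G) ∈ U → Odd (orderOf (φ x : Perm (Fin 7))) := fun x hx => by
    rw [Subgroup.orderOf_coe]
    refine Odd.of_dvd_nat ?_ (orderOf_map_dvd φ x)
    rw [← Subgroup.orderOf_coe]
    exact h.odd_orderOf h.odd_coreCent hx
  set T : Subgroup (alternatingGroup (Fin 7)) := zpowers ⟨sevenC, Perm.mem_alternatingGroup.2 (by decide)⟩ with hT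
  have hTm : ∀ x : ↥E, (x : G) ∈ U → φ x ∈ T := fun x hx => by
    obtain ⟨i, hi⟩ := mem_zpowers_iff.1 (seven_mem (hct x hx) (hodd x hx))
    exact mem_zpowers_iff.2 ⟨i, Subtype.ext (by simpa using hi)⟩
  -- `τ` inverts the three-cycle
  have hu2 : φ u * φ u = 1 := by rw [← map_mul, show u * u = 1 from Subtype.ext h.tau_mul_self, map_one]
  have huc : (φ u : Perm (Fin 7)) * sevenT = sevenT * (φ u : Perm (Fin 7)) := by
    rw [← htT]
    exact congrArg Subtype.val ((show Commute u t from Subtype.ext h.commute_central_tau.symm.eq).map φ).eq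
  have hinvC : (φ u : Perm (Fin 7)) * sevenC * (φ u : Perm (Fin 7))⁻¹ = sevenC⁻¹ := by
    refine (seven_facts _ huc).2.2.resolve_left fun hfix => hmov ?_
    intro x hx
    obtain ⟨hcU, hcinv⟩ := h.comm_tau hE hx
    set c : ↥E := ⟨x * τ * x⁻¹ * τ⁻¹, hcU.2⟩ with hc
    have h1 : φ u * φ c * (φ u)⁻¹ = φ c := by
      obtain ⟨i, hi⟩ := mem_zpowers_iff.1 (hTm c hcU.1)
      rw [← hi, ← conj_zpow]
      congr 1
      exact Subtype.ext hfix
    have h2 : φ u * φ c * (φ u)⁻¹ = (φ c)⁻¹ := by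
      rw [← map_inv, ← map_inv, ← map_mul, ← map_mul]
      exact congrArg φ (Subtype.ext hcinv)
    have h3 : φ c = 1 := by
      rw [h1, eq_inv_iff_mul_eq_one] at h2
      have h4 : orderOf (φ c : Perm (Fin 7)) ∣ 2 :=
        orderOf_dvd_of_pow_eq_one (by rw [pow_two]; exact congrArg Subtype.val h2)
      refine Subtype.ext (orderOf_eq_one_iff.1 (Nat.eq_one_of_dvd_coprimes ?_ dvd_rfl h4))
      exact Nat.coprime_two_right.2 (hodd c hcU.1)
    refine mem_centralizer_singleton_iff.2 ?_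
    have h5 := h.eq_one_of_inverted hO ((hE.ker c).1 h3) hcinv
    rw [mul_inv_eq_one, mul_inv_eq_iff_eq_mul] at h5
    exact h5
  obtain ⟨hmem, hcyc, hne, hsup⟩ := h.locD_facts hE hO hmov (T := T) inferInstance hTm
  -- the reflection centralising `locD`
  obtain ⟨e, he⟩ := hE.surj ⟨sevenR, Perm.mem_alternatingGroup.2 (by decide)⟩
  have hR2 : (⟨sevenR, Perm.mem_alternatingGroup.2 (by decide)⟩ : alternatingGroup (Fin 7)) * ⟨sevenR, Perm.mem_alternatingGroup.2 (by decide)⟩ = 1 :=
    Subtype.ext (by decide)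
  have hee : ((e * e : ↥E) : G) ∈ oddOf H := (hE.ker _).1 (by rw [map_mul, he, hR2])
  obtain ⟨j, hj⟩ : Odd (orderOf (e * e)) := by
    rw [← Subgroup.orderOf_coe]
    exact Odd.of_dvd_nat (odd_card_oddOf H) ((oddOf H).orderOf_dvd_natCard hee)
  set ρ : ↥E := e ^ (2 * j + 1) with hρ
  have hρ2 : ρ * ρ = 1 := by
    rw [hρ, ← (Commute.refl e).mul_pow, ← hj, pow_orderOf_eq_one]
  have hρφ : φ ρ = ⟨sevenR, Perm.mem_alternatingGroup.2 (by decide)⟩ := by
    rw [hρ, map_pow, he, pow_succ, pow_mul, pow_two, hR2, one_pow, one_mul]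
  have hρ1 : ρ ≠ 1 := fun e1 => by
    have h1 := congrArg Subtype.val hρφ
    rw [e1, map_one] at h1
    exact absurd h1 (by decide)
  -- commutation with an element mapped to something commuting with `sevenR`
  have hcomρ : ∀ y : ↥E, φ ρ * φ y = φ y * φ ρ → Commute (ρ : G) y := fun y hy => by
    set z : ↥E := ρ * y * ρ⁻¹ * y⁻¹ with hz
    have hzO : (z : G) ∈ oddOf H := (hE.ker z).1 (by
      rw [hz, map_mul, map_mul, map_mul, map_inv, map_inv, hy, mul_inv_cancel_right, mul_inv_cancel])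
    have hρi : ρ⁻¹ = ρ := inv_eq_of_mul_eq_one_left hρ2
    have hzc : Commute (ρ : G) z := hE.comm_core ρ ρ.2 z hzO
    have h1 : ρ * z * ρ⁻¹ = z := Subtype.ext (by
      show (ρ : G) * z * (ρ : G)⁻¹ = z
      rw [hzc.eq, mul_inv_cancel_right])
    have h2 : ρ * z * ρ⁻¹ = z⁻¹ := by
      rw [hz, show (ρ * y * ρ⁻¹ * y⁻¹)⁻¹ = y * ρ * y⁻¹ * ρ⁻¹ by group, hρi]
      simp only [← mul_assoc, hρ2, one_mul]
    rw [h1, eq_inv_iff_mul_eq_one] at h2
    have h3 : (z : G) = 1 := eq_one_of_odd (odd_card_oddOf H) hzO (congrArg Subtype.val h2)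
    have h4 : ρ * y * ρ⁻¹ * y⁻¹ = 1 := Subtype.ext h3
    rw [mul_inv_eq_one, mul_inv_eq_iff_eq_mul] at h4
    exact congrArg Subtype.val h4
  refine ⟨hE.normalizer_locE, ?_, ?_, hne, hcyc, fun d hd => ((hmem d).1 hd).2, hsup, ?_, Or.inl
    ⟨ρ, hE.le ρ.2, ?_, ?_, ?_, ?_⟩⟩
  · rw [hE.locE_eq]
    intro hle
    obtain ⟨y, hy⟩ := hE.surj ⟨swap 0 2 * swap 2 4, Perm.mem_alternatingGroup.2 (by decide)⟩
    have h1 : Commute y t := Subtype.ext (mem_centralizer_singleton_iff.1 (hle y.2))
    have h2 := congrArg Subtype.val (h1.map φ).eq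
    rw [hy, Subgroup.coe_mul, Subgroup.coe_mul, htT] at h2
    exact absurd h2 (by decide)
  · rw [hE.locE_eq]
    exact fun d hd => ((hmem d).1 hd).1
  · -- the odd elements of `R ⊓ H` lie in the core
    intro q _ x hx _ _ y hy
    rw [hE.locE_eq] at hy
    have hxU : x ∈ U := (h.mem_fixR.1 hx.1).1
    obtain ⟨s, hs, hso⟩ := exists_even_conj (Θ ⟨x, hx.2⟩) (Odd.of_dvd_nat (by
      rw [← Subgroup.orderOf_coe]
      exact h.odd_orderOf h.odd_coreCent hxU) (orderOf_map_dvd Θ ⟨x, hx.2⟩))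
    have hfix : ∀ v : ↥E, Commute x (v : G) → s * φ v = φ v * s := fun v hv => by
      refine mul_inv_eq_iff_eq_mul.1 ?_
      have h1 := hΘ ⟨x, hx.2⟩ v
      rw [hs, MulAut.conj_apply] at h1
      rw [h1]
      refine congrArg φ (Subtype.ext ?_)
      show x * v * x⁻¹ = v
      rw [hv.eq, mul_inv_cancel_right]
    have hst : (s : Perm (Fin 7)) * sevenT = sevenT * (s : Perm (Fin 7)) := by
      rw [← htT]
      exact congrArg Subtype.val (hfix t (h.commute_central hxU))
    obtain ⟨i, hi⟩ := mem_zpowers_iff.1 (seven_mem hst hso)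
    have hsu : (φ u : Perm (Fin 7)) * s * (φ u : Perm (Fin 7))⁻¹ = s :=
      congrArg Subtype.val (show φ u * s * (φ u)⁻¹ = s by
        rw [← hfix u (h.mem_fixR.1 hx.1).2, mul_inv_cancel_right])
    rw [← hi, ← conj_zpow, hinvC, inv_zpow, hi] at hsu
    have hs1 : (s : Perm (Fin 7)) = 1 := orderOf_eq_one_iff.1 (Nat.eq_one_of_dvd_coprimes
      (Nat.coprime_two_right.2 hso) dvd_rfl (orderOf_dvd_of_pow_eq_one (by rw [pow_two]; exact mul_eq_one_iff_eq_inv.2 hsu.symm)))
    have hxO := hΘker ⟨x, hx.2⟩ (by rw [hs, show s = 1 from Subtype.ext hs1, map_one])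
    exact (hE.comm_core y hy x hxO).symm
  · rw [Subgroup.orderOf_coe]
    exact orderOf_eq_prime (by rw [pow_two]; exact hρ2) hρ1
  · intro e1
    have h1 := congrArg Subtype.val hρφ
    rw [show ρ = t from Subtype.ext e1, htT] at h1
    exact absurd h1 (by decide)
  · exact hcomρ t (Subtype.ext (by
      rw [Subgroup.coe_mul, Subgroup.coe_mul, htT, hρφ]
      decide))
  · intro d hd
    obtain ⟨hdUE, -⟩ := (hmem d).1 hd
    refine hcomρ ⟨d, hdUE.2⟩ ?_
    obtain ⟨i, hi⟩ := mem_zpowers_iff.1 (hTm ⟨d, hdUE.2⟩ hdUE.1)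
    rw [← hi, hρφ]
    refine (Commute.zpow_right ?_ i).eq
    exact Subtype.ext (by decide)

end Hyp

end Cfsg.Agent.Invol.GW.Dihedral
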