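import Cfsg.Agent.Lib.Classical.PSLFieldAut
import Cfsg.Agent.Lib.Classical.MatrixOrders

/-!
# Gorenstein–Walter, dihedral: the involutions of `PGL₂(q)`, `q` odd

`PGL₂(q)` acts as automorphisms of `PSL₂(q)` (`inndiagHom`).  Its involutions are the traceless matrices; two
of them are conjugate when their determinants agree modulo squares, also while a commuting one is kept.  The
centraliser of an involution has order `2 (q ∓ 1)`, that of two commuting ones order four; a non-involution of odd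
order has an abelian centraliser with at most one involution.
-/

set_option autoImplicit false
set_option linter.unusedSectionVars false
set_option linter.style.haveILetI false

open scoped Classical

namespace Cfsg.Agent.Invol.GW.Dihedral.PGL

open Matrix Cfsg.Agent.Classical Cfsg.Agent.Classical.PSLAut

variable {F : Type} [Field F] [Fintype F]

local notation "M₂" => Matrix (Fin 2) (Fin 2) F
local notation "GL₂" => GL (Fin 2) F
local notation "AutQ" => MulAut (Matrix.ProjectiveSpecialLinearGroup (Fin 2) F)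
local notation "ι₂" => inndiagHom 2 F

/-- The matrix is traceless. -/
def Traceless (A : M₂) : Prop := A 1 1 = -A 0 0

theorem two_ne_zero (hodd : Odd (Fintype.card F)) : (2 : F) ≠ 0 :=
  Ring.two_ne_zero fun h => by
    have := FiniteField.even_card_of_char_two h
    have := Nat.odd_iff.1 hodd
    omega

theorem eq_smul_one_iff {M : M₂} {c : F} :
    M = c • 1 ↔ M 0 0 = c ∧ M 0 1 = 0 ∧ M 1 0 = 0 ∧ M 1 1 = c := by
  constructor
  · rintro rfl
    simp
  · rintro ⟨h1, h2, h3, h4⟩
    ext i j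
    fin_cases i <;> fin_cases j <;> simp [h1, h2, h3, h4]

theorem map_eq_iff {g h : GL₂} : ι₂ g = ι₂ h ↔ ∃ c : F, (g : M₂) = c • (h : M₂) := by
  rw [inndiagHom_apply, inndiagHom_apply]
  constructor
  · intro e
    obtain ⟨c, hc⟩ := (semi_inj le_rfl).1 e
    exact ⟨c, by rw [hc, Units.val_mul, Matrix.GeneralLinearGroup.coe_scalar]; simp [Matrix.smul_eq_diagonal_mul]⟩
  · rintro ⟨c, hc⟩
    have hc0 : c ≠ 0 := fun e => g.det_ne_zero (by rw [hc, e, zero_smul, Matrix.det_zero])
    refine (semi_inj le_rfl).2 ⟨Units.mk0 c hc0, Units.ext ?_⟩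
    rw [hc, Units.val_mul, Matrix.GeneralLinearGroup.coe_scalar]
    simp [Matrix.smul_eq_diagonal_mul]

theorem map_eq_one_iff {g : GL₂} : ι₂ g = 1 ↔ ∃ c : F, (g : M₂) = c • 1 := by
  rw [← map_one (ι₂), map_eq_iff]
  simp

theorem sq_of_traceless {A : M₂} (hA : Traceless A) : A * A = (-A.det) • 1 := by
  rw [eq_smul_one_iff]
  unfold Traceless at hA
  refine ⟨?_, ?_, ?_, ?_⟩ <;>
    simp only [Matrix.mul_apply, Fin.sum_univ_two, Matrix.det_fin_two, hA] <;> ring

theorem not_scalar_of_traceless (hodd : Odd (Fintype.card F)) {A : GL₂} (hA : Traceless (A : M₂)) (c : F) :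
    (A : M₂) ≠ c • 1 := by
  intro e
  obtain ⟨h1, h2, h3, h4⟩ := eq_smul_one_iff.1 e
  unfold Traceless at hA
  have hc : (2 : F) * c = 0 := by linear_combination hA - h4 - h1
  have hc0 := (mul_eq_zero.1 hc).resolve_left (two_ne_zero hodd)
  exact A.det_ne_zero (by rw [e, hc0, zero_smul, Matrix.det_zero])

theorem involution_of_traceless (hodd : Odd (Fintype.card F)) {A : GL₂} (hA : Traceless (A : M₂)) :
    ι₂ A ≠ 1 ∧ ι₂ A * ι₂ A = 1 := by
  refine ⟨fun e => ?_, ?_⟩
  · obtain ⟨c, hc⟩ := map_eq_one_iff.1 e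
    exact not_scalar_of_traceless hodd hA c hc
  · rw [← map_mul, map_eq_one_iff]
    exact ⟨_, by rw [Units.val_mul]; exact sq_of_traceless hA⟩

theorem traceless_of_involution {A : GL₂} (h1 : ι₂ A ≠ 1) (h2 : ι₂ A * ι₂ A = 1) : Traceless (A : M₂) := by
  rw [← map_mul, map_eq_one_iff] at h2
  obtain ⟨c, hc⟩ := h2
  obtain ⟨e00, e01, e10, e11⟩ := eq_smul_one_iff.1 hc
  simp only [Units.val_mul, Matrix.mul_apply, Fin.sum_univ_two] at e00 e01 e10 e11
  by_contra hne
  unfold Traceless at hne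
  have hs : (A : M₂) 0 0 + (A : M₂) 1 1 ≠ 0 := fun e => hne (by linear_combination e)
  have hb : (A : M₂) 0 1 = 0 := (mul_eq_zero.1 (by linear_combination e01 :
    ((A : M₂) 0 0 + (A : M₂) 1 1) * (A : M₂) 0 1 = 0)).resolve_left hs
  have hc' : (A : M₂) 1 0 = 0 := (mul_eq_zero.1 (by linear_combination e10 :
    ((A : M₂) 0 0 + (A : M₂) 1 1) * (A : M₂) 1 0 = 0)).resolve_left hs
  have hd : (A : M₂) 0 0 = (A : M₂) 1 1 := sub_eq_zero.1 ((mul_eq_zero.1 (by linear_combination e00 - e11 :
    ((A : M₂) 0 0 + (A : M₂) 1 1) * ((A : M₂) 0 0 - (A : M₂) 1 1) = 0)).resolve_left hs)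
  exact h1 (map_eq_one_iff.2 ⟨(A : M₂) 0 0, eq_smul_one_iff.2 ⟨rfl, hb, hc', hd.symm⟩⟩)

/-! ## Conjugacy -/

/-- For traceless matrices of the same determinant the sum or the difference is invertible. -/
theorem exists_sum_unit (hodd : Odd (Fintype.card F)) {A B : GL₂} (hdet : (A : M₂).det = (B : M₂).det) :
    ∃ (g : GL₂) (s : F), (s = 1 ∨ s = -1) ∧ (g : M₂) = (A : M₂) + s • (B : M₂) := by
  have h0 := A.det_ne_zero
  have h2 := two_ne_zero hodd
  by_cases h : ((A : M₂) + (1 : F) • (B : M₂)).det ≠ 0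
  · exact ⟨Matrix.GeneralLinearGroup.mkOfDetNeZero _ h, 1, Or.inl rfl, rfl⟩
  · push Not at h
    refine ⟨Matrix.GeneralLinearGroup.mkOfDetNeZero ((A : M₂) + (-1 : F) • (B : M₂)) fun h' => ?_, -1,
      Or.inr rfl, rfl⟩
    refine h0 ?_
    simp only [Matrix.det_fin_two, Matrix.add_apply, Matrix.smul_apply, smul_eq_mul] at h h' hdet ⊢
    have h4 : (2 : F) * (2 * ((A : M₂) 0 0 * (A : M₂) 1 1 - (A : M₂) 0 1 * (A : M₂) 1 0)) = 0 := by
      linear_combination h + h' + 2 * hdet
    exact (mul_eq_zero.1 ((mul_eq_zero.1 h4).resolve_left h2)).resolve_left h2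

/-- Traceless matrices whose determinants agree modulo squares are conjugate, and the conjugating element can
centralise what both of them invert. -/
theorem exists_conj (hodd : Odd (Fintype.card F)) {A B : GL₂} (hA : Traceless (A : M₂))
    (hB : Traceless (B : M₂)) {c : F} (hc : (A : M₂).det = c ^ 2 * (B : M₂).det) :
    ∃ g : GL₂, ι₂ g * ι₂ B * (ι₂ g)⁻¹ = ι₂ A ∧
      ∀ T : GL₂, (T : M₂) * A = -((A : M₂) * T) → (T : M₂) * B = -((B : M₂) * T) →
        Commute (ι₂ (g * B)) (ι₂ T) ∧ ι₂ (g * B) * ι₂ B * (ι₂ (g * B))⁻¹ = ι₂ A := by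
  have hc0 : c ≠ 0 := fun e => A.det_ne_zero (by rw [hc, e]; ring)
  obtain ⟨B', hB'⟩ : ∃ B' : GL₂, (B' : M₂) = c • (B : M₂) :=
    ⟨Matrix.GeneralLinearGroup.mkOfDetNeZero _ (by
      rw [Matrix.det_smul]; exact mul_ne_zero (pow_ne_zero _ hc0) B.det_ne_zero), rfl⟩
  have hBB : ι₂ B' = ι₂ B := map_eq_iff.2 ⟨c, hB'⟩
  have hB't : Traceless (B' : M₂) := by
    unfold Traceless at hB ⊢
    simp [hB', hB]
  have hdet : (A : M₂).det = (B' : M₂).det := by
    rw [hc, hB', Matrix.det_smul, Fintype.card_fin]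
  obtain ⟨g, s, hs, hg⟩ := exists_sum_unit hodd hdet
  have hss : s * s = 1 := by rcases hs with rfl | rfl <;> ring
  have hAA := sq_of_traceless hA
  have hBB' := sq_of_traceless hB't
  have hkey : (g : M₂) * (B' : M₂) = s • ((A : M₂) * (g : M₂)) := by
    rw [hg, add_mul, Matrix.smul_mul, mul_add, Matrix.mul_smul, smul_add, smul_smul, hss, one_smul, hBB', hAA,
      ← hdet]
    exact add_comm _ _
  have hconj : ι₂ g * ι₂ B * (ι₂ g)⁻¹ = ι₂ A := by
    rw [← hBB, mul_inv_eq_iff_eq_mul, ← map_mul, ← map_mul, map_eq_iff]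
    exact ⟨s, hkey⟩
  refine ⟨g, hconj, fun T hTA hTB => ⟨?_, ?_⟩⟩
  · show ι₂ (g * B) * ι₂ T = ι₂ T * ι₂ (g * B)
    rw [← map_mul, ← map_mul]
    refine congrArg _ (Units.ext ?_)
    simp only [Units.val_mul]
    have h1 : (T : M₂) * (g : M₂) = -((g : M₂) * T) := by
      rw [hg, mul_add, add_mul, Matrix.mul_smul, Matrix.smul_mul, hB', Matrix.mul_smul, Matrix.smul_mul, hTA, hTB]
      simp only [smul_neg]
      abel
    rw [← mul_assoc, h1, neg_mul, mul_assoc, mul_assoc, hTB, mul_neg, neg_neg]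
  · rw [map_mul, _root_.mul_inv_rev]
    calc ι₂ g * ι₂ B * ι₂ B * ((ι₂ B)⁻¹ * (ι₂ g)⁻¹) = ι₂ g * ι₂ B * (ι₂ g)⁻¹ := by group
      _ = _ := hconj

/-- Commuting distinct involutions anticommute as matrices. -/
theorem anticomm (hodd : Odd (Fintype.card F)) {A B : GL₂} (hA : Traceless (A : M₂)) (hB : Traceless (B : M₂))
    (h : Commute (ι₂ A) (ι₂ B)) (hne : ι₂ A ≠ ι₂ B) : (A : M₂) * B = -((B : M₂) * A) := by
  have h1 : ι₂ (A * B) = ι₂ (B * A) := by rw [map_mul, map_mul]; exact h.eq
  obtain ⟨c, hc⟩ := map_eq_iff.1 h1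
  rw [Units.val_mul, Units.val_mul] at hc
  have hd := congrArg Matrix.det hc
  rw [Matrix.det_smul, Fintype.card_fin, Matrix.det_mul, Matrix.det_mul, mul_comm (B : M₂).det] at hd
  have hc2 : c * c = 1 := by
    refine mul_right_cancel₀ (mul_ne_zero A.det_ne_zero B.det_ne_zero) ?_
    linear_combination -hd
  rcases mul_self_eq_one_iff.1 hc2 with rfl | rfl
  swap
  · simpa using hc
  exfalso
  refine hne ?_
  rw [one_smul] at hc
  have e00 := congrFun (congrFun hc 0) 0
  have e01 := congrFun (congrFun hc 0) 1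
  have e10 := congrFun (congrFun hc 1) 0
  unfold Traceless at hA hB
  simp only [Matrix.mul_apply, Fin.sum_univ_two, hA, hB] at e00 e01 e10
  have h2 := two_ne_zero hodd
  have p1 : (A : M₂) 0 1 * (B : M₂) 1 0 = (B : M₂) 0 1 * (A : M₂) 1 0 := by linear_combination e00
  have p2 : (A : M₂) 0 0 * (B : M₂) 0 1 = (B : M₂) 0 0 * (A : M₂) 0 1 :=
    mul_left_cancel₀ h2 (by linear_combination e01)
  have p3 : (A : M₂) 0 0 * (B : M₂) 1 0 = (B : M₂) 0 0 * (A : M₂) 1 0 :=
    mul_left_cancel₀ h2 (by linear_combination -e10)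
  refine map_eq_iff.2 ?_
  by_cases hb : (B : M₂) 0 1 = 0
  · by_cases hcc : (B : M₂) 1 0 = 0
    · have ha0 : (B : M₂) 0 0 ≠ 0 := fun e => B.det_ne_zero (by rw [Matrix.det_fin_two, e, hb]; ring)
      rw [hb, mul_zero] at p2
      rw [hcc, mul_zero] at p3
      refine ⟨(A : M₂) 0 0 / (B : M₂) 0 0, ?_⟩
      ext i j
      fin_cases i <;> fin_cases j
      · simp [ha0]
      · simp [hb, (mul_eq_zero.1 p2.symm).resolve_left ha0]
      · simp [hcc, (mul_eq_zero.1 p3.symm).resolve_left ha0]
      · simp [hA, hB, ha0]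
    · refine ⟨(A : M₂) 1 0 / (B : M₂) 1 0, ?_⟩
      ext i j
      fin_cases i <;> fin_cases j <;> simp [hA, hB, hb] <;> (try field_simp)
      · linear_combination p3
      · rw [hb, zero_mul] at p1
        exact (mul_eq_zero.1 p1).resolve_right hcc
      · linear_combination p3
  · refine ⟨(A : M₂) 0 1 / (B : M₂) 0 1, ?_⟩
    ext i j
    fin_cases i <;> fin_cases j <;> simp [hA, hB] <;> field_simp
    · linear_combination p2
    · linear_combination -p1
    · linear_combination p2

/-! ## Centralisers -/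

/-- What commutes with a matrix that is not scalar is a polynomial in it. -/
theorem commutant (hodd : Odd (Fintype.card F)) {A g : M₂} (hA : ∀ c : F, A ≠ c • 1) (h : g * A = A * g) :
    ∃ x y : F, g = x • 1 + y • A := by
  have h2 := two_ne_zero hodd
  have e00 := congrFun (congrFun h 0) 0
  have e01 := congrFun (congrFun h 0) 1
  have e10 := congrFun (congrFun h 1) 0
  simp only [Matrix.mul_apply, Fin.sum_univ_two] at e00 e01 e10
  have fin : ∀ y : F, g 0 1 = y * A 0 1 → g 1 0 = y * A 1 0 → g 1 1 = g 0 0 + y * (A 1 1 - A 0 0) →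
      ∃ x y : F, g = x • 1 + y • A := fun y k1 k2 k3 => ⟨g 0 0 - y * A 0 0, y, by
    ext i j
    fin_cases i <;> fin_cases j <;> simp [k1, k2, k3] <;> ring⟩
  by_cases hb : A 0 1 = 0
  · by_cases hc : A 1 0 = 0
    · have hd : A 1 1 - A 0 0 ≠ 0 := fun e => hA (A 0 0) (eq_smul_one_iff.2 ⟨rfl, hb, hc, by linear_combination e⟩)
      refine fin ((g 1 1 - g 0 0) / (A 1 1 - A 0 0)) ?_ ?_ ?_
      · rw [hb, mul_zero]
        refine (mul_eq_zero.1 (?_ : g 0 1 * (A 1 1 - A 0 0) = 0)).resolve_right hd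
        rw [hb] at e01
        linear_combination e01
      · rw [hc, mul_zero]
        refine (mul_eq_zero.1 (?_ : g 1 0 * (A 1 1 - A 0 0) = 0)).resolve_right hd
        rw [hc] at e10
        linear_combination -e10
      · field_simp
        ring
    · refine fin (g 1 0 / A 1 0) ?_ ?_ ?_ <;> field_simp
      · linear_combination e00
      · linear_combination e10
  · refine fin (g 0 1 / A 0 1) ?_ ?_ ?_ <;> field_simp
    · linear_combination -e00
    · linear_combination -e01

theorem scalar_of_commute_two (hodd : Odd (Fintype.card F)) {A B g : GL₂} (hA : Traceless (A : M₂))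
    (hanti : (A : M₂) * B = -((B : M₂) * A)) (h1 : (g : M₂) * A = A * g) (h2 : (g : M₂) * B = B * g) :
    ι₂ g = 1 := by
  obtain ⟨x, y, hg⟩ := commutant hodd (not_scalar_of_traceless hodd hA) h1
  refine map_eq_one_iff.2 ⟨x, ?_⟩
  rw [hg, add_mul, mul_add, Matrix.smul_mul, Matrix.mul_smul, Matrix.smul_mul, Matrix.mul_smul, one_mul, mul_one,
    hanti, add_right_inj] at h2
  have h3 : ((2 : F) * y) • ((B : M₂) * A) = 0 := by
    rw [mul_smul, two_smul]
    rw [smul_neg] at h2
    nth_rewrite 1 [← h2]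
    exact neg_add_cancel _
  have hy : y = 0 := by
    rcases smul_eq_zero.1 h3 with h4 | h4
    · exact (mul_eq_zero.1 h4).resolve_left (two_ne_zero hodd)
    · exact absurd (congrArg Matrix.det h4) (by
        rw [Matrix.det_mul, Matrix.det_zero]; exact mul_ne_zero B.det_ne_zero A.det_ne_zero)
  rw [hg, hy, zero_smul, add_zero]

/-- A lift of a centralising element commutes or anticommutes. -/
theorem lift_cases {A g : GL₂} (h : Commute (ι₂ g) (ι₂ A)) :
    (g : M₂) * A = A * g ∨ (g : M₂) * A = -((A : M₂) * g) := by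
  have h1 : ι₂ (g * A) = ι₂ (A * g) := by rw [map_mul, map_mul]; exact h.eq
  obtain ⟨c, hc⟩ := map_eq_iff.1 h1
  rw [Units.val_mul, Units.val_mul] at hc
  have hd := congrArg Matrix.det hc
  rw [Matrix.det_smul, Fintype.card_fin, Matrix.det_mul, Matrix.det_mul, mul_comm (A : M₂).det] at hd
  have hc2 : c * c = 1 := by
    refine mul_right_cancel₀ (mul_ne_zero g.det_ne_zero A.det_ne_zero) ?_
    linear_combination -hd
  rcases mul_self_eq_one_iff.1 hc2 with rfl | rfl
  · exact Or.inl (by simpa using hc)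
  · exact Or.inr (by simpa using hc)

/-- Two commuting involutions centralise only the four group they generate. -/
theorem card_centralizer_pair (hodd : Odd (Fintype.card F)) {A B : GL₂} (hA : Traceless (A : M₂))
    (hB : Traceless (B : M₂)) (hanti : (A : M₂) * B = -((B : M₂) * A)) :
    Nat.card {x : AutQ // x ∈ (ι₂).range ∧ Commute x (ι₂ A) ∧ Commute x (ι₂ B)} = 4 := by
  obtain ⟨hA1, hA2⟩ := involution_of_traceless hodd hA
  obtain ⟨hB1, hB2⟩ := involution_of_traceless hodd hB
  have hcomm : Commute (ι₂ A) (ι₂ B) := by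
    show ι₂ A * ι₂ B = ι₂ B * ι₂ A
    rw [← map_mul, ← map_mul, map_eq_iff]
    exact ⟨-1, by simp [Units.val_mul, hanti]⟩
  have hne : ι₂ A ≠ ι₂ B := fun e => by
    obtain ⟨c, hc⟩ := map_eq_iff.1 e
    rw [hc, Matrix.smul_mul, Matrix.mul_smul, ← smul_neg] at hanti
    have hc0 : c ≠ 0 := fun e0 => A.det_ne_zero (by rw [hc, e0, zero_smul, Matrix.det_zero])
    have h1 : (2 : F) • ((B : M₂) * B) = 0 := by
      rw [two_smul]
      nth_rewrite 1 [smul_right_injective M₂ hc0 hanti]
      exact neg_add_cancel _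
    rcases smul_eq_zero.1 h1 with h | h
    · exact two_ne_zero hodd h
    · exact absurd (congrArg Matrix.det h) (by
        rw [Matrix.det_mul, Matrix.det_zero]; exact mul_ne_zero B.det_ne_zero B.det_ne_zero)
  have hset : {x : AutQ | x ∈ (ι₂).range ∧ Commute x (ι₂ A) ∧ Commute x (ι₂ B)} =
      {1, ι₂ A, ι₂ B, ι₂ A * ι₂ B} := by
    ext x
    simp only [Set.mem_ofPred_eq, Set.mem_insert_iff, Set.mem_singleton_iff]
    constructor
    · rintro ⟨⟨g, rfl⟩, ha, hb⟩
      have hBA : (B : M₂) * A = -((A : M₂) * B) := by rw [hanti, neg_neg]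
      rcases lift_cases ha with h1 | h1 <;> rcases lift_cases hb with h2 | h2
      · exact Or.inl (scalar_of_commute_two hodd hA hanti h1 h2)
      · refine Or.inr (Or.inl (mul_inv_eq_one.1 ?_))
        rw [← map_inv, ← map_mul]
        have hinv : ι₂ A⁻¹ = ι₂ A := by rw [map_inv, inv_eq_of_mul_eq_one_right hA2]
        rw [map_mul, hinv, ← map_mul]
        refine scalar_of_commute_two hodd hA hanti ?_ ?_ <;> simp only [Units.val_mul]
        · rw [← mul_assoc, ← h1, mul_assoc]
        · rw [mul_assoc, hanti, mul_neg, ← mul_assoc, h2, neg_mul, neg_neg, mul_assoc]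
      · refine Or.inr (Or.inr (Or.inl (mul_inv_eq_one.1 ?_)))
        rw [← map_inv, ← map_mul]
        have hinv : ι₂ B⁻¹ = ι₂ B := by rw [map_inv, inv_eq_of_mul_eq_one_right hB2]
        rw [map_mul, hinv, ← map_mul]
        refine scalar_of_commute_two hodd hA hanti ?_ ?_ <;> simp only [Units.val_mul]
        · rw [mul_assoc, hBA, mul_neg, ← mul_assoc, h1, neg_mul, neg_neg, mul_assoc]
        · rw [← mul_assoc, ← h2, mul_assoc]
      · refine Or.inr (Or.inr (Or.inr (mul_inv_eq_one.1 ?_)))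
        rw [_root_.mul_inv_rev, inv_eq_of_mul_eq_one_right hA2, inv_eq_of_mul_eq_one_right hB2, ← map_mul, ← map_mul]
        refine scalar_of_commute_two hodd hA hanti ?_ ?_ <;> simp only [Units.val_mul]
        · calc (g : M₂) * ((B : M₂) * A) * A = g * ((B : M₂) * A) * A := rfl
            _ = -((g : M₂) * ((A : M₂) * B * A)) := by rw [hBA]; noncomm_ring
            _ = (A : M₂) * ((g : M₂) * (B * A)) := by rw [mul_assoc (A : M₂), ← mul_assoc (g : M₂), h1]; noncomm_ring
        · calc (g : M₂) * ((B : M₂) * A) * B = (g : M₂) * B * (A * B) := by noncomm_ring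
            _ = (B : M₂) * ((g : M₂) * (B * A)) := by rw [h2, hanti]; noncomm_ring
    · rintro (rfl | rfl | rfl | rfl)
      · exact ⟨one_mem _, Commute.one_left _, Commute.one_left _⟩
      · exact ⟨⟨A, rfl⟩, Commute.refl _, hcomm⟩
      · exact ⟨⟨B, rfl⟩, hcomm.symm, Commute.refl _⟩
      · exact ⟨⟨A * B, map_mul _ _ _⟩, (Commute.refl _).mul_left hcomm.symm,
          hcomm.mul_left (Commute.refl _)⟩
  have hBinv : (ι₂ B)⁻¹ = ι₂ B := inv_eq_of_mul_eq_one_right hB2
  have hab : ι₂ A * ι₂ B ≠ 1 := fun e => hne ((mul_eq_one_iff_eq_inv.1 e).trans hBinv)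
  rw [show Nat.card {x : AutQ // x ∈ (ι₂).range ∧ Commute x (ι₂ A) ∧ Commute x (ι₂ B)} =
    Set.ncard {x : AutQ | x ∈ (ι₂).range ∧ Commute x (ι₂ A) ∧ Commute x (ι₂ B)} from
    Nat.card_coe_set_eq _, hset]
  rw [Set.ncard_insert_of_notMem, Set.ncard_insert_of_notMem, Set.ncard_insert_of_notMem, Set.ncard_singleton]
  · simpa using fun e : ι₂ B = ι₂ A * ι₂ B => hA1 (mul_eq_right.1 e.symm)
  · simp [hne, hB1]
  · simp [Ne.symm hA1, Ne.symm hB1, Ne.symm hab]

/-- The zeros of `x² - a y²`. -/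
theorem card_norm_units (hodd : Odd (Fintype.card F)) {a : F} (ha : a ≠ 0) :
    (IsSquare a → Nat.card {p : F × F // p.1 * p.1 - a * (p.2 * p.2) ≠ 0} =
        (Fintype.card F - 1) * (Fintype.card F - 1)) ∧
      (¬ IsSquare a → Nat.card {p : F × F // p.1 * p.1 - a * (p.2 * p.2) ≠ 0} =
        (Fintype.card F - 1) * (Fintype.card F + 1)) := by
  have h2 := two_ne_zero hodd
  constructor
  · rintro ⟨r, rfl⟩
    have hr : r ≠ 0 := fun e => ha (by rw [e, mul_zero])
    let e : {p : F × F // p.1 * p.1 - r * r * (p.2 * p.2) ≠ 0} ≃ Fˣ × Fˣ :=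
      { toFun := fun p => (Units.mk0 (p.1.1 + r * p.1.2) fun e => p.2 (by linear_combination (p.1.1 - r * p.1.2) * e),
          Units.mk0 (p.1.1 - r * p.1.2) fun e => p.2 (by linear_combination (p.1.1 + r * p.1.2) * e))
        invFun := fun u => ⟨(((u.1 : F) + u.2) / 2, ((u.1 : F) - u.2) / (2 * r)), by
          intro e
          refine mul_ne_zero u.1.ne_zero u.2.ne_zero ?_
          field_simp at e
          ring_nf at e
          have : (4 : F) * ((u.1 : F) * u.2) = 0 := by linear_combination e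
          rw [show (4 : F) = 2 * 2 by norm_num] at this
          exact (mul_eq_zero.1 this).resolve_left (mul_ne_zero h2 h2)⟩
        left_inv := fun p => by
          refine Subtype.ext (Prod.ext ?_ ?_) <;> simp <;> field_simp <;> ring
        right_inv := fun u => by
          refine Prod.ext (Units.ext ?_) (Units.ext ?_) <;> simp <;> field_simp <;> ring }
    rw [Nat.card_congr e, Nat.card_prod, Nat.card_units, Nat.card_eq_fintype_card]
  · intro hns
    have h1 : ∀ p : F × F, p.1 * p.1 - a * (p.2 * p.2) ≠ 0 ↔ p ≠ 0 := fun p => by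
      constructor
      · rintro h rfl
        simp at h
      · intro h e
        by_cases hy : p.2 = 0
        · rw [hy, mul_zero, mul_zero, sub_zero] at e
          exact h (Prod.ext (mul_self_eq_zero.1 e) hy)
        · exact hns ⟨p.1 / p.2, by field_simp; linear_combination -e⟩
    rw [Nat.card_congr (Equiv.subtypeEquivRight h1), Nat.card_eq_fintype_card, Fintype.card_subtype_compl,
      Fintype.card_subtype_eq, Fintype.card_prod]
    have hq : 1 ≤ Fintype.card F := Fintype.card_pos
    obtain ⟨k, hk⟩ := Nat.exists_eq_add_of_le hq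
    rw [hk]
    rw [Nat.add_sub_cancel_left]
    rw [show (1 + k) * (1 + k) = k * (1 + k + 1) + 1 by ring, Nat.add_sub_cancel]

/-- The centraliser of an involution with a commuting partner has order `2 (q ∓ 1)`. -/
theorem card_centralizer (hodd : Odd (Fintype.card F)) {A B : GL₂} (hA : Traceless (A : M₂))
    (hanti : (A : M₂) * B = -((B : M₂) * A)) :
    (IsSquare (-(A : M₂).det) →
        Nat.card {x : AutQ // x ∈ (ι₂).range ∧ Commute x (ι₂ A)} = 2 * (Fintype.card F - 1)) ∧
      (¬ IsSquare (-(A : M₂).det) →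
        Nat.card {x : AutQ // x ∈ (ι₂).range ∧ Commute x (ι₂ A)} = 2 * (Fintype.card F + 1)) := by
  set a : F := -(A : M₂).det with ha
  have ha0 : a ≠ 0 := neg_ne_zero.2 A.det_ne_zero
  set P := {p : F × F // p.1 * p.1 - a * (p.2 * p.2) ≠ 0}
  have hdet : ∀ p : F × F, (p.1 • (1 : M₂) + p.2 • (A : M₂)).det = p.1 * p.1 - a * (p.2 * p.2) := fun p => by
    unfold Traceless at hA
    simp [ha, Matrix.det_fin_two, hA]
    ring
  let mk : Bool × P → GL₂ := fun q => Matrix.GeneralLinearGroup.mkOfDetNeZero (q.2.1.1 • (1 : M₂) + q.2.1.2 • (A : M₂))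
    (by rw [hdet]; exact q.2.2) * (if q.1 then B else 1)
  -- the preimage of the centraliser
  set H := {g : GL₂ // Commute (ι₂ g) (ι₂ A)}
  have hmk : ∀ q, Commute (ι₂ (mk q)) (ι₂ A) := fun q => by
    have h1 : Commute (ι₂ (Matrix.GeneralLinearGroup.mkOfDetNeZero (q.2.1.1 • (1 : M₂) + q.2.1.2 • (A : M₂))
        (by rw [hdet]; exact q.2.2))) (ι₂ A) := by
      refine (Commute.map ?_ _)
      refine Units.ext ?_
      show (q.2.1.1 • (1 : M₂) + q.2.1.2 • (A : M₂)) * A = A * (q.2.1.1 • (1 : M₂) + q.2.1.2 • (A : M₂))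
      rw [add_mul, mul_add, Matrix.smul_mul, Matrix.mul_smul, Matrix.smul_mul, Matrix.mul_smul, one_mul, mul_one]
    simp only [mk, map_mul]
    refine h1.mul_left ?_
    split
    · show ι₂ B * ι₂ A = ι₂ A * ι₂ B
      rw [← map_mul, ← map_mul, map_eq_iff]
      exact ⟨-1, by simp [Units.val_mul, hanti]⟩
    · rw [map_one]
      exact Commute.one_left _
  have hbij : Function.Bijective (fun q => (⟨mk q, hmk q⟩ : H)) := by
    constructor
    · intro q q' e
      have e' : (mk q : M₂) = (mk q' : M₂) := congrArg (fun h : H => ((h.1 : GL₂) : M₂)) e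
      have hcomm : ∀ p : F × F, (p.1 • (1 : M₂) + p.2 • (A : M₂)) * A = A * (p.1 • (1 : M₂) + p.2 • (A : M₂)) :=
        fun p => by
          rw [add_mul, mul_add, Matrix.smul_mul, Matrix.mul_smul, Matrix.smul_mul, Matrix.mul_smul, one_mul, mul_one]
      have hinj : ∀ p p' : F × F, p.1 • (1 : M₂) + p.2 • (A : M₂) = p'.1 • (1 : M₂) + p'.2 • (A : M₂) → p = p' := by
        intro p p' ep
        have h1 : (p.2 - p'.2) • (A : M₂) = (p'.1 - p.1) • (1 : M₂) := by
          rw [sub_smul, sub_smul, sub_eq_sub_iff_add_eq_add, add_comm, ep, add_comm]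
        by_cases hy : p.2 - p'.2 = 0
        · rw [hy, zero_smul, eq_comm, smul_eq_zero] at h1
          exact Prod.ext (sub_eq_zero.1 (h1.resolve_right one_ne_zero)).symm (sub_eq_zero.1 hy)
        · exact absurd ((eq_inv_smul_iff₀ hy).2 h1) (by rw [smul_smul]; exact not_scalar_of_traceless hodd hA _)
      obtain ⟨c, p, hp⟩ := q
      obtain ⟨c', p', hp'⟩ := q'
      have hcc : c = c' := by
        -- one of them commutes with `A`, the other inverts it
        by_contra hne
        have key : ∀ (r r' : F × F), r'.1 * r'.1 - a * (r'.2 * r'.2) ≠ 0 →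
            (r.1 • (1 : M₂) + r.2 • (A : M₂)) = (r'.1 • (1 : M₂) + r'.2 • (A : M₂)) * B → False := by
          intro r r' hr' er
          have h1 := hcomm r
          rw [er, mul_assoc, ← neg_neg ((B : M₂) * A), ← hanti, mul_neg, ← mul_assoc, hcomm r', mul_assoc] at h1
          have h3 : (2 : F) • ((A : M₂) * ((r'.1 • (1 : M₂) + r'.2 • (A : M₂)) * B)) = 0 := by
            rw [two_smul]
            nth_rewrite 1 [← h1]
            exact neg_add_cancel _
          rcases smul_eq_zero.1 h3 with h | h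
          · exact two_ne_zero hodd h
          · have h4 := congrArg Matrix.det h
            rw [Matrix.det_mul, Matrix.det_mul, hdet, Matrix.det_zero] at h4
            exact mul_ne_zero A.det_ne_zero (mul_ne_zero hr' B.det_ne_zero) h4
        cases c <;> cases c' <;>
          simp [mk, Matrix.GeneralLinearGroup.mkOfDetNeZero] at hne e'
        · exact key p p' hp' e'
        · exact key p' p hp e'.symm
      subst hcc
      refine Prod.ext rfl (Subtype.ext (hinj _ _ ?_))
      cases c
      · simpa [mk, Matrix.GeneralLinearGroup.mkOfDetNeZero] using e'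
      · have h5 := congrArg (fun M : M₂ => M * ((B⁻¹ : GL₂) : M₂)) e'
        simp only [mk, ↓reduceIte, Units.val_mul, Units.mul_inv_cancel_right] at h5
        exact h5
    · rintro ⟨g, hg⟩
      rcases lift_cases hg with h1 | h1
      · obtain ⟨x, y, hxy⟩ := commutant hodd (not_scalar_of_traceless hodd hA) h1
        refine ⟨(false, ⟨(x, y), by rw [← hdet, ← hxy]; exact g.det_ne_zero⟩), Subtype.ext (Units.ext ?_)⟩
        simp [mk, Matrix.GeneralLinearGroup.mkOfDetNeZero, hxy]
      · have h2 : ((g * B⁻¹ : GL₂) : M₂) * A = A * ((g * B⁻¹ : GL₂) : M₂) := by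
          have h3 : ((g * B⁻¹ : GL₂) : M₂) * A * B = A * ((g * B⁻¹ : GL₂) : M₂) * B := by
            rw [mul_assoc, hanti, mul_neg, ← mul_assoc, mul_assoc (A : M₂), ← Units.val_mul (g * B⁻¹),
              inv_mul_cancel_right, h1, neg_neg]
          have := congrArg (fun M : M₂ => M * ((B⁻¹ : GL₂) : M₂)) h3
          simpa only [Units.mul_inv_cancel_right] using this
        obtain ⟨x, y, hxy⟩ := commutant hodd (not_scalar_of_traceless hodd hA) h2
        refine ⟨(true, ⟨(x, y), by rw [← hdet, ← hxy]; exact (g * B⁻¹).det_ne_zero⟩), Subtype.ext (Units.ext ?_)⟩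
        simp only [mk, ↓reduceIte, Units.val_mul]
        show (x • (1 : M₂) + y • (A : M₂)) * (B : M₂) = g
        rw [← hxy, ← Units.val_mul, inv_mul_cancel_right]
  have hH : Nat.card H = 2 * Nat.card P := by
    rw [← Nat.card_congr (Equiv.ofBijective _ hbij), Nat.card_prod]
    simp
  have hfib : Nat.card H = Nat.card {x : AutQ // x ∈ (ι₂).range ∧ Commute x (ι₂ A)} * (Fintype.card F - 1) := by
    let K : Subgroup GL₂ := (Subgroup.centralizer ({ι₂ A} : Set AutQ)).comap (ι₂)
    have e1 : Nat.card H = Nat.card ↥K := Nat.card_congr (Equiv.subtypeEquivRight fun g => by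
      show Commute (ι₂ g) (ι₂ A) ↔ ι₂ g ∈ Subgroup.centralizer ({ι₂ A} : Set AutQ)
      rw [Subgroup.mem_centralizer_singleton_iff]; rfl)
    set f : ↥K →* AutQ := (ι₂).comp K.subtype with hf
    have e2 : Nat.card ↥f.range = Nat.card {x : AutQ // x ∈ (ι₂).range ∧ Commute x (ι₂ A)} :=
      Nat.card_congr (Equiv.subtypeEquivRight fun x => by
        constructor
        · rintro ⟨g, rfl⟩
          exact ⟨⟨g, rfl⟩, Subgroup.mem_centralizer_singleton_iff.1 g.2⟩
        · rintro ⟨⟨g, rfl⟩, hc⟩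
          exact ⟨⟨g, Subgroup.mem_centralizer_singleton_iff.2 hc.eq⟩, rfl⟩)
    have e3 : Nat.card ↥f.ker = Fintype.card F - 1 := by
      have hle : Subgroup.center GL₂ ≤ K := fun g hg => by
        rw [← ker_inndiagHom le_rfl, MonoidHom.mem_ker] at hg
        show ι₂ g ∈ Subgroup.centralizer ({ι₂ A} : Set AutQ)
        rw [hg]
        exact one_mem _
      have : f.ker = (Subgroup.center GL₂).subgroupOf K := by
        rw [← ker_inndiagHom le_rfl]; rfl
      rw [this, Nat.card_congr (Subgroup.subgroupOfEquivOfLe hle).toEquiv,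
        Matrix.GeneralLinearGroup.center_eq_range_scalar,
        ← Nat.card_congr (MonoidHom.ofInjective (f := Matrix.GeneralLinearGroup.scalar (Fin 2)) fun c d hcd =>
          Units.ext (by simpa using congrArg (fun u : GL₂ => (u : M₂) 0 0) hcd)).toEquiv,
        Nat.card_units, Nat.card_eq_fintype_card]
    rw [e1, f.ker.card_eq_card_quotient_mul_card_subgroup,
      Nat.card_congr (QuotientGroup.quotientKerEquivRange f).toEquiv, e2, e3]
  have hq : 0 < Fintype.card F - 1 := by
    have := Fintype.one_lt_card (α := F); omega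
  obtain ⟨n1, n2⟩ := card_norm_units hodd ha0
  constructor
  · intro hs
    refine Nat.eq_of_mul_eq_mul_right hq ?_
    rw [← hfib, hH, n1 hs]
    ring
  · intro hs
    refine Nat.eq_of_mul_eq_mul_right hq ?_
    rw [← hfib, hH, n2 hs]
    ring

/-! ## Elements of odd order -/

/-- A nontrivial element of odd order has a lift that every centralising element commutes with. -/
theorem exists_strong_lift (hodd : Odd (Fintype.card F)) {x : AutQ} (hx : x ∈ (ι₂).range)
    (ho : Odd (orderOf x)) (hx1 : x ≠ 1) :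
    ∃ h : GL₂, ι₂ h = x ∧ (∀ c : F, (h : M₂) ≠ c • 1) ∧
      ∀ g : GL₂, Commute (ι₂ g) x → ∃ a b : F, (g : M₂) = a • 1 + b • (h : M₂) := by
  obtain ⟨g₀, rfl⟩ := hx
  obtain ⟨k, hk⟩ := ho
  set h := (g₀ * g₀) ^ (k + 1) with hh
  have hι : ι₂ h = ι₂ g₀ := by
    rw [hh, map_pow, map_mul, ← pow_two, ← pow_mul, show 2 * (k + 1) = orderOf (ι₂ g₀) + 1 by omega, pow_succ,
      pow_orderOf_eq_one, one_mul]
  have hns : ∀ c : F, (h : M₂) ≠ c • 1 := fun c hc => hx1 (by
    rw [← hι]; exact map_eq_one_iff.2 ⟨c, hc⟩)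
  refine ⟨h, hι, hns, fun g hg => commutant hodd hns ?_⟩
  have h1 : (g : M₂) * ((g₀ * g₀ : GL₂) : M₂) = ((g₀ * g₀ : GL₂) : M₂) * g := by
    rcases lift_cases hg with e | e <;> rw [Units.val_mul, ← mul_assoc, e]
    · rw [mul_assoc, e, ← mul_assoc]
    · rw [neg_mul, mul_assoc, e, mul_neg, neg_neg, ← mul_assoc]
  rw [hh, Units.val_pow_eq_pow_val]
  exact (Commute.pow_right (show Commute (g : M₂) ((g₀ * g₀ : GL₂) : M₂) from h1) _).eq

/-- The centraliser of a nontrivial element of odd order is abelian. -/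
theorem commute_of_commute_odd (hodd : Odd (Fintype.card F)) {x y z : AutQ} (hx : x ∈ (ι₂).range)
    (ho : Odd (orderOf x)) (hx1 : x ≠ 1) (hy : y ∈ (ι₂).range) (hz : z ∈ (ι₂).range) (hyx : Commute y x)
    (hzx : Commute z x) : Commute y z := by
  obtain ⟨h, -, -, hall⟩ := exists_strong_lift hodd hx ho hx1
  obtain ⟨g, rfl⟩ := hy
  obtain ⟨g', rfl⟩ := hz
  obtain ⟨a, b, e⟩ := hall g hyx
  obtain ⟨a', b', e'⟩ := hall g' hzx
  refine Commute.map (Units.ext ?_) _
  show (g : M₂) * g' = (g' : M₂) * g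
  simp only [e, e', add_mul, mul_add, Matrix.smul_mul, Matrix.mul_smul, one_mul, mul_one, smul_smul]
  rw [mul_comm a' a, mul_comm b' b, mul_comm a' b, mul_comm b' a]
  abel

/-- At most one involution centralises a nontrivial element of odd order. -/
theorem invol_unique (hodd : Odd (Fintype.card F)) {x v w : AutQ} (hx : x ∈ (ι₂).range) (ho : Odd (orderOf x))
    (hx1 : x ≠ 1) (hv : v ∈ (ι₂).range) (hw : w ∈ (ι₂).range) (hv1 : v ≠ 1) (hv2 : v * v = 1) (hw1 : w ≠ 1)
    (hw2 : w * w = 1) (hvx : Commute v x) (hwx : Commute w x) : v = w := by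
  obtain ⟨h, -, -, hall⟩ := exists_strong_lift hodd hx ho hx1
  obtain ⟨g, rfl⟩ := hv
  obtain ⟨g', rfl⟩ := hw
  obtain ⟨a, b, e⟩ := hall g hvx
  obtain ⟨a', b', e'⟩ := hall g' hwx
  have t1 := traceless_of_involution hv1 hv2
  have t2 := traceless_of_involution hw1 hw2
  unfold Traceless at t1 t2
  have hb' : b' ≠ 0 := fun e0 => hw1 (map_eq_one_iff.2 ⟨a', by rw [e', e0, zero_smul, add_zero]⟩)
  refine map_eq_iff.2 ⟨b / b', ?_⟩
  simp [e] at t1
  simp [e'] at t2
  have hh2 := two_ne_zero hodd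
  have hab : a * b' = a' * b := mul_left_cancel₀ hh2 (by linear_combination b' * t1 - b * t2)
  rw [e, e', smul_add, smul_smul, smul_smul, show b / b' * b' = b by field_simp,
    show b / b' * a' = a by field_simp; linear_combination -hab]

/-! ## Inner automorphisms and field automorphisms -/

/-- Inner automorphisms are the matrices with square determinant. -/
theorem mem_inn_iff (g : GL₂) :
    ι₂ g ∈ Cfsg.Inn (Matrix.ProjectiveSpecialLinearGroup (Fin 2) F) ↔ IsSquare (g : M₂).det := by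
  constructor
  · rintro ⟨x, hx⟩
    obtain ⟨s, rfl⟩ := slToPSL_surjective x
    rw [conj_eq_pslSemi] at hx
    obtain ⟨c, hc⟩ := map_eq_iff.1 (hx.symm : ι₂ g = ι₂ (Matrix.SpecialLinearGroup.toGL s))
    refine ⟨c, ?_⟩
    rw [hc, Matrix.det_smul, Fintype.card_fin]
    rw [show ((Matrix.SpecialLinearGroup.toGL s : GL₂) : M₂).det = 1 from s.2, mul_one, pow_two]
  · rintro ⟨d, hd⟩
    have hd0 : d ≠ 0 := fun e => g.det_ne_zero (by rw [hd, e, mul_zero])
    let s : Matrix.SpecialLinearGroup (Fin 2) F := ⟨d⁻¹ • (g : M₂), by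
      rw [Matrix.det_smul, Fintype.card_fin, hd]; field_simp⟩
    refine ⟨slToPSL 2 F s, ?_⟩
    rw [conj_eq_pslSemi]
    exact map_eq_iff.2 ⟨d⁻¹, rfl⟩

/-- The elements fixed by an automorphism of order two are squares. -/
theorem isSquare_of_fixed (hodd : Odd (Fintype.card F)) {φ : RingAut F} (hφ : orderOf φ = 2) {c : F}
    (hc : φ c = c) : IsSquare c := by
  by_cases hc0 : c = 0
  · exact ⟨0, by rw [hc0, mul_zero]⟩
  haveI : Finite (RingAut F) := Finite.of_injective (fun τ => (τ : F → F)) DFunLike.coe_injective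
  haveI : Fintype (Subgroup.zpowers φ) := Fintype.ofFinite _
  set K := FixedPoints.subfield (Subgroup.zpowers φ) F
  have hcK : c ∈ K := by
    rintro ⟨τ, hτ⟩
    exact (Subgroup.zpowers_le.2 (show φ ∈ MulAction.stabilizer (RingAut F) c from hc)) hτ
  have hfr := FixedPoints.finrank_eq_card (Subgroup.zpowers φ) F
  rw [← Nat.card_eq_fintype_card, Nat.card_zpowers, hφ] at hfr
  have hcard := Module.card_eq_pow_finrank (K := K) (V := F)
  rw [hfr] at hcard
  have hKodd : Odd (Fintype.card K) := by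
    rcases Nat.even_or_odd (Fintype.card K) with he | ho
    · exact absurd (hcard ▸ he.pow_of_ne_zero (by norm_num) : Even (Fintype.card F)) (Nat.not_even_iff_odd.2 hodd)
    · exact ho
  rw [FiniteField.isSquare_iff (fun e => two_ne_zero hodd (by
    haveI := ringChar.charP F
    exact_mod_cast (CharP.cast_eq_zero_iff F (ringChar F) 2).2 (by rw [e]))) hc0]
  have h1 : (⟨c, hcK⟩ : K) ^ (Fintype.card K - 1) = 1 :=
    FiniteField.pow_card_sub_one_eq_one _ fun e => hc0 (congrArg Subtype.val e)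
  obtain ⟨j, hj⟩ := hKodd
  have h2 : Fintype.card F / 2 = (Fintype.card K - 1) * (j + 1) := by
    rw [hcard, hj, Nat.add_sub_cancel,
      show (2 * j + 1) ^ 2 = 1 + 2 * (2 * j * (j + 1)) by ring, Nat.add_mul_div_left _ _ two_pos]
    simp
  rw [h2, pow_mul]
  have h3 : c ^ (Fintype.card K - 1) = 1 := by simpa using congrArg Subtype.val h1
  rw [h3, one_pow]

/-- An involution with a field part of order two has square determinant. -/
theorem isSquare_det_of_semi_invol (hodd : Odd (Fintype.card F)) {φ : RingAut F} (hφ : orderOf φ = 2) {g : GL₂}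
    (h : (pslSemi g φ : AutQ) * pslSemi g φ = 1) : IsSquare (g : M₂).det := by
  have hφφ : ∀ x, φ (φ x) = x := fun x => by
    have := pow_orderOf_eq_one φ
    rw [hφ, pow_two] at this
    exact DFunLike.congr_fun this x
  rw [pslSemi_mul', semi_eq_one_iff le_rfl] at h
  obtain ⟨-, c, hc⟩ := h
  have hmat : (g : M₂) * (g : M₂).map φ = (c : F) • 1 := by
    have := congrArg (fun u : GL₂ => (u : M₂)) hc
    simp only [Units.val_mul] at this
    rw [Matrix.GeneralLinearGroup.coe_scalar] at this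
    rw [show (c : F) • (1 : M₂) = Matrix.scalar (Fin 2) (c : F) by simp [Matrix.smul_one_eq_diagonal]]
    exact this
  have hdet := congrArg Matrix.det hmat
  rw [Matrix.det_mul, show (g : M₂).map φ = φ.toRingHom.mapMatrix (g : M₂) from rfl, ← RingHom.map_det,
    Matrix.det_smul, Fintype.card_fin, Matrix.det_one, mul_one] at hdet
  change (g : M₂).det * φ (g : M₂).det = (c : F) ^ 2 at hdet
  -- `c` is fixed
  have hcfix : φ c = c := by
    have h1 : (g : M₂).map φ * (g : M₂) = φ (c : F) • (1 : M₂) := by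
      have h0 := congrArg (fun M : M₂ => M.map φ) hmat
      simp only [Matrix.map_mul, Matrix.map_map] at h0
      rw [show ((φ : F → F) ∘ (φ : F → F)) = id from funext hφφ, Matrix.map_id] at h0
      rw [h0]
      ext i j
      fin_cases i <;> fin_cases j <;> simp
    have h2 : (g : M₂).map φ = (c : F) • ((g⁻¹ : GL₂) : M₂) := by
      have := congrArg (fun M : M₂ => ((g⁻¹ : GL₂) : M₂) * M) hmat
      simpa [← mul_assoc] using this
    rw [h2, Matrix.smul_mul, Units.inv_mul] at h1
    simpa using (congrFun (congrFun h1 0) 0).symm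
  set d := (g : M₂).det
  have hd0 : d ≠ 0 := g.det_ne_zero
  have hc0 : (c : F) ≠ 0 := c.ne_zero
  set u := d / (c : F) with hu
  have hu1 : u * φ u = 1 := by
    rw [hu, map_div₀, hcfix]
    field_simp
    linear_combination hdet
  by_cases hm : u = -1
  · have : d = -(c : F) := by rw [hu] at hm; field_simp at hm; linear_combination hm
    rw [this]
    exact isSquare_of_fixed hodd hφ (by rw [map_neg, hcfix])
  have hy : (1 + u) ≠ 0 := fun e => hm (by linear_combination e)
  have hN : φ ((1 + u) * φ (1 + u)) = (1 + u) * φ (1 + u) := by rw [map_mul, hφφ, mul_comm]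
  obtain ⟨e1, he1⟩ := isSquare_of_fixed hodd hφ hcfix
  obtain ⟨e2, he2⟩ := isSquare_of_fixed hodd hφ hN
  have hye : (1 + u) = u * φ (1 + u) := by rw [map_add, map_one]; linear_combination -hu1
  have he20 : e2 ≠ 0 := fun e => by
    rw [e, mul_zero] at he2
    exact mul_ne_zero hy ((map_ne_zero φ).2 hy) he2
  refine ⟨e1 * (1 + u) / e2, ?_⟩
  have hdu : d = (c : F) * u := by rw [hu]; field_simp
  field_simp
  linear_combination (e2 * e2) * hdu + (u * e2 * e2) * he1 - (e1 * e1 * u) * he2
    - (e1 * e1 * (1 + u)) * hye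

end Cfsg.Agent.Invol.GW.Dihedral.PGL
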