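import Cfsg.Agent.Lib.Invol.GW.Dihedral.ThreeClassDefs
import Cfsg.Agent.Lib.Invol.GW.Dihedral.TwoClassPGL
import Cfsg.Agent.Lib.Invol.GW.Dihedral.LocalsSeven
import Cfsg.Agent.Lib.Invol.GW.Consumers.InvolAut
import Cfsg.Agent.Lib.Classical.PSLLocalBalance
import Cfsg.Agent.Lib.Alt.AutAlternating

/-!
# Gorenstein–Walter, dihedral, three classes: the facts on `Aut PSL₂(q)` and `Aut A₇`
-/

set_option autoImplicit false
set_option linter.unusedSectionVars false
set_option linter.style.haveILetI false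

open scoped Classical

namespace Cfsg.Agent.Invol.GW.Dihedral.ThreeAlg

open Subgroup

variable {A : Type*} [Group A]

theorem eq_one_of_sq {x : A} (h : x * x = 1) (ho : Odd (orderOf x)) : x = 1 :=
  orderOf_eq_one_iff.1 (Nat.eq_one_of_dvd_coprimes (Nat.coprime_two_right.2 ho) dvd_rfl
    (orderOf_dvd_of_pow_eq_one (by rw [pow_two, h])))

theorem eq_one_of_inverted_commute {w x : A} (h : w * x * w⁻¹ = x⁻¹) (hc : Commute w x) (ho : Odd (orderOf x)) :
    x = 1 := by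
  rw [hc.eq, mul_inv_cancel_right] at h
  exact eq_one_of_sq (mul_eq_one_iff_eq_inv.2 h) ho

theorem mul_self_of_orderOf {x : A} (h : orderOf x = 2) : x * x = 1 := by
  rw [← pow_two, ← h, pow_orderOf_eq_one]

theorem ne_one_of_orderOf {x : A} (h : orderOf x = 2) : x ≠ 1 := by
  rintro rfl
  rw [orderOf_one] at h
  omega

/-- An involution acting on an abelian group centralises it or inverts it, if nothing fixed commutes with something
inverted. -/
theorem fix_or_invert {P : Subgroup A} (hab : ∀ x ∈ P, ∀ y ∈ P, Commute x y) {w : A} (hw : w * w = 1)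
    (hn : ∀ x ∈ P, w * x * w⁻¹ ∈ P)
    (key : ∀ x ∈ P, x ≠ 1 → Commute w x → ∀ y ∈ P, w * y * w⁻¹ = y⁻¹ → y = 1) :
    (∀ x ∈ P, w * x * w⁻¹ = x) ∨ ∀ x ∈ P, w * x * w⁻¹ = x⁻¹ := by
  have hwi : w⁻¹ = w := inv_eq_of_mul_eq_one_right hw
  have hww : ∀ x, w * (w * x * w⁻¹) * w⁻¹ = x := fun x => by
    rw [hwi]; simp only [← mul_assoc, hw, one_mul]; rw [mul_assoc, hw, mul_one]
  by_cases h : ∀ x ∈ P, x * (w * x * w⁻¹) = 1
  · exact Or.inr fun x hx => eq_inv_of_mul_eq_one_right (h x hx)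
  push Not at h
  obtain ⟨x₀, hx₀, hne⟩ := h
  have hfix : Commute w (x₀ * (w * x₀ * w⁻¹)) := by
    have h1 : w * (x₀ * (w * x₀ * w⁻¹)) * w⁻¹ = x₀ * (w * x₀ * w⁻¹) := by
      rw [← conj_mul, hww, (hab _ (hn _ hx₀) _ hx₀).eq]
    rw [mul_inv_eq_iff_eq_mul] at h1
    exact h1
  refine Or.inl fun x hx => ?_
  have h2 := key _ (mul_mem hx₀ (hn _ hx₀)) hne hfix (x * (w * x * w⁻¹)⁻¹) (mul_mem hx (inv_mem (hn _ hx))) (by
    rw [← conj_mul, ← conj_inv, hww, _root_.mul_inv_rev, inv_inv])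
  exact (mul_inv_eq_one.1 h2).symm

/-- One of `u`, `t * u` centralises the group inverted by `t`. -/
theorem exists_centralizing {P : Subgroup A} (hab : ∀ x ∈ P, ∀ y ∈ P, Commute x y) {t u : A} (ht : t * t = 1)
    (hu : u * u = 1) (htn : ∀ x ∈ P, t * x * t⁻¹ ∈ P) (hun : ∀ x ∈ P, u * x * u⁻¹ ∈ P)
    (key : ∀ w, w = t ∨ w = u → ∀ x ∈ P, x ≠ 1 → Commute w x → ∀ y ∈ P, w * y * w⁻¹ = y⁻¹ → y = 1)
    {r : A} (hr : r ∈ P) (hr1 : r ≠ 1) (hro : Odd (orderOf r)) (hrt : t * r * t⁻¹ = r⁻¹) :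
    (∀ x ∈ P, Commute u x) ∨ ∀ x ∈ P, Commute (t * u) x := by
  have hinv : ∀ x ∈ P, t * x * t⁻¹ = x⁻¹ :=
    (fix_or_invert hab ht htn (key t (Or.inl rfl))).resolve_left fun h =>
      hr1 (eq_one_of_sq (mul_eq_one_iff_eq_inv.2 ((h r hr).symm.trans hrt)) hro)
  rcases fix_or_invert hab hu hun (key u (Or.inr rfl)) with h | h
  · exact Or.inl fun x hx => mul_inv_eq_iff_eq_mul.1 (h x hx)
  · refine Or.inr fun x hx => mul_inv_eq_iff_eq_mul.1 ?_
    rw [_root_.mul_inv_rev, show t * u * x * (u⁻¹ * t⁻¹) = t * (u * x * u⁻¹) * t⁻¹ by group, h x hx, ← conj_inv,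
      hinv x hx, inv_inv]

end Cfsg.Agent.Invol.GW.Dihedral.ThreeAlg

namespace Cfsg.Agent.Invol.GW.Dihedral.ThreeAlg.Psl

open Subgroup Matrix Cfsg.Agent.Classical Cfsg.Agent.Classical.PSLAut

variable {F : Type} [Field F] [Fintype F]

local notation "M₂" => Matrix (Fin 2) (Fin 2) F
local notation "GL₂" => GL (Fin 2) F
local notation "PSL₂" => Matrix.ProjectiveSpecialLinearGroup (Fin 2) F
local notation "AutQ" => MulAut (Matrix.ProjectiveSpecialLinearGroup (Fin 2) F)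
local notation "ι₂" => inndiagHom 2 F

theorem inn_le : Cfsg.Inn PSL₂ ≤ (ι₂).range := by
  rintro _ ⟨x, rfl⟩
  obtain ⟨s, rfl⟩ := slToPSL_surjective x
  exact ⟨Matrix.SpecialLinearGroup.toGL s, (conj_eq_pslSemi s).symm⟩

theorem range_normal' : (ι₂).range.Normal := by
  obtain ⟨p, hp⟩ := CharP.exists F
  obtain ⟨n, hprime, -⟩ := FiniteField.card F p
  haveI : Fact p.Prime := ⟨hprime⟩
  refine ⟨?_⟩
  rintro _ ⟨g, rfl⟩ α
  obtain ⟨a, τ, ε, -, hε, hrep⟩ := exists_rep (p := p) (le_refl 2) α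
  rw [hε rfl, pow_zero, mul_one] at hrep
  refine ⟨a * Descent.gmap τ g * a⁻¹, eq_mul_inv_of_mul_eq ?_⟩
  rw [hrep, inndiagHom_apply, inndiagHom_apply, pslSemi_refl_mul, inv_mul_cancel_right, pslSemi_mul',
    show (τ * (RingEquiv.refl F : RingAut F) : RingAut F) = τ from mul_one τ]

variable {Hb : Subgroup (MulAut (Matrix.ProjectiveSpecialLinearGroup (Fin 2) F))}

/-- The involutions are inner-diagonal. -/
theorem invol_mem (hodd : Odd (Fintype.card F)) (hI : Cfsg.Inn PSL₂ ≤ Hb) (h8 : NoEight Hb) {α : AutQ}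
    (hα : α ∈ Hb) (h2 : orderOf α = 2) : α ∈ (ι₂).range := by
  rcases involution_inndiag_or_fixesFour hodd h2 with ⟨g, hg⟩ | ⟨a, b, ha, hb, hne, hab, haf, hbf⟩
  · exact ⟨g, hg.symm⟩
  have hinj : Function.Injective (MulAut.conj : PSL₂ →* AutQ) :=
    Cfsg.Agent.Classical.PSLBal.conj_injective le_rfl
  have hc : ∀ x : PSL₂, α x = x → Commute (MulAut.conj x) α := fun x hx =>
    MulEquiv.ext fun y => by simp [MulAut.mul_apply, MulAut.conj_apply, hx]
  refine inn_le ?_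
  rcases h8 _ (hI ⟨a, rfl⟩) _ (hI ⟨b, rfl⟩) α hα (by rw [orderOf_injective _ hinj, ha])
    (by rw [orderOf_injective _ hinj, hb]) h2 (fun e => hne (hinj e)) ((show Commute a b from hab).map _) (hc a haf)
    (hc b hbf) with e | e | e <;> rw [e]
  exacts [⟨a, rfl⟩, ⟨b, rfl⟩, mul_mem ⟨a, rfl⟩ ⟨b, rfl⟩]

/-- An element of odd order inverted by an inner-diagonal involution is inner-diagonal. -/
theorem mem_of_inverted {t x : AutQ} (ht : t ∈ (ι₂).range) (ho : Odd (orderOf x)) (h : t * x * t⁻¹ = x⁻¹) :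
    x ∈ (ι₂).range := by
  haveI := range_normal' (F := F)
  have h1 : t * (x * t⁻¹ * x⁻¹) ∈ (ι₂).range :=
    mul_mem ht (Normal.conj_mem inferInstance _ (inv_mem ht) x)
  rw [show t * (x * t⁻¹ * x⁻¹) = t * x * t⁻¹ * x⁻¹ by group, h] at h1
  obtain ⟨k, hk⟩ := ho
  have h3 : x * x ∈ (ι₂).range := by simpa using inv_mem h1
  have h2 : (x * x) ^ (k + 1) ∈ (ι₂).range := pow_mem h3 _
  rwa [← pow_two, ← pow_mul, show 2 * (k + 1) = orderOf x + 1 by omega, pow_succ, pow_orderOf_eq_one,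
    one_mul] at h2

theorem key (hodd : Odd (Fintype.card F)) {w x y : AutQ} (hw : w ∈ (ι₂).range) (hx : x ∈ (ι₂).range)
    (hy : y ∈ (ι₂).range) (hx1 : x ≠ 1) (hxo : Odd (orderOf x)) (hyo : Odd (orderOf y)) (hwx : Commute w x)
    (hyx : Commute y x) (h : w * y * w⁻¹ = y⁻¹) : y = 1 :=
  eq_one_of_inverted_commute h (PGL.commute_of_commute_odd hodd hx hxo hx1 hw hy hwx hyx) hyo

theorem isSquare_mul_of_not {a b : F} (ha : ¬ IsSquare a) (hb : ¬ IsSquare b) : IsSquare (a * b) := by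
  have ha0 : a ≠ 0 := fun e => ha (e ▸ IsSquare.zero)
  have hb0 : b ≠ 0 := fun e => hb (e ▸ IsSquare.zero)
  refine (quadraticChar_one_iff_isSquare (mul_ne_zero ha0 hb0)).1 ?_
  rw [map_mul, quadraticChar_neg_one_iff_not_isSquare.2 ha, quadraticChar_neg_one_iff_not_isSquare.2 hb]
  norm_num

theorem isSquare_neg_det_iff {a b : F} (ha : ¬ IsSquare a) (hb : IsSquare b) (hb0 : b ≠ 0) :
    IsSquare (-a) ↔ ¬ IsSquare (-b) := by
  have ha0 : a ≠ 0 := fun e => ha (e ▸ IsSquare.zero)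
  constructor
  · rintro ⟨r, hr⟩ ⟨s, hs⟩
    obtain ⟨e, he⟩ := hb
    have hs0 : s ≠ 0 := fun e0 => hb0 (by linear_combination -hs - s * e0)
    refine ha ⟨r * e / s, ?_⟩
    field_simp
    linear_combination -a * hs - a * he + (e * e) * hr
  · intro hnb
    obtain ⟨r, hr⟩ := isSquare_mul_of_not ha hnb
    obtain ⟨e, he⟩ := hb
    have he0 : e ≠ 0 := fun e0 => hb0 (by rw [he, e0, mul_zero])
    refine ⟨r / e, ?_⟩
    field_simp
    linear_combination hr + a * he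

theorem card_inv (T : GL₂) :
    Nat.card ↥((ι₂).range ⊓ centralizer ({ι₂ T} : Set AutQ) : Subgroup AutQ) =
      Nat.card {x : AutQ // x ∈ (ι₂).range ∧ Commute x (ι₂ T)} :=
  Nat.card_congr (Equiv.subtypeEquivRight fun x => by
    rw [Subgroup.mem_inf, mem_centralizer_singleton_iff]; rfl)

/-- What commutes with two commuting involutions has order dividing four. -/
theorem orderOf_dvd_four (hodd : Odd (Fintype.card F)) {T U : GL₂} (hT : PGL.Traceless (T : M₂))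
    (hU : PGL.Traceless (U : M₂)) (hanti : (T : M₂) * U = -((U : M₂) * T)) {x : AutQ} (hx : x ∈ (ι₂).range)
    (h1 : Commute x (ι₂ T)) (h2 : Commute x (ι₂ U)) : orderOf x ∣ 4 := by
  set S : Subgroup AutQ :=
    (ι₂).range ⊓ (centralizer ({ι₂ T} : Set AutQ) ⊓ centralizer ({ι₂ U} : Set AutQ)) with hS
  have hc : Nat.card ↥S = 4 := by
    rw [← PGL.card_centralizer_pair hodd hT hU hanti]
    exact Nat.card_congr (Equiv.subtypeEquivRight fun y => by
      rw [hS, Subgroup.mem_inf, Subgroup.mem_inf, mem_centralizer_singleton_iff, mem_centralizer_singleton_iff]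
      rfl)
  rw [← hc]
  exact S.orderOf_dvd_natCard ⟨hx, mem_centralizer_singleton_iff.2 h1.eq, mem_centralizer_singleton_iff.2 h2.eq⟩

variable {t u : MulAut (Matrix.ProjectiveSpecialLinearGroup (Fin 2) F)}

theorem fixed (hodd : Odd (Fintype.card F)) (hI : Cfsg.Inn PSL₂ ≤ Hb) (h8 : NoEight Hb) (hP : Pair Hb t u)
    {x y : AutQ} (hxo : Odd (orderOf x)) (hyo : Odd (orderOf y)) (hx1 : x ≠ 1) (hx : t * x * t⁻¹ = x⁻¹)
    (hux : Commute u x) (hy : u * y * u⁻¹ = y⁻¹) (hyx : Commute y x) : y = 1 :=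
  key hodd (invol_mem hodd hI h8 hP.hu hP.u2) (mem_of_inverted (invol_mem hodd hI h8 hP.ht hP.t2) hxo hx)
    (mem_of_inverted (invol_mem hodd hI h8 hP.hu hP.u2) hyo hy) hx1 hxo hyo hux hyx hy

theorem classes (hodd : Odd (Fintype.card F)) (hI : Cfsg.Inn PSL₂ ≤ Hb) (h8 : NoEight Hb) (hP : Pair Hb t u)
    (htI : t ∉ Cfsg.Inn PSL₂) (htuI : t * u ∉ Cfsg.Inn PSL₂) {r : ℕ} (hr : r.Prime) (hr2 : r ≠ 2)
    {y y' : AutQ} (hyr : orderOf y = r) (hy'r : orderOf y' = r) (hyt : Commute y t) (hy : u * y * u⁻¹ = y⁻¹)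
    (hy'u : Commute y' u) (hy' : t * y' * t⁻¹ = y'⁻¹) : False := by
  have hro : Odd r := hr.odd_of_ne_two hr2
  have htR := invol_mem hodd hI h8 hP.ht hP.t2
  have huR := invol_mem hodd hI h8 hP.hu hP.u2
  have hyR := mem_of_inverted huR (hyr ▸ hro) hy
  have hy'R := mem_of_inverted htR (hy'r ▸ hro) hy'
  obtain ⟨T, rfl⟩ := htR
  obtain ⟨U, rfl⟩ := huR
  have hT := PGL.traceless_of_involution (ne_one_of_orderOf hP.t2) (mul_self_of_orderOf hP.t2)
  have hU := PGL.traceless_of_involution (ne_one_of_orderOf hP.u2) (mul_self_of_orderOf hP.u2)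
  have hanti := PGL.anticomm hodd hT hU hP.comm hP.ne
  have hanti' : (U : M₂) * T = -((T : M₂) * U) := by rw [hanti, neg_neg]
  rw [PGL.mem_inn_iff] at htI
  rw [← map_mul, PGL.mem_inn_iff, Units.val_mul, Matrix.det_mul] at htuI
  have hdU : IsSquare (U : M₂).det := by
    by_contra h
    exact htuI (isSquare_mul_of_not htI h)
  have h1 : r ∣ Nat.card {x : AutQ // x ∈ (ι₂).range ∧ Commute x (ι₂ T)} := by
    rw [← card_inv, ← hyr]
    exact Subgroup.orderOf_dvd_natCard _ ⟨hyR, mem_centralizer_singleton_iff.2 hyt.eq⟩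
  have h2 : r ∣ Nat.card {x : AutQ // x ∈ (ι₂).range ∧ Commute x (ι₂ U)} := by
    rw [← card_inv, ← hy'r]
    exact Subgroup.orderOf_dvd_natCard _ ⟨hy'R, mem_centralizer_singleton_iff.2 hy'u.eq⟩
  have hiff := isSquare_neg_det_iff htI hdU U.det_ne_zero
  have h12 : r ∣ 2 * (Fintype.card F - 1) ∧ r ∣ 2 * (Fintype.card F + 1) := by
    by_cases hs : IsSquare (-(T : M₂).det)
    · rw [(PGL.card_centralizer hodd hT hanti).1 hs] at h1
      rw [(PGL.card_centralizer hodd hU hanti').2 (hiff.1 hs)] at h2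
      exact ⟨h1, h2⟩
    · have hs' : IsSquare (-(U : M₂).det) := by
        by_contra h
        exact hs (hiff.2 h)
      rw [(PGL.card_centralizer hodd hT hanti).2 hs] at h1
      rw [(PGL.card_centralizer hodd hU hanti').1 hs'] at h2
      exact ⟨h2, h1⟩
  have h4 := Nat.dvd_sub h12.2 h12.1
  have hq := Fintype.one_lt_card (α := F)
  rw [show 2 * (Fintype.card F + 1) - 2 * (Fintype.card F - 1) = 2 * 2 by omega] at h4
  rcases hr.dvd_mul.1 h4 with h | h <;> exact hr2 ((Nat.prime_dvd_prime_iff_eq hr Nat.prime_two).1 h)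

theorem no_inverted (hodd : Odd (Fintype.card F)) (h5 : 5 ≤ Fintype.card F) (hI : Cfsg.Inn PSL₂ ≤ Hb)
    (h8 : NoEight Hb) (hP : Pair Hb t u) {p : ℕ} [Fact p.Prime] {P : Subgroup AutQ} (hPH : P ≤ Hb)
    (hp : IsPGroup p P) (hPo : Odd (Nat.card P)) (hu : u ∈ normalizer (P : Set AutQ))
    (hC : ∀ c ∈ Hb, Commute c t → c ∈ normalizer (P : Set AutQ)) {r : AutQ} (hr : r ∈ P)
    (hrt : t * r * t⁻¹ = r⁻¹) : r = 1 := by
  by_contra hr1
  haveI := range_normal' (F := F)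
  have htR := invol_mem hodd hI h8 hP.ht hP.t2
  have huR := invol_mem hodd hI h8 hP.hu hP.u2
  have ho : ∀ x ∈ P, Odd (orderOf x) := fun x hx => hPo.of_dvd_nat (P.orderOf_dvd_natCard hx)
  have hrR := mem_of_inverted htR (ho r hr) hrt
  set P₀ : Subgroup AutQ := P ⊓ (ι₂).range with hP₀
  have hnorm : ∀ c ∈ normalizer (P : Set AutQ), ∀ x ∈ P₀, c * x * c⁻¹ ∈ P₀ := fun c hc x hx =>
    ⟨(mem_normalizer_iff.1 hc x).1 hx.1, Normal.conj_mem inferInstance x hx.2 c⟩
  haveI : Nontrivial ↥P₀ := ⟨⟨⟨r, hr, hrR⟩, 1, fun e => hr1 (congrArg Subtype.val e)⟩⟩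
  haveI : Finite ↥P₀ := Finite.of_injective (fun x : ↥P₀ => ((x : AutQ) : PSL₂ → PSL₂)) fun a b e =>
    Subtype.ext (DFunLike.coe_injective e)
  haveI := (hp.to_le (inf_le_left : P₀ ≤ P)).center_nontrivial
  obtain ⟨z, hz⟩ := exists_ne (1 : center ↥P₀)
  have hab : ∀ x ∈ P₀, ∀ y ∈ P₀, Commute x y := fun x hx y hy => by
    refine PGL.commute_of_commute_odd hodd (z : ↥P₀).2.2 (ho _ (z : ↥P₀).2.1)
      (fun e => hz (Subtype.ext (Subtype.ext e))) hx.2 hy.2 ?_ ?_
    · exact congrArg Subtype.val (mem_center_iff.1 z.2 ⟨x, hx⟩)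
    · exact congrArg Subtype.val (mem_center_iff.1 z.2 ⟨y, hy⟩)
  have hcase := exists_centralizing hab (mul_self_of_orderOf hP.t2) (mul_self_of_orderOf hP.u2)
    (hnorm t (hC t hP.ht (Commute.refl t))) (hnorm u hu)
    (fun w hw x hx hx1 hwx y hy h => key hodd (by rcases hw with rfl | rfl; exacts [htR, huR]) hx.2 hy.2 hx1
      (ho x hx.1) (ho y hy.1) hwx (hab y hy x hx) h) ⟨hr, hrR⟩ hr1 (ho r hr) hrt
  obtain ⟨v, hvH, hvR, hv2, hvt, hne, hvP⟩ : ∃ v, v ∈ Hb ∧ v ∈ (ι₂).range ∧ orderOf v = 2 ∧ Commute t v ∧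
      t ≠ v ∧ ∀ x ∈ P₀, Commute v x := by
    rcases hcase with h | h
    · exact ⟨u, hP.hu, huR, hP.u2, hP.comm, hP.ne, h⟩
    · have h2 : orderOf (t * u) = 2 := orderOf_eq_prime
        (by rw [hP.comm.mul_pow, pow_two, pow_two, mul_self_of_orderOf hP.t2, mul_self_of_orderOf hP.u2, one_mul])
        fun e => hP.ne (by rw [mul_eq_one_iff_eq_inv.1 e, inv_eq_of_mul_eq_one_right (mul_self_of_orderOf hP.u2)])
      exact ⟨t * u, mul_mem hP.ht hP.hu, mul_mem htR huR, h2, (Commute.refl t).mul_right hP.comm,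
        fun e => ne_one_of_orderOf hP.u2 (mul_eq_left.1 e.symm), h⟩
  have hcv : ∀ c ∈ Hb, c ∈ (ι₂).range → Commute c t → Commute c v := fun c hc hcR hct => by
    have hrc : c⁻¹ * r * c ∈ P₀ := by
      simpa using hnorm c⁻¹ (inv_mem (hC c hc hct)) r ⟨hr, hrR⟩
    have h1 : Commute (c * v * c⁻¹) r := by
      have h2 := (hvP _ hrc).map (MulAut.conj c).toMonoidHom
      simpa [MulAut.conj_apply, mul_assoc] using h2
    refine mul_inv_eq_iff_eq_mul.1 (PGL.invol_unique hodd hrR (ho r hr) hr1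
      (Normal.conj_mem inferInstance v hvR c) hvR ?_ ?_ (ne_one_of_orderOf hv2) (mul_self_of_orderOf hv2) h1
      (hvP r ⟨hr, hrR⟩))
    · exact fun e => ne_one_of_orderOf hv2 (conj_eq_one_iff.1 e)
    · rw [conj_mul, mul_self_of_orderOf hv2, mul_one, mul_inv_cancel]
  obtain ⟨T, rfl⟩ := htR
  obtain ⟨V, rfl⟩ := hvR
  have hT := PGL.traceless_of_involution (ne_one_of_orderOf hP.t2) (mul_self_of_orderOf hP.t2)
  have hV := PGL.traceless_of_involution (ne_one_of_orderOf hv2) (mul_self_of_orderOf hv2)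
  have hanti := PGL.anticomm hodd hT hV hvt hne
  by_cases hall : (ι₂).range ≤ Hb
  · -- the whole centraliser of `t` would lie in the four group
    have hle : Nat.card {x : AutQ // x ∈ (ι₂).range ∧ Commute x (ι₂ T)} ≤ 4 := by
      rw [← PGL.card_centralizer_pair hodd hT hV hanti]
      haveI : Finite AutQ := Finite.of_injective (fun a : AutQ => (a : PSL₂ → PSL₂)) DFunLike.coe_injective
      exact Nat.card_le_card_of_injective
        (fun x => ⟨x.1, x.2.1, x.2.2, hcv x.1 (hall x.2.1) x.2.1 x.2.2⟩)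
        fun a b e => Subtype.ext (congrArg (fun w => w.1) e)
    by_cases hs : IsSquare (-(T : M₂).det)
    · rw [(PGL.card_centralizer hodd hT hanti).1 hs] at hle
      omega
    · rw [(PGL.card_centralizer hodd hT hanti).2 hs] at hle
      omega
  -- otherwise everything is inner
  have hinn : ∀ g : GL₂, ι₂ g ∈ Hb → IsSquare (g : M₂).det := by
    intro g hg
    by_contra hns
    refine hall ?_
    rintro _ ⟨k, rfl⟩
    by_cases hk : IsSquare (k : M₂).det
    · exact hI ((PGL.mem_inn_iff k).2 hk)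
    · have h1 : ι₂ (k * g) ∈ Hb := hI ((PGL.mem_inn_iff _).2 (by
        rw [Units.val_mul, Matrix.det_mul]; exact isSquare_mul_of_not hk hns))
      simpa using mul_mem h1 (inv_mem hg)
  obtain ⟨a, ha⟩ := hinn T hP.ht
  obtain ⟨b, hb⟩ := hinn V hvH
  have hb0 : b ≠ 0 := fun e => V.det_ne_zero (by rw [hb, e, mul_zero])
  obtain ⟨g, hg, -⟩ := PGL.exists_conj hodd hT hV (c := a / b) (by rw [ha, hb]; field_simp)
  obtain ⟨R₀, hR₀⟩ := hrR
  have hrI : r ∈ Cfsg.Inn PSL₂ := by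
    rw [← hR₀, PGL.mem_inn_iff]
    exact hinn R₀ (hR₀ ▸ hPH hr)
  set r' := ι₂ g * r * (ι₂ g)⁻¹ with hr'
  have hr'I : r' ∈ Cfsg.Inn PSL₂ := Normal.conj_mem inferInstance r hrI _
  have hr'T : Commute r' (ι₂ T) := by
    have h1 := (hvP r ⟨hr, hR₀ ▸ ⟨R₀, rfl⟩⟩).symm.map (MulAut.conj (ι₂ g)).toMonoidHom
    simp only [MulEquiv.toMonoidHom_eq_coe, MonoidHom.coe_coe, MulAut.conj_apply, hg] at h1
    exact h1
  have hr'o : orderOf r' = orderOf r := by
    rw [hr', ← MulAut.conj_apply]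
    exact orderOf_injective (MulAut.conj (ι₂ g)).toMonoidHom (MulAut.conj (ι₂ g)).injective r
  have h4 : orderOf r ∣ 2 ^ 2 := hr'o ▸
    orderOf_dvd_four hodd hT hV hanti (inn_le hr'I) hr'T (hcv r' (hI hr'I) (inn_le hr'I) hr'T)
  exact hr1 (orderOf_eq_one_iff.1
    (Nat.eq_one_of_dvd_coprimes ((Nat.coprime_two_right.2 (ho r hr)).pow_right 2) dvd_rfl h4))

end Cfsg.Agent.Invol.GW.Dihedral.ThreeAlg.Psl

namespace Cfsg.Agent.Invol.GW.Dihedral.ThreeAlg.Seven

open Subgroup Equiv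

local notation "S₇" => Perm (Fin 7)
local notation "A₇" => alternatingGroup (Fin 7)
local notation "Aut₇" => MulAut (alternatingGroup (Fin 7))

theorem conjNormal_bij : Function.Bijective (MulAut.conjNormal : S₇ →* Aut₇) :=
  Cfsg.Agent.AltAut.conjNormal_bijective (by simp) (by simp)

theorem conjNormal_coe (a : A₇) : (MulAut.conjNormal : S₇ →* Aut₇) a = MulAut.conj a :=
  MulEquiv.ext fun b => Subtype.ext (by simp [MulAut.conjNormal_apply])

theorem mem_inn_iff {c : S₇} : MulAut.conjNormal c ∈ Cfsg.Inn A₇ ↔ Perm.sign c = 1 := by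
  constructor
  · rintro ⟨a, ha⟩
    rw [← conjNormal_coe] at ha
    rw [← conjNormal_bij.1 ha]
    exact a.2
  · exact fun h => ⟨⟨c, h⟩, (conjNormal_coe ⟨c, h⟩).symm⟩

/-- Without an elementary group of order eight everything is inner. -/
theorem le_inn {Hb : Subgroup Aut₇} (hI : Cfsg.Inn A₇ ≤ Hb) (h8 : NoEight Hb) : Hb ≤ Cfsg.Inn A₇ := by
  intro θ hθ
  obtain ⟨c, rfl⟩ := conjNormal_bij.2 θ
  rw [mem_inn_iff]
  by_contra hc
  have hall : ∀ d : S₇, (MulAut.conjNormal d : Aut₇) ∈ Hb := fun d => by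
    by_cases hd : Perm.sign d = 1
    · exact hI (mem_inn_iff.2 hd)
    · have h1 : (MulAut.conjNormal (d * c) : Aut₇) ∈ Hb := hI (mem_inn_iff.2 (by
        rw [map_mul]
        rcases Int.units_eq_one_or (Perm.sign d) with e | e
        · exact absurd e hd
        · rcases Int.units_eq_one_or (Perm.sign c) with e' | e'
          · exact absurd e' hc
          · rw [e, e']; decide))
      simpa using mul_mem h1 (inv_mem hθ)
  have ho : ∀ d : S₇, d * d = 1 → d ≠ 1 → orderOf (MulAut.conjNormal d : Aut₇) = 2 := fun d h1 h2 => by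
    rw [orderOf_injective _ conjNormal_bij.1]
    exact orderOf_eq_prime (by rw [pow_two, h1]) h2
  have hc : ∀ d e : S₇, d * e = e * d → Commute (MulAut.conjNormal d : Aut₇) (MulAut.conjNormal e) :=
    fun d e h => (show Commute d e from h).map _
  rcases h8 _ (hall (swap 0 1)) _ (hall (swap 2 3)) _ (hall (swap 4 5)) (ho _ (by decide) (by decide))
    (ho _ (by decide) (by decide)) (ho _ (by decide) (by decide))
    (fun e => absurd (conjNormal_bij.1 e) (by decide)) (hc _ _ (by decide)) (hc _ _ (by decide))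
    (hc _ _ (by decide)) with e | e | e
  · exact absurd (conjNormal_bij.1 e) (by decide)
  · exact absurd (conjNormal_bij.1 e) (by decide)
  · rw [← map_mul] at e
    exact absurd (conjNormal_bij.1 e) (by decide)

/-- An inner involution is `sevenT` in suitable coordinates. -/
theorem exists_frame {w : Aut₇} (hw : w ∈ Cfsg.Inn A₇) (h2 : orderOf w = 2) :
    ∃ φ : S₇ →* Aut₇, Function.Bijective φ ∧ φ sevenT = w := by
  obtain ⟨x, rfl⟩ := conjNormal_bij.2 w
  have hx := mem_inn_iff.1 hw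
  rw [orderOf_injective _ conjNormal_bij.1] at h2
  obtain ⟨g, hg⟩ := exists_conj_sevenT hx (mul_self_of_orderOf h2) (ne_one_of_orderOf h2)
  refine ⟨MulAut.conjNormal.comp (MulAut.conj g⁻¹).toMonoidHom,
    conjNormal_bij.comp (MulAut.conj g⁻¹).bijective, ?_⟩
  rw [← hg]
  show MulAut.conjNormal (g⁻¹ * (g * x * g⁻¹) * g⁻¹⁻¹) = MulAut.conjNormal x
  exact congrArg _ (by group)

set_option synthInstance.maxSize 100000 in
set_option maxRecDepth 100000 in
theorem seven_inverted : ∀ c : S₇, c * sevenC = sevenC * c → sevenT * c * sevenT = c⁻¹ → c * c * c * c = 1 := by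
  decide +kernel

/-- The odd elements centralising an involution of `A₇` commute with each other. -/
theorem commute_odd {w x y : Aut₇} (hw : w ∈ Cfsg.Inn A₇) (h2 : orderOf w = 2) (hxo : Odd (orderOf x))
    (hyo : Odd (orderOf y)) (hwx : Commute w x) (hwy : Commute w y) : Commute x y := by
  obtain ⟨φ, hφ, rfl⟩ := exists_frame hw h2
  obtain ⟨X, rfl⟩ := hφ.2 x
  obtain ⟨Y, rfl⟩ := hφ.2 y
  rw [orderOf_injective _ hφ.1] at hxo hyo
  have hX := seven_mem (hφ.1 (by rw [map_mul, map_mul]; exact hwx.symm.eq)) hxo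
  have hY := seven_mem (hφ.1 (by rw [map_mul, map_mul]; exact hwy.symm.eq)) hyo
  obtain ⟨i, rfl⟩ := mem_zpowers_iff.1 hX
  obtain ⟨j, rfl⟩ := mem_zpowers_iff.1 hY
  exact ((Commute.refl _).zpow_zpow i j).map φ

theorem key {w x y : Aut₇} (hw : w ∈ Cfsg.Inn A₇) (h2 : orderOf w = 2) (hxo : Odd (orderOf x)) (hx1 : x ≠ 1)
    (hyo : Odd (orderOf y)) (hwx : Commute w x) (hyx : Commute y x) (h : w * y * w⁻¹ = y⁻¹) : y = 1 := by
  obtain ⟨φ, hφ, rfl⟩ := exists_frame hw h2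
  obtain ⟨X, rfl⟩ := hφ.2 x
  obtain ⟨Y, rfl⟩ := hφ.2 y
  rw [orderOf_injective _ hφ.1] at hxo hyo
  have hXT : X * sevenT = sevenT * X := hφ.1 (by rw [map_mul, map_mul]; exact hwx.symm.eq)
  have hYX : Commute Y X := hφ.1 (by rw [map_mul, map_mul]; exact hyx.eq)
  have hC3 : sevenC ^ 3 = 1 := by decide
  have hX3 : X * X * X = 1 := by
    obtain ⟨i, hi⟩ := mem_zpowers_iff.1 (seven_mem hXT hxo)
    rw [← hi, ← zpow_add, ← zpow_add, show i + i + i = (3 : ℤ) * i by ring, zpow_mul,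
      show (3 : ℤ) = ((3 : ℕ) : ℤ) from rfl, zpow_natCast, hC3, one_zpow]
  have hYC : Y * sevenC = sevenC * Y := by
    rcases (seven_facts X hXT).2.1 hX3 with e | e | e
    · exact absurd (by rw [e, map_one]) hx1
    · rw [← e]; exact hYX.eq
    · have h1 : sevenC = X * X := by rw [e]; decide
      rw [h1]; exact (hYX.mul_right hYX).eq
  have hTY : sevenT * Y * sevenT = Y⁻¹ := by
    refine hφ.1 ?_
    rw [map_mul, map_mul, map_inv, ← h]
    rw [← map_inv, show sevenT⁻¹ = sevenT by decide]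
  have h4 : orderOf Y ∣ 2 ^ 2 := orderOf_dvd_of_pow_eq_one (by
    rw [show (2 : ℕ) ^ 2 = 4 by norm_num, ← seven_inverted Y hYC hTY, pow_succ, pow_succ, pow_two])
  rw [orderOf_eq_one_iff.1 (Nat.eq_one_of_dvd_coprimes ((Nat.coprime_two_right.2 hyo).pow_right 2) dvd_rfl h4),
    map_one]

theorem commute_of_odd_pgroup {p : ℕ} [hpp : Fact p.Prime] {P : Subgroup Aut₇} (hPI : P ≤ Cfsg.Inn A₇)
    (hp : IsPGroup p P) (hPo : Odd (Nat.card P)) : ∀ x ∈ P, ∀ y ∈ P, Commute x y := by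
  haveI : Finite Aut₇ := Finite.of_injective (fun a : Aut₇ => (a : A₇ → A₇)) DFunLike.coe_injective
  obtain ⟨k, hk⟩ := IsPGroup.iff_card.1 hp
  have hdvd : p ^ k ∣ 2520 := by
    have h1 := (Subgroup.card_dvd_of_le hPI).trans (Subgroup.card_range_dvd (MulAut.conj : A₇ →* Aut₇))
    rw [nat_card_alternatingGroup, Nat.card_fin] at h1
    rw [hk, show Nat.factorial 7 / 2 = 2520 from rfl] at h1
    exact h1
  intro x hx y hy
  suffices h : IsMulCommutative ↥P by
    exact congrArg Subtype.val (mul_comm' (⟨x, hx⟩ : ↥P) ⟨y, hy⟩)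
  rcases k with _ | _ | _ | k
  · haveI : Subsingleton ↥P := (Nat.card_eq_one_iff_unique.1 (by simpa using hk)).1
    exact ⟨⟨fun _ _ => Subsingleton.elim _ _⟩⟩
  · haveI : IsCyclic ↥P := isCyclic_of_prime_card (p := p) (by simpa using hk)
    infer_instance
  · exact IsPGroup.isMulCommutative_of_card_eq_prime_sq hk
  · exfalso
    have h3 : p ^ 3 ∣ 2520 := (pow_dvd_pow p (by omega)).trans hdvd
    have hp2 : p ≠ 2 := fun e => by
      rw [hk, e] at hPo
      exact absurd hPo (Nat.not_odd_iff_even.2 (even_two.pow_of_ne_zero (by omega)))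
    have h4 := Nat.le_of_dvd (by norm_num) h3
    have h5 : p ≤ 13 := by
      by_contra h
      push Not at h
      have h7 : 14 ^ 3 ≤ p ^ 3 := Nat.pow_le_pow_left h 3
      omega
    have h6 := hpp.1.two_le
    interval_cases p <;> simp_all (config := { decide := true })

variable {Hb : Subgroup Aut₇} {t u : Aut₇}

theorem no_inverted (hI : Cfsg.Inn A₇ ≤ Hb) (h8 : NoEight Hb) (hP : Pair Hb t u) {p : ℕ} [Fact p.Prime]
    {P : Subgroup Aut₇} (hPH : P ≤ Hb) (hp : IsPGroup p P) (hPo : Odd (Nat.card P))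
    (hu : u ∈ normalizer (P : Set Aut₇)) (hC : ∀ c ∈ Hb, Commute c t → c ∈ normalizer (P : Set Aut₇)) {r : Aut₇}
    (hr : r ∈ P) (hrt : t * r * t⁻¹ = r⁻¹) : r = 1 := by
  by_contra hr1
  have hle := le_inn hI h8
  have ho : ∀ x ∈ P, Odd (orderOf x) := fun x hx => hPo.of_dvd_nat (P.orderOf_dvd_natCard hx)
  have hab := commute_of_odd_pgroup (hPH.trans hle) hp hPo
  have hnorm : ∀ c ∈ normalizer (P : Set Aut₇), ∀ x ∈ P, c * x * c⁻¹ ∈ P := fun c hc x hx =>
    (mem_normalizer_iff.1 hc x).1 hx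
  have hcase := exists_centralizing hab (mul_self_of_orderOf hP.t2) (mul_self_of_orderOf hP.u2)
    (hnorm t (hC t hP.ht (Commute.refl t))) (hnorm u hu)
    (fun w hw x hx hx1 hwx y hy h => key (w := w) (by rcases hw with rfl | rfl; exacts [hle hP.ht, hle hP.hu])
      (by rcases hw with rfl | rfl; exacts [hP.t2, hP.u2]) (ho x hx) hx1 (ho y hy) hwx (hab y hy x hx) h)
    hr hr1 (ho r hr) hrt
  obtain ⟨v, hvH, hv2, hvt, hvP⟩ : ∃ v, v ∈ Hb ∧ orderOf v = 2 ∧ Commute t v ∧ ∀ x ∈ P, Commute v x := by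
    rcases hcase with h | h
    · exact ⟨u, hP.hu, hP.u2, hP.comm, h⟩
    · have h2 : orderOf (t * u) = 2 := orderOf_eq_prime
        (by rw [hP.comm.mul_pow, pow_two, pow_two, mul_self_of_orderOf hP.t2, mul_self_of_orderOf hP.u2, one_mul])
        fun e => hP.ne (by rw [mul_eq_one_iff_eq_inv.1 e, inv_eq_of_mul_eq_one_right (mul_self_of_orderOf hP.u2)])
      exact ⟨t * u, mul_mem hP.ht hP.hu, h2, (Commute.refl t).mul_right hP.comm, h⟩
  obtain ⟨φ, hφ, hφt⟩ := exists_frame (hle hP.ht) hP.t2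
  obtain ⟨V, hV⟩ := hφ.2 v
  have hVT : V * sevenT = sevenT * V := hφ.1 (by rw [map_mul, map_mul, hV, hφt]; exact hvt.symm.eq)
  set C := φ sevenC with hCdef
  have hC3 : C * C * C = 1 := by
    rw [hCdef, ← map_mul, ← map_mul, show sevenC * sevenC * sevenC = 1 by decide, map_one]
  have hCo : Odd (orderOf C) :=
    Odd.of_dvd_nat (by decide : Odd 3) (orderOf_dvd_of_pow_eq_one (by rw [pow_succ, pow_two]; exact hC3))
  have hC1 : C ≠ 1 := fun e => absurd (hφ.1 (e.trans (map_one φ).symm)) (by decide)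
  have hCt : Commute C t := by
    rw [← hφt, hCdef]
    exact (show Commute sevenC sevenT by show _ * _ = _ * _; decide).map φ
  have hCI : C ∈ Cfsg.Inn A₇ := by
    obtain ⟨s, hs, -⟩ := exists_even_conj C hCo
    exact ⟨s, hs.symm⟩
  suffices h : Commute r C from hr1 (key (hle hP.ht) hP.t2 hCo hC1 (ho r hr) hCt.symm h hrt)
  rcases (seven_facts V hVT).2.2 with e | e
  · refine commute_odd (hle hvH) hv2 (ho r hr) hCo (hvP r hr) ?_
    have h1 := congrArg φ e
    rw [map_mul, map_mul, map_inv, hV, ← hCdef] at h1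
    exact mul_inv_eq_iff_eq_mul.1 h1
  · have h1 := congrArg φ e
    rw [map_mul, map_mul, map_inv, map_inv, hV, ← hCdef] at h1
    have h2 : v * (C * r * C⁻¹) * v⁻¹ = C * r * C⁻¹ :=
      mul_inv_eq_iff_eq_mul.2 (hvP _ (hnorm C (hC C (hI hCI) hCt) r hr)).eq
    rw [← conj_mul, ← conj_mul, ← conj_inv, h1, inv_inv, mul_inv_eq_iff_eq_mul.2 (hvP r hr).eq] at h2
    have h3 : Commute r (C * C) := by
      show r * (C * C) = C * C * r
      calc r * (C * C) = C * (C⁻¹ * r * C) * C := by group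
        _ = C * (C * r * C⁻¹) * C := by rw [h2]
        _ = C * C * r := by group
    have h4 := h3.mul_right h3
    rwa [show C * C * (C * C) = C * C * C * C by group, hC3, one_mul] at h4

end Cfsg.Agent.Invol.GW.Dihedral.ThreeAlg.Seven

namespace Cfsg.Agent.Invol.GW.Dihedral

open Subgroup

/-- The facts for `PSL₂(q)`. -/
theorem algFacts_psl {F : Type} [Field F] [Fintype F] (hodd : Odd (Fintype.card F)) (h5 : 5 ≤ Fintype.card F) :
    AlgFacts (Matrix.ProjectiveSpecialLinearGroup (Fin 2) F) where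
  no_inverted _ hI h8 _ _ hP _ _ _ hPH hp hPo hu hC _ hr hrt :=
    ThreeAlg.Psl.no_inverted hodd h5 hI h8 hP hPH hp hPo hu hC hr hrt
  fixed _ hI h8 _ _ hP _ _ _ _ hxo hyo hx1 hx hux hy hyx :=
    ThreeAlg.Psl.fixed hodd hI h8 hP hxo hyo hx1 hx hux hy hyx
  classes _ hI h8 _ _ hP htI htuI _ hr hr2 _ _ _ _ hyr hy'r hyt hy hy'u hy' :=
    ThreeAlg.Psl.classes hodd hI h8 hP htI htuI hr hr2 hyr hy'r hyt hy hy'u hy'

/-- The facts for `A₇`. -/
theorem algFacts_seven : AlgFacts (alternatingGroup (Fin 7)) where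
  no_inverted _ hI h8 _ _ hP _ _ _ hPH hp hPo hu hC _ hr hrt :=
    ThreeAlg.Seven.no_inverted hI h8 hP hPH hp hPo hu hC hr hrt
  fixed _ hI h8 _ _ hP _ _ _ _ hxo hyo hx1 _ hux hy hyx :=
    ThreeAlg.Seven.key (ThreeAlg.Seven.le_inn hI h8 hP.hu) hP.u2 hxo hx1 hyo hux hyx hy
  classes _ hI h8 _ _ hP htI _ _ _ _ _ _ _ _ _ _ _ _ _ _ :=
    absurd (ThreeAlg.Seven.le_inn hI h8 hP.ht) htI

end Cfsg.Agent.Invol.GW.Dihedral
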