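import Cfsg.Agent.Lib.Invol.GW.Dihedral.Tools
import Cfsg.Agent.Lib.Invol.GW.Klein.CoreCentral
import Cfsg.Agent.Lib.Grp.HomogeneousDPi

/-!
# Gorenstein–Walter, dihedral, maximal centraliser: good primes and their leaves

`Good S σ n l`: `O_l(U)` is nontrivial and an `S`-invariant Sylow `l`-subgroup of `U` is centralised by no
reflection.  Otherwise `n = 3` and the reflections of exactly one class centralise it (`good_or_bad`).  For a
good prime the centralisers of the nontrivial `l`-elements of `R` fuse the four group `⟨t, τ⟩` and have one class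
of involutions (`fuses_of_mem`, `one_class`).
-/

set_option autoImplicit false
set_option linter.unusedSectionVars false
set_option linter.style.haveILetI false

namespace Cfsg.Agent.Invol.GW.Dihedral

open Subgroup Klein
open scoped Pointwise

universe u

variable {G : Type u} [Group G]

/-- A normal subgroup over `⟨t, τ⟩` of a proper fusing subgroup fuses too, unless the centraliser of `t` lies in
the core. -/
def NormalFusion (σ τ : G) (n : ℕ) : Prop :=
  ∀ L K : Subgroup G, L ≠ ⊤ → four (central σ n) τ ≤ K → K ≤ L → L ≤ normalizer (K : Set G) →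
    Fuses L (central σ n) τ → Fuses K (central σ n) τ ∨ coreCent (central σ n) ⊓ L ≤ oddOf L

/-- `O_l(U) ≠ 1` and an invariant Sylow `l`-subgroup of `U` is moved by every reflection. -/
def Good (S : Sylow 2 G) (σ : G) (n l : ℕ) : Prop :=
  opOf l (coreCent (central σ n)) ≠ ⊥ ∧ ∃ Q : Subgroup G, Grp.IsSylowIn l Q (coreCent (central σ n)) ∧
    (S : Subgroup G) ≤ normalizer (Q : Set G) ∧ Moved (S : Subgroup G) σ Q

/-- One class of reflections centralises an invariant Sylow `l`-subgroup of `U`. -/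
def Bad (S : Sylow 2 G) (σ τ : G) (n l : ℕ) : Prop :=
  n = 3 ∧ ∃ Q : Subgroup G, Grp.IsSylowIn l Q (coreCent (central σ n)) ∧
    (S : Subgroup G) ≤ normalizer (Q : Set G) ∧ (∀ y ∈ Q, Commute τ y) ∧
    ¬ ∀ y ∈ Q, Commute (σ * τ) y

namespace Hyp

variable [Finite G] {S : Sylow 2 G} {σ τ : G} {n : ℕ} (h : Hyp S σ τ n)
include h

theorem normalizer_ne_top {X : Subgroup G} (hX : X ≠ ⊥)
    (hXC : X ≤ centralizer ({central σ n} : Set G)) : normalizer (X : Set G) ≠ ⊤ := fun e => by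
  haveI := h.simple
  haveI : X.Normal := normalizer_eq_top_iff.1 e
  rcases (inferInstance : X.Normal).eq_bot_or_eq_top with e' | e'
  · exact hX e'
  · exact h.centralizer_ne_top (top_le_iff.1 (e' ▸ hXC))

/-! ## Reflections -/

theorem conj_rotation (i j : ℤ) : σ ^ j * (σ ^ i * τ) * (σ ^ j)⁻¹ = σ ^ (i + 2 * j) * τ := by
  have e : τ * (σ ^ j)⁻¹ = σ ^ j * τ := by
    have h1 : τ * σ ^ (-j) * τ⁻¹ = σ ^ j := by rw [← conj_zpow, h.rel, inv_zpow, ← zpow_neg, neg_neg]
    rw [← zpow_neg, ← h1, inv_mul_cancel_right]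
  rw [mul_assoc (σ ^ j), mul_assoc (σ ^ i), e, ← mul_assoc (σ ^ i), ← zpow_add, ← mul_assoc, ← zpow_add]
  congr 2
  ring

theorem exists_rotation_mul_tau {w : G} (hw : w ∈ (S : Subgroup G)) (hwσ : w ∉ zpowers σ) :
    ∃ i : ℤ, w = σ ^ i * τ := by
  obtain ⟨-, -, hwc⟩ := (h.data.cases w hw).resolve_left hwσ
  have hwt : w * τ ∈ zpowers σ := (h.data.cases _ (mul_mem hw h.hτ)).resolve_right fun e => by
    have e1 : w * τ * σ * (w * τ)⁻¹ = σ := by
      calc w * τ * σ * (w * τ)⁻¹ = w * (τ * σ * τ⁻¹) * w⁻¹ := by group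
        _ = (w * σ * w⁻¹)⁻¹ := by rw [h.rel]; group
        _ = σ := by rw [hwc, inv_inv]
    rw [e1, eq_inv_iff_mul_eq_one] at e
    have h1 := orderOf_le_of_pow_eq_one (n := 2) (by norm_num) (show σ ^ 2 = 1 by rw [pow_two]; exact e.2.2)
    rw [h.orderσ] at h1
    have h4 : 2 ^ 2 ≤ 2 ^ (n - 1) := Nat.pow_le_pow_right two_pos (by have := h.three; omega)
    omega
  obtain ⟨i, hi⟩ := mem_zpowers_iff.1 hwt
  exact ⟨i, by rw [hi, mul_assoc, h.tau_mul_self, mul_one]⟩

/-- A reflection is conjugate in `S` to `τ` or to `σ * τ`. -/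
theorem exists_conj_class {w : G} (hw : w ∈ (S : Subgroup G)) (hwσ : w ∉ zpowers σ) :
    ∃ s ∈ (S : Subgroup G), s * w * s⁻¹ = τ ∨ s * w * s⁻¹ = σ * τ := by
  obtain ⟨i, rfl⟩ := h.exists_rotation_mul_tau hw hwσ
  rcases Int.even_or_odd i with ⟨k, hk⟩ | ⟨k, hk⟩
  · refine ⟨σ ^ (-k), zpow_mem h.hσ _, Or.inl ?_⟩
    rw [h.conj_rotation, show i + 2 * -k = 0 by omega, zpow_zero, one_mul]
  · refine ⟨σ ^ (-k), zpow_mem h.hσ _, Or.inr ?_⟩
    rw [h.conj_rotation, show i + 2 * -k = 1 by omega, zpow_one]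

theorem centralizes_of_not_moved {Q : Subgroup G} (hQS : (S : Subgroup G) ≤ normalizer (Q : Set G))
    (hm : ¬ Moved (S : Subgroup G) σ Q) : (∀ y ∈ Q, Commute τ y) ∨ ∀ y ∈ Q, Commute (σ * τ) y := by
  unfold Moved at hm
  push Not at hm
  obtain ⟨w, hw, hwσ, hc⟩ := hm
  obtain ⟨s, hs, e | e⟩ := h.exists_conj_class hw hwσ
  · exact Or.inl (e ▸ commute_conj_of hc (hQS hs))
  · exact Or.inr (e ▸ commute_conj_of hc (hQS hs))

/-! ## Good and bad primes -/

theorem not_normalizer_le {l : ℕ} [Fact l.Prime] {Q : Subgroup G}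
    (hQ : Grp.IsSylowIn l Q (coreCent (central σ n))) (hτQ : ∀ y ∈ Q, Commute τ y) :
    ¬ normalizer (Q : Set G) ≤ centralizer ({central σ n} : Set G) := by
  intro hle
  set R := fixR (central σ n) τ
  have hQR : Q ≤ R := fun y hy => h.mem_fixR.2 ⟨hQ.1 hy, (hτQ y hy).symm⟩
  have hQ' : Grp.IsSylowIn l Q R := ⟨hQR, hQ.2.1, fun hd => hQ.2.2 (hd.trans
    ⟨_, (relIndex_mul_relIndex Q R (coreCent (central σ n)) hQR inf_le_left).symm⟩)⟩
  obtain ⟨g, -, hgt, hgu⟩ := h.exists_fuse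
  have hgR := h.normalizer_four_le_normalizer_fixR (h.fuse_mem_normalizer hgt hgu)
  obtain ⟨c, hc, hcQ⟩ := (hQ'.smul (Grp.mem_normalizer_iff_smul.1 hgR)).conj hQ'
  have hcg : c * g ∈ normalizer (Q : Set G) := by
    rw [Grp.mem_normalizer_iff_smul, ← Grp.conj_smul_conj_smul]
    exact hcQ
  have h1 : c * g * central σ n * (c * g)⁻¹ = central σ n := by
    rw [mem_centralizer_singleton_iff.1 (hle hcg), mul_inv_cancel_right]
  rw [show c * g * central σ n * (c * g)⁻¹ = c * (g * central σ n * g⁻¹) * c⁻¹ by group, hgt,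
    (h.mem_fixR.1 hc).2.eq, mul_inv_cancel_right] at h1
  exact h.central_ne_tau h1.symm

theorem centralizes_symm {Q : Subgroup G} (hQS : (S : Subgroup G) ≤ normalizer (Q : Set G))
    (hc : ∀ y ∈ Q, Commute τ y) : ∀ y ∈ Q, Commute (σ ^ (2 : ℕ)) y := fun y hy => by
  have h1 := commute_conj_of hc (hQS h.hσ) y hy
  have h2 : σ * τ * σ⁻¹ = σ ^ (2 : ℕ) * τ := by
    have := h.conj_rotation 0 1
    simpa [zpow_ofNat] using this
  rw [h2] at h1
  have h3 := h1.mul_left (hc y hy)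
  rwa [mul_assoc, h.tau_mul_self, mul_one] at h3

variable (hC : IsCoatom (centralizer ({central σ n} : Set G))) {l : ℕ} [Fact l.Prime]
  (hY : opOf l (coreCent (central σ n)) ≠ ⊥)
include hC hY

theorem bad_of_centralizes {Q : Subgroup G} (hQ : Grp.IsSylowIn l Q (coreCent (central σ n)))
    (hQS : (S : Subgroup G) ≤ normalizer (Q : Set G)) (hτQ : ∀ y ∈ Q, Commute τ y) :
    Bad S σ τ n l := by
  set t := central σ n with ht
  obtain ⟨g, hg, hgC⟩ := SetLike.not_le_iff_exists.1 (h.not_normalizer_le hQ hτQ)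
  set t' := g * t * g⁻¹ with ht'
  have hne : t' ≠ t := fun e => hgC (mem_centralizer_singleton_iff.2 (mul_inv_eq_iff_eq_mul.1 e))
  have hcl : ∀ x : G, (∀ y ∈ Q, Commute x y) → Commute x t := fun x hx =>
    mem_centralizer_singleton_iff.1 (h.centralizer_le_central hC hY hQ
      (mem_centralizer_iff.2 fun y hy => (hx y hy).eq.symm))
  -- the conjugate commutes with everything centralising `Q`
  have hcom : ∀ x : G, (∀ y ∈ Q, Commute x y) → Commute t' x := fun x hx => by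
    have h1 := (hcl _ (commute_conj_of hx (inv_mem hg))).symm.conj g
    rwa [show g * (g⁻¹ * x * g⁻¹⁻¹) * g⁻¹ = x by group] at h1
  have htQ : ∀ y ∈ Q, Commute t y := fun y hy => (h.commute_central (hQ.1 hy)).symm
  set P0 := (S : Subgroup G) ⊓ centralizer (Q : Set G) with hP0
  have hmemP0 : ∀ {x : G}, x ∈ (S : Subgroup G) → (∀ y ∈ Q, Commute x y) → x ∈ P0 := fun hx hc =>
    ⟨hx, mem_centralizer_iff.2 fun y hy => (hc y hy).eq.symm⟩
  have hzP : zpowers t' ≤ normalizer (P0 : Set G) := (zpowers_le.2 (mem_centralizer_iff.2 fun x hx =>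
    (hcom x (fun y hy => (mem_centralizer_iff.1 hx.2 y hy).symm)).eq.symm :
    t' ∈ centralizer (P0 : Set G))).trans (centralizer_le_normalizer _)
  have ht'2 : IsPGroup 2 (zpowers t') := isPGroup_zpowers (n := 1) (by
    rw [ht', orderOf_conj, ht, h.orderOf_central, pow_one])
  have hD : IsPGroup 2 (zpowers t' ⊔ P0 : Subgroup G) :=
    ht'2.to_sup_of_normal_right' (S.isPGroup'.to_le inf_le_left) hzP
  have hV : four t τ ≤ zpowers t' ⊔ P0 :=
    Dihedral.four_le (mem_sup_right (hmemP0 h.central_mem htQ)) (mem_sup_right (hmemP0 h.hτ hτQ))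
  have h4 := h.mem_four_of_commute hD hV (mem_sup_left (mem_zpowers t')) (hcom t htQ) (hcom τ hτQ)
  -- so it is a reflection of `⟨t, τ⟩`
  have hτ' : ∀ x : G, (∀ y ∈ Q, Commute x y) → Commute τ x := fun x hx => by
    rcases h.mem_four_tau.1 h4 with e | e | e | e
    · exact absurd (conj_eq_one_iff.1 e) h.central_ne_one
    · exact absurd e hne
    · exact e ▸ hcom x hx
    · have h1 := (hcl x hx).symm.mul_left (hcom x hx)
      rwa [e, ← mul_assoc, h.central_mul_self, one_mul] at h1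
  have h2 := (hτ' _ (h.centralizes_symm hQS hτQ)).eq
  have h3 : τ * σ ^ (2 : ℕ) * τ⁻¹ = (σ ^ (2 : ℕ))⁻¹ := by rw [← conj_pow, h.rel, inv_pow]
  rw [h2, mul_inv_cancel_right] at h3
  have h5 := orderOf_le_of_pow_eq_one (x := σ) (n := 4) (by norm_num) (by
    rw [show (4 : ℕ) = 2 + 2 from rfl, pow_add]; exact eq_inv_iff_mul_eq_one.1 h3)
  rw [h.orderσ] at h5
  have hn : n = 3 := by
    by_contra hn
    have : 2 ^ 3 ≤ 2 ^ (n - 1) := Nat.pow_le_pow_right two_pos (by have := h.three; omega)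
    omega
  refine ⟨hn, Q, hQ, hQS, hτQ, fun hστ => ?_⟩
  have h6 : ∀ y ∈ Q, Commute σ y := fun y hy => by
    have := (hστ y hy).mul_left (hτQ y hy)
    rwa [mul_assoc, h.tau_mul_self, mul_one] at this
  have h7 := (hτ' σ h6).eq
  have h8 := h.rel
  rw [h7, mul_inv_cancel_right, eq_inv_iff_mul_eq_one, ← pow_two] at h8
  have h9 := orderOf_le_of_pow_eq_one (n := 2) (by norm_num) h8
  rw [h.orderσ, hn] at h9
  omega

theorem good_or_bad : Good S σ n l ∨ Bad S σ τ n l ∨ Bad S σ (σ * τ) n l := by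
  haveI := h.isSolvable_coreCent
  obtain ⟨Q, hQ, hQS⟩ := Grp.exists_invariant_sylow (S : Subgroup G) (coreCent (central σ n))
    h.sylow_le_normalizer_coreCent (by
      rw [h.card_sylow]; exact (Nat.coprime_two_left.2 h.odd_coreCent).pow_left n) (Or.inr inferInstance) l
  by_cases hm : Moved (S : Subgroup G) σ Q
  · exact Or.inl ⟨hY, Q, hQ, hQS, hm⟩
  rcases h.centralizes_of_not_moved hQS hm with hc | hc
  · exact Or.inr (Or.inl (h.bad_of_centralizes hC hY hQ hQS hc))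
  · exact Or.inr (Or.inr (h.symm.bad_of_centralizes hC hY hQ hQS hc))

omit hY

variable (hg : Good S σ n l)
include hg

theorem good_involCentral : InvolCentral G l := by
  obtain ⟨hY', Q, hQ, hQS, hm⟩ := hg
  exact h.involCentral hC hY' hQ hQS hm

theorem good_modEq : (centralizer ({central σ n} : Set G)).index ≡ 1 [MOD l] := by
  obtain ⟨hY', Q, hQ, hQS, hm⟩ := hg
  exact h.index_modEq hC hY' hQ hQS hm

omit hC

/-- No Sylow `l`-subgroup of `U` lies in `R`. -/
theorem not_le_fixR {Q : Subgroup G} (hQ : Grp.IsSylowIn l Q (coreCent (central σ n))) :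
    ¬ Q ≤ fixR (central σ n) τ := by
  intro hQR
  obtain ⟨-, Q0, hQ0, hQ0S, hm⟩ := hg
  obtain ⟨c, ⟨-, hcV⟩, hcQ⟩ := Grp.invariant_sylow_conj (four (central σ n) τ) (coreCent (central σ n))
    h.four_le_normalizer_coreCent (h.coprime_four h.odd_coreCent) (Or.inr h.isSolvable_coreCent) hQ hQ0
    ((h.four_le_centralizer_of_le_fixR hQR).trans (centralizer_le_normalizer _))
    (h.four_le_sylow.trans hQ0S)
  obtain ⟨y, hy, hne⟩ := hm τ h.hτ h.tau_notMem
  rw [← hcQ] at hy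
  obtain ⟨q, hq, rfl⟩ := hy
  refine hne ?_
  have h1 := (h.mem_fixR.1 (hQR hq)).2.symm.conj c
  rwa [show c * τ * c⁻¹ = τ by rw [← mem_centralizer_iff.1 hcV τ (right_mem_four _ _), mul_inv_cancel_right]]
    at h1

include hC
variable (hNF : NormalFusion σ τ n)
include hNF

/-- LEAF: the centraliser of a Sylow subgroup of `R` fuses. -/
theorem fuses_centralizer_sylow {P : Subgroup G} (hP : Grp.IsSylowIn l P (fixR (central σ n) τ))
    (hP1 : P ≠ ⊥) : Fuses (centralizer (P : Set G)) (central σ n) τ := by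
  set V := four (central σ n) τ
  have hVP : V ≤ centralizer (P : Set G) := h.four_le_centralizer_of_le_fixR hP.1
  have hVN : V ≤ normalizer (P : Set G) := hVP.trans (centralizer_le_normalizer _)
  obtain ⟨g, -, hgt, hgu⟩ := h.exists_fuse
  have hgR := h.normalizer_four_le_normalizer_fixR (h.fuse_mem_normalizer hgt hgu)
  obtain ⟨c, hc, hcP⟩ := (hP.smul (Grp.mem_normalizer_iff_smul.1 hgR)).conj hP
  have hcv : ∀ v ∈ V, c * v * c⁻¹ = v := fun v hv => by
    rw [(h.commute_of_mem_fixR hc hv).eq, mul_inv_cancel_right]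
  have hf : Fuses (normalizer (P : Set G)) (central σ n) τ := by
    refine ⟨c * g, ?_, ?_, ?_⟩
    · rw [Grp.mem_normalizer_iff_smul, ← Grp.conj_smul_conj_smul]
      exact hcP
    · rw [show c * g * central σ n * (c * g)⁻¹ = c * (g * central σ n * g⁻¹) * c⁻¹ by group, hgt,
        hcv _ (right_mem_four _ _)]
    · rw [show c * g * τ * (c * g)⁻¹ = c * (g * τ * g⁻¹) * c⁻¹ by group, hgu,
        hcv _ (mul_mem (left_mem_four _ _) (right_mem_four _ _))]
  have hPC : P ≤ centralizer ({central σ n} : Set G) := hP.1.trans (inf_le_left.trans h.coreCent_le)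
  have hNc : normalizer (P : Set G) ≤ normalizer (centralizer (P : Set G) : Set G) := fun k hk => by
    refine mem_normalizer_fintype fun x hx => mem_centralizer_iff.2 fun y hy => ?_
    exact (commute_conj_of (fun z hz => (mem_centralizer_iff.1 hx z hz).symm) hk y hy).eq.symm
  rcases hNF _ _ (h.normalizer_ne_top hP1 hPC) hVP (centralizer_le_normalizer _) hNc hf with hk | hk
  · exact hk
  exfalso
  obtain ⟨Q, hQ, hQV, hPQ⟩ := Grp.exists_invariant_sylow_ge V (coreCent (central σ n))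
    h.four_le_normalizer_coreCent (h.coprime_four h.odd_coreCent) (Or.inr h.isSolvable_coreCent)
    (hP.1.trans inf_le_left) hP.2.1 hVN
  have hlt : P < Q := lt_of_le_of_ne hPQ fun e => h.not_le_fixR hg hQ (e ▸ hP.1)
  refine not_inf_normalizer_le hQ.2.1 hlt ?_
  set T0 := Q ⊓ normalizer (P : Set G)
  have hT0V : V ≤ normalizer (T0 : Set G) := fun v hv => by
    rw [Grp.mem_normalizer_iff_smul, Subgroup.smul_inf, Grp.mem_normalizer_iff_smul.1 (hQV hv),
      Grp.conj_smul_eq_self_of_mem (hVN hv)]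
  have hT0O : T0 ≤ oddOf (normalizer (P : Set G)) := (le_inf (inf_le_left.trans hQ.1) inf_le_right).trans hk
  obtain ⟨T, hT, hTV, hT0T⟩ := Grp.exists_invariant_sylow_ge V _ (hVN.trans (le_normalizer_oddOf _))
    (h.coprime_four (odd_card_oddOf _)) (Or.inr (isSolvable_of_odd (odd_card_oddOf _))) hT0O
    (hQ.2.1.to_le inf_le_left) hT0V
  have hTR := hT0T.trans (h.sylow_core_le_fixR (h.good_involCentral hC hg) hVN hf hT hTV)
  exact (hP.eq_of_le (le_inf hPQ le_normalizer) hTR (hQ.2.1.to_le inf_le_left)).ge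

/-- The centraliser of a nontrivial `l`-element of `R` fuses. -/
theorem fuses_of_mem {x : G} (hx : x ∈ fixR (central σ n) τ) (hxl : IsPGroup l (zpowers x)) (hx1 : x ≠ 1) :
    Fuses (centralizer ({x} : Set G)) (central σ n) τ := by
  obtain ⟨P, hP, hxP⟩ := Grp.HomDPi.exists_isSylowIn_ge (zpowers_le.2 hx) hxl
  have hxP' : x ∈ P := hxP (mem_zpowers x)
  refine (h.fuses_centralizer_sylow hC hg hNF hP fun e => hx1 (by rwa [e, mem_bot] at hxP')).mono ?_
  exact centralizer_le (Set.singleton_subset_iff.2 hxP')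

/-- The centraliser of a nontrivial `l`-element of `R` has one class of involutions. -/
theorem one_class (hNF' : NormalFusion σ (σ * τ) n) {x : G} (hx : x ∈ fixR (central σ n) τ)
    (hxl : IsPGroup l (zpowers x)) (hx1 : x ≠ 1) {s : G} (hs : orderOf s = 2) (hsx : Commute s x) :
    ∃ k ∈ centralizer ({x} : Set G), k * s * k⁻¹ = central σ n := by
  haveI : Fact (Nat.Prime 2) := ⟨Nat.prime_two⟩
  set t := central σ n with ht
  set H := centralizer ({x} : Set G)
  have hVH : four t τ ≤ H := fun v hv =>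
    mem_centralizer_singleton_iff.2 (h.commute_of_mem_fixR hx hv).symm.eq
  obtain ⟨D, hD⟩ := (h.isPGroup_four.of_equiv (subgroupOfEquivOfLe hVH).symm).exists_le_sylow
  set D' := (D : Subgroup ↥H).map H.subtype
  have hDH : D' ≤ H := map_subtype_le _
  have hVD : four t τ ≤ D' := fun v hv => ⟨⟨v, hVH hv⟩, hD (mem_subgroupOf.2 hv), rfl⟩
  have hsp : IsPGroup 2 (zpowers (⟨s, mem_centralizer_singleton_iff.2 hsx.eq⟩ : ↥H)) :=
    isPGroup_zpowers (n := 1) (by rw [Subgroup.orderOf_mk, hs, pow_one])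
  obtain ⟨E, hE⟩ := hsp.exists_le_sylow
  obtain ⟨k0, hk0⟩ := MulAction.exists_smul_eq ↥H E D
  set s0 := (k0 : G) * s * (k0 : G)⁻¹ with hs0
  have hs0D : s0 ∈ D' := by
    refine ⟨k0 * ⟨s, mem_centralizer_singleton_iff.2 hsx.eq⟩ * k0⁻¹, ?_, rfl⟩
    rw [← hk0, Sylow.coe_subgroup_smul]
    exact ⟨_, hE (mem_zpowers _), rfl⟩
  -- an involution of the centre of `D` lies in the four group
  have hD2 : IsPGroup 2 D' := D.isPGroup'.map _
  haveI : Nontrivial ↥D' := (Subgroup.nontrivial_iff_ne_bot D').2 fun e => by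
    have h1 := hVD (left_mem_four t τ)
    rw [e, mem_bot] at h1
    exact h.central_ne_one h1
  haveI := hD2.center_nontrivial
  obtain ⟨z, hz⟩ := exists_prime_orderOf_dvd_card' (G := Subgroup.center ↥D') 2
    ((hD2.to_subgroup _).card_eq_or_dvd.resolve_left Finite.one_lt_card.ne')
  rw [← orderOf_coe, ← orderOf_coe] at hz
  have hzc : ∀ y ∈ D', Commute y ((z : ↥D') : G) := fun y hy =>
    congrArg Subtype.val (mem_center_iff.1 z.2 ⟨y, hy⟩)
  have hz4 := h.mem_four_of_commute hD2 hVD (z : ↥D').2 (hzc _ (hVD (left_mem_four _ _))).symm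
    (hzc _ (hVD (right_mem_four _ _))).symm
  obtain ⟨g, hgH, (hgt : g * t * g⁻¹ = τ), (hgu : g * τ * g⁻¹ = t * τ)⟩ := h.fuses_of_mem hC hg hNF hx hxl hx1
  obtain ⟨k1, hk1H, hk1⟩ : ∃ k1 ∈ H, k1 * ((z : ↥D') : G) * k1⁻¹ = t := by
    rcases h.mem_four_tau.1 hz4 with e | e | e | e
    · rw [e, orderOf_one] at hz
      omega
    · exact ⟨1, one_mem _, by rw [e, one_mul, inv_one, mul_one]⟩
    · exact ⟨g⁻¹, inv_mem hgH, by rw [e, ← hgt]; group⟩
    · refine ⟨g⁻¹ * g⁻¹, mul_mem (inv_mem hgH) (inv_mem hgH), ?_⟩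
      calc _ = g⁻¹ * (g⁻¹ * (t * τ) * g) * g := by rw [e, ← ht]; simp only [mul_assoc, mul_inv_rev, inv_inv]
        _ = g⁻¹ * τ * g := by rw [← hgu]; group
        _ = t := by rw [← hgt]; group
  set s1 := k1 * s0 * k1⁻¹ with hs1
  suffices hmain : ∃ k ∈ H, k * s1 * k⁻¹ = t by
    obtain ⟨k, hk, hke⟩ := hmain
    refine ⟨k * (k1 * k0), mul_mem hk (mul_mem hk1H k0.2), ?_⟩
    rw [← hke, hs1, hs0]; group
  have hs1o : orderOf s1 = 2 := by rw [hs1, orderOf_conj, hs0, orderOf_conj, hs]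
  have hs1t : Commute s1 t := by
    have := (hzc s0 hs0D).conj k1
    rwa [← hs1, hk1] at this
  have hxs1 : Commute x s1 :=
    (mem_centralizer_singleton_iff.1 (mul_mem (mul_mem hk1H (hDH hs0D)) (inv_mem hk1H)) :
      s1 * x = x * s1).symm
  by_cases hst : s1 = t
  · exact ⟨1, one_mem _, by rw [hst, one_mul, inv_one, mul_one]⟩
  obtain ⟨c, hc, hcS⟩ := exists_conj_le_sylow S h.le_centralizer
    (zpowers_le.2 (mem_centralizer_singleton_iff.2 hs1t.eq))
    (isPGroup_zpowers (n := 1) (by rw [hs1o, pow_one]) : IsPGroup 2 (zpowers s1))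
  have hct : c * t * c⁻¹ = t := by rw [mem_centralizer_singleton_iff.1 hc, mul_inv_cancel_right]
  have hwσ : c * s1 * c⁻¹ ∉ zpowers σ := fun hmem => by
    refine hst (mul_left_cancel (mul_right_cancel (((h.eq_central hmem ?_ ?_)).trans hct.symm)))
    · rw [show c * s1 * c⁻¹ * (c * s1 * c⁻¹) = c * (s1 * s1) * c⁻¹ by group, ← pow_two, ← hs1o,
        pow_orderOf_eq_one]
      group
    · rw [ne_eq, conj_eq_one_iff]
      intro e1
      rw [e1, orderOf_one] at hs1o
      omega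
  obtain ⟨s', hs', hρ⟩ := h.exists_conj_class (hcS s1 (mem_zpowers _)) hwσ
  set e := s' * c with he
  have hes : e * s1 * e⁻¹ = τ ∨ e * s1 * e⁻¹ = σ * τ := by
    rw [he, show s' * c * s1 * (s' * c)⁻¹ = s' * (c * s1 * c⁻¹) * s'⁻¹ by group]
    exact hρ
  have heC : e ∈ centralizer ({t} : Set G) := mul_mem (h.le_centralizer hs') hc
  have het : e * t * e⁻¹ = t := by rw [mem_centralizer_singleton_iff.1 heC, mul_inv_cancel_right]
  have hyU : e * x * e⁻¹ ∈ coreCent t := h.mem_coreCent_of_odd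
    (by have := (h.commute_central (h.mem_fixR.1 hx).1).conj e; rwa [← ht, het] at this)
    (by rw [orderOf_conj]; exact h.odd_orderOf h.odd_fixR hx)
  have hyl : IsPGroup l (zpowers (e * x * e⁻¹)) := by
    obtain ⟨i, hi⟩ := hxl ⟨x, mem_zpowers x⟩
    have hxi : x ^ l ^ i = 1 := congrArg Subtype.val hi
    intro y
    obtain ⟨j, hj⟩ := mem_zpowers_iff.1 y.2
    refine ⟨i, Subtype.ext ?_⟩
    rw [SubgroupClass.coe_pow, OneMemClass.coe_one, ← hj, ← zpow_natCast, ← zpow_mul, mul_comm, zpow_mul,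
      zpow_natCast, conj_pow, hxi, mul_one, mul_inv_cancel, one_zpow]
  have hy1 : e * x * e⁻¹ ≠ 1 := fun h1 => hx1 (conj_eq_one_iff.1 h1)
  have hyc : Commute (e * x * e⁻¹) (e * s1 * e⁻¹) := hxs1.conj e
  have hfin : ∀ ρ, Fuses (centralizer ({e * x * e⁻¹} : Set G)) t ρ → e * s1 * e⁻¹ = ρ →
      ∃ k ∈ H, k * s1 * k⁻¹ = t := by
    rintro ρ ⟨d, hd, hd1, -⟩ heρ
    refine ⟨e⁻¹ * d⁻¹ * e, ?_, ?_⟩
    · have h1 := (mem_centralizer_singleton_iff.1 (inv_mem hd) :
        d⁻¹ * (e * x * e⁻¹) = e * x * e⁻¹ * d⁻¹)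
      refine mem_centralizer_singleton_iff.2 ?_
      calc e⁻¹ * d⁻¹ * e * x = e⁻¹ * (d⁻¹ * (e * x * e⁻¹)) * e := by group
        _ = x * (e⁻¹ * d⁻¹ * e) := by rw [h1]; group
    · calc e⁻¹ * d⁻¹ * e * s1 * (e⁻¹ * d⁻¹ * e)⁻¹ = e⁻¹ * (d⁻¹ * (e * s1 * e⁻¹) * d) * e := by group
        _ = e⁻¹ * t * e := by rw [heρ, ← hd1]; group
        _ = e⁻¹ * (e * t * e⁻¹) * e := by rw [het]
        _ = t := by group
  rcases hes with heρ | heρ
  · exact hfin τ (h.fuses_of_mem hC hg hNF (h.mem_fixR.2 ⟨hyU, heρ ▸ hyc⟩) hyl hy1) heρ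
  · exact hfin (σ * τ) (h.symm.fuses_of_mem hC hg hNF' (h.symm.mem_fixR.2 ⟨hyU, heρ ▸ hyc⟩) hyl hy1) heρ

end Hyp

end Cfsg.Agent.Invol.GW.Dihedral
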