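import Mathlib

/-!
# Gorenstein–Walter, dihedral: the degree identity with `ρ ≥ 3`

`x` is the degree of the character of the principal block, `X = x - δ = 2 ^ n * T`, `A`, `B` the signed degrees of
the two further characters, `|A + B| = x + δ`, and `c ^ 2 * X ^ 2 * A * B = e ^ 2 * (A - B) ^ 2 * δ * x` with
`c = a - a₁`, `e = a + a₁`.  If `e ≤ 2 |c|`, that is `a₁ ≥ 3 a` or `a ≥ 3 a₁`, then `T = 1, δ = -1` or the data are
those of `A₇`.
-/

set_option autoImplicit false

namespace Cfsg.Agent.Invol.GW.Dihedral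

/-- Positive sign: the two degrees have the same sign and their product is too large. -/
theorem sp_pos {X p q : ℤ} (hX : 8 ≤ X) (hp : 5 ≤ p) (hq : 5 ≤ q) (hpq : p + q = X + 2)
    (h : X ^ 2 * (p * q) ≤ 4 * (X + 1) * ((X + 2) ^ 2 - 4 * (p * q))) : False := by
  have h1 : 5 * (X - 3) ≤ p * q := by
    nlinarith [mul_nonneg (show (0 : ℤ) ≤ p - 5 by omega) (show (0 : ℤ) ≤ q - 5 by omega)]
  have h2 : (0 : ℤ) ≤ X ^ 2 + 16 * X + 16 := by positivity
  nlinarith [mul_le_mul_of_nonneg_left h1 h2, mul_nonneg (mul_nonneg (show (0 : ℤ) ≤ X by omega)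
    (show (0 : ℤ) ≤ X by omega)) (show (0 : ℤ) ≤ X - 8 by omega),
    mul_nonneg (show (0 : ℤ) ≤ X by omega) (show (0 : ℤ) ≤ X - 8 by omega)]

/-- Negative sign: finitely many degrees, of which one survives. -/
theorem sp_neg {X p : ℤ} (hX : 16 ≤ X) (h8 : 8 ∣ X) (hp : 5 ≤ p) (hodd : Odd p)
    (hsq : IsSquare ((X - 1) * (p * (p + (X - 2)))))
    (h : X ^ 2 * (p * (p + (X - 2))) ≤ 4 * (X - 1) * ((X - 2) ^ 2 + 4 * (p * (p + (X - 2))))) :
    X = 16 ∧ p = 21 := by
  obtain ⟨j, rfl⟩ := h8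
  obtain ⟨i, rfl⟩ := hodd
  have hq : (0 : ℤ) ≤ (8 * j) ^ 2 - 16 * (8 * j) + 16 := by nlinarith
  have h1 : 5 * (8 * j + 3) ≤ (2 * i + 1) * (2 * i + 1 + (8 * j - 2)) := by
    nlinarith [mul_nonneg (show (0 : ℤ) ≤ 2 * i + 1 - 5 by omega)
      (show (0 : ℤ) ≤ 2 * i + 1 + 5 + (8 * j - 2) by omega)]
  have hj : j ≤ 6 := by
    by_contra hj
    nlinarith [mul_le_mul_of_nonneg_left h1 hq, mul_nonneg (mul_nonneg (show (0 : ℤ) ≤ j by omega)
      (show (0 : ℤ) ≤ j by omega)) (show (0 : ℤ) ≤ j - 7 by omega),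
      mul_nonneg (show (0 : ℤ) ≤ j by omega) (show (0 : ℤ) ≤ j - 7 by omega)]
  have hj2 : 2 ≤ j := by omega
  have hi : i ≤ 10 := by
    interval_cases j <;> nlinarith
  have hi2 : 2 ≤ i := by omega
  interval_cases j <;> interval_cases i <;>
    first
      | (constructor <;> norm_num; done)
      | exact absurd hsq (by decide +kernel)
      | (exfalso; norm_num at h; done)

/-- The degree identity with `e ≤ 2 |c|`. -/
theorem sp3 {n : ℕ} (hn : 3 ≤ n) {x T δ A B c e : ℤ} (hT : 1 ≤ T) (hδ : δ = 1 ∨ δ = -1)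
    (hx : x - δ = 2 ^ n * T) (hA : Odd A) (hB : Odd B) (hA5 : 5 ≤ |A|) (hB5 : 5 ≤ |B|)
    (hAB : |A + B| = x + δ) (he : 0 < e) (hce : e ≤ 2 * |c|)
    (hSP : c ^ 2 * (x - δ) ^ 2 * (A * B) = e ^ 2 * (A - B) ^ 2 * (δ * x)) :
    (δ = -1 ∧ T = 1) ∨ (n = 3 ∧ δ = -1 ∧ T = 2 ∧ x = 15 ∧ 2 * |c| = e) := by
  set X := x - δ with hX
  obtain ⟨k, rfl⟩ : ∃ k, n = k + 3 := ⟨n - 3, by omega⟩
  have hk : (1 : ℤ) ≤ 2 ^ k := one_le_pow₀ (by norm_num)
  have h8 : X = 8 * (2 ^ k * T) := by rw [hx, pow_add]; ring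
  have hkT : 1 ≤ 2 ^ k * T := one_le_mul_of_one_le_of_one_le hk hT
  have hc : 0 < |c| := by omega
  have hc2 : 0 < c ^ 2 := by rw [← sq_abs]; positivity
  have he2 : e ^ 2 ≤ 4 * c ^ 2 := by
    rw [← sq_abs c]; nlinarith [mul_le_mul hce hce he.le (by omega)]
  have hX0 : 0 < X ^ 2 := by have h1 : 0 < X := by omega
                             positivity
  have hAB0 : A * B ≠ 0 := mul_ne_zero (by rintro rfl; simp at hA5) (by rintro rfl; simp at hB5)
  have hne : A - B ≠ 0 := by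
    intro h0
    rw [h0] at hSP
    simp only [ne_eq, OfNat.ofNat_ne_zero, not_false_eq_true, zero_pow, mul_zero, zero_mul, mul_eq_zero] at hSP
    rcases hSP with (h | h) | h | h
    · exact hc2.ne' (by rw [h])
    · exact hX0.ne' (by rw [h])
    · exact hAB0 (by rw [h]; ring)
    · exact hAB0 (by rw [h]; ring)
  -- the sign of the product
  have hsign : 0 < δ * (A * B) := by
    have h1 : c ^ 2 * X ^ 2 * (δ * (A * B)) = e ^ 2 * (A - B) ^ 2 * x := by
      rcases hδ with rfl | rfl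
      · linear_combination hSP
      · linear_combination -hSP
    have h2 : 0 < e ^ 2 * (A - B) ^ 2 * x := by
      have : 0 < x := by omega
      positivity
    rw [← h1] at h2
    exact (mul_pos_iff_of_pos_left (by positivity)).1 h2
  have hsum : (A + B) ^ 2 = (x + δ) ^ 2 := by rw [← sq_abs, hAB]
  have hdiff : (A - B) ^ 2 = (x + δ) ^ 2 - 4 * (A * B) := by rw [← hsum]; ring
  have hid : c ^ 2 * X ^ 2 * (δ * (A * B)) = e ^ 2 * x * ((x + δ) ^ 2 - 4 * (A * B)) := by
    rw [← hdiff]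
    rcases hδ with rfl | rfl
    · linear_combination hSP
    · linear_combination -hSP
  have hbound : X ^ 2 * (δ * (A * B)) ≤ 4 * x * ((x + δ) ^ 2 - 4 * (A * B)) := by
    have hm := mul_le_mul_of_nonneg_right he2 (le_of_lt (mul_pos hX0 hsign))
    refine le_of_mul_le_mul_left ?_ (pow_pos he 2)
    nlinarith [hm, hid]
  rcases hδ with rfl | rfl
  · exfalso
    rw [one_mul] at hsign hbound
    have hpq : |A| + |B| = X + 2 := by
      rcases mul_pos_iff.1 hsign with ⟨h1, h2⟩ | ⟨h1, h2⟩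
      · rw [abs_of_pos h1, abs_of_pos h2, ← abs_of_pos (add_pos h1 h2), hAB]; omega
      · rw [abs_of_neg h1, abs_of_neg h2, show -A + -B = -(A + B) by ring, ← abs_of_neg (add_neg h1 h2), hAB]
        omega
    refine sp_pos (X := X) (by omega) hA5 hB5 hpq ?_
    rw [← abs_mul, abs_of_pos hsign, show X + 1 = x by omega, show X + 2 = x + 1 by omega]
    linarith
  · by_cases hX8 : X = 8
    · refine Or.inl ⟨rfl, ?_⟩
      have : 2 ^ k * T = 1 := by omega
      exact le_antisymm (le_trans (le_mul_of_one_le_left (by omega) hk) this.le) hT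
    have hsq : IsSquare (x * (-(A * B))) := by
      -- `(c X AB)² = e² (A - B)² (-x) AB`
      have h1 : e * (A - B) ≠ 0 := mul_ne_zero he.ne' hne
      have h2 : (e * (A - B)) ^ 2 * (x * (-(A * B))) = (c * X * (A * B)) ^ 2 := by
        linear_combination (-(A * B)) * hSP
      have h3 : (e * (A - B)) ∣ c * X * (A * B) :=
        (Int.pow_dvd_pow_iff two_ne_zero).1 ⟨_, h2.symm⟩
      obtain ⟨w, hw⟩ := h3
      refine ⟨w, mul_left_cancel₀ (pow_ne_zero 2 h1) ?_⟩
      rw [h2, hw]; ring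
    -- the larger degree is the smaller plus `x - 1`
    obtain ⟨p, hp5, hpo, hp⟩ : ∃ p, 5 ≤ p ∧ Odd p ∧ -(A * B) = p * (p + (X - 2)) := by
      have hAB' : |A + B| = X - 2 := by rw [hAB]; omega
      rcases le_total |A| |B| with hle | hle
      · refine ⟨|A|, hA5, Int.odd_iff.2 ?_, ?_⟩
        · rw [Int.odd_iff] at hA
          rcases abs_choice A with e | e <;> rw [e] <;> omega
        · rcases mul_neg_iff.1 (show A * B < 0 by linarith) with ⟨h1, h2⟩ | ⟨h1, h2⟩
          · rw [abs_of_pos h1, abs_of_neg h2] at hle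
            rw [abs_of_pos h1, ← hAB', abs_of_nonpos (by omega)]; ring
          · rw [abs_of_neg h1, abs_of_pos h2] at hle
            rw [abs_of_neg h1, ← hAB', abs_of_nonneg (by omega)]; ring
      · refine ⟨|B|, hB5, Int.odd_iff.2 ?_, ?_⟩
        · rw [Int.odd_iff] at hB
          rcases abs_choice B with e | e <;> rw [e] <;> omega
        · rcases mul_neg_iff.1 (show A * B < 0 by linarith) with ⟨h1, h2⟩ | ⟨h1, h2⟩
          · rw [abs_of_pos h1, abs_of_neg h2] at hle
            rw [abs_of_neg h2, ← hAB', abs_of_nonneg (by omega)]; ring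
          · rw [abs_of_neg h1, abs_of_pos h2] at hle
            rw [abs_of_pos h2, ← hAB', abs_of_nonpos (by omega)]; ring
    obtain ⟨hX16, rfl⟩ := sp_neg (X := X) (p := p) (by omega) ⟨_, h8⟩ hp5 hpo
      (by rw [← hp, show X - 1 = x by omega]; exact hsq)
      (by rw [← hp, show X - 1 = x by omega, show X - 2 = x + -1 by omega]; linarith)
    have hx15 : x = 15 := by omega
    rw [hX16] at hp hid
    have hAB735 : A * B = -735 := by norm_num at hp; linarith
    have hkT2 : 2 ^ k * T = 2 := by omega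
    rcases Nat.eq_zero_or_pos k with rfl | hk0
    · refine Or.inr ⟨rfl, rfl, by simpa using hkT2, hx15, ?_⟩
      rw [hx15, hAB735] at hid
      norm_num at hid
      have h1 : (2 * |c|) ^ 2 = e ^ 2 := by rw [mul_pow, sq_abs]; linarith
      exact (pow_left_inj₀ (by positivity) he.le two_ne_zero).1 h1
    · refine Or.inl ⟨rfl, ?_⟩
      have h2 : (2 : ℤ) ≤ 2 ^ k := by
        calc (2 : ℤ) = 2 ^ 1 := (pow_one 2).symm
          _ ≤ 2 ^ k := pow_le_pow_right₀ (by norm_num) hk0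
      nlinarith

end Cfsg.Agent.Invol.GW.Dihedral
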