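import Cfsg.Agent.Lib.Invol.GW.Dihedral.TwoClassBasic
import Cfsg.Agent.Lib.Invol.GW.Klein.ThreeClassBasic

/-!
# Gorenstein–Walter, dihedral: no two-class subgroup of index 35 with core of order `81`

The core `K` is generated by the fixed subgroups of `t`, `τ`, `t τ`, abelian of order nine with a common subgroup
of order three; it is abelian.  A Sylow 3-subgroup of `M` fixes a second coset of `M`, so contains another
conjugate of `K`; the intersection is centralised by an element permuting `t`, `τ`, `t τ`, and has order at most nine.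
-/

set_option autoImplicit false
set_option linter.unusedSectionVars false
set_option linter.style.haveILetI false

namespace Cfsg.Agent.Invol.GW.Dihedral

open Subgroup Klein
open scoped commutatorElement Pointwise

universe u

variable {G : Type u} [Group G] [Finite G]

/-- The fixed subgroups are moved cyclically. -/
theorem fixIn_cycle {D K : Subgroup G} {t w c : G} (hc : c ∈ normalizer (D : Set G)) (h1 : c * t * c⁻¹ = w)
    (h2 : fixIn K t ≤ D) (hK : c ∈ normalizer (K : Set G)) : fixIn K w ≤ D := fun x hx => by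
  have h3 := h2 (show c⁻¹ * x * c ∈ fixIn K t by
    have := conj_mem_fixIn (inv_mem hK) hx
    rwa [inv_inv, ← h1, show c⁻¹ * (c * t * c⁻¹) * c = t by group] at this)
  have h4 := (mem_normalizer_iff.1 hc _).1 h3
  rwa [show c * (c⁻¹ * x * c) * c⁻¹ = x by group] at h4

/-- A cyclic permutation normalises the common fixed subgroup. -/
theorem mem_normalizer_fixIn₂ {K : Subgroup G} {t w c : G} (hc : c ∈ normalizer (K : Set G)) (ht : t * t = 1)
    (hc1 : c * t * c⁻¹ = w) (hc2 : c * w * c⁻¹ = t * w) : c ∈ normalizer (fixIn₂ K t w : Set G) :=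
  ThreeClass.mem_normalizer_of fun x hx => by
    obtain ⟨h1, h2, h3⟩ := mem_fixIn₂.1 hx
    have hw' : Commute (c * x * c⁻¹) w := hc1 ▸ h2.conj c
    have htw : Commute (c * x * c⁻¹) (t * w) := hc2 ▸ h3.conj c
    refine mem_fixIn₂.2 ⟨(mem_normalizer_iff.1 hc x).1 h1, ?_, hw'⟩
    have h4 := htw.mul_right hw'.inv_right
    rwa [mul_inv_cancel_right] at h4

/-- An abelian subgroup with three abelian fixed subgroups over a common central one. -/
theorem commute_of_fixed_nine {K : Subgroup G} (hK : Odd (Nat.card ↥K)) {t w c : G} (ht : t * t = 1)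
    (hw : w * w = 1) (hc : Commute t w) (hnt : t ∈ normalizer (K : Set G)) (hnw : w ∈ normalizer (K : Set G))
    (hnc : c ∈ normalizer (K : Set G)) (hc1 : c * t * c⁻¹ = w) (hc2 : c * w * c⁻¹ = t * w)
    (h3 : Nat.card ↥(fixIn₂ K t w) = 3)
    (h9 : ∀ v, v = t ∨ v = w ∨ v = t * w →
      Nat.card ↥(fixIn K v) = 9 ∧ ∀ x ∈ fixIn K v, ∀ y ∈ fixIn K v, Commute x y) :
    ∀ x ∈ K, ∀ y ∈ K, Commute x y := by
  set R := fixIn₂ K t w with hR
  have hRv : ∀ v, v = t ∨ v = w ∨ v = t * w → R ≤ fixIn K v := by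
    rintro v (rfl | rfl | rfl)
    exacts [fixIn₂_le _ _ _, fixIn₂_le_right _ _ _, fixIn₂_le_mul _ _ _]
  have hRK : R ≤ K := (fixIn₂_le _ _ _).trans (fixIn_le _ _)
  -- `R` is central
  have hcen : ∀ r ∈ R, ∀ y ∈ K, Commute r y := by
    intro r hr y hy
    have hle : K ≤ centralizer ({r} : Set G) := by
      refine le_of_fixIn_le hK ht hw hc hnt hnw ?_ ?_ ?_ <;>
        exact fun x hx => mem_centralizer_singleton_iff.2 ((h9 _ (by simp)).2 x hx r (hRv _ (by simp) hr)).eq
    exact (show Commute y r from mem_centralizer_singleton_iff.1 (hle hy)).symm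
  have hcR : c ∈ normalizer (R : Set G) := mem_normalizer_fixIn₂ hnc ht hc1 hc2
  set D := ⁅K, K⁆ with hD
  have hDK : D ≤ K := commutator_le.2 fun a ha b hb => by
    rw [commutatorElement_def]
    exact mul_mem (mul_mem (mul_mem ha hb) (inv_mem ha)) (inv_mem hb)
  have hnD : ∀ g ∈ normalizer (K : Set G), g ∈ normalizer (D : Set G) := fun g hg => by
    rw [Grp.mem_normalizer_iff_smul] at hg ⊢
    calc MulAut.conj g • D = ⁅MulAut.conj g • K, MulAut.conj g • K⁆ :=
          map_commutator K K (MulDistribMulAction.toMonoidEnd _ _ (MulAut.conj g))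
      _ = D := by rw [hg]
  have hprime : (3 : ℕ).Prime := Nat.prime_three
  by_cases hDR : D ≤ R
  · -- class two: inverted and fixed elements commute
    have key : ∀ {x y : G}, x ∈ K → y ∈ K → ∀ g ∈ ({t, w} : Set G), g * ⁅x, y⁆ * g⁻¹ = ⁅x, y⁆ := by
      intro x y hx hy g hg
      obtain ⟨-, h1, h2⟩ := mem_fixIn₂.1 (hDR (commutator_mem_commutator hx hy))
      rcases hg with rfl | rfl
      · rw [← h1.eq, mul_inv_cancel_right]
      · rw [← h2.eq, mul_inv_cancel_right]
    have pair : ∀ {v v' : G}, v * v = 1 → v' * v' = 1 → Commute v v' → v ∈ normalizer (K : Set G) →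
        v' ∈ normalizer (K : Set G) → (∀ {x y : G}, x ∈ K → y ∈ K → v' * ⁅x, y⁆ * v'⁻¹ = ⁅x, y⁆) →
        (∀ x, x ∈ K → Commute x v → Commute x v' → x ∈ R) →
        ∀ x ∈ fixIn K v, ∀ y ∈ fixIn K v', Commute x y := by
      intro v v' hvv hvv' hvc hvn hvn' hfx hfr x hx y hy
      obtain ⟨hxK, hxv⟩ := mem_fixIn.1 hx
      obtain ⟨hyK, hyv⟩ := mem_fixIn.1 hy
      have hfo : Odd (Nat.card ↥(fixIn K v)) := odd_of_le (fixIn_le _ _) hK
      have hvf : v' ∈ normalizer (fixIn K v : Set G) := ThreeClass.mem_normalizer_of fun z hz => by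
        have := conj_mem_fixIn hvn' hz
        rwa [show v' * v * v'⁻¹ = v by rw [← hvc.eq, mul_inv_cancel_right]] at this
      obtain ⟨a, ha, b, hb, hac, hbi, rfl⟩ := ThreeClass.decomp hvv' hfo hvf hx
      have haR : a ∈ R := hfr a (mem_fixIn.1 ha).1 (mem_fixIn.1 ha).2 hac.symm
      refine Commute.mul_left (hcen a haR y hyK) ?_
      have hbK := (mem_fixIn.1 hb).1
      have e := hfx hbK hyK
      rw [← commutatorElement_eq_one_iff_commute]
      have e2 : v' * ⁅b, y⁆ * v'⁻¹ = ⁅b⁻¹, y⁆ := by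
        rw [conjugate_commutatorElement, hbi, ← hyv.eq, mul_inv_cancel_right]
      have hz : ⁅b, y⁆ ∈ D := commutator_mem_commutator hbK hyK
      have e3 : ⁅b⁻¹, y⁆ = ⁅b, y⁆⁻¹ := by
        have h4 := hcen _ (hDR hz) b hbK
        calc ⁅b⁻¹, y⁆ = b⁻¹ * ⁅b, y⁆⁻¹ * b := by simp [commutatorElement_def, mul_assoc]
          _ = ⁅b, y⁆⁻¹ := by rw [mul_assoc, h4.inv_left.eq, ← mul_assoc, inv_mul_cancel, one_mul]
      rw [e2, e3] at e
      exact eq_one_of_odd hK (hDK hz) (inv_eq_iff_mul_eq_one.1 e)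
    have hwn : w * t * w⁻¹ = t := by rw [← hc.eq, mul_inv_cancel_right]
    have htw : t * w * (t * w) = 1 := by
      rw [mul_assoc, ← mul_assoc w t w, ← hc.eq, mul_assoc t w w, hw, mul_one, ht]
    have hntw : t * w ∈ normalizer (K : Set G) := mul_mem hnt hnw
    have hkt : ∀ {x y : G}, x ∈ K → y ∈ K → t * ⁅x, y⁆ * t⁻¹ = ⁅x, y⁆ := fun hx hy => key hx hy t (by simp)
    have hkw : ∀ {x y : G}, x ∈ K → y ∈ K → w * ⁅x, y⁆ * w⁻¹ = ⁅x, y⁆ := fun hx hy => key hx hy w (by simp)
    have hktw : ∀ {x y : G}, x ∈ K → y ∈ K → t * w * ⁅x, y⁆ * (t * w)⁻¹ = ⁅x, y⁆ := fun {x y} hx hy => by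
      rw [show t * w * ⁅x, y⁆ * (t * w)⁻¹ = t * (w * ⁅x, y⁆ * w⁻¹) * t⁻¹ by group, hkw hx hy, hkt hx hy]
    have p1 := pair ht hw hc hnt hnw hkw fun x hx a b => mem_fixIn₂.2 ⟨hx, a, b⟩
    have p2 := pair ht htw ((Commute.refl t).mul_right hc) hnt hntw hktw fun x hx a b =>
      mem_fixIn₂.2 ⟨hx, a, by have := a.mul_right b; rwa [← mul_assoc, ht, one_mul] at this⟩
    have p3 := pair hw htw (hc.symm.mul_right (Commute.refl w)) hnw hntw hktw fun x hx a b =>
      mem_fixIn₂.2 ⟨hx, by have := b.mul_right a; rwa [mul_assoc, hw, mul_one] at this, a⟩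
    intro x hx y hy
    have hstep : ∀ v, v = t ∨ v = w ∨ v = t * w → ∀ z ∈ fixIn K v, K ≤ centralizer ({z} : Set G) := by
      intro v hv z hz
      refine le_of_fixIn_le hK ht hw hc hnt hnw ?_ ?_ ?_ <;> intro y hy <;>
        refine mem_centralizer_singleton_iff.2 (Commute.eq ?_)
      · rcases hv with rfl | rfl | rfl
        exacts [(h9 _ (by simp)).2 y hy z hz, p1 y hy z hz, p2 y hy z hz]
      · rcases hv with rfl | rfl | rfl
        exacts [(p1 z hz y hy).symm, (h9 _ (by simp)).2 y hy z hz, p3 y hy z hz]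
      · rcases hv with rfl | rfl | rfl
        exacts [(p2 z hz y hy).symm, (p3 z hz y hy).symm, (h9 _ (by simp)).2 y hy z hz]
    have hle : K ≤ centralizer ({y} : Set G) := by
      refine le_of_fixIn_le hK ht hw hc hnt hnw ?_ ?_ ?_ <;> intro z hz <;>
        exact mem_centralizer_singleton_iff.2
          (show Commute y z from mem_centralizer_singleton_iff.1 (hstep _ (by simp) z hz hy)).symm.eq
    exact mem_centralizer_singleton_iff.1 (hle hx)
  · -- `D` would be perfect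
    exfalso
    have hsupK : D ⊔ R ≤ K := sup_le hDK hRK
    obtain ⟨v, hv, hvD⟩ : ∃ v, (v = t ∨ v = w ∨ v = t * w) ∧ ¬ fixIn D v ≤ R := by
      by_contra hne
      push Not at hne
      exact hDR (le_of_fixIn_le (odd_of_le hDK hK) ht hw hc (hnD t hnt) (hnD w hnw) (hne t (by simp))
        (hne w (by simp)) (hne _ (by simp)))
    have hfull : fixIn K v ≤ D ⊔ R := by
      have h1 : R < fixIn D v ⊔ R := lt_of_le_of_ne le_sup_right fun e => hvD (e ▸ le_sup_left)
      have h2 : fixIn D v ⊔ R ≤ fixIn K v := sup_le (fixIn_mono hDK v) (hRv v hv)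
      obtain ⟨d, hd⟩ := card_dvd_of_le h1.le
      have h5 := card_dvd_of_le h2
      rw [(h9 v hv).1] at h5
      rw [h3] at hd
      have hne3 : Nat.card ↥(fixIn D v ⊔ R : Subgroup G) ≠ 3 := fun e =>
        h1.ne (eq_of_le_of_card_ge h1.le (by rw [e, h3]))
      have h6 : Nat.card ↥(fixIn D v ⊔ R : Subgroup G) = 9 := by
        have := Nat.le_of_dvd (by norm_num) h5
        interval_cases (Nat.card ↥(fixIn D v ⊔ R : Subgroup G)) <;> omega
      rw [← eq_of_le_of_card_ge h2 (by rw [h6, (h9 v hv).1])]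
      exact sup_le_sup_right (fixIn_le _ _) _
    have hcn : c ∈ normalizer ((D ⊔ R : Subgroup G) : Set G) := by
      have e1 := hnD c hnc
      rw [Grp.mem_normalizer_iff_smul] at e1 hcR ⊢
      rw [Subgroup.smul_sup, e1, hcR]
    have hc3 : c * (t * w) * c⁻¹ = t := by
      rw [show c * (t * w) * c⁻¹ = (c * t * c⁻¹) * (c * w * c⁻¹) by group, hc1, hc2, ← mul_assoc, ← hc.eq,
        mul_assoc, hw, mul_one]
    have htop : K ≤ D ⊔ R := by
      rcases hv with rfl | rfl | rfl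
      · have b := fixIn_cycle hcn hc1 hfull hnc
        exact le_of_fixIn_le hK ht hw hc hnt hnw hfull b (fixIn_cycle hcn hc2 b hnc)
      · have b := fixIn_cycle hcn hc2 hfull hnc
        exact le_of_fixIn_le hK ht hw hc hnt hnw (fixIn_cycle hcn hc3 b hnc) hfull b
      · have b := fixIn_cycle hcn hc3 hfull hnc
        exact le_of_fixIn_le hK ht hw hc hnt hnw b (fixIn_cycle hcn hc1 b hnc) hfull
    have hDD : D ≤ ⁅D, D⁆ := by
      have hRn : R ≤ normalizer (D : Set G) := fun r hr =>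
        hnD r (le_normalizer (hRK hr))
      refine commutator_le.2 fun a ha b hb => ?_
      obtain ⟨d, hd, r, hr, rfl⟩ := exists_mul_of_sup hRn (htop ha)
      obtain ⟨d', hd', r', hr', rfl⟩ := exists_mul_of_sup hRn (htop hb)
      have e : ⁅d * r, d' * r'⁆ = ⁅d, d'⁆ := by
        have k1 := hcen r hr _ (mul_mem (hDK hd') (hRK hr'))
        have k2 := hcen r' hr' d (hDK hd)
        calc ⁅d * r, d' * r'⁆ = d * (r * (d' * r') * r⁻¹) * d⁻¹ * (d' * r')⁻¹ := by
              rw [commutatorElement_def]; group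
          _ = d * d' * (r' * d⁻¹ * r'⁻¹) * d'⁻¹ := by rw [k1.eq, mul_inv_cancel_right]; group
          _ = ⁅d, d'⁆ := by rw [k2.inv_right.eq, mul_inv_cancel_right, commutatorElement_def]
      rw [e]
      exact commutator_mem_commutator hd hd'
    have hperf : _root_.commutator ↥D = ⊤ := by
      refine map_injective D.subtype_injective ?_
      rw [map_subtype_commutator, ← MonoidHom.range_eq_map, range_subtype]
      exact le_antisymm (commutator_le.2 fun a ha b hb => by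
        rw [commutatorElement_def]
        exact mul_mem (mul_mem (mul_mem ha hb) (inv_mem ha)) (inv_mem hb)) hDD
    refine hDR ?_
    by_cases hbot : D = ⊥
    · rw [hbot]; exact bot_le
    haveI : Nontrivial ↥D := (Subgroup.nontrivial_iff_ne_bot D).2 hbot
    haveI := isSolvable_of_odd (odd_of_le hDK hK)
    exact absurd hperf (Group.IsSolvable.commutator_lt_top_of_nontrivial (G := ↥D)).ne

/-- The fixed subgroup of a cyclic permutation is small. -/
theorem card_fixIn_le {K : Subgroup G} (hK : Odd (Nat.card ↥K)) (hab : ∀ x ∈ K, ∀ y ∈ K, Commute x y)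
    {t w c : G} (ht : t * t = 1) (hw : w * w = 1) (hnt : t ∈ normalizer (K : Set G)) (hc1 : c * t * c⁻¹ = w)
    (hc2 : c * w * c⁻¹ = t * w) :
    Nat.card ↥(fixIn K c) * Nat.card (SmallCent.inverted K t) ≤ Nat.card ↥K := by
  rw [← Nat.card_prod]
  refine Nat.card_le_card_of_injective
    (fun p => (⟨(p.1 : G) * (p.2 : G), mul_mem (mem_fixIn.1 p.1.2).1 p.2.2.1⟩ : ↥K)) ?_
  rintro ⟨⟨x, hx⟩, ⟨i, hi, hti⟩⟩ ⟨⟨x', hx'⟩, ⟨i', hi', hti'⟩⟩ e
  have e' : x * i = x' * i' := congrArg Subtype.val e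
  set y := x'⁻¹ * x with hy
  have hye : y = i' * i⁻¹ := by rw [hy, eq_mul_inv_iff_mul_eq, mul_assoc, e']; group
  have hyc : Commute y c := (mem_fixIn.1 hx').2.inv_left.mul_left (mem_fixIn.1 hx).2
  have hyK : y ∈ K := mul_mem (inv_mem (mem_fixIn.1 hx').1) (mem_fixIn.1 hx).1
  have hyt : t * y * t⁻¹ = y⁻¹ := by
    rw [hye, show t * (i' * i⁻¹) * t⁻¹ = (t * i' * t⁻¹) * (t * i * t⁻¹)⁻¹ by group, hti, hti', inv_inv,
      mul_inv_rev, inv_inv, (hab _ (inv_mem hi') _ hi).eq]
  have hyy : c * y * c⁻¹ = y := by rw [← hyc.eq, mul_inv_cancel_right]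
  have hyw : w * y * w⁻¹ = y⁻¹ := by
    calc w * y * w⁻¹ = (c * t * c⁻¹) * (c * y * c⁻¹) * (c * t * c⁻¹)⁻¹ := by rw [hc1, hyy]
      _ = c * (t * y * t⁻¹) * c⁻¹ := by group
      _ = (c * y * c⁻¹)⁻¹ := by rw [hyt]; group
      _ = y⁻¹ := by rw [hyy]
  have hyp : (t * w) * y * (t * w)⁻¹ = y⁻¹ := by
    calc (t * w) * y * (t * w)⁻¹ = (c * w * c⁻¹) * (c * y * c⁻¹) * (c * w * c⁻¹)⁻¹ := by rw [hc2, hyy]
      _ = c * (w * y * w⁻¹) * c⁻¹ := by group
      _ = (c * y * c⁻¹)⁻¹ := by rw [hyw]; group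
      _ = y⁻¹ := by rw [hyy]
  have h1 : y = 1 := by
    refine eq_one_of_odd hK hyK (mul_eq_one_iff_eq_inv.2 ?_)
    calc y = t * (w * y * w⁻¹) * t⁻¹ := by
          rw [hyw, show t * y⁻¹ * t⁻¹ = (t * y * t⁻¹)⁻¹ by group, hyt, inv_inv]
      _ = (t * w) * y * (t * w)⁻¹ := by group
      _ = y⁻¹ := hyp
  have hxx : x = x' := (inv_mul_eq_one.1 h1).symm
  subst hxx
  exact Prod.ext rfl (Subtype.ext (mul_left_cancel e'))

/-- No subgroup of index `35` has such a core. -/
theorem index_ne_35 {M K : Subgroup G} (hKM : K ≤ M) (hn : normalizer (K : Set G) = M)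
    (hK81 : Nat.card ↥K = 81) (hG : Nat.card G = 68040) (hM : Nat.card ↥M = 1944)
    {t w c : G} (ht : t * t = 1) (hw : w * w = 1) (hne : t ≠ w) (hnt : t ∈ M) (hnc : c ∈ M)
    (hc1 : c * t * c⁻¹ = w) (hc2 : c * w * c⁻¹ = t * w) (hct : Commute t w)
    (hab : ∀ x ∈ K, ∀ y ∈ K, Commute x y) (hfix : Nat.card ↥(fixIn K t) = 9) : False := by
  have : Fact (Nat.Prime 3) := ⟨Nat.prime_three⟩
  have hnK : M ≤ normalizer (K : Set G) := hn.ge
  have hodd : Odd (Nat.card ↥K) := by rw [hK81]; decide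
  have hpK : IsPGroup 3 ↥K := IsPGroup.of_card (n := 4) (by rw [hK81]; norm_num)
  -- an element of 3-power order with the action of `c`
  set d := c ^ 16 with hd
  have hdM : d ∈ M := pow_mem hnc _
  have hcyc : ∀ v, (v = t ∨ v = w ∨ v = t * w) → c ^ 3 * v * (c ^ 3)⁻¹ = v := by
    have hc3 : c * (t * w) * c⁻¹ = t := by
      rw [show c * (t * w) * c⁻¹ = (c * t * c⁻¹) * (c * w * c⁻¹) by group, hc1, hc2, ← mul_assoc, ← hct.eq,
        mul_assoc, hw, mul_one]
    have e3 : ∀ v, c ^ 3 * v * (c ^ 3)⁻¹ = c * (c * (c * v * c⁻¹) * c⁻¹) * c⁻¹ := fun v => by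
      rw [pow_succ, pow_succ, pow_one]; group
    rintro v (rfl | rfl | rfl) <;> rw [e3]
    · rw [hc1, hc2, hc3]
    · rw [hc2, hc3, hc1]
    · rw [hc3, hc1, hc2]
  have hd1 : ∀ v, (v = t ∨ v = w ∨ v = t * w) → d * v * d⁻¹ = c * v * c⁻¹ := fun v hv => by
    have h5 := ((show Commute (c ^ 3) v from mul_inv_eq_iff_eq_mul.1 (hcyc v hv)).pow_left 5).eq
    rw [hd, show c ^ 16 = c * (c ^ 3) ^ 5 by rw [← pow_mul, ← pow_succ'], mul_assoc c, h5]
    group
  have hd3 : orderOf d ∣ 3 ^ 5 := by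
    refine orderOf_dvd_of_pow_eq_one ?_
    rw [hd, ← pow_mul, show 16 * 3 ^ 5 = 1944 * 2 by norm_num, pow_mul,
      show c ^ 1944 = 1 from hM ▸ congrArg Subtype.val (pow_card_eq_one' (x := (⟨c, hnc⟩ : ↥M))), one_pow]
  have hdK : d ∉ K := fun hdK => by
    -- `[t, d] = t w` would have odd order
    have h1 : d * (t * d⁻¹ * t⁻¹) ∈ K :=
      mul_mem hdK ((mem_normalizer_iff.1 (hnK hnt) _).1 (inv_mem hdK))
    have h2 : d * (t * d⁻¹ * t⁻¹) = w * t := by
      rw [show d * (t * d⁻¹ * t⁻¹) = (d * t * d⁻¹) * t⁻¹ by group, hd1 t (by simp), hc1,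
        inv_eq_of_mul_eq_one_right ht]
    rw [h2] at h1
    have h3 := eq_one_of_odd hodd h1 (by
      rw [mul_assoc, ← mul_assoc t, hct.eq, mul_assoc w t t, ht, mul_one, hw])
    exact hne ((mul_eq_one_iff_eq_inv.1 h3).trans (inv_eq_of_mul_eq_one_right ht)).symm
  set P := K ⊔ zpowers d with hP
  have hPM : P ≤ M := sup_le hKM (zpowers_le.2 hdM)
  have hdp : IsPGroup 3 (zpowers d) := by
    obtain ⟨k, -, hk⟩ := (Nat.dvd_prime_pow Nat.prime_three).1 hd3
    exact IsPGroup.of_card (n := k) (by rw [Nat.card_zpowers, hk])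
  have hPp : IsPGroup 3 ↥P := IsPGroup.to_sup_of_normal_left' hpK hdp ((zpowers_le.2 hdM).trans hnK)
  have hP243 : Nat.card ↥P = 243 := by
    obtain ⟨k, hk⟩ := IsPGroup.iff_card.1 hPp
    have h1 : 3 ^ k ∣ 3 ^ 5 := by
      have h2 : Nat.card ↥P ∣ 1944 := hM ▸ card_dvd_of_le hPM
      rw [hk, show 1944 = 3 ^ 5 * 8 by norm_num] at h2
      exact (Nat.Coprime.dvd_mul_right (Nat.Coprime.pow_left _ (by norm_num))).1 h2
    have h3 : 81 < Nat.card ↥P := by
      rw [← hK81]
      refine lt_of_le_of_ne (Nat.le_of_dvd Nat.card_pos (card_dvd_of_le le_sup_left)) fun e => hdK ?_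
      rw [eq_of_le_of_card_ge (le_sup_left : K ≤ P) e.ge]
      exact mem_sup_right (mem_zpowers d)
    have hk5 : k ≤ 5 := (Nat.pow_dvd_pow_iff_le_right (by norm_num)).1 h1
    rw [hk] at h3 ⊢
    interval_cases k <;> simp_all
  -- a second fixed coset
  have hidx : M.index = 35 := by
    have := M.card_mul_index
    rw [hM, hG] at this
    omega
  have hPQ := IsPGroup.card_modEq_card_fixedPoints hPp (G ⧸ M)
  rw [← Subgroup.index_eq_card, hidx] at hPQ
  have hM1 : (QuotientGroup.mk 1 : G ⧸ M) ∈ MulAction.fixedPoints ↥P (G ⧸ M) := fun p => by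
    show QuotientGroup.mk ((p : G) * 1) = _
    rw [QuotientGroup.eq, mul_one, mul_one]
    exact inv_mem (hPM p.2)
  obtain ⟨⟨q, hq⟩, hqne⟩ : ∃ q : MulAction.fixedPoints ↥P (G ⧸ M), q ≠ ⟨_, hM1⟩ := by
    by_contra hne'
    push Not at hne'
    have : Nat.card (MulAction.fixedPoints ↥P (G ⧸ M)) = 1 :=
      Nat.card_eq_one_iff_unique.2 ⟨⟨fun a b => (hne' a).trans (hne' b).symm⟩, ⟨⟨_, hM1⟩⟩⟩
    rw [this] at hPQ
    exact absurd hPQ (by decide)
  obtain ⟨g, rfl⟩ := QuotientGroup.mk_surjective q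
  have hgM : g ∉ M := fun hg => hqne (Subtype.ext (QuotientGroup.eq.2 (by simpa using inv_mem hg)))
  have hgP : ∀ p ∈ P, g⁻¹ * p * g ∈ M := fun p hp => by
    have := hq ⟨p, hp⟩
    change QuotientGroup.mk (p * g) = QuotientGroup.mk g at this
    rw [QuotientGroup.eq] at this
    have h2 := inv_mem this
    rwa [show ((p * g)⁻¹ * g)⁻¹ = g⁻¹ * p * g by group] at h2
  set K' := MulAut.conj g • K with hK'
  have hK'n : P ≤ normalizer (K' : Set G) := fun p hp => by
    have h1 := hnK (hgP p hp)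
    rw [Grp.mem_normalizer_iff_smul] at h1 ⊢
    calc MulAut.conj p • K' = MulAut.conj g • MulAut.conj (g⁻¹ * p * g) • K := by
          rw [hK', Grp.conj_smul_conj_smul, Grp.conj_smul_conj_smul]; group
      _ = K' := by rw [h1]
  have hK'p : IsPGroup 3 ↥K' := IsPGroup.of_card (n := 4) (by rw [hK', Grp.card_conj_smul, hK81]; norm_num)
  have hK'P : K' ≤ P := by
    obtain ⟨k, hk⟩ := IsPGroup.iff_card.1 (IsPGroup.to_sup_of_normal_left' hK'p hPp hK'n)
    have hdvd : Nat.card ↥(K' ⊔ P : Subgroup G) ∣ 3 ^ 5 * 280 := by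
      rw [show 3 ^ 5 * 280 = 68040 by norm_num, ← hG]
      exact card_subgroup_dvd_card _
    rw [hk] at hdvd
    have h5 : 3 ^ k ∣ 3 ^ 5 := (Nat.Coprime.dvd_mul_right (Nat.Coprime.pow_left _ (by norm_num))).1 hdvd
    rw [eq_of_le_of_card_ge (le_sup_right : P ≤ K' ⊔ P)
      (by rw [hk, hP243]; exact Nat.le_of_dvd (by norm_num) h5)]
    exact le_sup_left
  have hKK' : K' ≠ K := fun e => hgM (hn ▸ Grp.mem_normalizer_iff_smul.2 e)
  -- the intersection
  have hI : 27 ≤ Nat.card ↥(K ⊓ K' : Subgroup G) := by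
    have hKP : K ≤ P := le_sup_left
    have h1 : K.relIndex K' ≤ K.relIndex P := relIndex_le_of_le_right hK'P (by
      unfold Subgroup.relIndex; exact FiniteIndex.index_ne_zero)
    have h2 : Nat.card ↥K * K.relIndex P = 243 := by
      rw [← hP243, ← Nat.card_congr (subgroupOfEquivOfLe hKP).toEquiv]
      exact card_mul_index _
    have h3 : Nat.card ↥(K ⊓ K' : Subgroup G) * K.relIndex K' = 81 := by
      rw [← inf_relIndex_right, ← Nat.card_congr (subgroupOfEquivOfLe (inf_le_right : K ⊓ K' ≤ K')).toEquiv]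
      rw [Subgroup.relIndex, card_mul_index, hK', Grp.card_conj_smul, hK81]
    rw [hK81] at h2
    have h4 : K.relIndex P = 3 := by omega
    nlinarith
  have hsup : K ⊔ K' = P := by
    have hlt : K < K ⊔ K' := lt_of_le_of_ne le_sup_left fun e => hKK'
      (eq_of_le_of_card_ge (e ▸ le_sup_right : K' ≤ K) (by rw [hK', Grp.card_conj_smul]))
    refine eq_of_le_of_card_ge (sup_le le_sup_left hK'P) ?_
    obtain ⟨k, hk⟩ := IsPGroup.iff_card.1 (hPp.to_le (sup_le le_sup_left hK'P : K ⊔ K' ≤ P))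
    have h6 : 81 < 3 ^ k := by
      rw [← hk, ← hK81]
      exact lt_of_le_of_ne (Nat.le_of_dvd Nat.card_pos (card_dvd_of_le hlt.le))
        fun e => hlt.ne (eq_of_le_of_card_ge hlt.le e.ge)
    rw [hk, hP243]
    calc 243 = 3 ^ 5 := by norm_num
      _ ≤ 3 ^ k := Nat.pow_le_pow_right (by norm_num)
        ((Nat.pow_lt_pow_iff_right (by norm_num : 1 < 3)).1 (show 3 ^ 4 < 3 ^ k by simpa using h6))
  have hle : K ⊓ K' ≤ fixIn K d := fun x hx => by
    obtain ⟨hx1, hx2⟩ := Subgroup.mem_inf.1 hx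
    have hxc : K ⊔ K' ≤ centralizer ({x} : Set G) := by
      refine sup_le (fun y hy => mem_centralizer_singleton_iff.2 (hab y hy x hx1).eq)
        fun y hy => mem_centralizer_singleton_iff.2 ?_
      rw [hK', Grp.mem_smul_conj] at hy hx2
      have e1 := (hab _ hy _ hx2).conj g
      rwa [show g * (g⁻¹ * y * g) * g⁻¹ = y by group, show g * (g⁻¹ * x * g) * g⁻¹ = x by group] at e1
    rw [hsup] at hxc
    exact mem_fixIn.2 ⟨hx1,
      (show Commute d x from mem_centralizer_singleton_iff.1 (hxc (mem_sup_right (mem_zpowers d)))).symm⟩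
  have hb := card_fixIn_le hodd hab ht hw (hnK hnt) ((hd1 t (by simp)).trans hc1) ((hd1 w (by simp)).trans hc2)
  have hinv : Nat.card (SmallCent.inverted K t) = 9 := by
    have := SmallCent.card_eq_fixed_mul_inverted K hodd ht fun x => (mem_normalizer_iff.1 (hnK hnt) x).1
    rw [hK81] at this
    change 81 = Nat.card ↥(fixIn K t) * _ at this
    rw [hfix] at this
    omega
  rw [hinv, hK81] at hb
  have := Nat.le_of_dvd Nat.card_pos (card_dvd_of_le hle)
  omega

end Cfsg.Agent.Invol.GW.Dihedral
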