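import Cfsg.Agent.Lib.Invol.GW.Dihedral.TwoClassSmall
import Cfsg.Agent.Lib.Invol.GW.Dihedral.TwoClassNine
import Cfsg.Agent.Lib.Invol.GW.Dihedral.SPArith

/-!
# Gorenstein–Walter, dihedral: a maximal subgroup over `C(t)` with two classes of involutions

With `F` the index in `O(C(u'))` of its part in `M`: for `F = 1` the group generated by the cores of the centralisers
of `t`, `u'`, `t u'` has the core of `M` as core, so an element fusing `⟨t, u'⟩` would lie in `M`; otherwise
`a₁ ≥ 3 a`, and the degree identity leaves the group `A₇`.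
-/

set_option autoImplicit false
set_option linter.unusedSectionVars false
set_option linter.style.haveILetI false

namespace Cfsg.Agent.Invol.GW.Dihedral

open Subgroup Klein
open scoped Pointwise

universe u

variable {G : Type u} [Group G] [Finite G]

/-- The arithmetic of the centralisers in a two-class subgroup with `F ≠ 1`. -/
theorem index_arith {U Up Kt kp kV kV1 r r1 A A1 a b f F K : ℕ} {j : ℕ} (hj : 2 ≤ j)
    (hU : U = Kt * a * f) (hUp : Up = kp * b * f) (hr : r = kV * f) (hr1 : r1 = kV1 * f)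
    (hA : A * r = U) (hA1 : A1 * r1 = U) (hF : Up * F = U)
    (hb1 : K * kV ^ 2 = Kt * Kt * Kt) (hb2 : K * kV1 ^ 2 = Kt * kp * kp)
    (hpos : 0 < U) (hbe : b = j * a + 1 ∨ b + 1 = j * a) (hF3 : 3 ≤ F) :
    3 * A ≤ A1 ∧ a * A1 = A * F * b := by
  have hf : 0 < f := Nat.pos_of_ne_zero fun e => by rw [e, mul_zero] at hU; omega
  have hKt : 0 < Kt := Nat.pos_of_ne_zero fun e => by rw [e, zero_mul, zero_mul] at hU; omega
  have hA0 : 0 < A := Nat.pos_of_ne_zero fun e => by rw [e, zero_mul] at hA; omega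
  have ha : 0 < a := Nat.pos_of_ne_zero fun e => by rw [e, mul_zero, zero_mul] at hU; omega
  have hkp : 0 < kp := Nat.pos_of_ne_zero fun e => by rw [hUp, e] at hF; simp at hF; omega
  have hkV : 0 < kV := Nat.pos_of_ne_zero fun e => by rw [hr, e] at hA; simp at hA; omega
  have e1 : F * (kp * b) = Kt * a := by
    refine Nat.eq_of_mul_eq_mul_right hf ?_
    rw [← hU, ← hF, hUp]
    ring
  have e2 : A * kV = Kt * a := by
    refine Nat.eq_of_mul_eq_mul_right hf ?_
    rw [← hU, ← hA, hr]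
    ring
  have e3 : A1 * kV1 = Kt * a := by
    refine Nat.eq_of_mul_eq_mul_right hf ?_
    rw [← hU, ← hA1, hr1]
    ring
  have e4 : Kt * kV1 = kp * kV := by
    refine (Nat.pow_left_injective two_ne_zero) (Nat.eq_of_mul_eq_mul_left hKt ?_)
    calc Kt * (Kt * kV1) ^ 2 = (Kt * Kt * Kt) * kV1 ^ 2 := by ring
      _ = kV ^ 2 * (K * kV1 ^ 2) := by rw [← hb1]; ring
      _ = Kt * (kp * kV) ^ 2 := by rw [hb2]; ring
  have e5 : a * A1 = A * F * b := by
    refine Nat.eq_of_mul_eq_mul_right (Nat.mul_pos hkp hkV) ?_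
    calc a * A1 * (kp * kV) = a * Kt * (A1 * kV1) := by rw [← e4]; ring
      _ = (A * kV) * (F * (kp * b)) := by rw [e3, e1, e2]; ring
      _ = A * F * b * (kp * kV) := by ring
  refine ⟨Nat.le_of_mul_le_mul_left ?_ ha, e5⟩
  have hab : a ≤ b := by
    have := Nat.mul_le_mul_right a hj
    omega
  calc a * (3 * A) = A * 3 * a := by ring
    _ ≤ A * F * b := Nat.mul_le_mul (Nat.mul_le_mul_left A hF3) hab
    _ = a * A1 := e5.symm

theorem coprime_of_adjacent {a b j : ℕ} (hbe : b = j * a + 1 ∨ b + 1 = j * a) : Nat.Coprime b a := by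
  rcases hbe with rfl | e
  · rw [Nat.add_comm, Nat.coprime_add_mul_right_left]
    exact Nat.coprime_one_left a
  · refine Nat.coprime_of_dvd fun p hp hpb hpa => ?_
    have h1 : p ∣ b + 1 := e ▸ hpa.mul_left j
    exact hp.one_lt.ne' (Nat.dvd_one.1 ((Nat.dvd_add_right hpb).1 h1))

namespace Hyp

variable {S : Sylow 2 G} {σ τ : G} {n : ℕ} (h : Hyp S σ τ n) {M : Subgroup G} (hM : IsCoatom M)
  (hCM : centralizer ({central σ n} : Set G) ≤ M)
include h hM hCM

theorem normalizer_oddOf_eq (hK : oddOf M ≠ ⊥) : normalizer (oddOf M : Set G) = M := by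
  refine (hM.le_iff.1 (le_normalizer_oddOf M)).resolve_left fun htop => ?_
  haveI := h.simple
  haveI : (oddOf M).Normal := normalizer_eq_top_iff.1 htop
  rcases (inferInstance : (oddOf M).Normal).eq_bot_or_eq_top with e | e
  · exact hK e
  · exact hM.1 (top_le_iff.1 (e ▸ oddOf_le M))

/-- `F = 1`: the cores of the three centralisers would have the core of `M` as core. -/
theorem core_not_le (hU : coreCent (central σ n) ≠ ⊥)
    (hnot : ∀ g ∈ M, g * central σ n * g⁻¹ ≠ σ * τ) (hfacts : TwoClassFacts σ τ n M) :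
    ¬ coreCent (σ * τ) ≤ M := by
  intro hle
  set t := central σ n with ht
  set w := σ * τ with hw
  set K := oddOf M with hK
  have hSM : (S : Subgroup G) ≤ M := h.le_centralizer.trans hCM
  have htt : t * t = 1 := h.central_mul_self
  have hwo : orderOf w = 2 := h.orderOf_sigma_tau
  have hww : w * w = 1 := h.symm.tau_mul_self
  have hwS : w ∈ (S : Subgroup G) := mul_mem h.hσ h.hτ
  have htw : Commute t w := h.central_commute hwS
  obtain ⟨s, hsS, hst, hsw⟩ := h.exists_quarter
  have hsw' : s * w * s⁻¹ = t * w := hsw w hwS h.symm.tau_notMem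
  have htwo : orderOf (t * w) = 2 := by
    rw [← hsw', show s * w * s⁻¹ = MulAut.conj s w from rfl, MulEquiv.orderOf_eq, hwo]
  obtain ⟨g, -, hg1, hg2⟩ := h.symm.exists_fuse
  change g * t * g⁻¹ = w at hg1
  change g * w * g⁻¹ = t * w at hg2
  have hg3 : g * (t * w) * g⁻¹ = t := by
    rw [show g * (t * w) * g⁻¹ = (g * t * g⁻¹) * (g * w * g⁻¹) by group, hg1, hg2, ← mul_assoc, ← htw.eq,
      mul_assoc, hww, mul_one]
  set L := coreCent t ⊔ coreCent w ⊔ coreCent (t * w) with hL
  have hLM : L ≤ M := by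
    refine sup_le (sup_le (h.coreCent_le.trans hCM) hle) fun x hx => ?_
    have h1 := h.conj_mem_coreCent (g := s⁻¹) htwo hx
    rw [inv_inv, show s⁻¹ * (t * w) * s = w by rw [← hsw']; group] at h1
    have h2 := mul_mem (mul_mem (hSM hsS) (hle h1)) (inv_mem (hSM hsS))
    rwa [show s * (s⁻¹ * x * s) * s⁻¹ = x by group] at h2
  have hperm : ∀ {g : G}, (∀ x ∈ coreCent t, g * x * g⁻¹ ∈ L) → (∀ x ∈ coreCent w, g * x * g⁻¹ ∈ L) →
      (∀ x ∈ coreCent (t * w), g * x * g⁻¹ ∈ L) → g ∈ normalizer (L : Set G) := by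
    intro g a b c
    have hle' : L.map (MulAut.conj g).toMonoidHom ≤ L := by
      conv_lhs => rw [hL]
      rw [Subgroup.map_sup, Subgroup.map_sup]
      refine sup_le (sup_le ?_ ?_) ?_ <;> rintro _ ⟨x, hx, rfl⟩
      exacts [a x hx, b x hx, c x hx]
    refine ThreeClass.mem_normalizer_of fun x hx => hle' ⟨x, hx, rfl⟩
  have i1 : coreCent t ≤ L := le_sup_left.trans le_sup_left
  have i2 : coreCent w ≤ L := le_sup_right.trans le_sup_left
  have i3 : coreCent (t * w) ≤ L := le_sup_right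
  have hgL : g ∈ normalizer (L : Set G) := hperm
    (fun x hx => i2 (hg1 ▸ h.conj_mem_coreCent (g := g) h.orderOf_central hx))
    (fun x hx => i3 (hg2 ▸ h.conj_mem_coreCent (g := g) hwo hx))
    (fun x hx => i1 (hg3 ▸ h.conj_mem_coreCent (g := g) htwo hx))
  have hvL : ∀ v, Commute v t → Commute v w → v ∈ normalizer (L : Set G) := fun v h1 h2 => by
    refine hperm (fun x hx => i1 ?_) (fun x hx => i2 ?_) fun x hx => i3 ?_
    · have := h.conj_mem_coreCent (g := v) h.orderOf_central hx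
      rwa [show v * central σ n * v⁻¹ = central σ n by rw [h1.eq, mul_inv_cancel_right]] at this
    · have := h.conj_mem_coreCent (g := v) hwo hx
      rwa [h2.eq, mul_inv_cancel_right] at this
    · have := h.conj_mem_coreCent (g := v) htwo hx
      rwa [(h1.mul_right h2).eq, mul_inv_cancel_right] at this
  set P := oddOf L with hP
  have hnP : normalizer (L : Set G) ≤ normalizer (P : Set G) := by
    haveI : (Cfsg.oddCore ↥L).Characteristic := Grp.instCharPPrimeCore
    exact Isolated.normalizer_le_map_char L _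
  have hKo : Odd (Nat.card ↥K) := odd_card_oddOf M
  have htK : t ∈ normalizer (K : Set G) := le_normalizer_oddOf M (hSM h.central_mem)
  have hwK : w ∈ normalizer (K : Set G) := le_normalizer_oddOf M (hSM hwS)
  have hKL : K ≤ L := le_of_fixIn_le hKo htt hww htw htK hwK
    ((h.fixIn_le_coreCent hKo h.orderOf_central).trans i1) ((h.fixIn_le_coreCent hKo hwo).trans i2)
    ((h.fixIn_le_coreCent hKo htwo).trans i3)
  have hKP : K ≤ P := le_oddOf hKL (hLM.trans (le_normalizer_oddOf M)) hKo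
  have htP : t ∈ normalizer (P : Set G) := hnP (hvL t (Commute.refl t) htw)
  have hwP : w ∈ normalizer (P : Set G) := hnP (hvL w htw.symm (Commute.refl w))
  have hPo : Odd (Nat.card ↥P) := odd_card_oddOf L
  have hgP : g ∈ normalizer (P : Set G) := hnP hgL
  have c1 : Nat.card ↥(fixIn P w) = Nat.card ↥(fixIn P t) := hg1 ▸ card_fixIn_conj hgP
  have c2 : Nat.card ↥(fixIn P (t * w)) = Nat.card ↥(fixIn P w) := hg2 ▸ card_fixIn_conj hgP
  obtain ⟨a, b, f, hao, hbo, hfo, hbe, hfb, eU, eUp, -, -, htori, -⟩ := hfacts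
  have hd := htori P hKP ((oddOf_le L).trans hLM) hPo htP hwP c2.symm
  change Nat.card ↥(fixIn P w) ∣ Nat.card ↥(fixIn K w) * f at hd
  rw [inf_eq_left.2 hle, h.card_coreCent_eq hwo] at eUp
  change Nat.card ↥(coreCent t) = Nat.card ↥(fixIn K t) * a * f at eU
  change Nat.card ↥(coreCent t) = Nat.card ↥(fixIn K w) * b * f at eUp
  obtain ⟨e, he⟩ := card_dvd_of_le (fixIn_mono hKP w)
  obtain ⟨e1, he1⟩ := card_dvd_of_le (fixIn_mono hKP t)
  have hkw : 0 < Nat.card ↥(fixIn K w) := Nat.card_pos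
  have hkt : 0 < Nat.card ↥(fixIn K t) := Nat.card_pos
  have hef : e ∣ f := (mul_dvd_mul_iff_left hkw.ne').1 (he ▸ hd)
  have hrel : e * a = b * e1 := by
    have hfp : 0 < f := hfo.pos
    have e0 : Nat.card ↥(fixIn K t) * a = Nat.card ↥(fixIn K w) * b :=
      Nat.eq_of_mul_eq_mul_right hfp (eU.symm.trans eUp)
    refine Nat.eq_of_mul_eq_mul_left hkw ?_
    calc Nat.card ↥(fixIn K w) * (e * a) = Nat.card ↥(fixIn P w) * a := by rw [he]; ring
      _ = Nat.card ↥(fixIn K t) * a * e1 := by rw [c1, he1]; ring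
      _ = Nat.card ↥(fixIn K w) * (b * e1) := by rw [e0]; ring
  have hbdvd : b ∣ e := (coprime_of_adjacent hbe).dvd_of_dvd_mul_right ⟨e1, hrel⟩
  have hbf := Nat.le_of_dvd hfo.pos (hbdvd.trans hef)
  obtain ⟨rfl, rfl⟩ : b = 1 ∧ f = 1 := hfb.resolve_left (by omega)
  obtain rfl : e = 1 := Nat.dvd_one.1 hef
  have h3 := h.three
  have ha1 : a = 1 := by
    have h2 : 2 ≤ 2 ^ (n - 2) := Nat.le_self_pow (by omega) 2
    have := Nat.mul_le_mul_right a h2
    have := hao.pos
    omega
  obtain rfl : e1 = 1 := by rw [ha1] at hrel; omega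
  have f1 : fixIn P t ≤ K := (eq_of_le_of_card_ge (fixIn_mono hKP t) (by rw [he1, mul_one])).ge.trans (fixIn_le _ _)
  have f2 : fixIn P w ≤ K := (eq_of_le_of_card_ge (fixIn_mono hKP w) (by rw [he, mul_one])).ge.trans (fixIn_le _ _)
  have hcard : Nat.card ↥(fixIn K (t * w)) = Nat.card ↥(fixIn K w) :=
    hsw' ▸ card_fixIn_conj (le_normalizer_oddOf M (hSM hsS))
  have f3 : fixIn P (t * w) ≤ K :=
    (eq_of_le_of_card_ge (fixIn_mono hKP (t * w)) (by rw [c2, he, mul_one, hcard])).ge.trans (fixIn_le _ _)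
  have hPK : P = K := eq_of_fixIn_le hKP hPo htt hww htw htP hwP f1 f2 f3
  have hKbot : K ≠ ⊥ := fun e0 => hU (Subgroup.card_eq_one.1 (by
    rw [eU, ha1, mul_one, mul_one]
    exact Nat.le_antisymm ((card_le_of_le (fixIn_le _ _)).trans (by rw [e0, card_bot])) Nat.card_pos))
  rw [hPK, h.normalizer_oddOf_eq hM hCM hKbot] at hgP
  exact hnot g hgP hg1

set_option maxHeartbeats 800000 in
/-- A maximal subgroup over `C(t)` with two classes of involutions leaves only the known groups. -/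
theorem psl_or_seven_of_twoClass (hfuse : ∃ g ∈ M, g * central σ n * g⁻¹ = τ)
    (hnot : ∀ g ∈ M, g * central σ n * g⁻¹ ≠ σ * τ) (hfacts : TwoClassFacts σ τ n M) :
    IsPSLTwoOrSeven G := by
  haveI := h.simple
  have h3 := h.three
  by_cases hU : coreCent (central σ n) = ⊥
  · refine isPSL_of_psl h.not_isMulCommutative (psl_of_inverted S (2 ^ (n - 1))
      (Nat.le_self_pow (by omega) 2) h.equiv (central σ n) h.orderOf_central h.central_mem
      (fun s hs => (mem_centralizer_singleton_iff.1 (h.le_centralizer hs))) _ rfl ?_ ?_)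
    · intro v _ _ _ x hx _
      change x ∈ coreCent (central σ n) at hx
      rwa [hU, mem_bot] at hx
    · intro Y hY hY1
      change Y ≤ coreCent (central σ n) at hY
      exact absurd (le_bot_iff.1 (hU ▸ hY)) hY1
  set t := central σ n with ht
  set w := σ * τ with hw
  set K := oddOf M with hKdef
  have hSM : (S : Subgroup G) ≤ M := h.le_centralizer.trans hCM
  have htt : t * t = 1 := h.central_mul_self
  have hww : w * w = 1 := h.symm.tau_mul_self
  have hwo : orderOf w = 2 := h.orderOf_sigma_tau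
  have hwS : w ∈ (S : Subgroup G) := mul_mem h.hσ h.hτ
  have htw : Commute t w := h.central_commute hwS
  obtain ⟨s, hsS, hst, hsw⟩ := h.exists_quarter
  obtain ⟨g, hgM, hg⟩ := hfuse
  have hKo : Odd (Nat.card ↥K) := odd_card_oddOf M
  have hnK : M ≤ normalizer (K : Set G) := le_normalizer_oddOf M
  have cu : Nat.card ↥(fixIn K τ) = Nat.card ↥(fixIn K t) := hg ▸ card_fixIn_conj (hnK hgM)
  have ctu : Nat.card ↥(fixIn K (t * τ)) = Nat.card ↥(fixIn K t) := by
    rw [← cu, ← hsw τ h.hτ h.tau_notMem]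
    exact card_fixIn_conj (hnK (hSM hsS))
  have ctw : Nat.card ↥(fixIn K (t * w)) = Nat.card ↥(fixIn K w) :=
    hsw w hwS h.symm.tau_notMem ▸ card_fixIn_conj (hnK (hSM hsS))
  have bw1 := card_fixIn_four hKo htt h.tau_mul_self h.commute_central_tau (hnK (hSM h.central_mem))
    (hnK (hSM h.hτ))
  rw [cu, ctu] at bw1
  have bw2 := card_fixIn_four hKo htt hww htw (hnK (hSM h.central_mem)) (hnK (hSM hwS))
  rw [ctw] at bw2
  obtain ⟨P⟩ := h.exists_principal
  have hUpos : 0 < Nat.card ↥(coreCent t) := Nat.card_pos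
  have hnotle := h.core_not_le hM hCM hU hnot hfacts
  obtain ⟨a, b, f, hao, hbo, hfo, hbe, hfb, eU, eUp, er, er1, -, hM24⟩ := hfacts
  obtain ⟨F, hF⟩ := card_dvd_of_le (inf_le_left : coreCent w ⊓ M ≤ coreCent w)
  have hF3 : 3 ≤ F := by
    rw [h.card_coreCent_eq hwo] at hF
    have hodd : Odd F := Odd.of_dvd_nat h.odd_coreCent ⟨_, hF.trans (mul_comm _ _)⟩
    by_contra hlt
    obtain rfl : F = 1 := by obtain ⟨k, hk⟩ := hodd; omega
    refine hnotle ?_
    rw [← inf_eq_left]
    exact eq_of_le_of_card_ge inf_le_left (by rw [h.card_coreCent_eq hwo, hF, mul_one])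
  rw [h.card_coreCent_eq hwo] at hF
  have e2 : (2 : ℕ) ≤ 2 ^ (n - 2) := Nat.le_self_pow (by omega) 2
  obtain ⟨h3A, heq⟩ := index_arith e2 eU eUp er er1 h.idx_mul h.symm.idx_mul hF.symm bw1 bw2 hUpos hbe hF3
  set A := idx σ τ n with hAdef
  set A1 := idx σ w n with hA1def
  have hApos : 0 < A := h.idx_pos
  have hR : fixR t τ ≠ ⊥ := fun e0 => by
    have e1 := h.idx_mul
    have e2' := h.symm.idx_mul
    rw [← ht, ← hAdef, e0, card_bot, mul_one] at e1
    rw [← ht, ← hw, ← hA1def] at e2'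
    have := Nat.le_mul_of_pos_right A1 (Nat.card_pos (α := ↥(fixR t w)))
    omega
  obtain ⟨h5A, h5B⟩ := P.five_le h (Or.inl hR)
  have hsp := sp3 h3 (T := (P.Θ : ℤ)) (x := (P.x : ℤ)) (A := P.A) (B := P.B) (c := (A : ℤ) - A1)
    (e := (A : ℤ) + A1) (by exact_mod_cast P.theta_pos) P.delta P.two_pow_theta P.odd₂ P.odd₃
    (by rw [← Int.natCast_natAbs]; exact_mod_cast h5A) (by rw [← Int.natCast_natAbs]; exact_mod_cast h5B)
    (by rw [← Int.natCast_natAbs]; exact P.natAbs_sum h) (by omega)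
    (by rw [abs_of_nonpos (by omega)]; omega)
    (by
      have e0 := P.ratio
      rw [show (charDegree (P.χ : G → ℂ) : ℤ) = (P.x : ℤ) from rfl] at e0
      rcases P.delta with hd | hd <;> rw [hd] at e0 ⊢
      · linear_combination -e0
      · linear_combination e0)
  rcases hsp with ⟨hδ, hT⟩ | ⟨hn, hδ, hT, hx, he⟩
  · exact absurd (P.coreCent_eq_bot h (by exact_mod_cast hT) hδ) hU
  have hΘ : P.Θ = 2 := by exact_mod_cast hT
  have hA13 : A1 = 3 * A := by
    rw [abs_of_nonpos (by omega)] at he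
    omega
  have ha1 : a = 1 := by
    have := hao.pos
    have h4 : A * (3 * a) = A * (F * b) := by rw [← mul_assoc, ← mul_assoc, ← heq, hA13]; ring
    have h5 := Nat.eq_of_mul_eq_mul_left hApos h4
    have h6 : 3 * b ≤ F * b := Nat.mul_le_mul_right b hF3
    have h7 := Nat.mul_le_mul_right a e2
    omega
  subst ha1
  have hb1 : b = 1 := by
    have h4 : A * 3 = A * (F * b) := by rw [← mul_assoc, ← heq, one_mul, hA13]; ring
    have h5 := Nat.eq_of_mul_eq_mul_left hApos h4
    have := Nat.mul_le_mul_right b hF3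
    have := hbo.pos
    omega
  subst hb1
  have hf1 : f = 1 := by
    rcases hfb with e | ⟨-, e⟩
    · have := hfo.pos; omega
    · exact e
  subst hf1
  obtain ⟨hcases, hr3, hr1⟩ := h.core_shape P hn hΘ hδ hA13
  rcases hcases with hc3 | hc9
  · exact h.psl_or_seven_of_three hn hc3 hr3 hr1
  exfalso
  simp only [mul_one] at eU er
  change Nat.card ↥(fixR t τ) = Nat.card ↥(fixIn₂ K t τ) at er
  change Nat.card ↥(coreCent t) = Nat.card ↥(fixIn K t) at eU
  have hKt : Nat.card ↥(fixIn K t) = 9 := eU ▸ hc9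
  have hkV : Nat.card ↥(fixIn₂ K t τ) = 3 := er ▸ hr3
  have hK81 : Nat.card ↥K = 81 := by
    rw [hkV, hKt] at bw1
    omega
  have hA9 : A = 3 := by
    have e1 := h.idx_mul
    rw [← ht, ← hAdef, hr3, hc9] at e1
    omega
  have hm : P.m = 3 := by
    have e1 := P.idx_add
    rw [← hw, ← hAdef, ← hA1def, hA13, hA9, hΘ] at e1
    omega
  have hG : Nat.card G = 68040 := by
    have e1 := P.card_eq h
    rw [← ht, hc9, hm, hx, hδ, hn] at e1
    have : (Nat.card G : ℤ) = 68040 := by rw [e1]; norm_num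
    exact_mod_cast this
  have hM1944 : Nat.card ↥M = 1944 := by
    rw [hM24 rfl rfl]
    change Nat.card ↥K * 24 = _
    rw [hK81]
  obtain ⟨c, hcM, hc1, hc2⟩ := h.fuses_of_conj hCM hgM hg
  have hconj : ∀ v, v = t ∨ v = τ ∨ v = t * τ →
      Nat.card ↥(fixIn K v) = 9 ∧ ∀ x ∈ fixIn K v, ∀ y ∈ fixIn K v, Commute x y := by
    intro v hv
    have hcard : Nat.card ↥(fixIn K v) = 9 := by
      rcases hv with rfl | rfl | rfl
      exacts [hKt, cu.trans hKt, ctu.trans hKt]
    obtain ⟨k, hk⟩ : ∃ k, k * t * k⁻¹ = v := by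
      rcases hv with rfl | rfl | rfl
      · exact ⟨1, by group⟩
      · exact ⟨g, hg⟩
      · exact ⟨c * c, by rw [show c * c * t * (c * c)⁻¹ = c * (c * t * c⁻¹) * c⁻¹ by group, hc1, hc2]⟩
    refine ⟨hcard, fun x hx y hy => ?_⟩
    have hv2 : orderOf v = 2 := by
      rw [← hk, show k * t * k⁻¹ = MulAut.conj k t from rfl, MulEquiv.orderOf_eq, h.orderOf_central]
    have hback : ∀ z ∈ fixIn K v, k⁻¹ * z * k ∈ coreCent t := fun z hz => by
      have := h.conj_mem_coreCent (g := k⁻¹) hv2 (h.fixIn_le_coreCent hKo hv2 hz)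
      rwa [inv_inv, show k⁻¹ * v * k = t by rw [← hk]; group] at this
    have e0 : Commute (k⁻¹ * x * k) (k⁻¹ * y * k) := P.commute_of_le_two h (by omega) (hback x hx) (hback y hy)
    have e1 := e0.conj k
    rwa [show k * (k⁻¹ * x * k) * k⁻¹ = x by group, show k * (k⁻¹ * y * k) * k⁻¹ = y by group] at e1
  have hab := commute_of_fixed_nine hKo htt h.tau_mul_self h.commute_central_tau (hnK (hSM h.central_mem))
    (hnK (hSM h.hτ)) (hnK hcM) hc1 hc2 hkV hconj
  refine index_ne_35 (oddOf_le M) (h.normalizer_oddOf_eq hM hCM fun e0 => ?_) hK81 hG hM1944 htt h.tau_mul_self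
    h.central_ne_tau (hSM h.central_mem) hcM hc1 hc2 h.commute_central_tau hab hKt
  change K = ⊥ at e0
  rw [e0, card_bot] at hK81
  omega

end Hyp

end Cfsg.Agent.Invol.GW.Dihedral
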