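import Cfsg.Agent.Lib.Invol.GW.Dihedral.OneClass
import Cfsg.Agent.Lib.Invol.GW.Dihedral.TwoClass
import Cfsg.Agent.Lib.Invol.GW.Dihedral.Leaf

/-!
# Gorenstein–Walter, dihedral: the classes of involutions of a maximal subgroup over `C(t)`

Every involution of such a subgroup is conjugate in it to `t`, `τ` or `σ τ`.  One class is impossible, two classes
give the conclusion from `TwoClassFacts`, so there are three classes.
-/

set_option autoImplicit false
set_option linter.unusedSectionVars false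

namespace Cfsg.Agent.Invol.GW.Dihedral

open Subgroup Klein

universe u

variable {G : Type u} [Group G] [Finite G] {S : Sylow 2 G} {σ τ : G} {n : ℕ}

namespace Hyp

variable (h : Hyp S σ τ n)
include h

theorem exists_conj_rep {M : Subgroup G} (hCM : centralizer ({central σ n} : Set G) ≤ M) {s : G} (hs : s ∈ M)
    (hs2 : orderOf s = 2) :
    ∃ g ∈ M, g * s * g⁻¹ = central σ n ∨ g * s * g⁻¹ = τ ∨ g * s * g⁻¹ = σ * τ := by
  haveI : Fact (Nat.Prime 2) := ⟨Nat.prime_two⟩
  have hSM : (S : Subgroup G) ≤ M := h.le_centralizer.trans hCM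
  obtain ⟨c, hc, hcS⟩ := exists_conj_le_sylow S hSM (zpowers_le.2 hs)
    (isPGroup_zpowers (n := 1) (by rw [hs2, pow_one]) : IsPGroup 2 (zpowers s))
  have hw : c * s * c⁻¹ ∈ (S : Subgroup G) := hcS s (mem_zpowers s)
  by_cases hrot : c * s * c⁻¹ ∈ zpowers σ
  · refine ⟨c, hc, Or.inl (h.eq_central hrot ?_ ?_)⟩
    · rw [show c * s * c⁻¹ * (c * s * c⁻¹) = c * s ^ 2 * c⁻¹ by rw [pow_two]; group, ← hs2, pow_orderOf_eq_one]
      group
    · rw [ne_eq, conj_eq_one_iff]
      intro e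
      rw [e, orderOf_one] at hs2
      omega
  · obtain ⟨b, hb, e⟩ := h.exists_conj_class hw hrot
    refine ⟨b * c, mul_mem (hSM hb) hc, Or.inr ?_⟩
    rwa [show b * c * s * (b * c)⁻¹ = b * (c * s * c⁻¹) * b⁻¹ by group]

/-- The subgroup `M` keeps the three classes of involutions of `S` apart from `t`. -/
def ThreeClasses (_ : Hyp S σ τ n) (M : Subgroup G) : Prop :=
  ∀ g ∈ M, g * central σ n * g⁻¹ ≠ τ ∧ g * central σ n * g⁻¹ ≠ σ * τ

/-- A maximal subgroup over `C(t)` has three classes unless the conclusion holds. -/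
theorem three_or_conclusion {M : Subgroup G} (hM : IsCoatom M)
    (hCM : centralizer ({central σ n} : Set G) ≤ M)
    (hfacts : (∃ g ∈ M, g * central σ n * g⁻¹ = τ) → (∀ g ∈ M, g * central σ n * g⁻¹ ≠ σ * τ) →
      TwoClassFacts σ τ n M)
    (hfacts' : (∃ g ∈ M, g * central σ n * g⁻¹ = σ * τ) → (∀ g ∈ M, g * central σ n * g⁻¹ ≠ σ * (σ * τ)) →
      TwoClassFacts σ (σ * τ) n M) :
    IsPSLTwoOrSeven G ∨ h.ThreeClasses M := by
  by_cases h1 : ∃ g ∈ M, g * central σ n * g⁻¹ = τ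
  · by_cases h2 : ∃ g ∈ M, g * central σ n * g⁻¹ = σ * τ
    · refine (h.not_oneClass hM.1 hCM fun s hs hs2 => ?_).elim
      obtain ⟨g, hg, e⟩ := h.exists_conj_rep hCM hs hs2
      obtain ⟨a, ha, ea⟩ := h1
      obtain ⟨b, hb, eb⟩ := h2
      rcases e with e | e | e
      · exact ⟨g⁻¹, inv_mem hg, by rw [← e]; group⟩
      · exact ⟨g⁻¹ * a, mul_mem (inv_mem hg) ha, by
          rw [show g⁻¹ * a * central σ n * (g⁻¹ * a)⁻¹ = g⁻¹ * (a * central σ n * a⁻¹) * g by group, ea, ← e]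
          group⟩
      · exact ⟨g⁻¹ * b, mul_mem (inv_mem hg) hb, by
          rw [show g⁻¹ * b * central σ n * (g⁻¹ * b)⁻¹ = g⁻¹ * (b * central σ n * b⁻¹) * g by group, eb, ← e]
          group⟩
    · push Not at h2
      exact Or.inl (h.psl_or_seven_of_twoClass hM hCM h1 h2 (hfacts h1 h2))
  · push Not at h1
    by_cases h2 : ∃ g ∈ M, g * central σ n * g⁻¹ = σ * τ
    · refine Or.inl (h.symm.psl_or_seven_of_twoClass hM hCM h2 ?_ (hfacts' h2 ?_)) <;>
      · intro g hg e
        refine h1 (σ⁻¹ * g) (mul_mem (inv_mem (hCM (h.le_centralizer h.hσ))) hg) ?_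
        rw [show σ⁻¹ * g * central σ n * (σ⁻¹ * g)⁻¹ = σ⁻¹ * (g * central σ n * g⁻¹) * σ by group, e]
        have := h.rel
        calc σ⁻¹ * (σ * (σ * τ)) * σ = σ * (τ * σ * τ⁻¹) * τ := by group
          _ = τ := by rw [this, mul_inv_cancel, one_mul]
    · push Not at h2
      exact Or.inr fun g hg => ⟨h1 g hg, h2 g hg⟩

end Hyp

end Cfsg.Agent.Invol.GW.Dihedral
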