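import Cfsg.Agent.Lib.Invol.GW.Dihedral.ThreeClassLocal
import Cfsg.Agent.Lib.Invol.GW.Dihedral.Classes

/-!
# Gorenstein–Walter, dihedral: no three-class maximal subgroup properly over `C(t)`

A maximal subgroup over `C(t)` with three classes of involutions has a 2-group quotient by its core, so the generic
development applies.
-/

set_option autoImplicit false
set_option linter.unusedSectionVars false

namespace Cfsg.Agent.Invol.GW.Dihedral

open Subgroup Klein

universe u

variable {G : Type u} [Group G] [Finite G] {S : Sylow 2 G} {σ τ : G} {n : ℕ}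

namespace Hyp

variable (h : Hyp S σ τ n)
include h

/-- With three classes of involutions the quotient by the core is a 2-group. -/
theorem twoKind_of_threeClasses {M : Subgroup G} (hM : M ≠ ⊤)
    (hCM : centralizer ({central σ n} : Set G) ≤ M) (h3 : h.ThreeClasses M) : TwoKind M := by
  by_contra hn
  obtain ⟨g, hg, e | e⟩ := h.exists_conj_of_not_twoKind hM hCM hn
  · exact (h3 g hg).1 e
  · exact (h3 g hg).2 e

/-- A three-class maximal subgroup over `C(t)` is `C(t)`, from the facts on automorphisms. -/
theorem centralizer_eq_of_threeClasses_of (hA : AlgDone) {M : Subgroup G} (hM : IsCoatom M)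
    (hCM : centralizer ({central σ n} : Set G) ≤ M) (h3 : h.ThreeClasses M) :
    centralizer ({central σ n} : Set G) = M := by
  obtain ⟨g, -, hg1, hg2⟩ := h.exists_fuse
  exact ThreeClass.eq_centralizer_of_loc h.base (h.fuse_mem_normalizer hg1 hg2) hg1 hg2 (h.loc hA) (h.step hA) hM hCM
    (h.three_of_twoKind (h.le_centralizer.trans hCM) (h.twoKind_of_threeClasses hM.1 hCM h3))

end Hyp

end Cfsg.Agent.Invol.GW.Dihedral
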