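import Cfsg.Agent.Lib.Invol.GW.Dihedral.Final
import Cfsg.Agent.Lib.Invol.GW.Dihedral.ThreeClassMain
import Cfsg.Agent.Lib.Invol.GW.Dihedral.ThreeClassAlg

/-!
# The Gorenstein–Walter theorem: assembly
-/

set_option autoImplicit false

namespace Cfsg.Agent.Invol.GW.Dihedral

universe u

theorem algDone : AlgDone where
  psl := fun F _ _ hodd h5 => algFacts_psl hodd h5
  seven := algFacts_seven

theorem threeDone : ThreeDone.{u} := fun _ _ _ _ h _ hM hCM h3 =>
  h.centralizer_eq_of_threeClasses_of algDone hM hCM h3

theorem gwStatement_holds : GWStatement.{u} := gwStatement_of_three threeDone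

end Cfsg.Agent.Invol.GW.Dihedral
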