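import Cfsg.Agent.Lib.Invol.GW.Dihedral.TwoClassPGL

/-!
# Gorenstein–Walter, dihedral: the quotient of a two-class subgroup

`A` lies between `PSL₂(q)` and its automorphism group, has commuting involutions `T`, `U` inside, `W` outside, and
contains no commuting `I`, `J` of orders two and four with `I ≠ J²`.  Then `A` is `PGL₂(q)` extended by field
automorphisms of odd order `f`; the centralisers of `T`, `W` have orders `2 (q ∓ 1) f`, `2 (q ± 1) f` and those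
of the two four groups `4 f`; a subgroup of odd order invariant under `W` meets the centraliser of one of `W`,
`T W` in a group of order dividing `f`.
-/

set_option autoImplicit false
set_option linter.unusedSectionVars false
set_option linter.style.haveILetI false

open scoped Classical

namespace Cfsg.Agent.Invol.GW.Dihedral

/-- No commuting elements of orders two and four generating a group of order eight. -/
def NoTwoFour {H : Type*} [Group H] (A : Subgroup H) : Prop :=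
  ∀ I ∈ A, ∀ J ∈ A, Commute I J → I * I = 1 → I ≠ 1 → J ^ 4 = 1 → J ^ 2 ≠ 1 → I ≠ J ^ 2 → False

namespace PGL

open Matrix Cfsg.Agent.Classical Cfsg.Agent.Classical.PSLAut Cfsg.Agent.Classical.Descent Subgroup

variable {F : Type} [Field F] [Fintype F]

local notation "M₂" => Matrix (Fin 2) (Fin 2) F
local notation "GL₂" => GL (Fin 2) F
local notation "AutQ" => MulAut (Matrix.ProjectiveSpecialLinearGroup (Fin 2) F)
local notation "ι₂" => inndiagHom 2 F

/-! ## The field part -/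

theorem exists_form (β : AutQ) : ∃ (g : GL₂) (φ : RingAut F), β = pslSemi g φ := by
  obtain ⟨p, hp⟩ := CharP.exists F
  haveI : Fact p.Prime := ⟨(CharP.char_is_prime_or_zero F p).resolve_right (CharP.char_ne_zero_of_finite F p)⟩
  obtain ⟨g, φ, ε, -, h2, e⟩ := exists_rep (p := p) le_rfl β
  exact ⟨g, φ, by rw [e, h2 rfl, pow_zero, mul_one]⟩

theorem form_unique {g h : GL₂} {φ ψ : RingAut F} (e : (pslSemi g φ : AutQ) = pslSemi h ψ) : φ = ψ :=
  (Rep.unique le_rfl (β := pslSemi g φ) (g := g) (h := h) (σ := φ) (τ := ψ) (ε := 0) (η := 0)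
    ⟨zero_le_one, fun _ => rfl, by simp⟩ ⟨zero_le_one, fun _ => rfl, by simpa using e⟩).1

theorem semi_inner (g : GL₂) : (pslSemi g (1 : RingAut F) : AutQ) = ι₂ g := rfl

theorem semi_split (g : GL₂) (φ : RingAut F) : (pslSemi g φ : AutQ) = ι₂ g * pslSemi 1 φ := by
  rw [← semi_inner, pslSemi_mul', one_mul, map_one, mul_one]

theorem exists_psi :
    ∃ Ψ : AutQ →* RingAut F, (∀ g φ, Ψ (pslSemi g φ) = φ) ∧ ∀ β, Ψ β = 1 ↔ β ∈ (ι₂).range := by
  choose g φ h using exists_form (F := F)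
  refine ⟨MonoidHom.mk' φ fun β γ => form_unique (g := g (β * γ)) (h := g β * gmap (φ β) (g γ))
    (by rw [← h (β * γ), ← pslSemi_mul', ← h β, ← h γ]), fun g' φ' => ?_, fun β => ⟨fun e => ?_, ?_⟩⟩
  · exact (form_unique (h (pslSemi g' φ')).symm : φ (pslSemi g' φ') = φ')
  · change φ β = 1 at e
    refine ⟨g β, ?_⟩
    have h1 := h β
    rw [e, semi_inner] at h1
    exact h1.symm
  · rintro ⟨g', rfl⟩
    show φ (ι₂ g') = 1
    exact (form_unique (g := g') (φ := 1) ((semi_inner g').trans (h (ι₂ g')))).symm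

theorem conj_field_inn (φ : RingAut F) (B : GL₂) :
    (pslSemi 1 φ : AutQ) * ι₂ B * (pslSemi 1 φ)⁻¹ = ι₂ (gmap φ B) := by
  rw [mul_inv_eq_iff_eq_mul, ← semi_inner, ← semi_inner, pslSemi_mul', pslSemi_mul', map_one, one_mul, mul_one,
    mul_one, one_mul]

theorem det_gmap (φ : RingAut F) (B : GL₂) : (gmap φ B : M₂).det = φ (B : M₂).det := by
  show (φ.toRingHom.mapMatrix (B : M₂)).det = _
  rw [← RingHom.map_det]
  rfl

theorem det_conj_gl (g B : GL₂) : ((g * B * g⁻¹ : GL₂) : M₂).det = (B : M₂).det := by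
  rw [Units.val_mul, Units.val_mul]
  exact Matrix.det_units_conj g B

/-! ## Squares -/

theorem ringChar_ne_two (hodd : Odd (Fintype.card F)) : ringChar F ≠ 2 := fun e => two_ne_zero hodd (by
  haveI := ringChar.charP F
  exact_mod_cast (CharP.cast_eq_zero_iff F (ringChar F) 2).2 (by rw [e]))

theorem isSquare_mul_of_not (hodd : Odd (Fintype.card F)) {x y : F} (hx : ¬ IsSquare x) (hy : ¬ IsSquare y) :
    IsSquare (x * y) := by
  have hK := ringChar_ne_two hodd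
  have hx0 : x ≠ 0 := fun h => hx (h ▸ IsSquare.zero)
  have hy0 : y ≠ 0 := fun h => hy (h ▸ IsSquare.zero)
  have ex := (FiniteField.pow_dichotomy hK hx0).resolve_left fun h => hx ((FiniteField.isSquare_iff hK hx0).mpr h)
  have ey := (FiniteField.pow_dichotomy hK hy0).resolve_left fun h => hy ((FiniteField.isSquare_iff hK hy0).mpr h)
  rw [FiniteField.isSquare_iff hK (mul_ne_zero hx0 hy0), mul_pow, ex, ey, neg_one_mul, neg_neg]

theorem exists_sq_mul (hodd : Odd (Fintype.card F)) {a b : F} (hb : b ≠ 0)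
    (h : IsSquare a ↔ IsSquare b) : ∃ c : F, a = c ^ 2 * b := by
  have key : IsSquare (a * b⁻¹) := by
    by_cases hs : IsSquare b
    · exact (h.2 hs).mul hs.inv
    · exact isSquare_mul_of_not hodd (fun e => hs (h.1 e)) fun e => hs (by simpa using e.inv)
  obtain ⟨c, hc⟩ := key
  exact ⟨c, by rw [pow_two, ← hc, mul_assoc, inv_mul_cancel₀ hb, mul_one]⟩

theorem isSquare_ringAut (φ : RingAut F) {d : F} : IsSquare (φ d) ↔ IsSquare d := by
  refine ⟨fun h => ?_, fun h => h.map φ⟩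
  simpa using h.map φ.symm

/-! ## Counting in a subgroup over `PGL₂(q)` -/

theorem card_inf {A : Subgroup AutQ} (hιA : (ι₂).range ≤ A) (Ψ : AutQ →* RingAut F) (hker : ∀ β, Ψ β = 1 ↔ β ∈ (ι₂).range)
    (C : Subgroup AutQ) :
    Nat.card ↥(A ⊓ C : Subgroup AutQ) =
      Nat.card ↥((ι₂).range ⊓ C : Subgroup AutQ) * Nat.card ↥((A ⊓ C).map Ψ) := by
  set f := Ψ.comp (A ⊓ C).subtype with hf
  have e1 : Nat.card ↥f.ker = Nat.card ↥((ι₂).range ⊓ C : Subgroup AutQ) :=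
    Nat.card_congr
      { toFun := fun x => ⟨(x.1 : AutQ), (hker _).1 x.2, x.1.2.2⟩
        invFun := fun x => ⟨⟨x.1, hιA x.2.1, x.2.2⟩, (hker _).2 x.2.1⟩
        left_inv := fun _ => rfl
        right_inv := fun _ => rfl }
  have e2 : f.range = (A ⊓ C).map Ψ := by rw [hf, MonoidHom.range_comp, range_subtype]
  rw [f.ker.card_eq_card_quotient_mul_card_subgroup,
    Nat.card_congr (QuotientGroup.quotientKerEquivRange f).toEquiv, e1, e2, mul_comm]

theorem card_eq_subtype (a : AutQ) :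
    Nat.card ↥((ι₂).range ⊓ centralizer ({a} : Set AutQ) : Subgroup AutQ) =
      Nat.card {x : AutQ // x ∈ (ι₂).range ∧ Commute x a} :=
  Nat.card_congr (Equiv.subtypeEquivRight fun x => by
    rw [Subgroup.mem_inf, Subgroup.mem_centralizer_singleton_iff]
    rfl)

theorem card_eq_subtype₂ (a b : AutQ) :
    Nat.card ↥((ι₂).range ⊓ (centralizer ({a} : Set AutQ) ⊓ centralizer ({b} : Set AutQ)) : Subgroup AutQ) =
      Nat.card {x : AutQ // x ∈ (ι₂).range ∧ Commute x a ∧ Commute x b} :=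
  Nat.card_congr (Equiv.subtypeEquivRight fun x => by
    rw [Subgroup.mem_inf, Subgroup.mem_inf, Subgroup.mem_centralizer_singleton_iff,
      Subgroup.mem_centralizer_singleton_iff]
    rfl)

/-- A field automorphism can be corrected to fix two commuting involutions. -/
theorem exists_fix_pair (hodd : Odd (Fintype.card F)) {X Y : GL₂} (hX : Traceless (X : M₂))
    (hY : Traceless (Y : M₂)) (hc : Commute (ι₂ X) (ι₂ Y)) (hne : ι₂ X ≠ ι₂ Y) (φ : RingAut F) :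
    ∃ h : GL₂, Commute (ι₂ h * pslSemi 1 φ) (ι₂ X) ∧ Commute (ι₂ h * pslSemi 1 φ) (ι₂ Y) := by
  set P : AutQ := pslSemi 1 φ
  have htl : ∀ B : GL₂, Traceless (B : M₂) → Traceless (gmap φ B : M₂) := fun B hB => by
    show φ ((B : M₂) 1 1) = -φ ((B : M₂) 0 0)
    rw [← map_neg]
    exact congrArg φ hB
  obtain ⟨c, hcX⟩ := exists_sq_mul hodd (a := (X : M₂).det) (b := (gmap φ X : M₂).det) (gmap φ X).det_ne_zero
    (by rw [det_gmap, isSquare_ringAut])
  obtain ⟨g₁, hg₁, -⟩ := exists_conj hodd hX (htl X hX) hcX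
  have hX' : ι₂ g₁ * P * ι₂ X * (ι₂ g₁ * P)⁻¹ = ι₂ X := by
    rw [show ι₂ g₁ * P * ι₂ X * (ι₂ g₁ * P)⁻¹ = ι₂ g₁ * (P * ι₂ X * P⁻¹) * (ι₂ g₁)⁻¹ by group, conj_field_inn,
      hg₁]
  set Y₂ := g₁ * gmap φ Y * g₁⁻¹ with hY₂def
  have hY' : ι₂ g₁ * P * ι₂ Y * (ι₂ g₁ * P)⁻¹ = ι₂ Y₂ := by
    rw [hY₂def, map_mul, map_mul, map_inv,
      show ι₂ g₁ * P * ι₂ Y * (ι₂ g₁ * P)⁻¹ = ι₂ g₁ * (P * ι₂ Y * P⁻¹) * (ι₂ g₁)⁻¹ by group, conj_field_inn]
  have hconj : ∀ z : AutQ, ι₂ g₁ * P * z * (ι₂ g₁ * P)⁻¹ = MulAut.conj (ι₂ g₁ * P) z := fun z => rfl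
  have hY₂t : Traceless (Y₂ : M₂) := by
    obtain ⟨h1, h2⟩ := involution_of_traceless hodd hY
    refine traceless_of_involution ?_ ?_
    · rw [← hY', hconj, ne_eq, EmbeddingLike.map_eq_one_iff]
      exact h1
    · rw [← hY', hconj, ← map_mul, h2, map_one]
  have hc₂ : Commute (ι₂ X) (ι₂ Y₂) := by
    have h1 := hc.map (MulAut.conj (ι₂ g₁ * P)).toMonoidHom
    rw [← hX', ← hY']
    exact h1
  have hne₂ : ι₂ X ≠ ι₂ Y₂ := fun e => hne (by
    rw [← hX', ← hY'] at e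
    exact mul_left_cancel (mul_right_cancel e))
  obtain ⟨d, hdY⟩ := exists_sq_mul hodd (a := (Y : M₂).det) (b := (Y₂ : M₂).det) Y₂.det_ne_zero (by
    rw [hY₂def, det_conj_gl, det_gmap, isSquare_ringAut])
  obtain ⟨g₂, -, hg₂⟩ := exists_conj hodd hY hY₂t hdY
  obtain ⟨hT, hY₂⟩ := hg₂ X (anticomm hodd hX hY hc hne) (anticomm hodd hX hY₂t hc₂ hne₂)
  refine ⟨g₂ * Y₂ * g₁, ?_, ?_⟩ <;> rw [map_mul _ (g₂ * Y₂), mul_assoc (ι₂ (g₂ * Y₂)), Commute, SemiconjBy,
    ← mul_inv_eq_iff_eq_mul]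
  · rw [show ι₂ (g₂ * Y₂) * (ι₂ g₁ * P) * ι₂ X * (ι₂ (g₂ * Y₂) * (ι₂ g₁ * P))⁻¹ =
      ι₂ (g₂ * Y₂) * (ι₂ g₁ * P * ι₂ X * (ι₂ g₁ * P)⁻¹) * (ι₂ (g₂ * Y₂))⁻¹ by group, hX', hT.eq,
      mul_inv_cancel_right]
  · rw [show ι₂ (g₂ * Y₂) * (ι₂ g₁ * P) * ι₂ Y * (ι₂ (g₂ * Y₂) * (ι₂ g₁ * P))⁻¹ =
      ι₂ (g₂ * Y₂) * (ι₂ g₁ * P * ι₂ Y * (ι₂ g₁ * P)⁻¹) * (ι₂ (g₂ * Y₂))⁻¹ by group, hY', hY₂]

/-! ## Subgroups of odd order invariant under an involution -/

/-- A subgroup of odd order cannot meet the centralisers of both `W` and `T W`. -/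
theorem tori_false (hodd : Odd (Fintype.card F)) {X : Subgroup AutQ} (hXr : X ≤ (ι₂).range)
    (hX : Odd (Nat.card ↥X)) {T W : AutQ} (hTr : T ∈ (ι₂).range) (hWr : W ∈ (ι₂).range) (hT1 : T ≠ 1)
    (hT2 : T * T = 1) (hW1 : W ≠ 1) (hW2 : W * W = 1) (hTW : Commute T W) (hne : T ≠ W)
    (hWX : ∀ x ∈ X, W * x * W⁻¹ ∈ X) (hb : X ⊓ centralizer ({W} : Set AutQ) ≠ ⊥)
    (hc : X ⊓ centralizer ({T * W} : Set AutQ) ≠ ⊥) : False := by
  set V := T * W
  have hV2 : V * V = 1 := by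
    rw [show V * V = T * (W * T) * W by simp only [V, mul_assoc], ← hTW.eq, ← mul_assoc, hT2, one_mul, hW2]
  have hV1 : V ≠ 1 := fun e => hne ((mul_eq_one_iff_eq_inv.1 e).trans (inv_eq_of_mul_eq_one_right hW2))
  have hTX : T ∉ X := fun h => by
    have h1 := Odd.of_dvd_nat hX (Subgroup.orderOf_dvd_natCard X h)
    rw [orderOf_eq_prime (by rw [pow_two]; exact hT2) hT1] at h1
    exact absurd h1 (by decide)
  have hoX : ∀ x ∈ X, Odd (orderOf x) := fun x hx => Odd.of_dvd_nat hX (Subgroup.orderOf_dvd_natCard X hx)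
  have hVr : V ∈ (ι₂).range := mul_mem hTr hWr
  -- conjugates of involutions centralising the same element agree
  have huniq : ∀ {x y v v' : AutQ}, x ∈ X → x ≠ 1 → y ∈ X → v ∈ (ι₂).range → v' ∈ (ι₂).range → v ≠ 1 →
      v * v = 1 → v' ≠ 1 → v' * v' = 1 → Commute (y * v * y⁻¹) x → Commute v' x → y * v * y⁻¹ = v' := by
    intro x y v v' hx hx1 hy hv hv' a b a' b' h1 h2
    refine invol_unique hodd (hXr hx) (hoX x hx) hx1 (mul_mem (mul_mem (hXr hy) hv) (inv_mem (hXr hy))) hv' ?_ ?_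
      a' b' h1 h2
    · rwa [ne_eq, conj_eq_one_iff]
    · rw [show y * v * y⁻¹ * (y * v * y⁻¹) = y * (v * v) * y⁻¹ by group, b, mul_one, mul_inv_cancel]
  set Xs : Finset AutQ := Finset.univ.filter fun x => x ∈ X with hXs
  have hmem : ∀ x, x ∈ Xs ↔ x ∈ X := fun x => by simp [hXs]
  let B : AutQ → Finset AutQ := fun v => Xs.filter fun x => Commute x v
  let I : AutQ → Finset AutQ := fun v => (Xs ×ˢ (B v).erase 1).image fun p => p.1 * p.2 * p.1⁻¹
  have hfib : ∀ v, v ∈ (ι₂).range → v ≠ 1 → v * v = 1 →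
      Xs.card * ((B v).card - 1) ≤ (B v).card * (I v).card := by
    intro v hv a b
    have h1 : (B v).card - 1 = ((B v).erase 1).card :=
      (Finset.card_erase_of_mem (Finset.mem_filter.2 ⟨(hmem 1).2 (one_mem X), Commute.one_left v⟩)).symm
    rw [h1, ← Finset.card_product]
    refine Finset.card_le_mul_card_image (f := fun p : AutQ × AutQ => p.1 * p.2 * p.1⁻¹) _ _ fun z hz => ?_
    obtain ⟨p₀, hp₀, hz⟩ := Finset.mem_image.1 hz
    obtain ⟨hy₀, hb₀⟩ := Finset.mem_product.1 hp₀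
    rw [Finset.mem_erase, Finset.mem_filter, hmem] at hb₀
    refine Finset.card_le_card_of_injOn (fun p => p₀.1⁻¹ * p.1) (fun p hp => ?_) fun p hp p' hp' e => ?_
    · obtain ⟨hp, hpz⟩ := Finset.mem_filter.1 hp
      obtain ⟨hy, hbp⟩ := Finset.mem_product.1 hp
      rw [Finset.mem_erase, Finset.mem_filter, hmem] at hbp
      rw [hmem] at hy hy₀
      refine Finset.mem_filter.2 ⟨(hmem _).2 (mul_mem (inv_mem hy₀) hy), ?_⟩
      set y := p₀.1⁻¹ * p.1
      have e0 : y * p.2 * y⁻¹ = p₀.2 := by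
        calc y * p.2 * y⁻¹ = p₀.1⁻¹ * (p.1 * p.2 * p.1⁻¹) * p₀.1 := by simp only [y]; group
          _ = p₀.2 := by rw [hpz, ← hz]; group
      have h3 : y * v * y⁻¹ = v := huniq hb₀.2.1 hb₀.1 (mul_mem (inv_mem hy₀) hy) hv hv a b a b
        (e0 ▸ (hbp.2.2.symm.conj y)) hb₀.2.2.symm
      exact mul_inv_eq_iff_eq_mul.1 h3
    · obtain ⟨-, hpz⟩ := Finset.mem_filter.1 hp
      obtain ⟨-, hpz'⟩ := Finset.mem_filter.1 hp'
      have e1 : p.1 = p'.1 := mul_left_cancel e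
      refine Prod.ext e1 ?_
      have e2 := hpz.trans hpz'.symm
      rw [e1] at e2
      exact mul_left_cancel (mul_right_cancel e2)
  have hsub : ∀ v, I v ⊆ Xs.erase 1 := fun v z hz => by
    obtain ⟨p, hp, rfl⟩ := Finset.mem_image.1 hz
    obtain ⟨hy, hb'⟩ := Finset.mem_product.1 hp
    rw [Finset.mem_erase, Finset.mem_filter, hmem] at hb'
    rw [hmem] at hy
    exact Finset.mem_erase.2 ⟨by rw [ne_eq, conj_eq_one_iff]; exact hb'.1,
      (hmem _).2 (mul_mem (mul_mem hy hb'.2.1) (inv_mem hy))⟩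
  have hdisj : Disjoint (I W) (I V) := Finset.disjoint_left.2 fun z h1 h2 => by
    obtain ⟨p, hp, hpz⟩ := Finset.mem_image.1 h1
    obtain ⟨p', hp', hpz'⟩ := Finset.mem_image.1 h2
    obtain ⟨hy, hb1⟩ := Finset.mem_product.1 hp
    obtain ⟨hy', hb2⟩ := Finset.mem_product.1 hp'
    rw [Finset.mem_erase, Finset.mem_filter, hmem] at hb1 hb2
    rw [hmem] at hy hy'
    set y := p'.1⁻¹ * p.1
    have hyX : y ∈ X := mul_mem (inv_mem hy') hy
    have e0 : y * p.2 * y⁻¹ = p'.2 := by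
      calc y * p.2 * y⁻¹ = p'.1⁻¹ * (p.1 * p.2 * p.1⁻¹) * p'.1 := by simp only [y]; group
        _ = p'.2 := by rw [hpz, ← hpz']; group
    have h3 : y * W * y⁻¹ = V := huniq hb2.2.1 hb2.1 hyX hWr hVr hW1 hW2 hV1 hV2
      (e0 ▸ (hb1.2.2.symm.conj y)) hb2.2.2.symm
    refine hTX ?_
    have h4 : T = y * (W * y⁻¹ * W⁻¹) := by
      rw [← mul_assoc, ← mul_assoc, h3]
      simp only [V, mul_assoc, mul_inv_cancel, mul_one]
    rw [h4]
    exact mul_mem hyX (hWX _ (inv_mem hyX))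
  have hsum : (I W).card + (I V).card + 1 ≤ Xs.card := by
    rw [← Finset.card_union_of_disjoint hdisj]
    have h1 := Finset.card_le_card (Finset.union_subset (hsub W) (hsub V))
    rw [Finset.card_erase_of_mem ((hmem 1).2 (one_mem X))] at h1
    have h2 : 0 < Xs.card := Finset.card_pos.2 ⟨1, (hmem 1).2 (one_mem X)⟩
    omega
  have htwo : ∀ v, X ⊓ centralizer ({v} : Set AutQ) ≠ ⊥ → 2 ≤ (B v).card := fun v hne' => by
    obtain ⟨x, hx, hx1⟩ := (bot_or_exists_ne_one _).resolve_left hne'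
    exact Finset.one_lt_card.2 ⟨x, Finset.mem_filter.2 ⟨(hmem x).2 hx.1,
      mem_centralizer_singleton_iff.1 hx.2⟩, 1, Finset.mem_filter.2 ⟨(hmem 1).2 (one_mem X),
      Commute.one_left v⟩, hx1⟩
  have f1 := hfib W hWr hW1 hW2
  have f2 := hfib V hVr hV1 hV2
  obtain ⟨b, hb'⟩ := Nat.exists_eq_add_of_le (htwo W hb)
  obtain ⟨c, hc'⟩ := Nat.exists_eq_add_of_le (htwo V hc)
  rw [hb', show 2 + b - 1 = b + 1 by omega] at f1
  rw [hc', show 2 + c - 1 = c + 1 by omega] at f2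
  have g1 := Nat.mul_le_mul_right (2 + c) f1
  have g2 := Nat.mul_le_mul_right (2 + b) f2
  nlinarith

/-! ## The structure -/

/-- An automorphism of order two of the field would give commuting elements of orders two and four. -/
theorem no_field_two (hodd : Odd (Fintype.card F)) {A : Subgroup AutQ} (hA : Cfsg.Inn _ ≤ A) (hno : NoTwoFour A) {φ : RingAut F}
    (hφ : orderOf φ = 2) : (pslSemi 1 φ : AutQ) ∉ A := by
  intro hmem
  obtain ⟨Ψ, hΨ, hker⟩ := exists_psi (F := F)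
  have h2 := two_ne_zero hodd
  have hdet : (!![1, -1; 1, 1] : M₂).det = 2 := by
    rw [Matrix.det_fin_two_of]; ring
  obtain ⟨J, hJ⟩ : ∃ J : GL₂, (J : M₂) = !![1, -1; 1, 1] :=
    ⟨Matrix.GeneralLinearGroup.mkOfDetNeZero _ (by rw [hdet]; exact h2), rfl⟩
  have hJA : ι₂ J ∈ A := hA ((mem_inn_iff J).2 (by
    rw [hJ, hdet]; exact isSquare_of_fixed hodd hφ (map_ofNat φ 2)))
  have hJJ : ((J * J : GL₂) : M₂) = !![0, -2; 2, 0] := by
    rw [Units.val_mul, hJ]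
    ext i j
    fin_cases i <;> fin_cases j <;> simp <;> ring
  obtain ⟨hne, hsq⟩ := involution_of_traceless hodd (A := J * J) (by
    show ((J * J : GL₂) : M₂) 1 1 = -((J * J : GL₂) : M₂) 0 0
    rw [hJJ]; simp)
  have hfix : gmap φ J = J := Units.ext (by
    show (J : M₂).map φ = (J : M₂)
    rw [hJ]
    ext i j
    fin_cases i <;> fin_cases j <;> simp)
  refine hno _ hmem _ hJA ?_ ?_ ?_ ?_ ?_ ?_
  · show (pslSemi 1 φ : AutQ) * ι₂ J = ι₂ J * pslSemi 1 φ
    rw [← mul_inv_eq_iff_eq_mul, conj_field_inn, hfix]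
  · rw [pslSemi_mul', one_mul, map_one, semi_eq_one_iff le_rfl]
    have := pow_orderOf_eq_one φ
    rw [hφ, pow_two] at this
    exact ⟨this, 1, (map_one _).symm⟩
  · intro e
    have := congrArg Ψ e
    rw [hΨ, map_one] at this
    rw [this, orderOf_one] at hφ
    omega
  · rw [show (4 : ℕ) = 2 * 2 from rfl, pow_mul, pow_two (ι₂ J), ← map_mul, pow_two]
    exact hsq
  · rw [pow_two, ← map_mul]
    exact hne
  · intro e
    have h3 := congrArg Ψ e
    rw [hΨ, (hker _).2 (pow_mem (⟨J, rfl⟩ : ι₂ J ∈ (ι₂).range) 2)] at h3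
    rw [h3, orderOf_one] at hφ
    omega

/-- The facts on the quotient. -/
theorem image_facts (hodd : Odd (Fintype.card F)) {A : Subgroup AutQ} (hA : Cfsg.Inn _ ≤ A) (hno : NoTwoFour A) {T U W : AutQ}
    (hT : T ∈ Cfsg.Inn _) (hU : U ∈ Cfsg.Inn _) (hW : W ∈ A) (hWn : W ∉ Cfsg.Inn _)
    (hT1 : T ≠ 1) (hT2 : T * T = 1) (hU1 : U ≠ 1) (hU2 : U * U = 1) (hW2 : W * W = 1)
    (hTU : Commute T U) (hTUne : T ≠ U) (hTW : Commute T W) :
    ∃ f m m' : ℕ, Odd f ∧ (∃ p k, p.Prime ∧ Fintype.card F = p ^ k ∧ f ∣ k) ∧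
      ((m + 1 = Fintype.card F ∧ m' = Fintype.card F + 1) ∨ (m = Fintype.card F + 1 ∧ m' + 1 = Fintype.card F)) ∧
      Nat.card ↥(A ⊓ centralizer ({T} : Set AutQ) : Subgroup AutQ) = 2 * m * f ∧
      Nat.card ↥(A ⊓ centralizer ({W} : Set AutQ) : Subgroup AutQ) = 2 * m' * f ∧
      Nat.card ↥(A ⊓ (centralizer ({T} : Set AutQ) ⊓ centralizer ({U} : Set AutQ)) : Subgroup AutQ) = 4 * f ∧
      Nat.card ↥(A ⊓ (centralizer ({T} : Set AutQ) ⊓ centralizer ({W} : Set AutQ)) : Subgroup AutQ) = 4 * f ∧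
      (∀ X : Subgroup AutQ, X ≤ A → Odd (Nat.card ↥X) → (∀ x ∈ X, W * x * W⁻¹ ∈ X) →
        Nat.card ↥(X ⊓ centralizer ({W} : Set AutQ) : Subgroup AutQ) ∣ f ∨
          Nat.card ↥(X ⊓ centralizer ({T * W} : Set AutQ) : Subgroup AutQ) ∣ f) ∧
      (Fintype.card F = 3 → Nat.card ↥A = 24 * f) := by
  obtain ⟨Ψ, hΨ, hker⟩ := exists_psi (F := F)
  have hinn : Cfsg.Inn _ ≤ (ι₂).range := by
    rintro _ ⟨x, rfl⟩
    obtain ⟨s, rfl⟩ := slToPSL_surjective x
    exact ⟨Matrix.SpecialLinearGroup.toGL s, (conj_eq_pslSemi s).symm⟩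
  -- `W` is diagonal
  obtain ⟨w₀, rfl⟩ : W ∈ (ι₂).range := by
    obtain ⟨g, φ, rfl⟩ := exists_form W
    rcases eq_or_ne φ 1 with rfl | hφ1
    · exact ⟨g, (semi_inner g).symm⟩
    exfalso
    have hφ : orderOf φ = 2 := orderOf_eq_prime (by
      have h1 := congrArg Ψ hW2
      rwa [map_mul, hΨ, map_one, ← pow_two] at h1) hφ1
    refine no_field_two hodd hA hno hφ ?_
    have hg : ι₂ g ∈ A := hA ((mem_inn_iff g).2 (isSquare_det_of_semi_invol hodd hφ hW2))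
    rw [semi_split] at hW
    simpa using mul_mem (inv_mem hg) hW
  have hw₀ : ¬ IsSquare (w₀ : M₂).det := fun e => hWn ((mem_inn_iff w₀).2 e)
  -- `A` contains `PGL₂`
  have hιA : (ι₂).range ≤ A := by
    rintro _ ⟨g, rfl⟩
    by_cases hg : IsSquare (g : M₂).det
    · exact hA ((mem_inn_iff g).2 hg)
    · have h1 : ι₂ (g * w₀) ∈ A := hA ((mem_inn_iff _).2 (by
        rw [Units.val_mul, Matrix.det_mul]; exact isSquare_mul_of_not hodd hg hw₀))
      rw [map_mul] at h1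
      exact (mul_mem_cancel_right hW).1 h1
  have hfield : ∀ φ ∈ A.map Ψ, (pslSemi 1 φ : AutQ) ∈ A := by
    rintro _ ⟨a, ha, rfl⟩
    obtain ⟨g, φ, rfl⟩ := exists_form a
    rw [hΨ]
    rw [semi_split] at ha
    exact (mul_mem_cancel_left (hιA ⟨g, rfl⟩)).1 ha
  set f := Nat.card ↥(A.map Ψ) with hfdef
  haveI : Finite (RingAut F) := Finite.of_injective (fun τ => (τ : F → F)) DFunLike.coe_injective
  have hfodd : Odd f := Nat.not_even_iff_odd.1 fun he => by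
    haveI : Fact (Nat.Prime 2) := ⟨Nat.prime_two⟩
    obtain ⟨φ, hφ⟩ := exists_prime_orderOf_dvd_card' 2 he.two_dvd
    exact no_field_two hodd hA hno (φ := (φ : RingAut F)) (by rw [Subgroup.orderOf_coe, hφ]) (hfield _ φ.2)
  have hfk : ∃ p k, p.Prime ∧ Fintype.card F = p ^ k ∧ f ∣ k := by
    obtain ⟨p, hp⟩ := CharP.exists F
    haveI : Fact p.Prime := ⟨(CharP.char_is_prime_or_zero F p).resolve_right (CharP.char_ne_zero_of_finite F p)⟩
    obtain ⟨k, -, hk⟩ := FiniteField.card F p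
    exact ⟨p, k, Fact.out, hk, (card_ringAut hk).2 ▸ Subgroup.card_subgroup_dvd_card _⟩
  obtain ⟨t, ht⟩ := hinn hT
  obtain ⟨u, hu⟩ := hinn hU
  subst ht
  subst hu
  have hW1 : ι₂ w₀ ≠ 1 := fun e => hWn (e ▸ one_mem _)
  have ttl := traceless_of_involution hT1 hT2
  have utl := traceless_of_involution hU1 hU2
  have wtl := traceless_of_involution hW1 hW2
  have hTWne : ι₂ t ≠ ι₂ w₀ := fun e => hWn (e ▸ hT)
  -- the field parts of the centralisers
  have hmap : ∀ {X Y : GL₂} (C : Subgroup AutQ), Traceless (X : M₂) → Traceless (Y : M₂) →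
      Commute (ι₂ X) (ι₂ Y) → ι₂ X ≠ ι₂ Y → centralizer ({ι₂ X} : Set AutQ) ⊓ centralizer ({ι₂ Y} : Set AutQ) ≤ C →
      Nat.card ↥(A ⊓ C : Subgroup AutQ) = Nat.card ↥((ι₂).range ⊓ C : Subgroup AutQ) * f := by
    intro X Y C hX hY hc hne hle
    rw [card_inf hιA Ψ hker C]
    suffices e : (A ⊓ C).map Ψ = A.map Ψ by rw [e]
    refine le_antisymm (map_mono inf_le_left) fun φ hφ => ?_
    obtain ⟨h', h1, h2⟩ := exists_fix_pair hodd hX hY hc hne φ
    refine ⟨ι₂ h' * pslSemi 1 φ, ⟨mul_mem (hιA ⟨h', rfl⟩) (hfield φ hφ), hle ⟨mem_centralizer_singleton_iff.2 h1,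
      mem_centralizer_singleton_iff.2 h2⟩⟩, ?_⟩
    rw [map_mul, (hker _).2 ⟨h', rfl⟩, hΨ, one_mul]
  have hsT : IsSquare (t : M₂).det := (mem_inn_iff t).1 hT
  obtain ⟨c1, c2⟩ := card_centralizer hodd ttl (anticomm hodd ttl utl hTU hTUne)
  obtain ⟨d1, d2⟩ := card_centralizer hodd wtl (anticomm hodd wtl ttl hTW.symm (Ne.symm hTWne))
  have eT : Nat.card ↥(A ⊓ centralizer ({ι₂ t} : Set AutQ) : Subgroup AutQ) =
      Nat.card {x : AutQ // x ∈ (ι₂).range ∧ Commute x (ι₂ t)} * f := by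
    rw [← card_eq_subtype]; exact hmap _ ttl utl hTU hTUne inf_le_left
  have eW : Nat.card ↥(A ⊓ centralizer ({ι₂ w₀} : Set AutQ) : Subgroup AutQ) =
      Nat.card {x : AutQ // x ∈ (ι₂).range ∧ Commute x (ι₂ w₀)} * f := by
    rw [← card_eq_subtype]; exact hmap _ ttl wtl hTW hTWne inf_le_right
  have eTU : Nat.card ↥(A ⊓ (centralizer ({ι₂ t} : Set AutQ) ⊓ centralizer ({ι₂ u} : Set AutQ)) : Subgroup AutQ) =
      4 * f := by
    rw [hmap _ ttl utl hTU hTUne le_rfl, card_eq_subtype₂,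
      card_centralizer_pair hodd ttl utl (anticomm hodd ttl utl hTU hTUne)]
  have eTW : Nat.card ↥(A ⊓ (centralizer ({ι₂ t} : Set AutQ) ⊓ centralizer ({ι₂ w₀} : Set AutQ)) : Subgroup AutQ) =
      4 * f := by
    rw [hmap _ ttl wtl hTW hTWne le_rfl, card_eq_subtype₂,
      card_centralizer_pair hodd ttl wtl (anticomm hodd ttl wtl hTW hTWne)]
  have htori : ∀ X : Subgroup AutQ, X ≤ A → Odd (Nat.card ↥X) → (∀ x ∈ X, ι₂ w₀ * x * (ι₂ w₀)⁻¹ ∈ X) →
      Nat.card ↥(X ⊓ centralizer ({ι₂ w₀} : Set AutQ) : Subgroup AutQ) ∣ f ∨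
        Nat.card ↥(X ⊓ centralizer ({ι₂ t * ι₂ w₀} : Set AutQ) : Subgroup AutQ) ∣ f := by
    intro X hXA hXo hXW
    have key : ∀ v : AutQ, X ⊓ (ι₂).range ⊓ centralizer ({v} : Set AutQ) = ⊥ →
        Nat.card ↥(X ⊓ centralizer ({v} : Set AutQ) : Subgroup AutQ) ∣ f := fun v hv => by
      let g : ↥(X ⊓ centralizer ({v} : Set AutQ) : Subgroup AutQ) →* ↥(A.map Ψ) :=
        (Ψ.comp (Subgroup.subtype _)).codRestrict _ fun x => mem_map_of_mem Ψ (hXA x.2.1)
      refine Subgroup.card_dvd_of_injective g ((injective_iff_map_eq_one g).2 fun x hx => Subtype.ext ?_)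
      have h1 : (x : AutQ) ∈ (ι₂).range := (hker _).1 (congrArg Subtype.val hx)
      exact (Subgroup.eq_bot_iff_forall _).1 hv _ ⟨⟨x.2.1, h1⟩, x.2.2⟩
    by_contra hcon
    push Not at hcon
    refine tori_false hodd (X := X ⊓ (ι₂).range) inf_le_right
      (Odd.of_dvd_nat hXo (Subgroup.card_dvd_of_le inf_le_left)) ⟨t, rfl⟩ ⟨w₀, rfl⟩ hT1 hT2 hW1 hW2 hTW hTWne
      (fun x hx => ⟨hXW x hx.1, (mul_mem (mul_mem ⟨w₀, rfl⟩ (hx.2 : x ∈ (ι₂).range))
        (inv_mem (show ι₂ w₀ ∈ (ι₂).range from ⟨w₀, rfl⟩)) : ι₂ w₀ * x * (ι₂ w₀)⁻¹ ∈ (ι₂).range)⟩)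
      (fun e => hcon.1 (key _ e)) fun e => hcon.2 (key _ e)
  have h24 : Fintype.card F = 3 → Nat.card ↥A = 24 * f := fun h3 => by
    have e1 := card_inf hιA Ψ hker (⊤ : Subgroup AutQ)
    rw [inf_top_eq, inf_top_eq] at e1
    rw [e1]
    congr 1
    have e2 := (ι₂).ker.card_eq_card_quotient_mul_card_subgroup
    rw [Nat.card_congr (QuotientGroup.quotientKerEquivRange (ι₂)).toEquiv, ker_inndiagHom le_rfl,
      Matrix.GeneralLinearGroup.center_eq_range_scalar,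
      ← Nat.card_congr (MonoidHom.ofInjective (f := Matrix.GeneralLinearGroup.scalar (Fin 2)) fun c d hcd =>
        Units.ext (by simpa using congrArg (fun u : GL₂ => (u : M₂) 0 0) hcd)).toEquiv,
      Nat.card_units, Nat.card_eq_fintype_card (α := F), Matrix.card_GL_field, h3] at e2
    simp [Fin.prod_univ_two] at e2
    have e3 : Nat.card ↥(ι₂).range = Nat.card {x : AutQ // ∃ y, ι₂ y = x} := rfl
    omega
  have hqpos : 0 < Fintype.card F := Fintype.card_pos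
  by_cases hm1 : IsSquare (-1 : F)
  · refine ⟨f, Fintype.card F - 1, Fintype.card F + 1, hfodd, hfk, Or.inl ⟨by omega, rfl⟩, ?_, ?_, eTU, eTW,
      htori, h24⟩
    · rw [eT, c1 (by simpa using hm1.mul hsT)]
    · rw [eW, d2 fun e => hw₀ (by simpa using hm1.mul e)]
  · refine ⟨f, Fintype.card F + 1, Fintype.card F - 1, hfodd, hfk, Or.inr ⟨rfl, by omega⟩, ?_, ?_, eTU, eTW,
      htori, h24⟩
    · rw [eT, c2 fun e => hm1 (by simpa [t.det_ne_zero] using e.mul hsT.inv)]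
    · rw [eW, d1 (by simpa using isSquare_mul_of_not hodd hm1 hw₀)]

end PGL

end Cfsg.Agent.Invol.GW.Dihedral
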