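import Cfsg.Agent.Lib.Invol.GW.Dihedral.ArithBasic

/-!
# Gorenstein–Walter, dihedral, maximal centraliser: leaf A (`k = n`, `a = a₁`)

`a = a₁ = kap * d` with `T m = kap d`.  The only solutions have `kap = 1`, `q = 3` (those of `PSL₂`).
-/

set_option autoImplicit false

namespace Cfsg.Agent.Invol.GW.Dihedral.Arith

variable {q d l n m T X x D : ℕ}

theorem Leaf.false_LA (h : Leaf q n d l n m T X x D) {kap : ℕ} (hko : Odd kap) (hTm : T * m = kap * d)
    (hk : kap ≤ q ∨ ∃ e0 : ℕ, Odd e0 ∧ e0 ≤ q ∧ kap = q * e0 ∧ m ^ 2 * x * D ≡ 2 [MOD q ^ 2])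
    (hex : kap ≠ 1 ∨ q ≠ 3) (hDiv : l ∣ kap * m ^ 2 * x * D) : False := by
  have hq := h.q_ge
  have hkap := hko.pos
  have hqT : q ∣ T * m := hTm ▸ h.q_dvd.mul_left kap
  have hXm : X * m = 2 ^ n * d * kap := by
    rw [h.hX, mul_assoc, hTm]
    ring
  have hL : 8 * q ≤ 2 ^ n * d :=
    Nat.mul_le_mul (le_trans (by norm_num) (Nat.pow_le_pow_right two_pos h.three_le_n)) h.d_ge
  have hb := h.bound
  have hle := h.le_l
  generalize hLe : 2 ^ n * d = L at hXm hL hb hle
  have big : ∀ B : ℕ, 3 ≤ B → kap ≤ B → 2 * B ≤ m + 1 → False := fun B hB3 h1 h2 => by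
    zify at hB3 h1 h2 hXm hL
    have hm : (0 : ℤ) ≤ m := Int.natCast_nonneg _
    have h3 := mul_le_mul_of_nonneg_left hb hm
    have h4 := mul_le_mul_of_nonneg_left h1 (show (0 : ℤ) ≤ 2 * L by omega)
    have h5 : ((m : ℤ)) * ((q - 1) * L - 2 * q) ≤ 2 * L * B := by linarith
    have h6 : (2 : ℤ) * L - 2 * q ≤ (q - 1) * L - 2 * q := by
      have := mul_le_mul_of_nonneg_right (show (2 : ℤ) ≤ q - 1 by omega) (show (0 : ℤ) ≤ L by omega)
      linarith
    have h7 := mul_le_mul (show (2 : ℤ) * B - 1 ≤ m by linarith) h6 (by omega) hm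
    have hB : (1 : ℤ) ≤ B := by omega
    have h8 := mul_le_mul_of_nonneg_left hL (show (0 : ℤ) ≤ B - 1 by omega)
    have h9 := mul_le_mul_of_nonneg_left hB3 (show (0 : ℤ) ≤ (q : ℤ) by omega)
    linarith
  obtain ⟨p, i, hp, hp2, -, hl, hpL⟩ := h.exists_prime
  have hpq : ¬ p ∣ q := fun hd => hpL (Dvd.dvd.mul_left (hd.trans h.q_dvd) _)
  rcases hk with hk | ⟨e0, he0, he0q, rfl, hc⟩
  · -- `kap ≤ q`
    rcases h.m_cases hqT with rfl | hm
    swap
    · exact big q hq hk hm
    rw [mul_one] at hXm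
    by_cases h1 : kap = 1
    · subst h1
      have hq5 : (5 : ℤ) ≤ q := by
        obtain ⟨j, hj⟩ := h.q_odd
        omega
      zify at hXm hL
      rw [hXm, mul_one] at hb
      nlinarith
    obtain ⟨ε, δ, η, -, hη, -, -, -, -, hdiv⟩ :=
      h.exists_eval (w := kap) (c := 1) (by rw [one_mul, hXm, hLe]) hDiv
    rw [one_pow, mul_one] at hdiv
    have hkap2 : kap ≠ 2 := by
      rintro rfl
      exact absurd hko (by decide)
    by_cases hpk : p ∣ kap
    · have := Nat.le_of_dvd hkap (Leaf.dvd_of_dvd_w hp hp2 hl hη hpk hdiv)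
      omega
    · have := Leaf.le_of_coprime hp hl hη hpk hp.not_dvd_one h1 hkap2 hdiv
      omega
  · -- `kap = q * e0`
    rcases h.m_cases_sq (hTm ▸ (by rw [sq, mul_assoc]; exact mul_dvd_mul_left q (h.q_dvd.mul_left e0))) hc
      with rfl | hm
    swap
    · exact big (q ^ 2) (by nlinarith) (by rw [sq]; exact Nat.mul_le_mul_left q he0q) hm
    rw [mul_one] at hXm
    obtain ⟨ε, δ, η, hε, hη, -, hel, -, -, hdiv⟩ :=
      h.exists_eval (w := q * e0) (c := 1) (by rw [one_mul, hXm, hLe]) hDiv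
    rw [one_pow, mul_one] at hdiv
    have hqe := Nat.mul_le_mul_left q he0q
    by_cases hpk : p ∣ q * e0
    · have hd := Leaf.dvd_of_dvd_w hp hp2 hl hη hpk hdiv
      have hd2 : l ∣ e0 := by
        refine Nat.Coprime.dvd_of_dvd_mul_left ?_ hd
        rw [hl]
        exact (hp.coprime_iff_not_dvd.2 hpq).pow_left i
      have := Nat.le_of_dvd he0.pos hd2
      omega
    · have hco : IsCoprime (l : ℤ) ((q * e0 : ℕ) : ℤ) := by
        rw [hl]
        exact Nat.isCoprime_iff_coprime.2 ((hp.coprime_iff_not_dvd.2 hpk).pow_left i)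
      have hd := hco.dvd_of_dvd_mul_left hdiv
      rw [hl] at hd
      obtain ⟨r, hr, j, hj⟩ : ∃ r : ℤ, (r = 1 ∨ r = 2) ∧ (l : ℤ) ∣ ((q * e0 : ℕ) : ℤ) + r * η := by
        have hd1 := dvd_cases (K := 1) hp hη (by simpa using Int.natCast_dvd_natCast.not.2 hp.not_dvd_one)
          (by rwa [one_mul])
        rw [hl]
        rcases hd1 with hd1 | hd1 <;> simp only [one_mul, mul_one] at hd1
        · exact ⟨1, Or.inl rfl, by simpa using hd1⟩
        · exact ⟨2, Or.inr rfl, hd1⟩
      obtain ⟨t, ht⟩ := dvd_mul_of_dvd_right h.q_dvd (2 ^ n)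
      rw [hLe] at ht hel
      zify at ht hqe hL hkap hle
      push_cast at hj hel hkap
      rw [ht] at hel hL
      have hqodd : ∃ i : ℤ, (q : ℤ) * e0 = 2 * i + 1 := by
        obtain ⟨i, hi⟩ := hko
        exact ⟨i, by exact_mod_cast hi⟩
      have hLeven : ∃ i : ℤ, (q : ℤ) * t = 2 * i := by
        obtain ⟨i, hi⟩ : 2 ∣ L := hLe ▸ Dvd.dvd.mul_right (dvd_pow_self 2 (by have := h.three_le_n; omega)) d
        exact ⟨i, by rw [← ht]; exact_mod_cast hi⟩
      have hq' : (3 : ℤ) ≤ q := by exact_mod_cast hq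
      -- `q` divides `j ε - r η`, a number smaller than `q`
      have hrη : -2 ≤ r * η ∧ r * η ≤ 2 := by rcases hr with rfl | rfl <;> rcases hη with rfl | rfl <;> norm_num
      have hl8 : 8 * (q : ℤ) - 1 ≤ l := by linarith
      have hge : (3 : ℤ) ≤ q * e0 := by
        nlinarith [show (1 : ℤ) ≤ e0 by have := he0.pos; omega]
      have hj0 : 0 < j := by
        by_contra hc0
        have := mul_le_mul_of_nonneg_left (not_lt.1 hc0) (show (0 : ℤ) ≤ l by omega)
        linarith
      have hj1 : 8 * j ≤ q + 1 := by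
        by_contra hc0
        have := mul_le_mul hl8 (show (q : ℤ) + 2 ≤ 8 * j by omega) (by omega) (show (0 : ℤ) ≤ l by omega)
        linarith
      have hdd : (q : ℤ) ∣ j * ε - r * η := ⟨e0 - j * t, by rw [hel] at hj; linear_combination -hj⟩
      have hz : j * ε - r * η = 0 := by
        by_contra hne
        have := Int.le_of_dvd (abs_pos.2 hne) ((dvd_abs _ _).2 hdd)
        have : |j * ε - r * η| ≤ j + 2 := by
          rcases hε with rfl | rfl <;> rcases hη with rfl | rfl <;> rcases hr with rfl | rfl <;>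
            exact abs_le.2 ⟨by linarith, by linarith⟩
        linarith
      rw [hel] at hj
      have h5 : (q : ℤ) * e0 = j * (q * t) := by linear_combination hj + hz
      obtain ⟨i1, hi1⟩ := hqodd
      obtain ⟨i2, hi2⟩ := hLeven
      rw [hi1, hi2] at h5
      have : (2 : ℤ) ∣ 1 := ⟨j * i2 - i1, by linear_combination h5⟩
      norm_num at this

end Cfsg.Agent.Invol.GW.Dihedral.Arith
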