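import Cfsg.Agent.Lib.Invol.GW.Dihedral.ArithBasic

/-!
# Gorenstein–Walter, dihedral, maximal centraliser: leaf B (`k + i = n`, `a = a₁`)

Here the odd number `h'` with `2 h' = l ± 1` is used to remove `L = N q` and `2 L = N q`, `N = 2 ^ i e`.
-/

set_option autoImplicit false

namespace Cfsg.Agent.Invol.GW.Dihedral.Arith

variable {q k d l n m T X x D : ℕ}

theorem Leaf.false_LB (h : Leaf q k d l n m T X x D) {i e0 kap h' : ℕ} (hkn : k + i = n) (hi : 1 ≤ i)
    (he0 : Odd e0) (hN3 : 3 ≤ 2 ^ i * e0) (hNq : 2 ^ i * e0 ≤ q + 1) (hTm : T * m = kap * d)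
    (hk : kap = e0 ∨ (kap = q * e0 ∧ m ^ 2 * x * D ≡ 2 [MOD q ^ 2]))
    (hres : q = 11 → 2 ^ i * e0 ≠ 8)
    (hh : (l = 2 ^ k * d + 1 ∧ 2 * h' = l + 1) ∨ (l + 1 = 2 ^ k * d ∧ 2 * h' + 1 = l))
    (hDiv : l * h' ∣ kap * m ^ 2 * x * D) : False := by
  have hq := h.q_ge
  have hqT : q ∣ T * m := hTm ▸ h.q_dvd.mul_left kap
  have hXm : X * m = 2 ^ k * d * (2 ^ i * kap) := by
    rw [h.hX, mul_assoc, hTm, ← hkn, pow_add]
    ring
  have hb := h.bound
  have hle := h.le_l
  have hL4 := h.four_le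
  have h4L : 4 ∣ 2 ^ k * d := Dvd.dvd.mul_right (pow_dvd_pow 2 h.two_le_k) d
  obtain ⟨p, u, hp, hp2, -, hl, hpL⟩ := h.exists_prime
  have hpq : ¬ p ∣ q := fun hd => hpL (Dvd.dvd.mul_left (hd.trans h.q_dvd) _)
  have hlq : l.Coprime q := by rw [hl]; exact (hp.coprime_iff_not_dvd.2 hpq).pow_left u
  have hlDiv : l ∣ kap * m ^ 2 * x * D := (dvd_mul_right l h').trans hDiv
  rcases hk with rfl | ⟨rfl, hc⟩
  · -- `kap = e`
    generalize hN : 2 ^ i * kap = N at hXm hN3 hNq
    rcases h.m_cases hqT with rfl | hm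
    · rw [mul_one] at hXm
      obtain ⟨ε, δ, η, -, hη, -, -, -, -, hdiv⟩ := h.exists_eval (w := N) (c := 1) (by rw [one_mul, hXm]) hlDiv
      rw [one_pow, mul_one] at hdiv
      by_cases hpk : p ∣ kap
      · have := Nat.le_of_dvd he0.pos (Leaf.dvd_of_dvd_w hp hp2 hl hη (hN ▸ hpk.mul_left _) hdiv)
        have : kap ≤ N := hN ▸ Nat.le_mul_of_pos_left _ (by positivity)
        omega
      · have := Leaf.le_of_coprime hp hl hη hpk hp.not_dvd_one (by omega) (by omega) hdiv
        omega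
    · by_cases hq5 : 5 ≤ q
      · generalize 2 ^ k * d = L at hXm hb hL4
        zify at hXm hm hNq hL4 hq5
        have h3 := mul_le_mul_of_nonneg_left hb (show (0 : ℤ) ≤ m by omega)
        have h4 := mul_le_mul_of_nonneg_left hNq (show (0 : ℤ) ≤ 2 * L by omega)
        have h6 : (4 : ℤ) * L - 2 * q ≤ (q - 1) * L - 2 * q := by
          have := mul_le_mul_of_nonneg_right (show (4 : ℤ) ≤ q - 1 by omega) (show (0 : ℤ) ≤ L by omega)
          linarith
        have h7 := mul_le_mul (show (2 : ℤ) * q - 1 ≤ m by omega) h6 (by omega) (by omega)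
        nlinarith
      · have hq3 : q = 3 := by
          obtain ⟨j, hj⟩ := h.q_odd
          omega
        have hN4 : N = 4 := by
          obtain ⟨j, rfl⟩ : ∃ j, i = j + 1 := ⟨i - 1, by omega⟩
          rw [pow_succ, mul_right_comm] at hN
          omega
        -- `L = 12` and `m ∣ 3`
        have hk1 : kap = 1 := by
          rcases Nat.exists_eq_add_of_le hi with ⟨j, rfl⟩
          rw [hN4] at hN
          have h2 : kap ∣ 2 ^ 2 := ⟨2 ^ (1 + j), by rw [mul_comm]; exact hN.symm⟩
          exact Nat.Coprime.eq_one_of_dvd ((Nat.coprime_two_right.2 he0).pow_right 2) h2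
        subst hk1 hq3 hN4
        zify at hXm hm
        have h3 := mul_le_mul_of_nonneg_left hb (show (0 : ℤ) ≤ m by omega)
        push_cast at h3
        have h7 := mul_le_mul_of_nonneg_right (show (5 : ℤ) ≤ m by omega)
          (show (0 : ℤ) ≤ 2 * (2 ^ k * d) - 6 by
            have : (4 : ℤ) * 3 ≤ 2 ^ k * d := by exact_mod_cast hL4
            linarith)
        have hLle : 2 ^ k * d ≤ 15 := by
          zify
          linarith
        have hd : d ≤ 3 := by
          by_contra hcd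
          have h2 : 4 ≤ 2 ^ k := le_trans (by norm_num) (Nat.pow_le_pow_right two_pos h.two_le_k)
          have := Nat.mul_le_mul h2 (show 4 ≤ d by omega)
          omega
        have hTd : T * m ≤ 3 := by rw [hTm]; omega
        have hT : 0 < T := by
          rcases Nat.eq_zero_or_pos T with rfl | hT
          · have := h.d_odd.pos
            omega
          · exact hT
        have := le_trans (Nat.le_mul_of_pos_left m hT) hTd
        omega
  · -- `kap = q * e`
    rw [mul_left_comm (2 ^ i) q e0] at hXm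
    generalize hN : 2 ^ i * e0 = N at hXm hN3 hNq hres
    rcases h.m_cases_sq (hTm ▸ (by rw [sq, mul_assoc]; exact mul_dvd_mul_left q (h.q_dvd.mul_left e0))) hc
      with rfl | hm
    swap
    · zify at hXm hm hNq hL4
      push_cast at hb
      generalize (2 : ℤ) ^ k * d = L at hXm hb hL4
      have hq' : (3 : ℤ) ≤ q := by exact_mod_cast hq
      have hq2 : (9 : ℤ) ≤ (q : ℤ) ^ 2 := by nlinarith
      have h3 := mul_le_mul_of_nonneg_left hb (show (0 : ℤ) ≤ m by omega)
      have h4 := mul_le_mul_of_nonneg_left (mul_le_mul_of_nonneg_left hNq (show (0 : ℤ) ≤ q by omega))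
        (show (0 : ℤ) ≤ 2 * L by omega)
      have h6 : (2 : ℤ) * L - 2 * q ≤ (q - 1) * L - 2 * q := by
        have := mul_le_mul_of_nonneg_right (show (2 : ℤ) ≤ q - 1 by omega) (show (0 : ℤ) ≤ L by omega)
        linarith
      have h7 := mul_le_mul (show (2 : ℤ) * q ^ 2 - 1 ≤ m by omega) h6 (by omega) (by omega)
      nlinarith
    rw [mul_one] at hXm
    obtain ⟨ε, δ, η, hε, hη, hηe, hel, hex, heD, hdiv⟩ :=
      h.exists_eval (w := q * N) (c := 1) (by rw [one_mul, hXm]) hlDiv
    rw [one_pow, mul_one] at hdiv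
    by_cases hpk : p ∣ q * e0
    · have hd := Leaf.dvd_of_dvd_w hp hp2 hl hη (hpk.trans (mul_dvd_mul_left q (hN ▸ dvd_mul_left e0 (2 ^ i)))) hdiv
      have := Nat.le_of_dvd he0.pos (hlq.dvd_of_dvd_mul_left hd)
      have : e0 ≤ N := hN ▸ Nat.le_mul_of_pos_left _ (by positivity)
      omega
    have hco : IsCoprime (l : ℤ) ((q * e0 : ℕ) : ℤ) := by
      rw [hl]
      exact Nat.isCoprime_iff_coprime.2 ((hp.coprime_iff_not_dvd.2 hpk).pow_left u)
    have hd := hco.dvd_of_dvd_mul_left hdiv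
    obtain ⟨r, hr, j, hj⟩ : ∃ r : ℤ, (r = 1 ∨ r = 2) ∧ (l : ℤ) ∣ ((q * N : ℕ) : ℤ) + r * η := by
      rw [hl] at hd ⊢
      have hd1 := dvd_cases (K := 1) hp hη (by simpa using Int.natCast_dvd_natCast.not.2 hp.not_dvd_one)
        (by rwa [one_mul])
      rcases hd1 with hd1 | hd1 <;> simp only [one_mul, mul_one] at hd1
      · exact ⟨1, Or.inl rfl, by simpa using hd1⟩
      · exact ⟨2, Or.inr rfl, by simpa using hd1⟩
    obtain ⟨t, ht⟩ := dvd_mul_of_dvd_right h.q_dvd (2 ^ k)
    obtain ⟨L4, hL4e⟩ := h4L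
    obtain ⟨N2, hN2⟩ : 2 ∣ N := hN ▸ Dvd.dvd.mul_right (dvd_pow_self 2 (by omega)) e0
    have hq' : (3 : ℤ) ≤ q := by exact_mod_cast hq
    have hN3' : (3 : ℤ) ≤ N := by exact_mod_cast hN3
    have hNq' : (N : ℤ) ≤ q + 1 := by exact_mod_cast hNq
    have hl4 : 4 * (q : ℤ) - 1 ≤ l := by omega
    push_cast at hj
    have hrη : -2 ≤ r * η ∧ r * η ≤ 2 := by rcases hr with rfl | rfl <;> rcases hη with rfl | rfl <;> norm_num
    have hj0 : 0 < j := by
      by_contra hc0
      have := mul_le_mul_of_nonneg_left (not_lt.1 hc0) (show (0 : ℤ) ≤ l by omega)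
      nlinarith
    have hpar : ∃ z : ℤ, j - r = 2 * z := by
      have e2 : (N : ℤ) = 2 * N2 := by exact_mod_cast hN2
      have e4 : ((2 ^ k * d : ℕ) : ℤ) = 4 * L4 := by exact_mod_cast hL4e
      rw [hel, e4, e2] at hj
      obtain ⟨s, hs⟩ : ∃ s : ℤ, ε = 2 * s + 1 := by
        rcases hε with rfl | rfl
        · exact ⟨0, by norm_num⟩
        · exact ⟨-1, by norm_num⟩
      obtain ⟨s', hs'⟩ : ∃ s : ℤ, η = 2 * s + 1 := by
        rcases hη with rfl | rfl
        · exact ⟨0, by norm_num⟩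
        · exact ⟨-1, by norm_num⟩
      refine ⟨q * N2 + r * s' - j * (2 * L4 + s), ?_⟩
      rw [hs, hs'] at hj
      linear_combination -hj
    have hjq : j + 2 < q ∨ (q = 3 ∧ j = 1) := by
      rcases lt_or_ge (j + 2) (q : ℤ) with hh1 | hh1
      · exact Or.inl hh1
      · have hm1 := mul_le_mul_of_nonneg_right hl4 hj0.le
        have hm2 := mul_le_mul_of_nonneg_left hh1 (show (0 : ℤ) ≤ 4 * q - 1 by omega)
        have hm3 := mul_le_mul_of_nonneg_left hNq' (show (0 : ℤ) ≤ q by omega)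
        have hq4 : q < 5 := by
          by_contra hcq
          nlinarith
        have hq3 : q = 3 := by
          obtain ⟨z, hz⟩ := h.q_odd
          omega
        subst hq3
        exact Or.inr ⟨rfl, by nlinarith⟩
    have hdd : (q : ℤ) ∣ j * ε - r * η := ⟨N - j * t, by
      rw [hel, ht] at hj
      push_cast at hj
      linear_combination -hj⟩
    have hz : j * ε - r * η = 0 := by
      by_contra hne
      have hd1 := Int.le_of_dvd (abs_pos.2 hne) ((dvd_abs _ _).2 hdd)
      obtain ⟨z, hz⟩ := hpar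
      rcases hε with rfl | rfl <;> rcases hη with rfl | rfl <;> rcases hr with rfl | rfl <;>
        rcases hjq with hjq | ⟨hq3, hj1⟩ <;> rcases abs_cases (j * _ - _ : ℤ) with ⟨e, -⟩ | ⟨e, -⟩ <;>
        rw [e] at hd1 <;> omega
    have hjr : j = r ∧ ε = η := by
      rcases hε with rfl | rfl <;> rcases hη with rfl | rfl <;> rcases hr with rfl | rfl <;>
        exact ⟨by omega, by omega⟩
    obtain ⟨rfl, rfl⟩ := hjr
    have hδ : δ = -1 := by
      rcases hε with rfl | rfl <;> omega
    subst hδ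
    -- `r L = N q`, so `d = q e`
    have hLN : ((2 ^ k * d : ℕ) : ℤ) * j = q * N := by rw [hel] at hj; linear_combination -hj
    obtain ⟨r', rfl⟩ : ∃ r' : ℕ, j = (2 : ℤ) ^ r' := by
      rcases hr with rfl | rfl
      · exact ⟨0, rfl⟩
      · exact ⟨1, rfl⟩
    have hr' : r' ≤ 1 := by
      by_contra hc1
      have := pow_le_pow_right₀ (show (1 : ℤ) ≤ 2 by norm_num) (show 2 ≤ r' by omega)
      rcases hr with e | e <;> omega
    have hLN' : 2 ^ k * d * 2 ^ r' = q * N := by exact_mod_cast hLN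
    obtain ⟨hki, hde⟩ : r' + k = i ∧ d = q * e0 := by
      refine eq_of_two_pow_mul h.d_odd (h.q_odd.mul he0) ?_
      rw [← hN] at hLN'
      rw [pow_add]
      linarith
    -- `h'` is odd, prime to `d`, so it divides `(4 r - 1) (4 r - 2)`
    obtain ⟨heL, hho⟩ : ((2 * h' : ℕ) : ℤ) = (2 ^ k * d : ℕ) + 2 * ε ∧ Odd h' := by
      rw [hL4e] at hh hel ⊢
      rcases hh with ⟨a, b⟩ | ⟨a, b⟩
      · exact ⟨by omega, ⟨L4, by omega⟩⟩
      · exact ⟨by omega, ⟨L4 - 1, by omega⟩⟩
    have hcop : h'.Coprime d := by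
      have hg1 := Nat.gcd_dvd_left h' d
      have h2 : Nat.gcd h' d ∣ 2 := by
        rcases hh with ⟨a, b⟩ | ⟨a, b⟩
        · refine (Nat.dvd_add_right ((Nat.gcd_dvd_right h' d).mul_left (2 ^ k))).1 ?_
          rw [show 2 ^ k * d + 2 = 2 * h' by omega]
          exact hg1.mul_left 2
        · refine (Nat.dvd_add_right (hg1.mul_left 2)).1 ?_
          rw [show 2 * h' + 2 = 2 ^ k * d by omega]
          exact (Nat.gcd_dvd_right h' d).mul_left _
      exact Nat.coprime_iff_gcd_eq_one.1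
        (Nat.Coprime.eq_one_of_dvd ((Nat.coprime_two_right.2 (hho.of_dvd_nat hg1))) h2)
    have hxD : h' ∣ x * D := by
      refine Nat.Coprime.dvd_of_dvd_mul_left (hde ▸ hcop) ?_
      have := (dvd_mul_left h' l).trans hDiv
      rwa [one_pow, mul_one, mul_assoc] at this
    have hdvd : (h' : ℤ) ∣ (4 * 2 ^ r' - 1) * (4 * 2 ^ r' - 2) := by
      have hXe : (X : ℤ) = 2 ^ r' * ((2 ^ k * d : ℕ) : ℤ) ^ 2 := by
        rw [hXm]
        push_cast
        push_cast at hLN
        linear_combination -(2 ^ k * (d : ℤ)) * hLN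
      have h1 : (h' : ℤ) ∣ (x : ℤ) * D := by exact_mod_cast hxD
      have h2 : (h' : ℤ) ∣ (x : ℤ) * D - (4 * 2 ^ r' - 1) * (4 * 2 ^ r' - 2) := by
        refine ⟨2 * (((2 ^ k * d : ℕ) : ℤ) - 2 * ε) * 2 ^ r' * ((X : ℤ) + 4 * 2 ^ r' - 3), ?_⟩
        have he : ε ^ 2 = 1 := by rcases hε with rfl | rfl <;> norm_num
        rw [hex, heD, hXe]
        push_cast at heL
        push_cast
        generalize (2 : ℤ) ^ k * d = L at heL ⊢
        generalize (2 : ℤ) ^ r' = R
        linear_combination -(L - 2 * ε) * R * (R * L ^ 2 + 4 * R - 3) * heL +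
          4 * R * (R * L ^ 2 + 4 * R - 3) * he
      have := dvd_sub h1 h2
      rwa [sub_sub_cancel] at this
    have hhge : 2 * q ≤ h' + 1 := by omega
    rcases (show r' = 0 ∨ r' = 1 by omega) with rfl | rfl
    · norm_num at hdvd
      have h6 : h' ∣ 6 := by exact_mod_cast hdvd
      have h3 : h' ∣ 3 := (Nat.coprime_two_right.2 hho).dvd_of_dvd_mul_left (show h' ∣ 2 * 3 from h6)
      have := Nat.le_of_dvd (by norm_num) h3
      omega
    · norm_num at hdvd
      have h42 : h' ∣ 42 := by exact_mod_cast hdvd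
      have h21 : h' ∣ 21 := (Nat.coprime_two_right.2 hho).dvd_of_dvd_mul_left (show h' ∣ 2 * 21 from h42)
      have h8 : 8 ≤ N := by
        rw [← hN]
        exact le_trans (le_trans (by norm_num) (Nat.pow_le_pow_right two_pos (show 3 ≤ i by
          have := h.two_le_k; omega))) (Nat.le_mul_of_pos_right _ he0.pos)
      have hle21 := Nat.le_of_dvd (by norm_num) h21
      have h21' : h' = 21 := by
        obtain ⟨z, hz⟩ := h21
        rcases Nat.lt_or_ge z 2 with hz2 | hz2
        · interval_cases z <;> omega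
        · have := Nat.mul_le_mul (show 13 ≤ h' by omega) hz2
          omega
      subst h21'
      -- `L = 40` or `44`
      have hq11 : q ∣ 40 ∨ q ∣ 44 := by
        rcases hε with rfl | rfl
        · refine Or.inl ?_
          rw [show (40 : ℕ) = 2 ^ k * d by omega]
          exact h.q_dvd.mul_left _
        · refine Or.inr ?_
          rw [show (44 : ℕ) = 2 ^ k * d by omega]
          exact h.q_dvd.mul_left _
      have hq' : q = 11 := by
        have hq7 : 7 ≤ q := by omega
        have hqle : q ≤ 11 := by omega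
        have := h.q_prime
        interval_cases q <;> first | omega | (norm_num at this)
      refine hres hq' ?_
      have hN12 : N ≤ 12 := by omega
      subst hq'
      omega

end Cfsg.Agent.Invol.GW.Dihedral.Arith
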