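import Mathlib

/-!
# Gorenstein–Walter, dihedral, maximal centraliser: the hypotheses of the arithmetic leaves

`l` is the order of the field of a linear subgroup, `l ± 1 = 2 ^ k * d` with `q ∣ d` odd; `x = X + δ`, `D = X + 2 δ`
and `X = 2 ^ n * T`; `m ^ 2 ≡ 1` modulo `q`.  Modulo `l` one has `2 ^ k * d ≡ ∓ 1`, so that `l` divides a product of
a small number of small numbers.
-/

set_option autoImplicit false

namespace Cfsg.Agent.Invol.GW.Dihedral.Arith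

/-- The common hypotheses of the leaves. -/
structure Leaf (q k d l n m T X x D : ℕ) : Prop where
  q_prime : q.Prime
  q_odd : Odd q
  two_le_k : 2 ≤ k
  d_odd : Odd d
  q_dvd : q ∣ d
  l_pow : IsPrimePow l
  hl : l + 1 = 2 ^ k * d ∨ l = 2 ^ k * d + 1
  three_le_n : 3 ≤ n
  m_odd : Odd m
  hX : X = 2 ^ n * T
  hx : (x = X + 1 ∧ D = x + 1) ∨ (x + 1 = X ∧ D + 1 = x)
  hcong : m ^ 2 * x * D ≡ 2 [MOD q]
  hE : (q - 1) * (l - 1) ≤ 2 * x

/-- An odd number with square one modulo `q ^ r` is one or at least `2 q ^ r - 1`. -/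
theorem one_or_large {q m r : ℕ} (hq : q.Prime) (hqo : Odd q) (_hr : 1 ≤ r) (hm : Odd m)
    (h : m ^ 2 ≡ 1 [MOD q ^ r]) : m = 1 ∨ 2 * q ^ r ≤ m + 1 := by
  obtain ⟨i, rfl⟩ := hm
  have hq2 : ¬ q ∣ 2 := fun h2 => by
    obtain rfl := (Nat.prime_dvd_prime_iff_eq hq Nat.prime_two).1 h2
    exact absurd hqo (by decide)
  have hd : q ^ r ∣ 4 * (i * (i + 1)) := by
    have h1 := (Nat.modEq_iff_dvd' (Nat.one_le_pow _ _ (by omega))).1 h.symm
    rwa [show (2 * i + 1) ^ 2 - 1 = 4 * (i * (i + 1)) by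
      rw [show (2 * i + 1) ^ 2 = 4 * (i * (i + 1)) + 1 by ring, Nat.add_sub_cancel]] at h1
  have hc4 : (q ^ r).Coprime 4 := by
    rw [show (4 : ℕ) = 2 ^ 2 from rfl]
    exact ((hq.coprime_iff_not_dvd.2 hq2).pow_left r).pow_right 2
  have hd2 := hc4.dvd_of_dvd_mul_left hd
  rcases hq.eq_one_or_self_of_dvd (Nat.gcd q i) (Nat.gcd_dvd_left q i) with e | e
  · have hci : (q ^ r).Coprime i := (Nat.coprime_iff_gcd_eq_one.2 e).pow_left r
    have h3 := Nat.le_of_dvd (by omega) (hci.dvd_of_dvd_mul_left hd2)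
    omega
  · have hqi : ¬ q ∣ i + 1 := fun h1 => hq.one_lt.ne' (Nat.dvd_one.1
      ((Nat.dvd_add_right (e ▸ Nat.gcd_dvd_right q i)).1 h1))
    have hci : (q ^ r).Coprime (i + 1) := (hq.coprime_iff_not_dvd.2 hqi).pow_left r
    rcases Nat.eq_zero_or_pos i with rfl | hi
    · exact Or.inl rfl
    · have h3 := Nat.le_of_dvd hi (hci.dvd_of_dvd_mul_right hd2)
      omega

/-- A prime power dividing a product is at most a common divisor times a divisor of one factor. -/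
theorem split_dvd {p i a b : ℕ} (hp : p.Prime) (h : p ^ i ∣ a * b) :
    ∃ s t, p ^ i ≤ s * t ∧ s ∣ a ∧ s ∣ b ∧ s ∣ p ^ i ∧ t ∣ p ^ i ∧ (t ∣ a ∨ t ∣ b) := by
  obtain ⟨u, hu, eu⟩ := (Nat.dvd_prime_pow hp).1 (Nat.gcd_dvd_left (p ^ i) a)
  obtain ⟨v, hv, ev⟩ := (Nat.dvd_prime_pow hp).1 (Nat.gcd_dvd_left (p ^ i) b)
  have hle : p ^ i ≤ p ^ u * p ^ v := by
    refine Nat.le_of_dvd (Nat.mul_pos (pow_pos hp.pos _) (pow_pos hp.pos _)) ?_
    rw [← eu, ← ev]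
    exact (Nat.dvd_gcd dvd_rfl h).trans (Nat.gcd_mul_right_dvd_mul_gcd _ _ _)
  have hua : p ^ u ∣ a := eu ▸ Nat.gcd_dvd_right _ _
  have hvb : p ^ v ∣ b := ev ▸ Nat.gcd_dvd_right _ _
  have hui := Nat.pow_dvd_pow p hu
  have hvi := Nat.pow_dvd_pow p hv
  rcases le_total u v with e | e
  · exact ⟨p ^ u, p ^ v, hle, hua, (Nat.pow_dvd_pow p e).trans hvb, hui, hvi, Or.inr hvb⟩
  · exact ⟨p ^ v, p ^ u, by rwa [mul_comm], (Nat.pow_dvd_pow p e).trans hua, hvb, hvi, hui, Or.inl hua⟩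

theorem eq_of_two_pow_mul {a b x y : ℕ} (hx : Odd x) (hy : Odd y) (h : 2 ^ a * x = 2 ^ b * y) :
    a = b ∧ x = y := by
  have hab : a = b := by
    have key : ∀ c z, Odd z → (2 ^ c * z).factorization 2 = c := fun c z hz => by
      rw [Nat.factorization_mul (by positivity) hz.pos.ne', Finsupp.add_apply,
        Nat.Prime.factorization_pow Nat.prime_two, Finsupp.single_eq_same,
        Nat.factorization_eq_zero_of_not_dvd hz.not_two_dvd_nat, add_zero]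
    rw [← key a x hx, h, key b y hy]
  subst hab
  exact ⟨rfl, Nat.eq_of_mul_eq_mul_left (by positivity) h⟩

variable {q k d l n m T X x D : ℕ}

namespace Leaf

variable (h : Leaf q k d l n m T X x D)
include h

theorem q_ge : 3 ≤ q := by
  have := h.q_prime.two_le
  obtain ⟨i, hi⟩ := h.q_odd
  omega

theorem d_ge : q ≤ d := Nat.le_of_dvd h.d_odd.pos h.q_dvd

theorem four_le : 4 * q ≤ 2 ^ k * d := by
  have h1 : (2 : ℕ) ^ 2 ≤ 2 ^ k := Nat.pow_le_pow_right two_pos h.two_le_k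
  exact Nat.mul_le_mul h1 h.d_ge

theorem q_not_dvd : ¬ q ∣ m := fun hd => by
  have hz : (2 : ℕ) ≡ 0 [MOD q] := h.hcong.symm.trans
    (Nat.modEq_zero_iff_dvd.2 (((hd.trans (dvd_pow_self m two_ne_zero)).mul_right x).mul_right D))
  have := Nat.le_of_dvd two_pos (Nat.modEq_zero_iff_dvd.1 hz)
  have := h.q_ge
  omega

/-- If an odd `M` divides `X` then `x D ≡ 2`, so `m ^ 2 ≡ 1`. -/
theorem sq_modEq {M : ℕ} (hMo : Odd M) (hM : M ∣ X) (hc : m ^ 2 * x * D ≡ 2 [MOD M]) :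
    m ^ 2 ≡ 1 [MOD M] := by
  have hXz : (X : ZMod M) = 0 := (ZMod.natCast_eq_zero_iff X M).2 hM
  have h2 : IsUnit (2 : ZMod M) := by
    simpa using (ZMod.isUnit_iff_coprime 2 M).2 (Nat.coprime_two_left.2 hMo)
  have hc' : ((m ^ 2 * x * D : ℕ) : ZMod M) = ((2 : ℕ) : ZMod M) := (ZMod.natCast_eq_natCast_iff _ _ M).2 hc
  rw [← ZMod.natCast_eq_natCast_iff]
  push_cast at hc' ⊢
  refine h2.mul_left_cancel ?_
  rcases h.hx with ⟨e1, e2⟩ | ⟨e1, e2⟩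
  · rw [e2, e1] at hc'
    push_cast at hc'
    rw [hXz] at hc'
    linear_combination hc'
  · have e1' : (x : ZMod M) + 1 = X := by exact_mod_cast congrArg (fun i : ℕ => (i : ZMod M)) e1
    have e2' : (D : ZMod M) + 1 = x := by exact_mod_cast congrArg (fun i : ℕ => (i : ZMod M)) e2
    rw [hXz] at e1'
    have ex : (x : ZMod M) = -1 := by linear_combination e1'
    have eD : (D : ZMod M) = -2 := by linear_combination e2' + ex
    rw [ex, eD] at hc'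
    linear_combination hc'

omit h in
theorem dvd_T {M : ℕ} (hM : M.Coprime m) (hTm : M ∣ T * m) : M ∣ T := hM.dvd_of_dvd_mul_right hTm

theorem m_cases (hqT : q ∣ T * m) : m = 1 ∨ 2 * q ≤ m + 1 := by
  have hT := dvd_T (h.q_prime.coprime_iff_not_dvd.2 h.q_not_dvd) hqT
  have hm := h.sq_modEq h.q_odd (h.hX ▸ hT.mul_left _) h.hcong
  simpa using one_or_large h.q_prime h.q_odd le_rfl h.m_odd (by simpa using hm)

theorem m_cases_sq (hqT : q ^ 2 ∣ T * m) (hc : m ^ 2 * x * D ≡ 2 [MOD q ^ 2]) :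
    m = 1 ∨ 2 * q ^ 2 ≤ m + 1 := by
  have hT := dvd_T ((h.q_prime.coprime_iff_not_dvd.2 h.q_not_dvd).pow_left 2) hqT
  exact one_or_large h.q_prime h.q_odd (by norm_num) h.m_odd
    (h.sq_modEq h.q_odd.pow (h.hX ▸ hT.mul_left _) hc)

theorem le_l : 2 ^ k * d ≤ l + 1 := by rcases h.hl with e | e <;> omega

theorem X_ge : 1 ≤ T → 8 ≤ X := fun hT => by
  have h1 : (2 : ℕ) ^ 3 ≤ 2 ^ n := Nat.pow_le_pow_right two_pos h.three_le_n
  rw [h.hX]
  exact Nat.mul_le_mul h1 hT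

/-- `(q - 1) (l - 1) ≤ 2 x` over the integers, with `X`. -/
theorem bound : ((q : ℤ) - 1) * (2 ^ k * d : ℕ) ≤ 2 * X + 2 * q := by
  have h1 := h.hE
  have h2 := h.le_l
  have hq := h.q_ge
  have hx : x ≤ X + 1 := by rcases h.hx with ⟨e, -⟩ | ⟨e, -⟩ <;> omega
  have hl2 := h.l_pow.two_le
  zify [show 1 ≤ q by omega, show 1 ≤ l by omega] at h1 h2 hx
  have h3 := mul_le_mul_of_nonneg_left h2 (show (0 : ℤ) ≤ (q : ℤ) - 1 by omega)
  push_cast at h3 ⊢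
  linarith

/-- `l = L + ε`, `x = X + δ`, `D = X + 2 δ`. -/
theorem exists_signs : ∃ ε δ : ℤ, (ε = 1 ∨ ε = -1) ∧ (δ = 1 ∨ δ = -1) ∧ (l : ℤ) = (2 ^ k * d : ℕ) + ε ∧
    (x : ℤ) = X + δ ∧ (D : ℤ) = X + 2 * δ := by
  obtain ⟨ε, hε, e1⟩ : ∃ ε : ℤ, (ε = 1 ∨ ε = -1) ∧ (l : ℤ) = (2 ^ k * d : ℕ) + ε := by
    rcases h.hl with e | e
    · exact ⟨-1, Or.inr rfl, by rw [← e]; push_cast; ring⟩
    · exact ⟨1, Or.inl rfl, by rw [e]; push_cast; ring⟩
  rcases h.hx with ⟨a, b⟩ | ⟨a, b⟩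
  · exact ⟨ε, 1, hε, Or.inl rfl, e1, by omega, by omega⟩
  · exact ⟨ε, -1, hε, Or.inr rfl, e1, by omega, by omega⟩

theorem exists_prime : ∃ p i : ℕ, p.Prime ∧ p ≠ 2 ∧ 0 < i ∧ l = p ^ i ∧ ¬ p ∣ 2 ^ k * d := by
  obtain ⟨p, i, hp, hi, rfl⟩ := h.l_pow
  refine ⟨p, i, hp.nat_prime, ?_, hi, rfl, fun hd => ?_⟩
  · rintro rfl
    have h2 : 2 ∣ 2 ^ k * d := Dvd.dvd.mul_right (dvd_pow_self 2 (by have := h.two_le_k; omega)) d
    have h3 : 2 ∣ 2 ^ i := dvd_pow_self 2 hi.ne'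
    rcases h.hl with e | e <;> omega
  · have h3 : p ∣ p ^ i := dvd_pow_self p hi.ne'
    rcases h.hl with e | e
    · exact hp.nat_prime.one_lt.ne' (Nat.dvd_one.1 ((Nat.dvd_add_right h3).1 (e ▸ hd)))
    · exact hp.nat_prime.one_lt.ne' (Nat.dvd_one.1 ((Nat.dvd_add_right hd).1 (e ▸ h3)))

end Leaf

/-- The congruence: `c X = L w` and `L ≡ - ε` turn `x D` into `(w + η c) (w + 2 η c)` with `η = - ε δ`. -/
theorem dvd_eval {lZ L ε δ w c X xZ DZ K : ℤ} (hl : lZ = L + ε) (hε : ε = 1 ∨ ε = -1) (hx : xZ = X + δ)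
    (hD : DZ = X + 2 * δ) (hX : c * X = L * w) (h : lZ ∣ K * (xZ * DZ)) :
    lZ ∣ K * ((w + -(ε * δ) * c) * (w + 2 * -(ε * δ) * c)) := by
  have h1 : lZ ∣ (c * xZ) - (δ * c - ε * w) := ⟨w, by subst hx; linear_combination hX + w * -hl⟩
  have h2 : lZ ∣ (c * DZ) - (2 * δ * c - ε * w) := ⟨w, by subst hD; linear_combination hX + w * -hl⟩
  have h3 : lZ ∣ K * ((c * xZ) * (c * DZ)) - K * ((δ * c - ε * w) * (2 * δ * c - ε * w)) := by
    rw [← mul_sub]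
    refine Dvd.dvd.mul_left ?_ K
    rw [show c * xZ * (c * DZ) - (δ * c - ε * w) * (2 * δ * c - ε * w) = (c * xZ - (δ * c - ε * w)) * (c * DZ) +
      (δ * c - ε * w) * (c * DZ - (2 * δ * c - ε * w)) by ring]
    exact dvd_add (h1.mul_right _) (h2.mul_left _)
  have h4 : lZ ∣ K * ((c * xZ) * (c * DZ)) := by
    rw [show K * (c * xZ * (c * DZ)) = c ^ 2 * (K * (xZ * DZ)) by ring]
    exact h.mul_left _
  have h5 := dvd_sub h4 h3
  rw [sub_sub_cancel] at h5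
  have he : ε ^ 2 = 1 := by rcases hε with rfl | rfl <;> norm_num
  have hd : δ ^ 2 * ε ^ 2 = δ ^ 2 := by rw [he, mul_one]
  rwa [show K * ((w + -(ε * δ) * c) * (w + 2 * -(ε * δ) * c)) =
    K * ((δ * c - ε * w) * (2 * δ * c - ε * w)) by linear_combination (2 * K * c ^ 2) * hd - K * w ^ 2 * he]

/-- Which factor takes the prime power. -/
theorem dvd_cases {p i : ℕ} (hp : p.Prime) {K w c η : ℤ} (hη : η = 1 ∨ η = -1)
    (hc : ¬ (p : ℤ) ∣ c) (h : ((p ^ i : ℕ) : ℤ) ∣ K * ((w + η * c) * (w + 2 * η * c))) :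
    ((p ^ i : ℕ) : ℤ) ∣ K * (w + η * c) ∨ ((p ^ i : ℕ) : ℤ) ∣ K * (w + 2 * η * c) := by
  have hpZ : Prime (p : ℤ) := Nat.prime_iff_prime_int.1 hp
  rw [Nat.cast_pow] at h ⊢
  by_cases h1 : (p : ℤ) ∣ w + η * c
  · refine Or.inl ?_
    have h2 : ¬ (p : ℤ) ∣ w + 2 * η * c := fun h2 => hc (by
      have := dvd_sub h2 h1
      rw [show w + 2 * η * c - (w + η * c) = η * c by ring] at this
      rcases hη with rfl | rfl
      · simpa using this
      · simpa using this)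
    rw [← mul_assoc] at h
    exact hpZ.pow_dvd_of_dvd_mul_right i h2 h
  · refine Or.inr ?_
    rw [mul_comm (w + η * c), ← mul_assoc] at h
    exact hpZ.pow_dvd_of_dvd_mul_right i h1 h

namespace Leaf

variable (h : Leaf q k d l n m T X x D)
include h

/-- `l` divides `K (w + η c) (w + 2 η c)` when `c X = L w`. -/
theorem exists_eval {kap w c : ℕ} (hc : c * X = 2 ^ k * d * w) (hDiv : l ∣ kap * m ^ 2 * x * D) :
    ∃ ε δ η : ℤ, (ε = 1 ∨ ε = -1) ∧ (η = 1 ∨ η = -1) ∧ η = -(ε * δ) ∧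
      (l : ℤ) = (2 ^ k * d : ℕ) + ε ∧ (x : ℤ) = X + δ ∧ (D : ℤ) = X + 2 * δ ∧
      (l : ℤ) ∣ (kap * m ^ 2 : ℕ) * (((w : ℤ) + η * c) * (w + 2 * η * c)) := by
  obtain ⟨ε, δ, hε, hδ, e1, e2, e3⟩ := h.exists_signs
  refine ⟨ε, δ, -(ε * δ), hε, by rcases hε with rfl | rfl <;> rcases hδ with rfl | rfl <;> simp, rfl, e1, e2, e3, ?_⟩
  refine dvd_eval (L := ((2 ^ k * d : ℕ) : ℤ)) (X := (X : ℤ)) (xZ := x) (DZ := D) e1 hε e2 e3 ?_ ?_
  · exact_mod_cast hc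
  · rw [mul_assoc (kap * m ^ 2) x D] at hDiv
    exact_mod_cast hDiv

omit h in
/-- A prime power dividing `K (w + η c) (w + 2 η c)` with `p ∤ K c` divides one factor, so is at most `w + 2 c`. -/
theorem le_of_coprime {p i K w c : ℕ} {η : ℤ} (hp : p.Prime) (hl : l = p ^ i)
    (hη : η = 1 ∨ η = -1) (hK : ¬ p ∣ K) (hc : ¬ p ∣ c) (hw1 : w ≠ c) (hw2 : w ≠ 2 * c)
    (hdiv : (l : ℤ) ∣ (K : ℤ) * (((w : ℤ) + η * c) * (w + 2 * η * c))) : l ≤ w + 2 * c := by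
  subst hl
  have hco : IsCoprime ((p ^ i : ℕ) : ℤ) (K : ℤ) :=
    Nat.isCoprime_iff_coprime.2 ((hp.coprime_iff_not_dvd.2 hK).pow_left i)
  rcases dvd_cases hp hη (by exact_mod_cast hc) hdiv with hd | hd
  · have hd' := Int.natCast_dvd.1 (hco.dvd_of_dvd_mul_left hd)
    refine (Nat.le_of_dvd (Int.natAbs_pos.2 ?_) hd').trans ?_
    all_goals rcases hη with rfl | rfl <;> omega
  · have hd' := Int.natCast_dvd.1 (hco.dvd_of_dvd_mul_left hd)
    refine (Nat.le_of_dvd (Int.natAbs_pos.2 ?_) hd').trans ?_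
    all_goals rcases hη with rfl | rfl <;> omega

omit h in
/-- If `p` divides `K` and `w` then it divides neither `w ± 1` nor `w ± 2`, so `l` divides `K`. -/
theorem dvd_of_dvd_w {p i K w : ℕ} {η : ℤ} (hp : p.Prime) (hp2 : p ≠ 2) (hl : l = p ^ i)
    (hη : η = 1 ∨ η = -1) (hpw : p ∣ w)
    (hdiv : (l : ℤ) ∣ (K : ℤ) * (((w : ℤ) + η * (1 : ℕ)) * (w + 2 * η * (1 : ℕ)))) : l ∣ K := by
  have hpZ : Prime (p : ℤ) := Nat.prime_iff_prime_int.1 hp
  have key : ∀ r : ℤ, r = η ∨ r = 2 * η → ¬ (p : ℤ) ∣ (w : ℤ) + r := fun r hr hd => by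
    have hd' := (dvd_add_right (Int.natCast_dvd_natCast.2 hpw)).1 hd
    have hle2 := Nat.le_of_dvd
      (Int.natAbs_pos.2 (by rcases hr with rfl | rfl <;> rcases hη with rfl | rfl <;> omega))
      (Int.natCast_dvd.1 hd')
    have := hp.two_le
    rcases hr with rfl | rfl <;> rcases hη with rfl | rfl <;> omega
  rw [← Int.natCast_dvd_natCast]
  rw [hl, Nat.cast_pow] at hdiv ⊢
  refine hpZ.pow_dvd_of_dvd_mul_right i ?_ hdiv
  rw [Nat.cast_one, mul_one, mul_one]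
  exact fun hd => (hpZ.dvd_mul.1 hd).elim (key _ (Or.inl rfl)) (key _ (Or.inr rfl))

end Leaf

end Cfsg.Agent.Invol.GW.Dihedral.Arith
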