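import Cfsg.Agent.Lib.Invol.GW.Dihedral.ArithBasic

/-!
# Gorenstein–Walter, dihedral, maximal centraliser: leaf C (`k + 1 = n`, `a ≠ a₁` allowed)

`a = e d`, `a₁ = G d` with `q ∣ G < 3 e`, so `G = q`.  The semisimple case uses the special pair inequality.
-/

set_option autoImplicit false

namespace Cfsg.Agent.Invol.GW.Dihedral.Arith

variable {q k d l n m T X x D : ℕ}

/-- An odd proper option `e ∣ q ± 1` has `2 e ≤ q + 1`. -/
theorem two_mul_le_of_dvd {q e : ℕ} (hq : Odd q) (hq3 : 3 ≤ q) (he : Odd e) (hd : e ∣ q - 1 ∨ e ∣ q + 1) :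
    2 * e ≤ q + 1 := by
  obtain ⟨i, hi⟩ := hq
  have h2 : e.Coprime 2 := Nat.coprime_two_right.2 he
  rcases hd with hd | hd
  · have := Nat.le_of_dvd (by omega) (h2.mul_dvd_of_dvd_of_dvd hd ⟨i, by omega⟩)
    omega
  · have := Nat.le_of_dvd (by omega) (h2.mul_dvd_of_dvd_of_dvd hd ⟨i + 1, by omega⟩)
    omega

theorem Leaf.false_LC (h : Leaf q k d l n m T X x D) {e G a a1 : ℕ} (hkn : k + 1 = n) (he : Odd e)
    (hG : Odd G) (hqG : q ∣ G) (heq : e = q ∨ (3 ≤ e ∧ (e ∣ q - 1 ∨ e ∣ q + 1))) (ha : a = e * d)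
    (ha1 : a1 = G * d) (hT : a + a1 = 2 * m * T) (hG3 : G < 3 * e)
    (hSP : ((a1 : ℤ) - a) ^ 2 * (X : ℤ) ^ 2 * ((l : ℤ) - 1) ≤
      ((a : ℤ) + a1) ^ 2 * x * (4 * ((l : ℤ) - 1) + 2 * D))
    (hDiv : l ∣ e * m ^ 2 * x * D) : False := by
  have hq := h.q_ge
  obtain ⟨qi, hqi⟩ := h.q_odd
  have heq' : e = q ∨ (3 ≤ e ∧ 2 * e ≤ q + 1) := heq.imp id fun ⟨a, b⟩ => ⟨a, two_mul_le_of_dvd h.q_odd hq he b⟩
  have heq2 : e ≤ q := by omega
  obtain ⟨g, rfl⟩ := hqG
  obtain rfl : g = 1 := by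
    have hgo : Odd g := hG.of_dvd_nat (dvd_mul_left g q)
    obtain ⟨z, hz⟩ := hgo
    have : g < 3 := Nat.lt_of_mul_lt_mul_left (show q * g < q * 3 by omega)
    omega
  simp only [mul_one] at *
  subst ha ha1
  have hXm : X * m = 2 ^ k * d * (e + q) := by
    rw [h.hX, ← hkn, pow_succ]
    linarith [congrArg (fun z => 2 ^ k * z) hT]
  have hqT : q ∣ T * m := by
    refine (Nat.Prime.dvd_mul h.q_prime).1 (show q ∣ 2 * (T * m) from ?_) |>.resolve_left fun h2 => ?_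
    · rw [show 2 * (T * m) = e * d + q * d by linarith]
      exact dvd_add (h.q_dvd.mul_left e) (h.q_dvd.mul_left q)
    · have := Nat.le_of_dvd two_pos h2
      omega
  have hb := h.bound
  have hle := h.le_l
  have hL4 := h.four_le
  obtain ⟨p, u, hp, hp2, -, hl, hpL⟩ := h.exists_prime
  have hpd : ∀ z : ℕ, z ∣ 2 ^ k * d → ¬ p ∣ z := fun z hz hd => hpL (hd.trans hz)
  rcases h.m_cases hqT with rfl | hm
  swap
  · by_cases hq5 : 5 ≤ q
    · generalize 2 ^ k * d = L at hXm hb hL4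
      zify at hXm hm hL4 hq5 heq2
      have h3 := mul_le_mul_of_nonneg_left hb (show (0 : ℤ) ≤ m by omega)
      have h4 := mul_le_mul_of_nonneg_left heq2 (show (0 : ℤ) ≤ 2 * L by omega)
      have h6 : (4 : ℤ) * L - 2 * q ≤ (q - 1) * L - 2 * q := by
        have := mul_le_mul_of_nonneg_right (show (4 : ℤ) ≤ q - 1 by omega) (show (0 : ℤ) ≤ L by omega)
        linarith
      have h7 := mul_le_mul (show (2 : ℤ) * q - 1 ≤ m by omega) h6 (by omega) (by omega)
      nlinarith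
    · obtain rfl : q = 3 := by omega
      obtain rfl : e = 3 := by omega
      have hmd : m ∣ d := by
        refine (Nat.Coprime.dvd_of_dvd_mul_left (k := m) (m := 3) (n := d) ?_ ⟨T, by linarith⟩)
        exact (Nat.prime_three.coprime_iff_not_dvd.2 h.q_not_dvd).symm
      have h3m : 3 * m ∣ d :=
        Nat.Coprime.mul_dvd_of_dvd_of_dvd (Nat.prime_three.coprime_iff_not_dvd.2 h.q_not_dvd) h.q_dvd hmd
      have hL12 : 12 * m ≤ 2 ^ k * d := by
        refine le_trans ?_ (Nat.mul_le_mul (Nat.pow_le_pow_right two_pos h.two_le_k) (Nat.le_of_dvd h.d_odd.pos h3m))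
        omega
      obtain ⟨mi, hmi⟩ := h.m_odd
      have hm7 : m < 7 := by
        by_contra hc
        generalize 2 ^ k * d = L at hXm hb hL12
        zify at hXm hL12
        have h3 := mul_le_mul_of_nonneg_left hb (show (0 : ℤ) ≤ m by omega)
        have h7 := mul_le_mul_of_nonneg_right (show (7 : ℤ) ≤ m by omega)
          (show (0 : ℤ) ≤ 2 * L - 6 by omega)
        push_cast at h3
        linarith
      obtain rfl : m = 5 := by omega
      have h15 : ¬ p ∣ 3 * 5 ^ 2 := fun hd => by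
        rcases (Nat.Prime.dvd_mul hp).1 hd with hd | hd
        · exact hpd 3 (Dvd.dvd.mul_left ((dvd_mul_right 3 5).trans h3m) _) hd
        · exact hpd 5 (Dvd.dvd.mul_left ((dvd_mul_left 5 3).trans h3m) _) (hp.dvd_of_dvd_pow hd)
      obtain ⟨ε, δ, η, -, hη, -, -, -, -, hdiv⟩ :=
        h.exists_eval (w := 6) (c := 5) (by rw [mul_comm]; exact hXm.trans (by ring)) hDiv
      have hco : IsCoprime (l : ℤ) ((3 * 5 ^ 2 : ℕ) : ℤ) := by
        rw [hl]
        exact Nat.isCoprime_iff_coprime.2 ((hp.coprime_iff_not_dvd.2 h15).pow_left u)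
      have hd := hco.dvd_of_dvd_mul_left hdiv
      have h16 : l.Coprime 16 := by
        rw [hl, show 16 = 2 ^ 4 from rfl]
        exact (((Nat.coprime_primes hp Nat.prime_two).2 hp2).pow_left u).pow_right 4
      rcases hη with rfl | rfl <;> norm_num at hd
      · have h176 : l ∣ 16 * 11 := by exact_mod_cast hd
        have := Nat.le_of_dvd (by norm_num) (h16.dvd_of_dvd_mul_left h176)
        omega
      · have := Nat.le_of_dvd (by norm_num) (show l ∣ 4 by exact_mod_cast hd)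
        omega
  rw [mul_one] at hXm
  obtain ⟨ε, δ, η, hε, hη, -, hel, hex, heD, hdiv⟩ :=
    h.exists_eval (w := e + q) (c := 1) (by rw [one_mul, hXm]) hDiv
  rw [one_pow, mul_one] at hdiv
  rcases heq' with rfl | ⟨he3, he2⟩
  · -- `e = q`
    have := Leaf.le_of_coprime hp hl hη (fun hd => hpd _ (Dvd.dvd.mul_left h.q_dvd _) hd) hp.not_dvd_one
      (by omega) (by omega) hdiv
    omega
  -- semisimple
  by_cases hq5 : q = 5
  · subst hq5
    obtain rfl : e = 3 := by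
      obtain ⟨z, hz⟩ := he
      omega
    obtain ⟨dd, rfl⟩ := h.q_dvd
    have h20 : 20 ∣ 2 ^ k * (5 * dd) :=
      mul_dvd_mul (pow_dvd_pow 2 h.two_le_k) (dvd_mul_right 5 dd)
    have hl21 : l ≠ 21 := fun hh => by
      have e3 := (Nat.prime_dvd_prime_iff_eq Nat.prime_three hp).1
        (Nat.prime_three.dvd_of_dvd_pow (hl ▸ hh ▸ (by norm_num) : 3 ∣ p ^ u))
      have e7 := (Nat.prime_dvd_prime_iff_eq (by norm_num : Nat.Prime 7) hp).1
        ((by norm_num : Nat.Prime 7).dvd_of_dvd_pow (hl ▸ hh ▸ (by norm_num) : 7 ∣ p ^ u))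
      omega
    have key : l ∈ Nat.divisors 270 ∨ l ∈ Nat.divisors 126 := by
      rcases hη with rfl | rfl <;> norm_num at hdiv
      · exact Or.inl (Nat.mem_divisors.2 ⟨by exact_mod_cast hdiv, by norm_num⟩)
      · exact Or.inr (Nat.mem_divisors.2 ⟨by exact_mod_cast hdiv, by norm_num⟩)
    obtain ⟨z, hz⟩ := h20
    have hmem : l ∈ ({1, 2, 3, 5, 6, 7, 9, 10, 14, 15, 18, 21, 27, 30, 42, 45, 54, 63, 90, 126, 135, 270} : Finset ℕ) := by
      have e1 : Nat.divisors 270 ⊆ ({1, 2, 3, 5, 6, 7, 9, 10, 14, 15, 18, 21, 27, 30, 42, 45, 54, 63, 90, 126, 135, 270} : Finset ℕ) := by decide +kernel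
      have e2 : Nat.divisors 126 ⊆ ({1, 2, 3, 5, 6, 7, 9, 10, 14, 15, 18, 21, 27, 30, 42, 45, 54, 63, 90, 126, 135, 270} : Finset ℕ) := by decide +kernel
      exact key.elim (fun hh => e1 hh) (fun hh => e2 hh)
    simp only [Finset.mem_insert, Finset.mem_singleton] at hmem
    rcases h.hl with e1 | e1 <;> omega
  have hq7 : 7 ≤ q := by omega
  have hdd : (0 : ℤ) < d := by exact_mod_cast h.d_odd.pos
  generalize hLe : 2 ^ k * d = L at hXm hL4 hel hle
  have hlz : (L : ℤ) - 2 ≤ (l : ℤ) - 1 := by omega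
  have hxb : (x : ℤ) ≤ X + 2 ∧ (D : ℤ) ≤ X + 2 := by
    rcases h.hx with ⟨a, b⟩ | ⟨a, b⟩ <;> omega
  zify at hXm hL4 heq2
  push_cast at hSP
  have hSP' : ((q : ℤ) - e) ^ 2 * (L : ℤ) ^ 2 * ((l : ℤ) - 1) ≤ (x : ℤ) * (4 * ((l : ℤ) - 1) + 2 * D) := by
    have hpos : (0 : ℤ) < ((e : ℤ) + q) ^ 2 * d ^ 2 := by positivity
    refine le_of_mul_le_mul_left ?_ hpos
    rw [hXm] at hSP
    linarith
  have hs0 : (0 : ℤ) ≤ (q : ℤ) - e := by linarith
  have hcase : ((q : ℤ) - e = 4 ∧ (e : ℤ) + q = 10) ∨ (5 ≤ (q : ℤ) - e ∧ 2 * ((e : ℤ) + q) ≤ 7 * ((q : ℤ) - e) ∧ 44 ≤ (L : ℤ)) := by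
    obtain ⟨z, hz⟩ := he
    by_cases hq7' : q = 7
    · left
      omega
    · right
      have : q ≠ 9 := fun h9 => absurd (h9 ▸ h.q_prime) (by norm_num)
      omega
  rcases hcase with ⟨hs, hw⟩ | ⟨hs, hw, hL44⟩
  · rw [hs] at hSP'
    rw [hw] at hXm
    have hX11 : (x : ℤ) ≤ 11 * L ∧ (D : ℤ) ≤ 11 * L := by omega
    have h1 := mul_le_mul_of_nonneg_right hlz (show (0 : ℤ) ≤ 16 * L ^ 2 - 44 * L by nlinarith)
    have h2 := mul_le_mul hX11.1 hX11.2 (Int.natCast_nonneg _) (by omega)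
    have h3 := mul_le_mul_of_nonneg_right hX11.1 (show (0 : ℤ) ≤ (l : ℤ) - 1 by omega)
    have hL28 : (28 : ℤ) ≤ L := by omega
    nlinarith
  · generalize (q : ℤ) - e = s at hs hw hSP' hs0
    generalize (e : ℤ) + q = w at hw hXm
    have hLs : 5 * (44 : ℤ) ≤ L * s := by nlinarith
    have hX4 : (x : ℤ) ≤ 4 * L * s ∧ (D : ℤ) ≤ 4 * L * s := by
      have h1 := mul_le_mul_of_nonneg_left hw (show (0 : ℤ) ≤ L by omega)
      constructor <;> linarith [hxb.1, hxb.2]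
    have hpos : (0 : ℤ) ≤ (L * s) * (L * s - 16) := mul_nonneg (by linarith) (by linarith)
    have h1 := mul_le_mul_of_nonneg_right hlz hpos
    have h2 := mul_le_mul hX4.1 hX4.2 (Int.natCast_nonneg _) (by linarith)
    have h3 := mul_le_mul_of_nonneg_right hX4.1 (show (0 : ℤ) ≤ (l : ℤ) - 1 by omega)
    have h4 := mul_le_mul_of_nonneg_right (show (42 : ℤ) ≤ L - 2 by omega) hpos
    nlinarith

end Cfsg.Agent.Invol.GW.Dihedral.Arith
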