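import Cfsg.Agent.Lib.Invol.GW.Dihedral.ArithC

/-!
# Gorenstein–Walter, dihedral, maximal centraliser: leaf D (the bad prime `3`)

`n = 3`, `k = 2`, `d = π dm` with `π = 3 ^ i`, `a = G dm`, `a₁ = e d`, so `π X = L (G + e π)` when `m = 1`.
-/

set_option autoImplicit false

namespace Cfsg.Agent.Invol.GW.Dihedral.Arith

/-- The numerical end: `l ≥ 4 π g q - 1` against `2 l ≤ B (g q + e π + 2 π)`. -/
theorem false_LD_num {q e g P l B : ℤ} (hq : 5 ≤ q) (hP : P = 3 ∨ 9 ≤ P) (hg : 1 ≤ g) (hgo : g % 2 = 1)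
    (he : 5 ≤ e) (heo : e % 2 = 1) (he2 : 2 * e ≤ q + 1) (h2 : e * P < 2 * (g * q)) (h3 : g * q < 3 * (e * P))
    (hl : 4 * P * (g * q) ≤ l + 1) (hB0 : 0 ≤ B) (hB : 2 * l ≤ B * (g * q + e * P + 2 * P))
    (hB1 : B ≤ g + 2 * P) (hB2 : B ≤ g + P ∨ B ≤ e) : False := by
  have hP3 : 3 ≤ P := by omega
  have hS : 2 * (e * P) ≤ (q + 1) * P := by
    have := mul_le_mul_of_nonneg_right he2 (show (0 : ℤ) ≤ P by omega)
    linarith
  have hS0 : 5 * P ≤ e * P := mul_le_mul_of_nonneg_right he (by omega)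
  have hgP : g < 2 * P := by
    by_contra hc
    have := mul_le_mul_of_nonneg_right (not_lt.1 hc) (show (0 : ℤ) ≤ q by omega)
    nlinarith
  have hgq0 : q ≤ g * q := le_mul_of_one_le_left (by omega) hg
  by_cases hg2 : P ≤ 2 * g
  · -- `2 g ≥ π`
    have h5 : B * (g * q + e * P + 2 * P) ≤ (g + 2 * P) * (g * q + e * P + 2 * P) :=
      mul_le_mul_of_nonneg_right hB1 (by linarith)
    have h6 := mul_le_mul_of_nonneg_left hS (show (0 : ℤ) ≤ g + 2 * P by omega)
    have h7 := mul_nonneg (mul_nonneg (show (0 : ℤ) ≤ 2 * g - P by omega) (show (0 : ℤ) ≤ 2 * P - g by omega))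
      (show (0 : ℤ) ≤ q by omega)
    have h8 := mul_le_mul_of_nonneg_left hq (show (0 : ℤ) ≤ P * g by positivity)
    have h9 := mul_le_mul_of_nonneg_left hg2 (show (0 : ℤ) ≤ P by omega)
    nlinarith
  have hg2' : 2 * g + 1 ≤ P := by omega
  have hsum : g * q + e * P + 2 * P ≤ 3 * (g * q) + 2 * P := by linarith
  by_cases hB3 : B ≤ g + P
  · have h5 := mul_le_mul hB3 hsum (by linarith) (by omega)
    have h6 := mul_le_mul_of_nonneg_right (show 2 * (g + P) ≤ 3 * P by omega)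
      (show (0 : ℤ) ≤ 3 * (g * q) + 2 * P by linarith)
    have h7 := mul_le_mul_of_nonneg_left (show 5 * P ≤ 2 * (g * q) by linarith) (show (0 : ℤ) ≤ P by omega)
    nlinarith
  have hBe := hB2.resolve_left hB3
  by_cases he8 : 3 * e + 5 ≤ 8 * P
  · have h5 := mul_le_mul hBe hsum (by linarith) (by omega)
    have h6 := mul_le_mul_of_nonneg_left (show 3 * e + 5 ≤ 8 * P from he8) (show (0 : ℤ) ≤ g * q by linarith)
    linarith
  rcases hP with rfl | hP9
  · obtain rfl : g = 1 := by omega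
    have hq13 : 13 ≤ q := by omega
    have h5 := mul_le_mul_of_nonneg_right (show B ≤ 7 by omega) (show (0 : ℤ) ≤ 1 * q + e * 3 + 2 * 3 by omega)
    omega
  have h5 := mul_le_mul hB1 hsum (by linarith) (by omega)
  have h6 := mul_nonneg (mul_nonneg (show (0 : ℤ) ≤ g - 1 by omega) (show (0 : ℤ) ≤ 2 * P - 3 - 3 * g by omega))
    (show (0 : ℤ) ≤ q by omega)
  have h7 := mul_le_mul_of_nonneg_right (show 16 * P - 11 ≤ 3 * q by omega) (show (0 : ℤ) ≤ 2 * P - 3 by omega)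
  have h8 := mul_le_mul_of_nonneg_left hg2' (show (0 : ℤ) ≤ P by omega)
  have h9 := mul_le_mul_of_nonneg_left hP9 (show (0 : ℤ) ≤ P by omega)
  nlinarith

variable {q d l m T X x D : ℕ}

theorem Leaf.false_LD (h : Leaf q 2 d l 3 m T X x D) {i dm e G a a1 : ℕ} (hq5 : 5 ≤ q) (hi : 1 ≤ i)
    (hd : d = 3 ^ i * dm) (h3dm : ¬ 3 ∣ dm) (hqdm : q ∣ dm) (hG : Odd G) (hqG : q ∣ G) (hGdm : G ∣ dm)
    (he : Odd e) (heq : e = q ∨ (3 ≤ e ∧ (e ∣ q - 1 ∨ e ∣ q + 1))) (ha : a = G * dm) (ha1 : a1 = e * d)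
    (hT : a + a1 = 2 * m * T) (hG3 : G < 3 * e * 3 ^ i) (hG3' : e * 3 ^ i < 3 * G)
    (hSP : ((a1 : ℤ) - a) ^ 2 * (X : ℤ) ^ 2 * ((l : ℤ) - 1) ≤
      ((a : ℤ) + a1) ^ 2 * x * (4 * ((l : ℤ) - 1) + 2 * D))
    (hDiv : l ∣ e * m ^ 2 * x * D) : False := by
  subst ha ha1 hd
  obtain ⟨qi, hqi⟩ := h.q_odd
  have hP3 : 3 ∣ 3 ^ i := dvd_pow_self 3 (by omega)
  have hP : 3 ≤ 3 ^ i := Nat.le_of_dvd (by positivity) hP3
  have hP' : 3 ^ i = 3 ∨ 9 ≤ 3 ^ i := by
    rcases Nat.eq_or_lt_of_le hi with e1 | e1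
    · exact Or.inl (by rw [← e1, pow_one])
    · exact Or.inr (le_trans (by norm_num) (Nat.pow_le_pow_right (by norm_num : 0 < 3) e1))
  have hPo : Odd (3 ^ i) := Odd.pow (by decide)
  have heq' : e = q ∨ (3 ≤ e ∧ 2 * e ≤ q + 1) :=
    heq.imp id fun ⟨a, b⟩ => ⟨a, two_mul_le_of_dvd h.q_odd (by omega) he b⟩
  have heq2 : e ≤ q := by omega
  generalize hPe : 3 ^ i = P at *
  have hdm : dm ≠ 0 := fun hz => h3dm (hz ▸ dvd_zero 3)
  have hqdm' := Nat.le_of_dvd (Nat.pos_of_ne_zero hdm) hqdm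
  have hGle := Nat.le_of_dvd (Nat.pos_of_ne_zero hdm) hGdm
  have hqGle := Nat.le_of_dvd hG.pos hqG
  have h3G : ¬ 3 ∣ G := fun hh => h3dm (hh.trans hGdm)
  have h2Tm : 2 * (T * m) = dm * (G + e * P) := by linarith
  have hXm : X * m = 4 * (dm * (G + e * P)) := by
    rw [h.hX, ← h2Tm]
    ring
  have hL : 2 ^ 2 * (P * dm) = 4 * (P * dm) := rfl
  have hqT : q ∣ T * m := by
    refine (h.q_prime.dvd_mul.1 (h2Tm ▸ hqdm.mul_right _ : q ∣ 2 * (T * m))).resolve_left fun h2 => ?_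
    have := Nat.le_of_dvd two_pos h2
    omega
  have h3m : ¬ 3 ∣ m := fun hh => by
    have h1 : 3 ∣ dm * (G + e * P) := h2Tm ▸ (hh.mul_left T).mul_left 2
    rcases Nat.prime_three.dvd_mul.1 h1 with h1 | h1
    · exact h3dm h1
    · exact h3G ((Nat.dvd_add_left (hP3.mul_left e)).1 h1)
  have hb := h.bound
  have hle := h.le_l
  rw [hL] at hb hle
  obtain ⟨p, u, hp, hp2, -, hl, hpL⟩ := h.exists_prime
  rcases h.m_cases hqT with rfl | hm
  swap
  · -- `m ≥ 2 q - 1`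
    have hm11 : 7 ≤ q ∨ (q = 5 ∧ 11 ≤ m) := by
      obtain ⟨mi, hmi⟩ := h.m_odd
      rcases lt_or_ge q 7 with hq7 | hq7
      · have hm9 : m ≠ 9 := fun h9 => h3m (h9 ▸ ⟨3, rfl⟩)
        omega
      · exact Or.inl hq7
    have hLq : 12 * q ≤ 4 * (P * dm) := by nlinarith
    have hGS : dm * (G + e * P) ≤ 4 * (q * (P * dm)) := by
      have h1 : G + e * P ≤ 4 * (q * P) := by nlinarith
      calc dm * (G + e * P) ≤ dm * (4 * (q * P)) := Nat.mul_le_mul_left _ h1
        _ = _ := by ring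
    generalize dm * (G + e * P) = W at hXm hGS
    generalize P * dm = L at hb hLq hGS
    zify at hXm hm hLq hGS hq5
    push_cast at hb
    have hm0 : (0 : ℤ) ≤ m := Int.natCast_nonneg _
    have h3 := mul_le_mul_of_nonneg_left hb hm0
    rcases hm11 with hq7 | ⟨rfl, hm11⟩
    · have h6 : (6 : ℤ) * (4 * L) - 2 * q ≤ (q - 1) * (4 * L) - 2 * q := by
        have := mul_le_mul_of_nonneg_right (show (6 : ℤ) ≤ q - 1 by omega) (show (0 : ℤ) ≤ 4 * L by omega)
        linarith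
      have h7 := mul_le_mul (show (2 : ℤ) * q - 1 ≤ m by omega) h6 (by omega) hm0
      have h8 := mul_le_mul_of_nonneg_right hLq (show (0 : ℤ) ≤ 4 * q - 6 by omega)
      have h9 := mul_le_mul_of_nonneg_left (show (7 : ℤ) ≤ q by omega) (show (0 : ℤ) ≤ q by omega)
      linarith
    · push_cast at h3 hLq hGS
      have h7 := mul_le_mul_of_nonneg_right (show (11 : ℤ) ≤ m by omega) (show (0 : ℤ) ≤ 16 * L - 10 by omega)
      linarith
  rw [mul_one] at hXm
  have hc : P * X = 2 ^ 2 * (P * dm) * (G + e * P) := by rw [hXm]; ring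
  by_cases h2G : 2 * G ≤ e * P
  · -- special pair inequality
    have hu : 25 ≤ dm * G := le_trans (by norm_num) (Nat.mul_le_mul (hq5.trans hqdm') (hq5.trans hqGle))
    have hlz : (58 : ℤ) ≤ (l : ℤ) - 1 := by
      have : 15 ≤ P * dm := le_trans (by norm_num) (Nat.mul_le_mul hP (hq5.trans hqdm'))
      omega
    have hX16 : X + 2 ≤ 17 * (dm * G) := by
      rw [hXm]
      have := Nat.mul_le_mul_left dm (show G + e * P ≤ 4 * G by omega)
      linarith
    have hxb : (x : ℤ) ≤ X + 2 ∧ (D : ℤ) ≤ X + 2 := by rcases h.hx with ⟨a, b⟩ | ⟨a, b⟩ <;> omega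
    have hmain : 16 * (dm : ℤ) ^ 2 * ((e : ℤ) * P - G) ^ 2 * ((l : ℤ) - 1) ≤ x * (4 * ((l : ℤ) - 1) + 2 * D) := by
      have hpos : (0 : ℤ) < (dm : ℤ) ^ 2 * ((G : ℤ) + e * P) ^ 2 := by
        have : (0 : ℤ) < dm := by omega
        have : (0 : ℤ) < (G : ℤ) + e * P := by exact_mod_cast Nat.add_pos_left hG.pos _
        positivity
      refine le_of_mul_le_mul_left ?_ hpos
      zify at hXm
      push_cast at hSP
      rw [hXm] at hSP
      linarith
    zify at h2G hu hX16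
    have h4 : ((dm : ℤ) * G) ^ 2 ≤ (dm : ℤ) ^ 2 * ((e : ℤ) * P - G) ^ 2 := by
      rw [mul_pow]
      exact mul_le_mul_of_nonneg_left (pow_le_pow_left₀ (Int.natCast_nonneg G) (by linarith) 2) (sq_nonneg _)
    generalize (dm : ℤ) * G = v at hu hX16 h4
    have h5 := mul_le_mul_of_nonneg_right h4 (show (0 : ℤ) ≤ (l : ℤ) - 1 by omega)
    have h6 := mul_le_mul (hxb.1.trans hX16) (hxb.2.trans hX16) (Int.natCast_nonneg _) (by omega)
    have h7 := mul_le_mul_of_nonneg_right (hxb.1.trans hX16) (show (0 : ℤ) ≤ (l : ℤ) - 1 by omega)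
    have h8 := mul_le_mul_of_nonneg_right hlz (mul_nonneg (show (0 : ℤ) ≤ v by omega) (show (0 : ℤ) ≤ 16 * v - 68 by omega))
    have h9 := mul_le_mul_of_nonneg_right hu (show (0 : ℤ) ≤ v by omega)
    linarith
  push Not at h2G
  obtain ⟨ε, δ, η, -, hη, -, -, -, -, hdiv⟩ := h.exists_eval (w := G + e * P) (c := P) hc hDiv
  rw [one_pow, mul_one] at hdiv
  have hdvdL : ∀ z, z ∣ dm → ¬ p ∣ z := fun z hz hh =>
    hpL ((hh.trans hz).trans ((dvd_mul_left dm P).mul_left _))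
  have hpP : ¬ p ∣ P := fun hh => hpL (hh.trans ((dvd_mul_right P dm).mul_left _))
  have hpq := hdvdL q hqdm
  have h4PG : 4 * (P * G) ≤ l + 1 := (Nat.mul_le_mul_left 4 (Nat.mul_le_mul_left P hGle)).trans hle
  have h3e : 3 * P ≤ e * P := Nat.mul_le_mul_right P (by omega)
  have hPG5 : 5 * P ≤ P * G := by
    rw [mul_comm 5 P]
    exact Nat.mul_le_mul_left P (hq5.trans hqGle)
  have hPG3 : 3 * G ≤ P * G := Nat.mul_le_mul_right G hP
  by_cases hpe : ¬ p ∣ e
  · have := Leaf.le_of_coprime hp hl hη hpe hpP (by omega) (by omega) hdiv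
    omega
  rw [not_not] at hpe
  obtain ⟨he3, he2⟩ : 3 ≤ e ∧ 2 * e ≤ q + 1 := heq'.resolve_left fun hh => hpq (hh ▸ hpe)
  have he5 : 5 ≤ e := by
    obtain ⟨z, hz⟩ := he
    by_contra hc5
    obtain rfl : e = 3 := by omega
    exact hpP (hpe.trans hP3)
  obtain ⟨σ, hσ, hσe⟩ : ∃ σ : ℤ, (σ = 1 ∨ σ = -1) ∧ (e : ℤ) ∣ (q : ℤ) - σ := by
    rcases (heq.resolve_left fun hh => hpq (hh ▸ hpe)).2 with hh | hh
    · refine ⟨1, Or.inl rfl, ?_⟩
      have := Int.natCast_dvd_natCast.2 hh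
      rwa [Nat.cast_sub (by omega), Nat.cast_one] at this
    · refine ⟨-1, Or.inr rfl, ?_⟩
      have := Int.natCast_dvd_natCast.2 hh
      rw [Nat.cast_add, Nat.cast_one] at this
      rwa [sub_neg_eq_add]
  obtain ⟨g, rfl⟩ := hqG
  have hgo : Odd g := hG.of_dvd_nat (dvd_mul_left g q)
  have h3g : ¬ 3 ∣ g := fun hh => h3G (hh.mul_left q)
  obtain ⟨r, hr, hd⟩ : ∃ r : ℕ, (r = 1 ∨ r = 2) ∧
      (l : ℤ) ∣ (e : ℤ) * (((q * g + e * P : ℕ) : ℤ) + r * η * P) := by
    rw [hl] at hdiv ⊢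
    rcases dvd_cases hp hη (by exact_mod_cast hpP) hdiv with hh | hh
    · exact ⟨1, Or.inl rfl, by simpa using hh⟩
    · exact ⟨2, Or.inr rfl, by simpa using hh⟩
  obtain ⟨M, hM, hMle⟩ : ∃ M : ℕ, (M : ℤ) = ((q * g + e * P : ℕ) : ℤ) + r * η * P ∧
      M ≤ q * g + e * P + r * P := by
    refine ⟨(((q * g + e * P : ℕ) : ℤ) + r * η * P).toNat, ?_, ?_⟩
    · rcases hr with rfl | rfl <;> rcases hη with rfl | rfl <;> omega
    · rcases hr with rfl | rfl <;> rcases hη with rfl | rfl <;> omega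
  rw [← hM] at hd
  have hd' : p ^ u ∣ e * M := hl ▸ Int.natCast_dvd_natCast.1 (by exact_mod_cast hd)
  obtain ⟨s, t, hst, hse, hsM, hsl, htl, hte⟩ := split_dvd hp hd'
  rw [← hl] at hst hsl htl
  have hlo : Odd l := hl ▸ (hp.odd_of_ne_two hp2).pow
  -- `s` divides `σ g + r η π`
  have hsZ : (s : ℤ) ∣ σ * g + r * η * P := by
    have h1 : (s : ℤ) ∣ (M : ℤ) := Int.natCast_dvd_natCast.2 hsM
    have h2 : (s : ℤ) ∣ (g : ℤ) * ((q : ℤ) - σ) + (e : ℤ) * P :=
      dvd_add (((Int.natCast_dvd_natCast.2 hse).trans hσe).mul_left _)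
        ((Int.natCast_dvd_natCast.2 hse).mul_right _)
    have := dvd_sub h1 h2
    rwa [hM, show ((q * g + e * P : ℕ) : ℤ) + r * η * P - ((g : ℤ) * ((q : ℤ) - σ) + e * P) = σ * g + r * η * P by
      push_cast; ring] at this
  have hZ0 : σ * (g : ℤ) + r * η * P ≠ 0 := fun hz => by
    refine h3g ?_
    obtain ⟨z, hz3⟩ := hP3
    rw [← Int.natCast_dvd_natCast]
    refine ⟨-(σ * r * η * z), ?_⟩
    rw [hz3] at hz
    push_cast at hz
    rcases hσ with rfl | rfl <;> push_cast <;> linarith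
  have hZle : (σ * (g : ℤ) + r * η * P).natAbs ≤ g + r * P := by
    rcases hr with rfl | rfl <;> rcases hη with rfl | rfl <;> rcases hσ with rfl | rfl <;> omega
  have hZdvd := Int.natCast_dvd.1 hsZ
  have hZpos := Int.natAbs_pos.2 hZ0
  have heo2 : e % 2 = 1 := Nat.odd_iff.1 he
  have hgo2 : g % 2 = 1 := Nat.odd_iff.1 hgo
  have hqo2 : q % 2 = 1 := Nat.odd_iff.1 h.q_odd
  have hs2 : s.Coprime 2 := Nat.coprime_two_right.2 (hlo.of_dvd_nat hsl)
  have ht2 : t.Coprime 2 := Nat.coprime_two_right.2 (hlo.of_dvd_nat htl)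
  obtain ⟨B, hB, hB1, hB2⟩ : ∃ B : ℕ, 2 * l ≤ B * (g * q + e * P + 2 * P) ∧ B ≤ g + 2 * P ∧ (B ≤ g + P ∨ B ≤ e) := by
    rcases hr with rfl | rfl
    · -- `s` divides an even number
      have heven : 2 ∣ (σ * (g : ℤ) + (1 : ℕ) * η * P).natAbs := by
        obtain ⟨z, hz⟩ := hgo
        obtain ⟨z', hz'⟩ := hPo
        rcases hη with rfl | rfl <;> rcases hσ with rfl | rfl <;> omega
      have h2s := Nat.le_of_dvd hZpos (hs2.mul_dvd_of_dvd_of_dvd hZdvd heven)
      refine ⟨g + P, ?_, by omega, Or.inl le_rfl⟩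
      have htle : t ≤ q * g + e * P + 2 * P := by
        rcases hte with hh | hh
        · have := Nat.le_of_dvd (by omega) hh
          omega
        · rcases Nat.eq_zero_or_pos M with hM0 | hM0
          · subst hM0
            rcases hη with rfl | rfl <;> omega
          · have := Nat.le_of_dvd hM0 hh
            omega
      rw [mul_comm g q]
      calc 2 * l ≤ (s * 2) * t := by linarith
        _ ≤ _ := Nat.mul_le_mul (by omega) htle
    · have hsle := Nat.le_of_dvd hZpos hZdvd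
      refine ⟨s, ?_, by omega, Or.inr (Nat.le_of_dvd (by omega) hse)⟩
      have htle : t * 2 ≤ q * g + e * P + 2 * P := by
        rcases hte with hh | hh
        · have := Nat.le_of_dvd (by omega) hh
          omega
        · have heven : 2 ∣ M := by
            obtain ⟨z, hz⟩ := hgo
            obtain ⟨z', hz'⟩ := hPo
            have h1 : (q * g) % 2 = 1 := Nat.odd_iff.1 hG
            have h2 : (e * P) % 2 = 1 := Nat.odd_iff.1 (he.mul ⟨z', hz'⟩)
            rcases hη with rfl | rfl <;> omega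
          rcases Nat.eq_zero_or_pos M with hM0 | hM0
          · subst hM0
            rcases hη with rfl | rfl <;> omega
          · have := Nat.le_of_dvd hM0 (ht2.mul_dvd_of_dvd_of_dvd hh heven)
            omega
      rw [mul_comm g q]
      calc 2 * l ≤ s * (t * 2) := by linarith
        _ ≤ _ := Nat.mul_le_mul_left _ htle
  refine false_LD_num (q := q) (e := e) (g := g) (P := P) (l := l) (B := B) (by exact_mod_cast hq5) (by omega)
    (by have := hgo.pos; omega) (by omega) (by omega) (by omega) (by omega) ?_ ?_ ?_ (Int.natCast_nonneg _) ?_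
    (by omega) (by omega)
  · zify at h2G; linarith
  · zify at hG3; linarith
  · zify at h4PG; linarith
  · exact_mod_cast hB

end Cfsg.Agent.Invol.GW.Dihedral.Arith
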