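import Cfsg.Agent.Lib.Invol.GW.Dihedral.LocalsFusion
import Cfsg.Agent.Lib.Invol.GW.Dihedral.Leaf
import Cfsg.Agent.Lib.Invol.GW.Klein.LinearPSL
import Cfsg.Agent.Lib.Transfer.TwoByCyclic
import Cfsg.Agent.Lib.Classical.PSLBinary

/-!
# Gorenstein–Walter, dihedral case: a proper subgroup fusing a four group

Such an `L` has modulo its core a self-centralising normal subgroup `PSL₂(q)` or `A₇` (`SocleData`).  A normal
subgroup over `⟨t, τ⟩` fuses it too, unless `q = 3` and then the odd elements centralising `t` lie in the core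
(`normalFusion`).
-/

set_option autoImplicit false
set_option linter.unusedSectionVars false
set_option linter.style.haveILetI false

namespace Cfsg.Agent.Invol.GW.Dihedral

open Subgroup Klein

universe u

variable {G : Type u} [Group G]

/-- `N` is normal in `L` and maps onto `Q` with kernel the core of `L`, self-centralising modulo that core. -/
structure SocleData (L N : Subgroup G) {Q : Type} [Group Q] (π : ↥N →* Q) : Prop where
  le : N ≤ L
  normal : L ≤ normalizer (N : Set G)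
  core_le : oddOf L ≤ N
  surj : Function.Surjective π
  ker : ∀ x : ↥N, π x = 1 ↔ (x : G) ∈ oddOf L
  self : ∀ x ∈ L, (∀ y ∈ N, x * y * x⁻¹ * y⁻¹ ∈ oddOf L) → x ∈ oddOf L

/-- A group with a map of odd kernel onto a non-abelian simple group has no subgroup of index two. -/
theorem no_index_two_of_simple {M : Type u} [Group M] [Finite M] {Q : Type} [Group Q] [IsSimpleGroup Q]
    (hQ : ¬ IsMulCommutative Q) (f : M →* Q) (hf : Function.Surjective f) (hk : Odd (Nat.card ↥f.ker))
    (A : Subgroup M) (hA : A.Normal) : A.index ≠ 2 := by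
  intro h2
  have hker : f.ker ≤ A := fun k hk' => by
    obtain ⟨j, hj⟩ := Odd.of_dvd_nat hk (f.ker.orderOf_dvd_natCard hk')
    have h1 : k ^ 2 ∈ A := h2 ▸ A.pow_index_mem k
    have h3 : (k ^ 2) ^ (j + 1) = k := by
      rw [← pow_mul, show 2 * (j + 1) = orderOf k + 1 by omega, pow_succ, pow_orderOf_eq_one, one_mul]
    exact h3 ▸ pow_mem h1 _
  haveI := hA
  rcases (hA.map f hf).eq_bot_or_eq_top with e | e
  · refine hQ ⟨⟨fun x y => ?_⟩⟩
    have hA' : A = f.ker := le_antisymm ((A.map_eq_bot_iff).1 e) hker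
    have hcard : Nat.card Q = 2 := by
      rw [Nat.card_congr (QuotientGroup.quotientKerEquivOfSurjective f hf).toEquiv.symm, ← index_eq_card,
        ← hA', h2]
    haveI : Fact (Nat.Prime 2) := ⟨Nat.prime_two⟩
    haveI : IsCyclic Q := isCyclic_of_prime_card hcard
    letI : CommGroup Q := IsCyclic.commGroup
    exact mul_comm x y
  · have h1 : A = ⊤ := by
      rw [← comap_map_eq_self hker, e, comap_top]
    rw [h1, index_top] at h2
    omega

-- the search for the decidability instance is large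
set_option synthInstance.maxSize 100000 in
/-- The facts on `A₄` used below. -/
theorem alt_four_facts : ∀ a b c : alternatingGroup (Fin 4), a * a = 1 → b * b = 1 → a ≠ 1 → b ≠ 1 → a ≠ b →
    ((c * c = 1 → c = 1 ∨ c = a ∨ c = b ∨ c = a * b) ∧ (c * a = a * c → c * c = 1)) := by
  decide +kernel

namespace Hyp

variable [Finite G] {S : Sylow 2 G} {σ τ : G} {n : ℕ} (h : Hyp S σ τ n)
include h

theorem eq_one_of_mem_oddOf {L : Subgroup G} {v : G} (hv : v ∈ four (central σ n) τ) (hvO : v ∈ oddOf L) :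
    v = 1 := by
  haveI := h.isKleinFour_four
  exact eq_one_of_odd (odd_card_oddOf L) hvO (congrArg Subtype.val (IsKleinFour.mul_self (⟨v, hv⟩ : ↥(four (central σ n) τ))))

/-- An element of order three on the four group moves `t`. -/
theorem pow_notMem {g : G} (hg : g * central σ n * g⁻¹ = τ) (hg' : g * τ * g⁻¹ = central σ n * τ) {k : ℕ}
    (hk : ¬ 3 ∣ k) : g ^ k ∉ centralizer ({central σ n} : Set G) := by
  set C := centralizer ({central σ n} : Set G)
  intro hmem
  have h3 : g ^ 3 ∈ C := mem_centralizer_singleton_iff.2 (mul_inv_eq_iff_eq_mul.1 (by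
    calc g ^ 3 * central σ n * (g ^ 3)⁻¹ = g * (g * (g * central σ n * g⁻¹) * g⁻¹) * g⁻¹ := by
          simp only [pow_succ, pow_zero, one_mul, mul_inv_rev, mul_assoc]
      _ = (g * central σ n * g⁻¹) * (g * τ * g⁻¹) := by
          rw [hg, hg', show g * (central σ n * τ) * g⁻¹ = (g * central σ n * g⁻¹) * (g * τ * g⁻¹) by group, hg,
            hg']
      _ = central σ n := by
        rw [hg, hg', h.commute_central_tau.eq, ← mul_assoc, h.tau_mul_self, one_mul]))
  have h4 : ∀ j, (g ^ 3) ^ j ∈ C := fun j => pow_mem h3 j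
  have h1 : g ∈ C := by
    rcases (show k % 3 = 1 ∨ k % 3 = 2 by omega) with e | e
    · have hk' : g ^ k = (g ^ 3) ^ (k / 3) * g := by rw [← pow_mul, ← pow_succ]; congr 1; omega
      rw [hk'] at hmem
      exact (C.mul_mem_cancel_left (h4 _)).1 hmem
    · have hk' : (g ^ 3) ^ (k / 3 + 1) = g ^ k * g := by rw [← pow_mul, ← pow_succ]; congr 1; omega
      exact (C.mul_mem_cancel_left hmem).1 (hk' ▸ h4 _)
  rw [mem_centralizer_singleton_iff.1 h1, mul_inv_cancel_right] at hg
  exact h.central_ne_tau hg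

/-- A subgroup fusing `⟨t, τ⟩` is not a core extended by a 2-group, so it has a socle modulo the core. -/
theorem exists_socle {L : Subgroup G} (hL : L ≠ ⊤) (hV : four (central σ n) τ ≤ L)
    (hf : Fuses L (central σ n) τ) : ∃ N : Subgroup G,
      (∃ π : ↥N →* alternatingGroup (Fin 7), SocleData L N π) ∨
      ∃ (F : Type) (_ : Field F) (_ : Fintype F), Odd (Fintype.card F) ∧ 3 ≤ Fintype.card F ∧
        ∃ π : ↥N →* Matrix.ProjectiveSpecialLinearGroup (Fin 2) F, SocleData L N π := by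
  haveI : Fact (Nat.Prime 2) := ⟨Nat.prime_two⟩
  haveI : (Cfsg.oddCore ↥L).Normal := Grp.pPrimeCore_isNormal
  rcases h.known L hL ⟨_, hV, h.isKleinFour_four⟩ with h2 | ⟨N, hN, hON, hNc, hπ⟩
  · exfalso
    obtain ⟨g, hg, hgt, hgu⟩ := hf
    obtain ⟨k, hk⟩ := h2 (QuotientGroup.mk' _ (⟨g, hg⟩ : ↥L))
    rw [← map_pow] at hk
    have hgO : g ^ 2 ^ k ∈ oddOf L := ⟨_, (QuotientGroup.eq_one_iff _).1 hk, rfl⟩
    have htL := hV (left_mem_four _ _)
    have hcO : g ^ 2 ^ k * central σ n * (g ^ 2 ^ k)⁻¹ * (central σ n)⁻¹ ∈ oddOf L := by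
      rw [mul_assoc (g ^ 2 ^ k), mul_assoc (g ^ 2 ^ k)]
      exact mul_mem hgO (conj_mem_oddOf htL (inv_mem hgO))
    have hgN : g ∈ normalizer (four (central σ n) τ : Set G) :=
      mem_normalizer_four (hgt ▸ right_mem_four _ _) (hgu ▸ mul_mem (left_mem_four _ _) (right_mem_four _ _))
    have h1 := h.eq_one_of_mem_oddOf (mul_mem (conj_mem_of_normalizer (pow_mem hgN _) (left_mem_four _ _))
      (inv_mem (left_mem_four _ _))) hcO
    refine h.pow_notMem hgt hgu (fun h3 => ?_)
      (mem_centralizer_singleton_iff.2 (mul_inv_eq_iff_eq_mul.1 (mul_inv_eq_one.1 h1)))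
    exact absurd (Nat.prime_three.dvd_of_dvd_pow h3) (by norm_num)
  · let e := Subgroup.equivMapOfInjective N L.subtype L.subtype_injective
    have hnorm : L ≤ normalizer ((N.map L.subtype : Subgroup G) : Set G) := fun g hg => by
      refine le_normalizer_map L.subtype ⟨⟨g, hg⟩, ?_, rfl⟩
      rw [normalizer_eq_top]
      exact mem_top _
    have hself : ∀ x ∈ L, (∀ y ∈ N.map L.subtype, x * y * x⁻¹ * y⁻¹ ∈ oddOf L) → x ∈ oddOf L :=
      fun x hx hxy => ⟨⟨x, hx⟩, hNc ⟨x, hx⟩ fun y hy => by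
        obtain ⟨z, hz, hzy⟩ := hxy (y : G) ⟨y, hy, rfl⟩
        rwa [show z = (⟨x, hx⟩ : ↥L) * y * ⟨x, hx⟩⁻¹ * y⁻¹ from Subtype.ext hzy] at hz, rfl⟩
    have key : ∀ {Q : Type} [Group Q] (π : ↥N →* Q), Function.Surjective π →
        π.ker = (Cfsg.oddCore ↥L).subgroupOf N →
        SocleData L (N.map L.subtype) (π.comp e.symm.toMonoidHom) := fun {Q} _ π hπ hker =>
      ⟨map_subtype_le _, hnorm, map_mono hON, hπ.comp e.symm.surjective, fun x => by
        have hxe : (x : G) = L.subtype (e.symm x : ↥N) := congrArg Subtype.val (e.apply_symm_apply x).symm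
        rw [MonoidHom.comp_apply, ← MonoidHom.mem_ker, hker, mem_subgroupOf, oddOf, hxe,
          Subgroup.mem_map_iff_mem L.subtype_injective]
        rfl, hself⟩
    rcases hπ with ⟨π, h1, h2⟩ | ⟨F, hF, hFf, hFo, hF3, π, h1, h2⟩
    · exact ⟨_, Or.inl ⟨_, key π h1 h2⟩⟩
    · exact ⟨_, Or.inr ⟨F, hF, hFf, hFo, hF3, _, key π h1 h2⟩⟩

/-- A normal subgroup of even order contains a fused four group. -/
theorem four_le_of_fuses {L K : Subgroup G} (hV : four (central σ n) τ ≤ L) (hf : Fuses L (central σ n) τ)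
    (hKL : K ≤ L) (hn : L ≤ normalizer (K : Set G)) (h2 : 2 ∣ Nat.card ↥K) : four (central σ n) τ ≤ K := by
  haveI : Fact (Nat.Prime 2) := ⟨Nat.prime_two⟩
  obtain ⟨T, hT⟩ := (h.isPGroup_four.of_equiv (subgroupOfEquivOfLe hV).symm).exists_le_sylow
  haveI : (K.subgroupOf L).Normal := normal_subgroupOf_of_le_normalizer hn
  set M := (K.subgroupOf L).subgroupOf (T : Subgroup ↥L)
  have hM : M ≠ ⊥ := by
    intro e
    have h1 := Grp.sylow_inf_normal_relIndex T (K.subgroupOf L)
    have hb : (T : Subgroup ↥L) ⊓ K.subgroupOf L = ⊥ := by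
      rw [inf_comm]
      exact disjoint_iff.1 (subgroupOf_eq_bot.1 e)
    rw [← Subgroup.inf_relIndex_right, hb, relIndex_bot_left,
      Nat.card_congr (subgroupOfEquivOfLe hKL).toEquiv] at h1
    exact h1 h2
  obtain ⟨x, hx, hx1⟩ := (bot_or_exists_ne_one (M ⊓ center (T : Subgroup ↥L))).resolve_left
    (haveI := T.isPGroup'.isNilpotent; Grp.inf_center_ne_bot M hM)
  have hxK : ((x : ↥L) : G) ∈ K := hx.1
  have hcomm : ∀ v ∈ four (central σ n) τ, Commute ((x : ↥L) : G) v := fun v hv => by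
    have h1 := congrArg (fun z : ↥(T : Subgroup ↥L) => ((z : ↥L) : G))
      (mem_center_iff.1 hx.2 ⟨⟨v, hV hv⟩, hT (mem_subgroupOf.2 hv)⟩)
    exact h1.symm
  have hxV := h.mem_four_of_commute ((T.isPGroup').map L.subtype)
    (fun v hv => ⟨⟨v, hV hv⟩, hT (mem_subgroupOf.2 hv), rfl⟩) ⟨x, x.2, rfl⟩
    (hcomm _ (left_mem_four _ _)) (hcomm _ (right_mem_four _ _))
  obtain ⟨g, hg, hgt, hgu⟩ := hf
  have hstep : ∀ {v : G}, v ∈ K → g * v * g⁻¹ ∈ K := fun {_} hv => conj_mem_of_normalizer (hn hg) hv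
  have hg3 : g * (central σ n * τ) * g⁻¹ = central σ n := by
    rw [show g * (central σ n * τ) * g⁻¹ = (g * central σ n * g⁻¹) * (g * τ * g⁻¹) by group, hgt, hgu,
      h.commute_central_tau.eq, ← mul_assoc, h.tau_mul_self, one_mul]
  have hall : central σ n ∈ K := by
    rcases h.mem_four_tau.1 hxV with e | e | e | e
    · exact absurd (Subtype.ext (Subtype.ext e : (x : ↥L) = 1)) hx1
    · exact e ▸ hxK
    · exact hg3 ▸ hstep (hgu ▸ hstep (e ▸ hxK))
    · exact hg3 ▸ hstep (e ▸ hxK)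
  exact Dihedral.four_le hall (hgt ▸ hstep hall)

/-- A Sylow 2-subgroup of a subgroup over the four group is dihedral. -/
theorem exists_dihedral_sylow {M : Subgroup G} (hV : four (central σ n) τ ≤ M) :
    ∃ (P : Sylow 2 ↥M) (j : ℕ), 1 ≤ j ∧ Nonempty ((P : Subgroup ↥M) ≃* DihedralGroup (2 ^ j)) := by
  haveI : Fact (Nat.Prime 2) := ⟨Nat.prime_two⟩
  haveI := h.isKleinFour_four
  obtain ⟨P, hP⟩ := (h.isPGroup_four.of_equiv (subgroupOfEquivOfLe hV).symm).exists_le_sylow
  obtain ⟨T, hT⟩ := (P.isPGroup'.map M.subtype).exists_le_sylow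
  have eT : (T : Subgroup G) ≃* DihedralGroup (2 ^ (n - 1)) := (T.equiv S).trans h.equiv.some
  have eP : (P : Subgroup ↥M) ≃* ↥(((P : Subgroup ↥M).map M.subtype).subgroupOf (T : Subgroup G)) :=
    (equivMapOfInjective _ M.subtype M.subtype_injective).trans (subgroupOfEquivOfLe hT).symm
  have hnc : ¬ IsCyclic (P : Subgroup ↥M) := fun hc => by
    haveI := hc
    have h1 : IsCyclic ((four (central σ n) τ).subgroupOf M) := isCyclic_of_le hP
    exact IsKleinFour.not_isCyclic ((subgroupOfEquivOfLe hV).isCyclic.1 h1)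
  rcases Transfer.TwoByCyclic.dihedral_subgroup eT (((P : Subgroup ↥M).map M.subtype).subgroupOf (T : Subgroup G))
    with hc | ⟨j, ⟨f⟩⟩
  · exact absurd (eP.isCyclic.2 hc) hnc
  · rcases j with _ | j
    · exact absurd (isCyclic_of_prime_card (p := 2) (by
        rw [Nat.card_congr (eP.trans f).toEquiv, DihedralGroup.nat_card]; rfl)) hnc
    · exact ⟨P, j + 1, by omega, ⟨eP.trans f⟩⟩

/-- A normal subgroup over the four group fuses it when the socle is simple. -/
theorem fuses_inf_of_simple {L N : Subgroup G} {Q : Type} [Group Q] [IsSimpleGroup Q] {π : ↥N →* Q}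
    (hQ : ¬ IsMulCommutative Q) (hd : SocleData L N π) {K : Subgroup G} (hn : L ≤ normalizer (K : Set G))
    (hVK : four (central σ n) τ ≤ K) (hVN : four (central σ n) τ ≤ N) :
    Fuses (K ⊓ N) (central σ n) τ := by
  haveI : Fact (Nat.Prime 2) := ⟨Nat.prime_two⟩
  haveI : (K.subgroupOf N).Normal := normal_subgroupOf_of_le_normalizer (hd.le.trans hn)
  have himg : (K.subgroupOf N).map π = ⊤ := by
    refine ((inferInstance : (K.subgroupOf N).Normal).map π hd.surj).eq_bot_or_eq_top.resolve_left fun e => ?_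
    have h1 : π ⟨_, hVN (left_mem_four _ _)⟩ = 1 := by
      rw [← mem_bot, ← e]
      exact mem_map_of_mem π (mem_subgroupOf.2 (hVK (left_mem_four _ _)))
    exact h.central_ne_one (h.eq_one_of_mem_oddOf (left_mem_four _ _) ((hd.ker _).1 h1))
  set f : ↥(K ⊓ N : Subgroup G) →* Q := π.comp (Subgroup.inclusion inf_le_right) with hfd
  have hfs : Function.Surjective f := fun y => by
    obtain ⟨x, hx, rfl⟩ := Subgroup.mem_map.1 (himg.symm ▸ mem_top y : y ∈ (K.subgroupOf N).map π)
    exact ⟨⟨x, mem_subgroupOf.1 hx, x.2⟩, rfl⟩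
  have hodd : Odd (Nat.card ↥f.ker) := by
    let g : ↥f.ker →* ↥(oddOf L) :=
      ((K ⊓ N).subtype.comp f.ker.subtype).codRestrict (oddOf L) fun x => (hd.ker _).1 (MonoidHom.mem_ker.1 x.2)
    refine Odd.of_dvd_nat (odd_card_oddOf L) (Subgroup.card_dvd_of_injective g fun a b e => ?_)
    exact Subtype.ext (Subtype.ext (congrArg (fun z : ↥(oddOf L) => (z : G)) e :))
  have hVM : four (central σ n) τ ≤ K ⊓ N := le_inf hVK hVN
  obtain ⟨P, j, hj, ⟨e⟩⟩ := h.exists_dihedral_sylow hVM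
  obtain ⟨g, -, h1, h2⟩ := exists_cycle (fun A hA => no_index_two_of_simple hQ f hfs hodd A hA) P hj e
    (v := ⟨_, hVM (left_mem_four _ _)⟩) (w := ⟨_, hVM (right_mem_four _ _)⟩)
    (by rw [Subgroup.orderOf_mk]; exact h.orderOf_central) (by rw [Subgroup.orderOf_mk]; exact h.orderτ)
    (Subtype.ext h.commute_central_tau.eq) (fun e1 => h.central_ne_tau (congrArg Subtype.val e1))
  exact ⟨g, g.2, congrArg Subtype.val h1, congrArg Subtype.val h2⟩

/-- When the socle is `A₄`, the odd elements centralising `t` lie in the core. -/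
theorem core_of_four {L N : Subgroup G} {Q : Type} [Group Q] {π : ↥N →* Q} (hd : SocleData L N π)
    (e : Q ≃* alternatingGroup (Fin 4)) (hVN : four (central σ n) τ ≤ N) :
    coreCent (central σ n) ⊓ L ≤ oddOf L := by
  set t : ↥N := ⟨central σ n, hVN (left_mem_four _ _)⟩
  set u : ↥N := ⟨τ, hVN (right_mem_four _ _)⟩
  have hne : ∀ v : ↥N, (v : G) ∈ four (central σ n) τ → (v : G) ≠ 1 → π v ≠ 1 := fun v hv hv1 e1 =>
    hv1 (h.eq_one_of_mem_oddOf hv ((hd.ker v).1 e1))
  have ht : π t * π t = 1 := by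
    rw [← map_mul, show t * t = 1 from Subtype.ext h.central_mul_self, map_one]
  have hu : π u * π u = 1 := by
    rw [← map_mul, show u * u = 1 from Subtype.ext h.tau_mul_self, map_one]
  have htu : π t ≠ π u := fun e1 => hne (t * u) (mul_mem (left_mem_four _ _) (right_mem_four _ _))
    h.central_mul_tau_ne (by rw [map_mul, e1, hu])
  have ht1 : π t ≠ 1 := hne t (left_mem_four _ _) h.central_ne_one
  have hu1 : π u ≠ 1 := hne u (right_mem_four _ _) h.tau_ne_one
  have hA := fun c : Q => alt_four_facts (e (π t)) (e (π u)) (e c) (by rw [← map_mul, ht, map_one])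
    (by rw [← map_mul, hu, map_one]) (by simpa using ht1) (by simpa using hu1) (fun e1 => htu (e.injective e1))
  have hsq : ∀ c : Q, c * c = 1 → c = 1 ∨ c = π t ∨ c = π u ∨ c = π t * π u := fun c hc => by
    rcases (hA c).1 (by rw [← map_mul, hc, map_one]) with e1 | e1 | e1 | e1
    · exact Or.inl (e.injective (e1.trans (map_one e).symm))
    · exact Or.inr (Or.inl (e.injective e1))
    · exact Or.inr (Or.inr (Or.inl (e.injective e1)))
    · exact Or.inr (Or.inr (Or.inr (e.injective (e1.trans (map_mul e _ _).symm))))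
  have hcen : ∀ c : Q, c * π t = π t * c → c * c = 1 := fun c hc => e.injective (by
    rw [map_mul, map_one]
    exact (hA c).2 (by rw [← map_mul, hc, map_mul]))
  have hroot : ∀ x ∈ coreCent (central σ n) ⊓ L, ∃ y ∈ coreCent (central σ n) ⊓ L, y * y = x := fun x hx => by
    obtain ⟨j, hj⟩ := h.odd_orderOf h.odd_coreCent hx.1
    exact ⟨x ^ (j + 1), pow_mem hx _, by
      rw [← pow_add, show j + 1 + (j + 1) = orderOf x + 1 by omega, pow_succ, pow_orderOf_eq_one, one_mul]⟩
  -- conjugation on the quotient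
  let c : ∀ x ∈ L, ↥N → ↥N := fun x hx y => ⟨x * y * x⁻¹, conj_mem_of_normalizer (hd.normal hx) y.2⟩
  have hcπ : ∀ x (hx : x ∈ L) (y y' : ↥N), π y = π y' → π (c x hx y) = π (c x hx y') := fun x hx y y' e1 => by
    rw [← mul_inv_eq_one, ← map_inv, ← map_mul, hd.ker]
    have h1 : (y : G) * (y' : G)⁻¹ ∈ oddOf L := (hd.ker (y * y'⁻¹)).1 (by rw [map_mul, map_inv, e1, mul_inv_cancel])
    show x * y * x⁻¹ * (x * y' * x⁻¹)⁻¹ ∈ oddOf L
    rw [show x * y * x⁻¹ * (x * y' * x⁻¹)⁻¹ = x * (y * (y' : G)⁻¹) * x⁻¹ by group]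
    exact conj_mem_oddOf hx h1
  have hcmul : ∀ x (hx : x ∈ L) (y y' : ↥N), π (c x hx (y * y')) = π (c x hx y) * π (c x hx y') :=
    fun x hx y y' => by
      rw [← map_mul]
      refine congrArg π (Subtype.ext ?_)
      show x * (y * y') * x⁻¹ = x * y * x⁻¹ * (x * y' * x⁻¹)
      group
  have hcc : ∀ x (hx : x ∈ L) z (hz : z ∈ L) (y : ↥N), c (x * z) (mul_mem hx hz) y = c x hx (c z hz y) :=
    fun x hx z hz y => Subtype.ext (by
      show x * z * y * (x * z)⁻¹ = x * (z * y * z⁻¹) * x⁻¹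
      group)
  have hct : ∀ x (hx : x ∈ coreCent (central σ n) ⊓ L), c x hx.2 t = t := fun x hx => Subtype.ext (by
    show x * central σ n * x⁻¹ = central σ n
    rw [(h.commute_central hx.1).eq, mul_inv_cancel_right])
  have hfixu : ∀ x (hx : x ∈ coreCent (central σ n) ⊓ L), π (c x hx.2 u) = π u := by
    have hcase : ∀ y (hy : y ∈ coreCent (central σ n) ⊓ L),
        π (c y hy.2 u) = π u ∨ π (c y hy.2 u) = π t * π u := fun y hy => by
      have hyy : π (c y hy.2 u) * π (c y hy.2 u) = 1 := by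
        rw [← hcmul y hy.2, show u * u = 1 from Subtype.ext h.tau_mul_self,
          show c y hy.2 1 = 1 from Subtype.ext (by show y * 1 * y⁻¹ = 1; group), map_one]
      rcases hsq _ hyy with e1 | e1 | e1 | e1
      · refine absurd ?_ hu1
        have := hcπ y⁻¹ (inv_mem hy.2) _ 1 (e1.trans (map_one π).symm)
        rwa [show c y⁻¹ (inv_mem hy.2) (c y hy.2 u) = u from Subtype.ext (by
          show y⁻¹ * (y * τ * y⁻¹) * y⁻¹⁻¹ = τ; group), show c y⁻¹ (inv_mem hy.2) 1 = 1 from Subtype.ext (by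
          show y⁻¹ * 1 * y⁻¹⁻¹ = 1; group), map_one] at this
      · refine absurd ?_ htu
        have := hcπ y⁻¹ (inv_mem hy.2) _ t e1
        rw [show c y⁻¹ (inv_mem hy.2) (c y hy.2 u) = u from Subtype.ext (by
          show y⁻¹ * (y * τ * y⁻¹) * y⁻¹⁻¹ = τ; group), hct y⁻¹ (inv_mem hy)] at this
        exact this.symm
      · exact Or.inl e1
      · exact Or.inr e1
    intro x hx
    obtain ⟨y, hy, rfl⟩ := hroot x hx
    rw [show c (y * y) hx.2 u = c y hy.2 (c y hy.2 u) from hcc y hy.2 y hy.2 u]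
    rcases hcase y hy with e1 | e1
    · rw [hcπ y hy.2 _ u e1, e1]
    · rw [hcπ y hy.2 _ (t * u) (e1.trans (map_mul π t u).symm), hcmul y hy.2, hct y hy, e1, ← mul_assoc, ht, one_mul]
  intro x hx
  refine hd.self x hx.2 fun y hy => ?_
  have hfix : ∀ x (hx : x ∈ coreCent (central σ n) ⊓ L) (v : ↥N), π v * π v = 1 → π (c x hx.2 v) = π v := by
    intro x hx v hv
    rcases hsq _ hv with e1 | e1 | e1 | e1
    · rw [e1, hcπ x hx.2 v 1 (e1.trans (map_one π).symm),
        show c x hx.2 1 = 1 from Subtype.ext (by show x * 1 * x⁻¹ = 1; group), map_one]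
    · rw [e1, hcπ x hx.2 v t e1, hct x hx]
    · rw [e1, hcπ x hx.2 v u e1, hfixu x hx]
    · rw [e1, hcπ x hx.2 v (t * u) (e1.trans (map_mul π t u).symm), hcmul x hx.2, hct x hx, hfixu x hx]
  have hmain : π (c x hx.2 ⟨y, hy⟩) = π ⟨y, hy⟩ := by
    obtain ⟨z, hz, rfl⟩ := hroot x hx
    set Y : ↥N := ⟨y, hy⟩
    set W : ↥N := Y⁻¹ * c z hz.2 Y
    have hW : π W * π W = 1 := by
      refine hcen _ ?_
      have h1 := hfix z hz (Y * t * Y⁻¹) (by
        rw [map_mul, map_mul, map_inv, show π Y * π t * (π Y)⁻¹ * (π Y * π t * (π Y)⁻¹) = π Y * (π t * π t) * (π Y)⁻¹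
          by group, ht]
        group)
      rw [show c z hz.2 (Y * t * Y⁻¹) = c z hz.2 Y * c z hz.2 t * (c z hz.2 Y)⁻¹ from Subtype.ext (by
        show z * (y * central σ n * y⁻¹) * z⁻¹ = z * y * z⁻¹ * (z * central σ n * z⁻¹) * (z * y * z⁻¹)⁻¹
        group), hct z hz, map_mul, map_mul, map_inv, map_mul, map_mul, map_inv] at h1
      rw [map_mul, map_inv]
      calc (π Y)⁻¹ * π (c z hz.2 Y) * π t
          = (π Y)⁻¹ * (π (c z hz.2 Y) * π t * (π (c z hz.2 Y))⁻¹) * π (c z hz.2 Y) := by group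
        _ = π t * ((π Y)⁻¹ * π (c z hz.2 Y)) := by rw [h1]; group
    have hstep : π (c z hz.2 Y) = π Y * π W := by rw [← map_mul, mul_inv_cancel_left]
    rw [show c (z * z) hx.2 Y = c z hz.2 (c z hz.2 Y) from hcc z hz.2 z hz.2 Y,
      hcπ z hz.2 _ (Y * W) (hstep.trans (map_mul π Y W).symm), hcmul z hz.2, hfix z hz W hW, hstep, mul_assoc, hW,
      mul_one]
  rw [← mul_inv_eq_one, ← map_inv, ← map_mul, hd.ker] at hmain
  exact hmain

/-- Normal fusion. -/
theorem normalFusion : NormalFusion σ τ n := by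
  intro L K hL hVK hKL hn hf
  have hVL := hVK.trans hKL
  obtain ⟨N, hN⟩ := h.exists_socle hL hVL hf
  have hVN : ∀ {Q : Type} [Group Q] {π : ↥N →* Q}, SocleData L N π → 2 ∣ Nat.card Q →
      four (central σ n) τ ≤ N := fun {Q} _ π hd h2 =>
    h.four_le_of_fuses hVL hf hd.le hd.normal (h2.trans (Subgroup.card_dvd_of_surjective π hd.surj))
  rcases hN with ⟨π, hd⟩ | ⟨F, _, _, hodd, h3, π, hd⟩
  · haveI : IsSimpleGroup (alternatingGroup (Fin 7)) := alternatingGroup.isSimpleGroup (by simp)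
    refine Or.inl ((h.fuses_inf_of_simple ?_ hd hn hVK (hVN hd ?_)).mono inf_le_left)
    · intro hc
      have h1 := hc.is_comm.comm (⟨Equiv.swap 0 1 * Equiv.swap 1 2, by simp⟩ : alternatingGroup (Fin 7))
        ⟨Equiv.swap 2 3 * Equiv.swap 3 4, by simp⟩
      exact absurd (congrArg Subtype.val h1) (by decide)
    · rw [nat_card_alternatingGroup]
      simp only [Nat.card_eq_fintype_card, Fintype.card_fin]
      decide
  · have h2 : 2 ∣ Nat.card (Matrix.ProjectiveSpecialLinearGroup (Fin 2) F) := by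
      obtain ⟨k, hk⟩ := hodd
      have h1 := Klein.PSL.card_mul (F := F) ⟨k, hk⟩
      rw [hk, Nat.add_sub_cancel] at h1
      exact ⟨(2 * k + 1) * (k * (k + 1)), Nat.eq_of_mul_eq_mul_left two_pos (h1.trans (by ring))⟩
    rcases Nat.lt_or_ge (Fintype.card F) 5 with h5 | h5
    · refine Or.inr ?_
      have hF : Fintype.card F = 3 := by
        obtain ⟨k, hk⟩ := hodd
        omega
      obtain ⟨g⟩ := Cfsg.Agent.PSLBin.psl_three_iso (E := F) hF
      exact h.core_of_four hd g (hVN hd h2)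
    · haveI := Klein.PSL.isSimple (F := F) h5
      exact Or.inl ((h.fuses_inf_of_simple (fun hc => Klein.PSL.not_commute h5 fun a b => hc.is_comm.comm a b)
        hd hn hVK (hVN hd h2)).mono inf_le_left)

end Hyp

end Cfsg.Agent.Invol.GW.Dihedral
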