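import Cfsg.Agent.Lib.Invol.GW.Dihedral.Four
import Cfsg.Agent.Lib.Block.SuzukiIdentity

/-!
# Gorenstein–Walter, dihedral case: elements over the centraliser of the central involution

The 2-elements are conjugate to rotations, an element with a power congruent to the central involution modulo the
core is inverted only inside the centraliser, and the products of two involutions of the centraliser in the coset
of a rotation are counted by `idx σ τ n = |U : R|` and `idx σ (σ * τ) n`.
-/

set_option autoImplicit false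
set_option linter.unusedSectionVars false
set_option linter.style.haveILetI false

namespace Cfsg.Agent.Invol.GW.Dihedral

open Subgroup Klein Block

universe u

variable {G : Type u} [Group G]

/-- The index of the fixed subgroup of a reflection in the core. -/
noncomputable def idx (σ τ : G) (n : ℕ) : ℕ := (fixR (central σ n) τ).relIndex (coreCent (central σ n))

variable [Finite G] {S : Sylow 2 G} {σ τ : G} {n : ℕ}

namespace Hyp

variable (h : Hyp S σ τ n)
include h

theorem four_le : 4 ≤ (2 : ℕ) ^ (n - 1) := h.data.four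

theorem half_lt : 0 < 2 ^ (n - 2) ∧ 2 ^ (n - 2) < 2 ^ (n - 1) :=
  ⟨by positivity, Nat.pow_lt_pow_right one_lt_two (by have := h.three; omega)⟩

theorem idx_mul : idx σ τ n * Nat.card ↥(fixR (central σ n) τ) = Nat.card ↥(coreCent (central σ n)) := by
  have hle : fixR (central σ n) τ ≤ coreCent (central σ n) := inf_le_left
  rw [idx, mul_comm, ← Nat.card_congr (subgroupOfEquivOfLe hle).toEquiv]
  exact card_mul_index _

theorem idx_odd : Odd (idx σ τ n) := Odd.of_dvd_nat h.odd_coreCent ⟨_, h.idx_mul.symm⟩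

theorem idx_pos : 0 < idx σ τ n := h.idx_odd.pos

theorem coreCent_inf : coreCent (central σ n) ⊓ (S : Subgroup G) = ⊥ := h.odd2.disj

theorem commute_core {x : G} (hx : x ∈ coreCent (central σ n)) : Commute x (central σ n) :=
  mem_centralizer_singleton_iff.1 (h.coreCent_le hx)

theorem conj_core {c x : G} (hc : c ∈ centralizer ({central σ n} : Set G))
    (hx : x ∈ coreCent (central σ n)) : c * x * c⁻¹ ∈ coreCent (central σ n) :=
  (mem_normalizer_iff.1 (h.le_normalizer_coreCent hc) x).1 hx

theorem odd_of_mem {x : G} (hx : x ∈ coreCent (central σ n)) : Odd (orderOf x) :=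
  Odd.of_dvd_nat h.odd_coreCent ((coreCent (central σ n)).orderOf_dvd_natCard hx)

theorem core_normal : ((coreCent (central σ n)).subgroupOf (centralizer ({central σ n} : Set G))).Normal :=
  normal_subgroupOf_of_le_normalizer h.le_normalizer_coreCent

theorem core_index :
    ((coreCent (central σ n)).subgroupOf (centralizer ({central σ n} : Set G))).index = 2 ^ n := by
  have e := ((coreCent (central σ n)).subgroupOf (centralizer ({central σ n} : Set G))).card_mul_index
  rw [Nat.card_congr (subgroupOfEquivOfLe h.coreCent_le).toEquiv, h.card_centralizer] at e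
  exact Nat.eq_of_mul_eq_mul_left Nat.card_pos e

/-- The odd elements of the centraliser lie in the core. -/
theorem mem_core_of_odd {x : G} (hx : x ∈ centralizer ({central σ n} : Set G)) (ho : Odd (orderOf x)) :
    x ∈ coreCent (central σ n) := by
  haveI := h.core_normal
  have h1 := ((coreCent (central σ n)).subgroupOf (centralizer ({central σ n} : Set G))).pow_index_mem
    ⟨x, hx⟩
  rw [h.core_index, mem_subgroupOf, SubmonoidClass.coe_pow] at h1
  have hco : (2 ^ n).Coprime (orderOf x) := (Nat.coprime_two_left.2 ho).pow_left n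
  obtain ⟨j, hj⟩ := exists_pow_eq_self_of_coprime hco
  exact hj ▸ pow_mem h1 j

theorem exists_conj_mem {z : G} (hz : ∃ k : ℕ, orderOf z = 2 ^ k) :
    ∃ c : G, c * z * c⁻¹ ∈ (S : Subgroup G) := by
  haveI : Fact (Nat.Prime 2) := ⟨Nat.prime_two⟩
  obtain ⟨k, hk⟩ := hz
  obtain ⟨Q, hQ⟩ := (IsPGroup.of_card (p := 2) (n := k) (by rw [Nat.card_zpowers, hk]) :
    IsPGroup 2 (zpowers z)).exists_le_sylow
  obtain ⟨c, hc⟩ := MulAction.exists_smul_eq G Q S
  exact ⟨c, by rw [← hc]; exact ⟨z, hQ (mem_zpowers z), rfl⟩⟩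

/-- A nontrivial 2-element is conjugate to a rotation. -/
theorem exists_rotation {z : G} (hz : ∃ k : ℕ, orderOf z = 2 ^ k) (hz1 : z ≠ 1) :
    ∃ l, 0 < l ∧ l < 2 ^ (n - 1) ∧ IsConj z (σ ^ l) := by
  classical
  cases nonempty_fintype G
  obtain ⟨c, hc⟩ := h.exists_conj_mem hz
  have hne : c * z * c⁻¹ ≠ 1 := by rwa [ne_eq, conj_eq_one_iff]
  rcases h.data.cases _ hc with hr | ⟨hr, -, -⟩
  · rw [mem_zpowers_iff_mem_range_orderOf, Finset.mem_image] at hr
    obtain ⟨l, hl, hlw⟩ := hr
    rw [Finset.mem_range, h.orderσ] at hl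
    exact ⟨l, Nat.pos_of_ne_zero fun e => hne (by rw [← hlw, e, pow_zero]), hl, isConj_iff.2 ⟨c, hlw.symm⟩⟩
  · refine ⟨2 ^ (n - 2), h.half_lt.1, h.half_lt.2, (isConj_iff.2 ⟨c, rfl⟩ : IsConj z (c * z * c⁻¹)).trans
      (h.one_central _ (orderOf_eq_prime (by rw [pow_two]; exact hr) hne)).symm⟩

/-- The centraliser of a nontrivial 2-element has a normal 2-complement. -/
theorem complement {z : G} (hz : ∃ k : ℕ, orderOf z = 2 ^ k) (hz1 : z ≠ 1) :
    Cfsg.HasNormalPComplement 2 (centralizer ({z} : Set G)) := by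
  haveI : Fact (Nat.Prime 2) := ⟨Nat.prime_two⟩
  obtain ⟨k, hk⟩ := hz
  have hd : 2 ∣ orderOf z := by
    rw [hk]
    refine dvd_pow_self 2 fun e => hz1 (orderOf_eq_one_iff.1 ?_)
    rw [hk, e, pow_zero]
  refine Cfsg.Agent.Transfer.hasNormalPComplement_mono (fun x hx => ?_)
    (h.data.complement (z ^ (orderOf z / 2)) (orderOf_pow_orderOf_div (orderOf_pos z).ne' hd))
  exact mem_centralizer_singleton_iff.2
    ((show Commute x z from mem_centralizer_singleton_iff.1 hx).pow_right _).eq

theorem centralizer_rotation_le {d e : ℕ} (he : σ ^ (d * e) = central σ n) :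
    centralizer ({σ ^ d} : Set G) ≤ centralizer ({central σ n} : Set G) := fun x hx =>
  mem_centralizer_singleton_iff.2 (by
    rw [← he, pow_mul]
    exact ((show Commute x (σ ^ d) from mem_centralizer_singleton_iff.1 hx).pow_right e).eq)

theorem exists_exp_of_odd {d : ℕ} (hd : Odd d) : ∃ e, σ ^ (d * e) = central σ n := by
  refine ⟨2 ^ (n - 2), ?_⟩
  obtain ⟨q, rfl⟩ := hd
  rw [show (2 * q + 1) * 2 ^ (n - 2) = 2 ^ (n - 1) * q + 2 ^ (n - 2) by
    rw [show n - 1 = n - 2 + 1 by have := h.three; omega, pow_succ]; ring, pow_add, pow_mul,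
    ← h.orderσ, pow_orderOf_eq_one, one_pow, one_mul, central]

/-- An element with a power congruent to the central involution is inverted only inside the centraliser. -/
theorem mem_centralizer_of_inverted {a v y : G} (hv : v ∈ coreCent (central σ n)) {e : ℕ}
    (hy : y ∈ centralizer ({central σ n} : Set G)) (he : y ^ e = central σ n)
    (ha : a * (v * y) * a⁻¹ = (v * y)⁻¹) : a ∈ centralizer ({central σ n} : Set G) := by
  set J := central σ n with hJdef
  have hJ : J * J = 1 := by rw [← pow_two, ← h.orderOf_central, pow_orderOf_eq_one]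
  have hk : ∀ k, ∃ l ∈ coreCent J, (v * y) ^ k = l * y ^ k := by
    intro k
    induction k with
    | zero => exact ⟨1, one_mem _, by simp⟩
    | succ k ih =>
      obtain ⟨l, hl, e1⟩ := ih
      exact ⟨l * (y ^ k * v * (y ^ k)⁻¹), mul_mem hl (h.conj_core (pow_mem hy k) hv), by
        rw [pow_succ, e1, pow_succ]; group⟩
  obtain ⟨l, hl, e1⟩ := hk e
  rw [he] at e1
  have hpow : (v * y) ^ (e * Nat.card ↥(coreCent J)) = J := by
    rw [pow_mul, e1, (h.commute_core hl).mul_pow,
      show l ^ Nat.card ↥(coreCent J) = 1 from congrArg Subtype.val (pow_card_eq_one' (x := (⟨l, hl⟩ : coreCent J))),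
      one_mul]
    obtain ⟨q, hq⟩ := h.odd_coreCent
    rw [← hJdef] at hq
    rw [hq, pow_add, pow_mul, pow_two, hJ, one_pow, one_mul, pow_one]
  refine mem_centralizer_singleton_iff.2 (mul_inv_eq_iff_eq_mul.1 ?_)
  rw [← hpow, ← conj_pow, ha, inv_pow, hpow]
  exact inv_eq_of_mul_eq_one_left hJ

/-- The core in the coset of a rotation: involutions only at the central one. -/
theorem invCount_rotation {x : G} (hx : x ∈ zpowers σ) (hxJ : x ≠ central σ n) :
    Dih.invCount (coreCent (central σ n)) x = 0 := by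
  rw [Dih.invCount, Nat.card_eq_zero]
  refine .inl ⟨fun l => ?_⟩
  obtain ⟨hsq, hne⟩ := orderOf_eq_prime_iff.1 l.2
  have hxC := h.le_centralizer (h.data.zpowers_le hx)
  have hmem : x * x ∈ coreCent (central σ n) := by
    have e : x * x = (x * ((l.1 : coreCent (central σ n)) : G) * x⁻¹)⁻¹ * ((l.1 : coreCent (central σ n)) : G)⁻¹ *
        ((((l.1 : coreCent (central σ n)) : G) * x) ^ 2) := by rw [pow_two]; group
    rw [e, hsq, mul_one]
    exact mul_mem (inv_mem (h.conj_core hxC l.1.2)) (inv_mem l.1.2)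
  have h1 : x * x ∈ coreCent (central σ n) ⊓ (S : Subgroup G) :=
    ⟨hmem, mul_mem (h.data.zpowers_le hx) (h.data.zpowers_le hx)⟩
  rw [h.coreCent_inf, mem_bot] at h1
  rcases h.data.rotation_involution h.two_pow_eq hx h1 with e | e
  · subst e
    rw [mul_one] at hsq hne
    have h2 := orderOf_eq_prime hsq hne
    have h3 := h.odd_of_mem l.1.2
    rw [h2] at h3
    exact absurd h3 (by decide)
  · rw [h.exp_eq] at e
    exact hxJ e

theorem invCount_tau : Dih.invCount (coreCent (central σ n)) τ = idx σ τ n := by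
  have h1 := Dih.invCount_mul (coreCent (central σ n)) h.tau_mul_self
    (fun hh => h.tau_notMem (by
      have h2 : τ ∈ coreCent (central σ n) ⊓ (S : Subgroup G) := ⟨hh, h.hτ⟩
      rw [h.coreCent_inf, mem_bot] at h2
      rw [h2]; exact one_mem _))
    (h.le_normalizer_coreCent (h.le_centralizer h.hτ))
    (fun hd => (Nat.not_even_iff_odd.2 h.odd_coreCent) (even_iff_two_dvd.2 hd))
  exact Nat.eq_of_mul_eq_mul_right Nat.card_pos (h1.trans h.idx_mul.symm)

theorem invCount_reflection (i : ℕ) : Dih.invCount (coreCent (central σ n)) (τ * σ ^ i) =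
    if Even i then idx σ τ n else idx σ (σ * τ) n := by
  have hσN : σ⁻¹ ∈ normalizer (coreCent (central σ n) : Set G) :=
    h.le_normalizer_coreCent (h.le_centralizer (inv_mem h.hσ))
  induction i using Nat.twoStepInduction with
  | zero => rw [if_pos (by simp), pow_zero, mul_one, h.invCount_tau]
  | one =>
    rw [if_neg (by simp), pow_one, ← h.symm.invCount_tau, ← Dih.invCount_conj _ hσN (σ * τ)]
    congr 1
    group
  | more i ih _ =>
    have hts : τ * σ = σ⁻¹ * τ := mul_inv_eq_iff_eq_mul.1 h.rel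
    rw [show τ * σ ^ (i + 2) = σ⁻¹ * (τ * σ ^ i) * σ⁻¹⁻¹ by
      rw [show i + 2 = 1 + i + 1 by omega, pow_succ, pow_add, pow_one, inv_inv, ← mul_assoc τ,
        ← mul_assoc τ σ, hts]
      group, Dih.invCount_conj _ hσN, ih]
    simp [Nat.even_add]

/-- The pairs with product in the coset of a rotation. -/
theorem sum_pairs [Fintype ↥(S : Subgroup G)] {d : ℕ} (hd : σ ^ d ≠ 1) :
    ∑ p : ↥(S : Subgroup G), (Dih.invCount (coreCent (central σ n)) (p : G) : ℂ) *
        (Dih.invCount (coreCent (central σ n)) ((p : G) * σ ^ d) : ℂ) =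
      (2 ^ (n - 2) : ℕ) * (if Even d then (idx σ τ n : ℂ) ^ 2 + (idx σ (σ * τ) n : ℂ) ^ 2
        else 2 * (idx σ τ n : ℂ) * idx σ (σ * τ) n) := by
  have hrot : ∀ i, (Dih.invCount (coreCent (central σ n)) (σ ^ i) : ℂ) *
      (Dih.invCount (coreCent (central σ n)) (σ ^ i * σ ^ d) : ℂ) = 0 := fun i => by
    by_cases hi : σ ^ i = central σ n
    · rw [h.invCount_rotation (mul_mem (h.data.gen_pow_mem _) (h.data.gen_pow_mem _)) fun e =>
        hd (mul_left_cancel (e.trans (by rw [hi, mul_one] : central σ n = σ ^ i * 1))), Nat.cast_zero, mul_zero]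
    · rw [h.invCount_rotation (h.data.gen_pow_mem _) hi, Nat.cast_zero, zero_mul]
  rw [h.data.sum_elements h.hτ h.rel (fun x => (Dih.invCount (coreCent (central σ n)) x : ℂ) *
    (Dih.invCount (coreCent (central σ n)) (x * σ ^ d) : ℂ)), Finset.sum_eq_zero fun i _ => hrot i, zero_add]
  rw [show 2 ^ (n - 1) = 2 * 2 ^ (n - 2) by
    rw [← pow_succ', show n - 2 + 1 = n - 1 by have := h.three; omega]]
  set f : ℕ → ℂ := fun i => (Dih.invCount (coreCent (central σ n)) (τ * σ ^ i) : ℂ) *
    (Dih.invCount (coreCent (central σ n)) (τ * σ ^ i * σ ^ d) : ℂ)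
  have hf : ∀ i, f (2 * i) + f (2 * i + 1) = if Even d then (idx σ τ n : ℂ) ^ 2 + (idx σ (σ * τ) n : ℂ) ^ 2
      else 2 * (idx σ τ n : ℂ) * idx σ (σ * τ) n := fun i => by
    simp only [f, mul_assoc τ, ← pow_add, h.invCount_reflection, Nat.even_add, even_two_mul,
      Nat.not_even_one, true_iff, iff_false, not_true_eq_false, if_true, if_false, false_iff]
    by_cases he : Even d
    · simp only [he, not_true_eq_false, if_true, if_false]; ring
    · simp only [he, not_false_eq_true, if_true, if_false]; ring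
  suffices ∀ k, ∑ i ∈ Finset.range (2 * k), f i = (k : ℂ) * (if Even d then (idx σ τ n : ℂ) ^ 2 +
      (idx σ (σ * τ) n : ℂ) ^ 2 else 2 * (idx σ τ n : ℂ) * idx σ (σ * τ) n) from this _
  intro k
  induction k with
  | zero => simp
  | succ k ih =>
    rw [show 2 * (k + 1) = 2 * k + 1 + 1 by ring, Finset.sum_range_succ, Finset.sum_range_succ, ih,
      add_assoc, hf, Nat.cast_succ]
    ring

/-- The pair equation at the central involution and at the odd powers of `σ`. -/
theorem pair_equation {M : Ideal AlgInt} (hM : IsPModular 2 M) {d : ℕ}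
    (hd : d = 2 ^ (n - 2) ∨ (Odd d ∧ d < 2 ^ (n - 1))) :
    (Nat.card G : ℂ) * (Nat.card ↥(coreCent (central σ n)) : ℂ) * (∑ᶠ χ ∈ principalBlock M G,
        (χ : G → ℂ) (central σ n) ^ 2 / (χ : G → ℂ) 1 * (χ : G → ℂ) (σ ^ d)) =
      ((Nat.card ↥(coreCent (central σ n)) : ℂ) * (2 : ℂ) ^ n) ^ 2 * ((2 ^ (n - 2) : ℕ) *
        (if Even d then (idx σ τ n : ℂ) ^ 2 + (idx σ (σ * τ) n : ℂ) ^ 2
          else 2 * (idx σ τ n : ℂ) * idx σ (σ * τ) n)) := by
  classical
  haveI : Fact (Nat.Prime 2) := ⟨Nat.prime_two⟩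
  cases nonempty_fintype G
  cases nonempty_fintype ↥(coreCent (central σ n))
  cases nonempty_fintype ↥(S : Subgroup G)
  have hm := h.four_le
  have hlt := h.half_lt
  have hdm : d < 2 ^ (n - 1) := by rcases hd with e | e <;> omega
  have hd0 : 0 < d := by
    rcases hd with e | ⟨e, -⟩
    · omega
    · exact e.pos
  obtain ⟨e, he⟩ : ∃ e, σ ^ (d * e) = central σ n := by
    rcases hd with e | ⟨e, -⟩
    · exact ⟨1, by rw [mul_one, e, central]⟩
    · exact h.exists_exp_of_odd e
  have hinv : (σ ^ d)⁻¹ = σ ^ (2 ^ (n - 1) - d) := inv_eq_of_mul_eq_one_left (by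
    rw [← pow_add, Nat.sub_add_cancel hdm.le, ← h.orderσ, pow_orderOf_eq_one])
  have hidx : ∃ k : ℕ, ((coreCent (central σ n)).subgroupOf (centralizer ({σ ^ d} : Set G))).index = 2 ^ k := by
    haveI := h.core_normal
    have hdvd : (coreCent (central σ n)).relIndex (centralizer ({σ ^ d} : Set G)) ∣ 2 ^ n := by
      rw [← relIndex_subgroupOf (h.centralizer_rotation_le he), ← h.core_index]
      exact relIndex_dvd_index_of_normal _ _
    obtain ⟨j, -, hj⟩ := (Nat.dvd_prime_pow Nat.prime_two).1 hdvd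
    exact ⟨j, hj⟩
  have hyP : σ ^ d ∈ (S : Subgroup G) := pow_mem h.hσ d
  have h2 : ∃ k : ℕ, orderOf (σ ^ d) = 2 ^ k := pPow_of_mem S.isPGroup' hyP
  have hloc : ∀ a : G, ∀ l : coreCent (central σ n), orderOf a = 2 →
      orderOf (a * ((l : G) * (σ ^ d)⁻¹)) = 2 → a ∈ centralizer ({central σ n} : Set G) := by
    intro a l ha hb
    have hai : a⁻¹ = a := inv_eq_of_mul_eq_one_left (by rw [← pow_two, ← ha, pow_orderOf_eq_one])
    refine h.mem_centralizer_of_inverted l.2 (inv_mem (h.le_centralizer hyP)) (e := e) ?_ ?_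
    · rw [inv_pow, ← pow_mul, he]
      exact inv_eq_of_mul_eq_one_left (by rw [← pow_two, ← h.orderOf_central, pow_orderOf_eq_one])
    · rw [eq_inv_iff_mul_eq_one, hai]
      calc a * ((l : G) * (σ ^ d)⁻¹) * a * ((l : G) * (σ ^ d)⁻¹)
          = a * ((l : G) * (σ ^ d)⁻¹) * (a * ((l : G) * (σ ^ d)⁻¹)) := by group
        _ = 1 := by rw [← pow_two, ← hb, pow_orderOf_eq_one]
  rw [Dih.coset_equation hM h.odd2 h.orderOf_central h.one_central h2 hyP
    (h.centralizer_rotation_le he) hidx hloc, hinv, h.card_centralizer,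
    h.sum_pairs (pow_ne_one_of_lt_orderOf (by omega) (by rw [h.orderσ]; omega))]
  have hev : Even (2 ^ (n - 1) - d) ↔ Even d := by
    rw [Nat.even_sub hdm.le]
    simp [Nat.even_pow, show n - 1 ≠ 0 by have := h.three; omega]
  simp only [hev]
  push_cast
  ring

end Hyp

end Cfsg.Agent.Invol.GW.Dihedral
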