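import Cfsg.Agent.Lib.Invol.GW.Dihedral.Four
import Cfsg.Agent.Lib.Invol.StronglyEmbedded
import Cfsg.Agent.Lib.Recog.SU3Sylow
import Cfsg.Agent.Lib.Transfer.SizesPSL.PSLFacts
import Cfsg.Agent.S0222

/-!
# Gorenstein–Walter, dihedral: a subgroup over `C(t)` with one class of involutions

Such a subgroup would be strongly embedded; the groups with a strongly embedded subgroup have abelian Sylow
2-subgroups, a centre of order at least four in them, or order prime to three.
-/

set_option autoImplicit false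
set_option linter.unusedSectionVars false

namespace Cfsg.Agent.Invol.GW.Dihedral

open Subgroup Klein

universe u

variable {G : Type u} [Group G] [Finite G] {S : Sylow 2 G} {σ τ : G} {n : ℕ}

namespace Hyp

variable (h : Hyp S σ τ n)
include h

theorem sigma_sq_ne_one : σ * σ ≠ 1 := fun e => by
  have h1 := orderOf_le_of_pow_eq_one (x := σ) (n := 2) (by norm_num) (by rw [pow_two]; exact e)
  rw [h.orderσ] at h1
  have h4 : 2 ^ 2 ≤ 2 ^ (n - 1) := Nat.pow_le_pow_right two_pos (by have := h.three; omega)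
  omega

theorem not_commute_sigma_tau : ¬ Commute τ σ := fun e => h.sigma_sq_ne_one (by
  have h1 := h.rel
  rw [e.eq, mul_inv_cancel_right] at h1
  exact eq_inv_iff_mul_eq_one.1 h1)

/-- The centre of the Sylow subgroup is generated by the central involution. -/
theorem eq_of_central {x : G} (hx : x ∈ (S : Subgroup G)) (hc : ∀ y ∈ (S : Subgroup G), Commute x y) :
    x = 1 ∨ x = central σ n := by
  rcases h.mem_four_tau.1 (h.commute_tau_mem hx (hc τ h.hτ)) with e | e | e | e
  · exact Or.inl e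
  · exact Or.inr e
  · exact absurd (e ▸ hc σ h.hσ) h.not_commute_sigma_tau
  · refine absurd ?_ h.not_commute_sigma_tau
    have h1 : Commute (central σ n) σ := h.central_commute h.hσ
    have h2 : Commute (central σ n * (central σ n * τ)) σ := h1.mul_left (e ▸ hc σ h.hσ)
    rwa [← mul_assoc, h.central_mul_self, one_mul] at h2

theorem three_dvd_card : 3 ∣ Nat.card G := by
  obtain ⟨g, -, h1, h2⟩ := h.exists_fuse
  have hne : g * central σ n * g⁻¹ ≠ central σ n := by rw [h1]; exact Ne.symm h.central_ne_tau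
  have h3 : g ^ 3 * central σ n * (g ^ 3)⁻¹ = central σ n := by
    calc g ^ 3 * central σ n * (g ^ 3)⁻¹ = g * (g * (g * central σ n * g⁻¹) * g⁻¹) * g⁻¹ := by
          rw [pow_succ, pow_succ, pow_one]; group
      _ = g * (g * τ * g⁻¹) * g⁻¹ := by rw [h1]
      _ = g * (central σ n * τ) * g⁻¹ := by rw [h2]
      _ = (g * central σ n * g⁻¹) * (g * τ * g⁻¹) := by group
      _ = central σ n := by
        rw [h1, h2, ← mul_assoc, ← h.commute_central_tau.eq, mul_assoc, h.tau_mul_self, mul_one]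
  refine Dvd.dvd.trans ?_ (orderOf_dvd_natCard g)
  by_contra hn
  -- a power of `g ^ 3` would be `g`
  obtain ⟨k, hk⟩ := exists_pow_eq_self_of_coprime (x := g) (n := 3)
    ((Nat.prime_three.coprime_iff_not_dvd).2 hn)
  refine hne (mul_inv_eq_iff_eq_mul.2 ?_)
  have h4 : Commute (g ^ 3) (central σ n) := mul_inv_eq_iff_eq_mul.1 h3
  have h5 := h4.pow_left k
  rwa [hk] at h5

theorem centralizer_le_of_conj {M : Subgroup G} (hCM : centralizer ({central σ n} : Set G) ≤ M) {g : G}
    (hg : g ∈ M) : centralizer ({g * central σ n * g⁻¹} : Set G) ≤ M := fun x hx => by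
  have h1 : Commute (g⁻¹ * x * g) (central σ n) := by
    have h2 := (show Commute x (g * central σ n * g⁻¹) from mem_centralizer_singleton_iff.1 hx).conj g⁻¹
    rwa [inv_inv, show g⁻¹ * (g * central σ n * g⁻¹) * g = central σ n by group] at h2
  have h3 : g * (g⁻¹ * x * g) * g⁻¹ ∈ M :=
    mul_mem (mul_mem hg (hCM (mem_centralizer_singleton_iff.2 h1.eq))) (inv_mem hg)
  rwa [show g * (g⁻¹ * x * g) * g⁻¹ = x by group] at h3

theorem not_stronglyEmbedded (M : Subgroup G) : ¬ Cfsg.IsStronglyEmbedded M := by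
  haveI := h.simple
  haveI : Fact (Nat.Prime 2) := ⟨Nat.prime_two⟩
  have hna : ∃ a b : G, a * b ≠ b * a := ⟨τ, σ, h.not_commute_sigma_tau⟩
  intro hM
  rcases Cfsg.Agent.S0222.result hna M hM with
    ⟨F, iF, iFt, hchar, -, ⟨e⟩⟩ | ⟨-, m, hm, hcard⟩ | ⟨F, iF, iFt, q, hF, hev, h4, ⟨e⟩⟩
  · -- abelian Sylow subgroups
    haveI := hchar
    have h2 : 2 ∣ Fintype.card F := Nat.dvd_of_mod_eq_zero (FiniteField.even_card_of_char_two
      ((ringChar.eq_iff (R := F) (p := 2)).2 hchar))
    have hcm := Transfer.SizesPSL.psl_sylow_comm (Or.inr h2) (S.mapSurjective (f := e.toMonoidHom) e.surjective)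
    refine h.not_commute_sigma_tau (e.injective ?_)
    rw [map_mul, map_mul]
    exact congrArg Subtype.val (hcm.is_comm.comm ⟨e τ, ⟨τ, h.hτ, rfl⟩⟩ ⟨e σ, ⟨σ, h.hσ, rfl⟩⟩)
  · -- order prime to three
    have h3 := h.three_dvd_card
    rw [hcard] at h3
    have hq : (2 : ℕ) ^ (2 * m + 1) % 3 = 2 := by
      rw [pow_succ, pow_mul, Nat.mul_mod, Nat.pow_mod]
      norm_num
    set q := (2 : ℕ) ^ (2 * m + 1)
    have hq1 : (q - 1) % 3 = 1 := (fun q (hq : q % 3 = 2) => by omega : ∀ q : ℕ, q % 3 = 2 → (q - 1) % 3 = 1) q hq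
    have hq2 : q ^ 2 % 3 = 1 := by rw [Nat.pow_mod, hq]
    have h5 := Nat.mul_mod (q ^ 2 * (q ^ 2 + 1)) (q - 1) 3
    rw [Nat.mul_mod (q ^ 2), Nat.add_mod, hq2, hq1, Nat.mod_eq_zero_of_dvd h3] at h5
    norm_num at h5
  · -- a centre of order at least four
    obtain ⟨p, hp⟩ := CharP.exists F
    obtain ⟨N, hpp, hN⟩ := FiniteField.card F p
    have hqd : q ∣ p ^ (N : ℕ) := ⟨q, by rw [← hN, hF, pow_two]⟩
    obtain ⟨k, -, hk⟩ := (Nat.dvd_prime_pow hpp).1 hqd
    obtain rfl : p = 2 := by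
      have h2 : Even (p ^ k) := hk ▸ hev
      exact (hpp.eq_one_or_self_of_dvd 2 (Nat.prime_two.dvd_of_dvd_pow h2.two_dvd)).resolve_left (by norm_num) |>.symm
    haveI := hp
    haveI : Fact (Fintype.card F = q ^ 2) := ⟨hF⟩
    have hk1 : 1 ≤ k := Nat.pos_of_ne_zero fun e0 => by rw [hk, e0, pow_zero] at h4; omega
    obtain ⟨e'⟩ := Recog.SU3Two.sylow_psu (F := F) hk hk1 (S.mapSurjective (f := e.toMonoidHom) e.surjective)
    have hmem : ∀ x : Recog.SU3Two.Fx F q,
        ∃ y ∈ (S : Subgroup G), e y = (e' (Recog.SU3Two.UT.z x) : Cfsg.PSU 3 F q) := fun x => (e' _).2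
    choose y hy hey using hmem
    have hyc : ∀ x, ∀ w ∈ (S : Subgroup G), Commute (y x) w := fun x w hw => by
      refine e.injective ?_
      rw [map_mul, map_mul, hey]
      have hz : Recog.SU3Two.UT.z x ∈ center (Recog.SU3Two.UT F q) :=
        (Recog.SU3Two.UT.mem_center_iff _).2 rfl
      obtain ⟨v, hv⟩ := e'.surjective ⟨e w, ⟨w, hw, rfl⟩⟩
      have hv' : (e' v : Cfsg.PSU 3 F q) = e w := congrArg Subtype.val hv
      rw [← hv']
      have E : (e' (Recog.SU3Two.UT.z x * v) : Cfsg.PSU 3 F q) = e' (v * Recog.SU3Two.UT.z x) :=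
        congrArg (fun z => ((e' z : _) : Cfsg.PSU 3 F q)) (mem_center_iff.1 hz v).symm
      rw [map_mul, map_mul, Subgroup.coe_mul, Subgroup.coe_mul] at E
      exact E
    have hsub : ∀ x, y x ∈ ({1, central σ n} : Set G) := fun x => by
      rcases h.eq_of_central (hy x) (hyc x) with e0 | e0 <;> simp [e0]
    have hinj : Function.Injective y := fun x x' e0 => by
      have h1 := e'.injective (Subtype.ext ((hey x).symm.trans (e0 ▸ hey x')))
      exact Subtype.ext (congrArg Recog.SU3Two.UT.b h1)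
    have hle := Nat.card_le_card_of_injective (fun x => (⟨y x, hsub x⟩ : ({1, central σ n} : Set G)))
      (fun x x' e0 => hinj (congrArg Subtype.val e0))
    rw [Recog.SU3Two.card_Fx, Nat.card_coe_set_eq] at hle
    have := (Set.ncard_insert_le (1 : G) {central σ n}).trans_eq (by rw [Set.ncard_singleton])
    omega

/-- No proper subgroup over `C(t)` has one class of involutions. -/
theorem not_oneClass {M : Subgroup G} (hM : M ≠ ⊤) (hCM : centralizer ({central σ n} : Set G) ≤ M)
    (hone : ∀ s ∈ M, orderOf s = 2 → ∃ g ∈ M, g * central σ n * g⁻¹ = s) : False := by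
  refine h.not_stronglyEmbedded M ((Invol.isStronglyEmbedded_iff hM
    (even_card_of_mem h.orderOf_central (hCM (h.le_centralizer h.central_mem)))).2 ?_)
  intro s hs hs2 x hx
  obtain ⟨a, ha, rfl⟩ := hone s hs hs2
  obtain ⟨b, hb, hbs⟩ := hone _ hx (by
    rw [show x⁻¹ * (a * central σ n * a⁻¹) * x = MulAut.conj x⁻¹ (a * central σ n * a⁻¹) by simp,
      MulEquiv.orderOf_eq]; exact hs2)
  have hc : a⁻¹ * x * b ∈ centralizer ({central σ n} : Set G) := by
    refine mem_centralizer_singleton_iff.2 ?_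
    calc a⁻¹ * x * b * central σ n = a⁻¹ * x * (b * central σ n * b⁻¹) * b := by group
      _ = _ := by rw [hbs]; group
  have h1 := mul_mem (mul_mem ha (hCM hc)) (inv_mem hb)
  rwa [show a * (a⁻¹ * x * b) * b⁻¹ = x by group] at h1

end Hyp

end Cfsg.Agent.Invol.GW.Dihedral
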