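import Cfsg.Agent.Lib.Invol.GW.Dihedral.Setup

/-!
# Gorenstein–Walter, dihedral: the facts on a subgroup with two classes of involutions

`M` over `C(t)` fuses the four group `⟨t, u⟩` and not `⟨t, u'⟩`, `u' = σ * τ`; modulo its core it is an extension of
`PGL₂(l)` (`S₄` for `l = 3`) by field automorphisms of odd order `f`.  With `l ∓ 1 = 2 ^ (n - 1) * a` and
`l ± 1 = 2 * b` these are the only facts on this quotient used in the two-class case.
-/

set_option autoImplicit false

namespace Cfsg.Agent.Invol.GW.Dihedral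

open Subgroup Klein

universe u

variable {G : Type u} [Group G]

/-- The part of `K` centralised by `v`. -/
def fixIn (K : Subgroup G) (v : G) : Subgroup G := K ⊓ centralizer ({v} : Set G)

/-- The part of `K` centralised by `v` and `w`. -/
def fixIn₂ (K : Subgroup G) (v w : G) : Subgroup G := fixIn (fixIn K v) w

/-- The orders of the centralisers in the quotient by the core, and the one fact on subgroups of odd order. -/
def TwoClassFacts (σ τ : G) (n : ℕ) (M : Subgroup G) : Prop :=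
  ∃ a b f : ℕ, Odd a ∧ Odd b ∧ Odd f ∧ (b = 2 ^ (n - 2) * a + 1 ∨ b + 1 = 2 ^ (n - 2) * a) ∧
    (f < b ∨ (b = 1 ∧ f = 1)) ∧
    Nat.card ↥(coreCent (central σ n)) = Nat.card ↥(fixIn (oddOf M) (central σ n)) * a * f ∧
    Nat.card ↥(coreCent (σ * τ) ⊓ M : Subgroup G) = Nat.card ↥(fixIn (oddOf M) (σ * τ)) * b * f ∧
    Nat.card ↥(fixR (central σ n) τ) = Nat.card ↥(fixIn₂ (oddOf M) (central σ n) τ) * f ∧
    Nat.card ↥(fixR (central σ n) (σ * τ)) = Nat.card ↥(fixIn₂ (oddOf M) (central σ n) (σ * τ)) * f ∧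
    (∀ P : Subgroup G, oddOf M ≤ P → P ≤ M → Odd (Nat.card ↥P) →
      central σ n ∈ normalizer (P : Set G) → σ * τ ∈ normalizer (P : Set G) →
      Nat.card ↥(fixIn P (σ * τ)) = Nat.card ↥(fixIn P (central σ n * (σ * τ))) →
      Nat.card ↥(fixIn P (σ * τ)) ∣ Nat.card ↥(fixIn (oddOf M) (σ * τ)) * f) ∧
    (a = 1 → b = 1 → Nat.card ↥M = Nat.card ↥(oddOf M) * 24)

end Cfsg.Agent.Invol.GW.Dihedral
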