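import Cfsg.Agent.Lib.Invol.GW.Dihedral.Four
import Cfsg.Agent.Lib.Invol.GW.Dihedral.Local
import Cfsg.Agent.Lib.Invol.GW.Dihedral.TwoClassFacts
import Cfsg.Agent.Lib.Invol.GW.Dihedral.OneClass
import Cfsg.Agent.Lib.Invol.SmallCent.FourFixed

/-!
# Gorenstein–Walter, dihedral: fixed subgroups of involutions in invariant subgroups of odd order

The centralisers of all involutions are conjugate, so their odd elements form the conjugates of `U`; a subgroup of
odd order normalised by two commuting involutions is generated by the fixed subgroups of the three involutions.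
-/

set_option autoImplicit false
set_option linter.unusedSectionVars false

namespace Cfsg.Agent.Invol.GW.Dihedral

open Subgroup Klein
open scoped Pointwise

universe u

variable {G : Type u} [Group G]

theorem mem_fixIn {K : Subgroup G} {v x : G} : x ∈ fixIn K v ↔ x ∈ K ∧ Commute x v :=
  and_congr_right fun _ => mem_centralizer_singleton_iff

theorem fixIn_le (K : Subgroup G) (v : G) : fixIn K v ≤ K := inf_le_left

theorem fixIn_le_centralizer (K : Subgroup G) (v : G) : fixIn K v ≤ centralizer ({v} : Set G) := inf_le_right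

theorem fixIn_mono {K L : Subgroup G} (h : K ≤ L) (v : G) : fixIn K v ≤ fixIn L v := inf_le_inf_right _ h

theorem conj_mem_fixIn {K : Subgroup G} {v g x : G} (hg : g ∈ normalizer (K : Set G)) (hx : x ∈ fixIn K v) :
    g * x * g⁻¹ ∈ fixIn K (g * v * g⁻¹) :=
  mem_fixIn.2 ⟨(mem_normalizer_iff.1 hg x).1 (mem_fixIn.1 hx).1, (mem_fixIn.1 hx).2.conj g⟩

variable [Finite G]

theorem card_fixIn_conj {K : Subgroup G} {v g : G} (hg : g ∈ normalizer (K : Set G)) :
    Nat.card ↥(fixIn K (g * v * g⁻¹)) = Nat.card ↥(fixIn K v) := by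
  have e : (fixIn K v).map (MulAut.conj g).toMonoidHom = fixIn K (g * v * g⁻¹) := by
    ext y
    constructor
    · rintro ⟨x, hx, rfl⟩
      exact conj_mem_fixIn hg hx
    · intro hy
      refine ⟨g⁻¹ * y * g, ?_, show g * (g⁻¹ * y * g) * g⁻¹ = y by group⟩
      have h1 := conj_mem_fixIn (inv_mem hg) hy
      rwa [inv_inv, show g⁻¹ * (g * v * g⁻¹) * g = v by group] at h1
  rw [← e]
  exact card_map_of_injective (MulAut.conj g).injective

/-- The order of an invariant subgroup of odd order in terms of the fixed subgroups. -/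
theorem card_fixIn_four {K : Subgroup G} (hK : Odd (Nat.card ↥K)) {t w : G} (ht : t * t = 1) (hw : w * w = 1)
    (hc : Commute t w) (hnt : t ∈ normalizer (K : Set G)) (hnw : w ∈ normalizer (K : Set G)) :
    Nat.card ↥K * Nat.card ↥(fixIn₂ K t w) ^ 2 =
      Nat.card ↥(fixIn K t) * Nat.card ↥(fixIn K w) * Nat.card ↥(fixIn K (t * w)) :=
  SmallCent.card_four_fixed K hK ht hw hc.eq (fun x => (mem_normalizer_iff.1 hnt x).1)
    fun x => (mem_normalizer_iff.1 hnw x).1

theorem mem_fixIn₂ {K : Subgroup G} {v w x : G} : x ∈ fixIn₂ K v w ↔ x ∈ K ∧ Commute x v ∧ Commute x w := by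
  rw [fixIn₂, mem_fixIn, mem_fixIn, and_assoc]

theorem fixIn₂_le (K : Subgroup G) (v w : G) : fixIn₂ K v w ≤ fixIn K v := fixIn_le _ _

theorem fixIn₂_le_right (K : Subgroup G) (v w : G) : fixIn₂ K v w ≤ fixIn K w := fixIn_mono (fixIn_le _ _) w

theorem fixIn₂_le_mul (K : Subgroup G) (v w : G) : fixIn₂ K v w ≤ fixIn K (v * w) := fun x hx => by
  obtain ⟨h1, h2, h3⟩ := mem_fixIn₂.1 hx
  exact mem_fixIn.2 ⟨h1, h2.mul_right h3⟩

/-- Generation by the fixed subgroups. -/
theorem le_of_fixIn_le {K H : Subgroup G} (hK : Odd (Nat.card ↥K)) {t w : G} (ht : t * t = 1) (hw : w * w = 1)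
    (hc : Commute t w) (hnt : t ∈ normalizer (K : Set G)) (hnw : w ∈ normalizer (K : Set G))
    (h1 : fixIn K t ≤ H) (h2 : fixIn K w ≤ H) (h3 : fixIn K (t * w) ≤ H) : K ≤ H := by
  set L := fixIn K t ⊔ fixIn K w ⊔ fixIn K (t * w) with hL
  have hLK : L ≤ K := sup_le (sup_le (fixIn_le _ _) (fixIn_le _ _)) (fixIn_le _ _)
  -- each of the fixed subgroups is invariant
  have hinv : ∀ g ∈ normalizer (K : Set G), g * t * g⁻¹ = t → g * w * g⁻¹ = w →
      g ∈ normalizer (L : Set G) := by
    intro g hg hgt hgw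
    have key : ∀ v, g * v * g⁻¹ = v → (fixIn K v).map (MulAut.conj g).toMonoidHom ≤ fixIn K v := by
      rintro v hv _ ⟨x, hx, rfl⟩
      have := conj_mem_fixIn hg hx
      rw [hv] at this
      exact this
    have hle : L.map (MulAut.conj g).toMonoidHom ≤ L := by
      simp only [hL, Subgroup.map_sup]
      refine sup_le_sup (sup_le_sup (key t hgt) (key w hgw)) (key _ ?_)
      rw [show g * (t * w) * g⁻¹ = (g * t * g⁻¹) * (g * w * g⁻¹) by group, hgt, hgw]
    have heq := eq_of_le_of_card_ge hle (card_map_of_injective (MulAut.conj g).injective).ge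
    refine mem_normalizer_iff.2 fun x => ⟨fun hx => hle ⟨x, hx, rfl⟩, fun hx => ?_⟩
    rw [← heq] at hx
    obtain ⟨y, hy, e⟩ := hx
    rwa [← mul_left_cancel (mul_right_cancel (e : g * y * g⁻¹ = g * x * g⁻¹))]
  have htw : t * w * t⁻¹ = w := by rw [hc.eq, mul_inv_cancel_right]
  have hwt : w * t * w⁻¹ = t := by rw [← hc.eq, mul_inv_cancel_right]
  have eK := card_fixIn_four hK ht hw hc hnt hnw
  have eL := card_fixIn_four (odd_of_le hLK hK) ht hw hc (hinv t hnt (by group) htw)
    (hinv w hnw hwt (by group))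
  have f1 : fixIn L t = fixIn K t := le_antisymm (fixIn_mono hLK _)
    fun x hx => mem_fixIn.2 ⟨mem_sup_left (mem_sup_left hx), (mem_fixIn.1 hx).2⟩
  have f2 : fixIn L w = fixIn K w := le_antisymm (fixIn_mono hLK _)
    fun x hx => mem_fixIn.2 ⟨mem_sup_left (mem_sup_right hx), (mem_fixIn.1 hx).2⟩
  have f3 : fixIn L (t * w) = fixIn K (t * w) := le_antisymm (fixIn_mono hLK _)
    fun x hx => mem_fixIn.2 ⟨mem_sup_right hx, (mem_fixIn.1 hx).2⟩
  have f4 : fixIn₂ L t w = fixIn₂ K t w := by rw [fixIn₂, fixIn₂, f1]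
  rw [f1, f2, f3, f4, ← eK] at eL
  have hLe : L = K := eq_of_le_of_card_ge hLK (Nat.eq_of_mul_eq_mul_right (pow_pos Nat.card_pos 2) eL).ge
  rw [← hLe]
  exact sup_le (sup_le h1 h2) h3

/-- A subgroup with the same fixed subgroups is the whole. -/
theorem eq_of_fixIn_le {K P : Subgroup G} (hKP : K ≤ P) (hP : Odd (Nat.card ↥P)) {t w : G} (ht : t * t = 1)
    (hw : w * w = 1) (hc : Commute t w) (hnt : t ∈ normalizer (P : Set G)) (hnw : w ∈ normalizer (P : Set G))
    (h1 : fixIn P t ≤ K) (h2 : fixIn P w ≤ K) (h3 : fixIn P (t * w) ≤ K) : P = K :=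
  le_antisymm (le_of_fixIn_le hP ht hw hc hnt hnw h1 h2 h3) hKP

namespace Hyp

variable {S : Sylow 2 G} {σ τ : G} {n : ℕ} (h : Hyp S σ τ n)
include h

/-- The odd elements of the centraliser of any involution form the core. -/
theorem mem_coreCent_iff {v x : G} (hv : orderOf v = 2) :
    x ∈ coreCent v ↔ Commute x v ∧ Odd (orderOf x) := by
  constructor
  · intro hx
    exact ⟨mem_centralizer_singleton_iff.1 (oddOf_le _ hx),
      Odd.of_dvd_nat (odd_card_oddOf _) (Subgroup.orderOf_dvd_natCard _ hx)⟩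
  · rintro ⟨hc, ho⟩
    obtain ⟨g, hg⟩ := isConj_iff.1 (h.one_central v hv)
    set U := coreCent (central σ n)
    have hback : ∀ {c : G}, Commute c v → Commute (g⁻¹ * c * g) (central σ n) := fun {c} hcv => by
      have := hcv.conj g⁻¹
      rwa [inv_inv, ← hg, show g⁻¹ * (g * central σ n * g⁻¹) * g = central σ n by group] at this
    have hle : MulAut.conj g • U ≤ centralizer ({v} : Set G) := by
      rintro _ ⟨y, hy, rfl⟩
      refine mem_centralizer_singleton_iff.2 ?_
      rw [← hg]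
      exact ((h.commute_core hy).conj g).eq
    have hn : centralizer ({v} : Set G) ≤ normalizer ((MulAut.conj g • U : Subgroup G) : Set G) := by
      intro c hc'
      have hn' := h.le_normalizer_coreCent
        (mem_centralizer_singleton_iff.2 (hback (mem_centralizer_singleton_iff.1 hc')).eq)
      rw [Grp.mem_normalizer_iff_smul] at hn' ⊢
      calc MulAut.conj c • MulAut.conj g • U = MulAut.conj g • MulAut.conj (g⁻¹ * c * g) • U := by
            rw [Grp.conj_smul_conj_smul, Grp.conj_smul_conj_smul]; group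
        _ = MulAut.conj g • U := by rw [hn']
    refine le_oddOf hle hn (by rw [Grp.card_conj_smul]; exact h.odd_coreCent) (Grp.mem_smul_conj.2 ?_)
    have hy : g⁻¹ * x * g ∈ U := h.mem_core_of_odd (mem_centralizer_singleton_iff.2 (hback hc).eq) (by
      rw [show g⁻¹ * x * g = MulAut.conj g⁻¹ x by simp, MulEquiv.orderOf_eq]
      exact ho)
    simpa [mul_assoc] using hy

theorem conj_mem_coreCent {v g x : G} (hv : orderOf v = 2) (hx : x ∈ coreCent v) :
    g * x * g⁻¹ ∈ coreCent (g * v * g⁻¹) := by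
  obtain ⟨h1, h2⟩ := (h.mem_coreCent_iff hv).1 hx
  refine (h.mem_coreCent_iff (by rw [show g * v * g⁻¹ = MulAut.conj g v from rfl, MulEquiv.orderOf_eq, hv])).2
    ⟨h1.conj g, ?_⟩
  rwa [show g * x * g⁻¹ = MulAut.conj g x from rfl, MulEquiv.orderOf_eq]

theorem card_coreCent_eq {v : G} (hv : orderOf v = 2) :
    Nat.card ↥(coreCent v) = Nat.card ↥(coreCent (central σ n)) := by
  obtain ⟨g, hg⟩ := isConj_iff.1 (h.one_central v hv)
  have e : (coreCent (central σ n)).map (MulAut.conj g).toMonoidHom = coreCent v := by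
    ext y
    constructor
    · rintro ⟨x, hx, rfl⟩
      have h1 := h.conj_mem_coreCent (g := g) h.orderOf_central hx
      rw [hg] at h1
      exact h1
    · intro hy
      refine ⟨g⁻¹ * y * g, ?_, show g * (g⁻¹ * y * g) * g⁻¹ = y by group⟩
      have h1 := h.conj_mem_coreCent (g := g⁻¹) hv hy
      rwa [inv_inv, show g⁻¹ * v * g = central σ n by rw [← hg]; group] at h1
  rw [← e]
  exact card_map_of_injective (MulAut.conj g).injective

theorem fixIn_le_coreCent {K : Subgroup G} (hK : Odd (Nat.card ↥K)) {v : G} (hv : orderOf v = 2) :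
    fixIn K v ≤ coreCent v := fun x hx =>
  (h.mem_coreCent_iff hv).2 ⟨(mem_fixIn.1 hx).2, Odd.of_dvd_nat hK (K.orderOf_dvd_natCard (mem_fixIn.1 hx).1)⟩

/-- A subgroup over `C(t)` with `t` conjugate to `τ` in it permutes `t`, `τ`, `t τ` cyclically. -/
theorem fuses_of_conj {M : Subgroup G} (hCM : centralizer ({central σ n} : Set G) ≤ M) {g : G} (hgM : g ∈ M)
    (hg : g * central σ n * g⁻¹ = τ) : Fuses M (central σ n) τ := by
  have : Fact (Nat.Prime 2) := ⟨Nat.prime_two⟩
  have hSM : (S : Subgroup G) ≤ M := h.le_centralizer.trans hCM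
  obtain ⟨s, hsS, hst, hsw⟩ := h.exists_quarter
  set V := four (central σ n) τ
  have hK : IsPGroup 2 (MulAut.conj g⁻¹ • V : Subgroup G) :=
    h.isPGroup_four.map (MulDistribMulAction.toMonoidHom G (MulAut.conj g⁻¹))
  have hKC : MulAut.conj g⁻¹ • V ≤ centralizer ({central σ n} : Set G) := by
    rintro _ ⟨y, hy, rfl⟩
    refine mem_centralizer_singleton_iff.2 ?_
    have hc : Commute y τ := by
      rcases h.mem_four_tau.1 hy with rfl | rfl | rfl | rfl
      exacts [Commute.one_left _, h.commute_central_tau, Commute.refl _,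
        h.commute_central_tau.mul_left (Commute.refl _)]
    have h1 := hc.conj g⁻¹
    rw [← hg, show g⁻¹ * (g * central σ n * g⁻¹) * g⁻¹⁻¹ = central σ n by group] at h1
    exact h1.eq
  obtain ⟨c, hc, hcV⟩ := exists_conj_le_sylow S h.le_centralizer hKC hK
  set k := c * g⁻¹ with hk
  have hkM : k ∈ M := mul_mem (hCM hc) (inv_mem hgM)
  have hkmem : ∀ y ∈ V, k * y * k⁻¹ ∈ (S : Subgroup G) := fun y hy => by
    have h1 := hcV (g⁻¹ * y * g) (Grp.mem_smul_conj.2 (by simpa [mul_assoc] using hy))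
    rwa [show c * (g⁻¹ * y * g) * c⁻¹ = k * y * k⁻¹ by rw [hk]; group] at h1
  have hkτ : k * τ * k⁻¹ = central σ n := by
    rw [hk, ← hg, show c * g⁻¹ * (g * central σ n * g⁻¹) * (c * g⁻¹)⁻¹ = c * central σ n * c⁻¹ by group,
      mem_centralizer_singleton_iff.1 hc, mul_inv_cancel_right]
  set w := k * central σ n * k⁻¹ with hw
  have hwσ : w ∉ zpowers σ := fun hmem => by
    refine h.central_ne_tau (mul_left_cancel (mul_right_cancel ((?_ : w = central σ n).trans hkτ.symm)))
    refine h.eq_central hmem ?_ ?_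
    · rw [hw, show k * central σ n * k⁻¹ * (k * central σ n * k⁻¹) =
        k * (central σ n * central σ n) * k⁻¹ by group, h.central_mul_self]
      group
    · rw [hw, ne_eq, conj_eq_one_iff]
      exact h.central_ne_one
  have hsw' := hsw w (hkmem _ (left_mem_four _ _)) hwσ
  set b := k⁻¹ * s * k with hb
  have hbτ : b * τ * b⁻¹ = τ := by
    calc b * τ * b⁻¹ = k⁻¹ * (s * (k * τ * k⁻¹) * s⁻¹) * k := by rw [hb]; group
      _ = k⁻¹ * (k * τ * k⁻¹) * k := by rw [hkτ, hst]
      _ = τ := by group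
  have hbt : b * central σ n * b⁻¹ = central σ n * τ := by
    calc b * central σ n * b⁻¹ = k⁻¹ * (s * w * s⁻¹) * k := by rw [hb, hw]; group
      _ = k⁻¹ * ((k * τ * k⁻¹) * (k * central σ n * k⁻¹)) * k := by rw [hsw', hw, ← hkτ]
      _ = τ * central σ n := by group
      _ = central σ n * τ := h.commute_central_tau.eq.symm
  have hsτ := hsw τ h.hτ h.tau_notMem
  refine ⟨s * b, mul_mem (hSM hsS) (mul_mem (mul_mem (inv_mem hkM) (hSM hsS)) hkM), ?_, ?_⟩
  · rw [show s * b * central σ n * (s * b)⁻¹ = s * (b * central σ n * b⁻¹) * s⁻¹ by group, hbt,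
      show s * (central σ n * τ) * s⁻¹ = (s * central σ n * s⁻¹) * (s * τ * s⁻¹) by group, hst, hsτ,
      ← mul_assoc, h.central_mul_self, one_mul]
  · rw [show s * b * τ * (s * b)⁻¹ = s * (b * τ * b⁻¹) * s⁻¹ by group, hbτ, hsτ]

end Hyp

end Cfsg.Agent.Invol.GW.Dihedral
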