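import Cfsg.Agent.Lib.Invol.GW.Dihedral.TwoClassImage
import Cfsg.Agent.Lib.Invol.GW.Dihedral.TwoClassBasic
import Cfsg.Agent.Lib.Invol.GW.Dihedral.LocalsNormal
import Cfsg.Agent.Lib.Alt.AutAlternating

/-!
# Gorenstein–Walter, dihedral: the facts on a subgroup with two classes of involutions are true

`M` acts on its socle modulo the core `K`, with kernel `K`.  As `u' = σ τ` is not conjugate to `t` it induces an
outer automorphism; `A₇` is then excluded, as `S₇` has commuting elements of orders two and four that a dihedral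
group has not, and the quotient is as in `PGL.image_facts`.  Centralisers of involutions lift through a kernel of
odd order.
-/

set_option autoImplicit false
set_option linter.unusedSectionVars false
set_option linter.style.haveILetI false

namespace Cfsg.Agent.Invol.GW.Dihedral

open Subgroup Klein

universe u

variable {G : Type u} [Group G] [Finite G]

theorem exists_two_pow_le : ∀ k : ℕ, 2 ≤ k → 2 * k + 2 ≤ 3 ^ k := by
  refine Nat.le_induction (by norm_num) fun k hk ih => ?_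
  rw [pow_succ]
  omega

theorem eq_of_two_pow_mul {x y i j : ℕ} (hx : Odd x) (hy : Odd y) (e : x * 2 ^ i = y * 2 ^ j) : x = y ∧ i = j := by
  have h1 : x = y := Nat.dvd_antisymm
    (((Nat.coprime_two_right.2 hx).pow_right j).dvd_of_dvd_mul_right (e ▸ dvd_mul_right _ _))
    (((Nat.coprime_two_right.2 hy).pow_right i).dvd_of_dvd_mul_right (e ▸ dvd_mul_right _ _))
  subst h1
  exact ⟨rfl, Nat.pow_right_injective le_rfl (Nat.eq_of_mul_eq_mul_left hx.pos e)⟩

/-- The parameters of the centralisers. -/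
theorem pgl_arith {U kt f m m' q n : ℕ} (hn : 3 ≤ n) (hU : Odd U) (hkt : Odd kt) (hf : Odd f)
    (hq3 : 3 ≤ q) (e : U * 2 ^ n = kt * (2 * m * f))
    (hm : (m + 1 = q ∧ m' = q + 1) ∨ (m = q + 1 ∧ m' + 1 = q)) :
    ∃ a b : ℕ, Odd a ∧ Odd b ∧ U = kt * a * f ∧ m' = 2 * b ∧
      (b = 2 ^ (n - 2) * a + 1 ∨ b + 1 = 2 ^ (n - 2) * a) := by
  obtain ⟨i, a, ha, hma⟩ := Nat.exists_eq_two_pow_mul_odd (n := m) (by omega)
  obtain ⟨hUa, hin⟩ := eq_of_two_pow_mul hU ((hkt.mul ha).mul hf)
    (show U * 2 ^ n = kt * a * f * 2 ^ (i + 1) by rw [e, hma, pow_succ]; ring)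
  have h2 : 2 ^ i = 2 * 2 ^ (n - 2) := by
    rw [← pow_succ']; congr 1; omega
  rw [h2, mul_assoc] at hma
  have he : Even (2 ^ (n - 2) * a) := ((Nat.even_pow).2 ⟨even_two, by omega⟩).mul_right a
  rcases hm with ⟨h1, h3⟩ | ⟨h1, h3⟩
  · exact ⟨a, 2 ^ (n - 2) * a + 1, ha, he.add_one, hUa, by omega, Or.inl rfl⟩
  · obtain ⟨c, hc⟩ := he
    exact ⟨a, 2 ^ (n - 2) * a - 1, ha, ⟨c - 1, by omega⟩, hUa, by omega, Or.inr (by omega)⟩

/-- `M` acts on `Q` with kernel the core, inducing all inner automorphisms. -/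
structure ActData (M : Subgroup G) {Q : Type} [Group Q] (χ : ↥M →* MulAut Q) : Prop where
  ker : ∀ x : ↥M, χ x = 1 ↔ (x : G) ∈ oddOf M
  inn : Cfsg.Inn Q ≤ χ.range

variable {M : Subgroup G} {Q : Type} [Group Q]

/-- The action on the socle. -/
theorem SocleData.exists_action {N : Subgroup G} {π : ↥N →* Q} (hd : SocleData M N π) :
    ∃ χ : ↥M →* MulAut Q, ActData M χ ∧ ∀ y : ↥N, χ ⟨y, hd.le y.2⟩ = MulAut.conj (π y) := by
  let c : ↥M → (↥N →* ↥N) := fun x =>
    (((MulAut.conj (x : G)).toMonoidHom.comp N.subtype).codRestrict N fun e =>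
      conj_mem_of_normalizer (hd.normal x.2) e.2)
  have hker : ∀ x : ↥M, π.ker ≤ (π.comp (c x)).ker := fun x e he =>
    (hd.ker _).2 (conj_mem_oddOf x.2 ((hd.ker e).1 he))
  let L : ↥M → (Q →* Q) := fun x => π.liftOfSurjective hd.surj ⟨π.comp (c x), hker x⟩
  have hL : ∀ x e, L x (π e) = π (c x e) := fun x e =>
    π.liftOfRightInverse_comp_apply _ _ ⟨π.comp (c x), hker x⟩ e
  have hmul : ∀ x y q, L (x * y) q = L x (L y q) := fun x y q => by
    obtain ⟨e, rfl⟩ := hd.surj q
    rw [hL, hL, hL]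
    refine congrArg π (Subtype.ext ?_)
    show ((x : G) * y) * e * ((x : G) * y)⁻¹ = (x : G) * ((y : G) * e * (y : G)⁻¹) * (x : G)⁻¹
    group
  have hone : ∀ q, L 1 q = q := fun q => by
    obtain ⟨e, rfl⟩ := hd.surj q
    rw [hL]
    refine congrArg π (Subtype.ext ?_)
    show ((1 : ↥M) : G) * e * ((1 : ↥M) : G)⁻¹ = e
    simp
  let χ : ↥M →* MulAut Q :=
    { toFun := fun x =>
        { toFun := L x
          invFun := L x⁻¹
          left_inv := fun q => by rw [← hmul, inv_mul_cancel, hone]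
          right_inv := fun q => by rw [← hmul, mul_inv_cancel, hone]
          map_mul' := map_mul _ }
      map_one' := MulEquiv.ext hone
      map_mul' := fun x y => MulEquiv.ext (hmul x y) }
  have hχ : ∀ y : ↥N, χ ⟨y, hd.le y.2⟩ = MulAut.conj (π y) := fun y => MulEquiv.ext fun q => by
    obtain ⟨e, rfl⟩ := hd.surj q
    show L _ (π e) = π y * π e * (π y)⁻¹
    rw [hL, ← map_inv, ← map_mul, ← map_mul]
    rfl
  refine ⟨χ, ⟨fun x => ⟨fun hx => hd.self x x.2 fun y hy => ?_, fun hx => MulEquiv.ext fun q => ?_⟩, ?_⟩, hχ⟩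
  · have h1 : π (c x ⟨y, hy⟩) = π ⟨y, hy⟩ :=
      (hL x ⟨y, hy⟩).symm.trans (DFunLike.congr_fun hx (π ⟨y, hy⟩))
    rw [← mul_inv_eq_one, ← map_inv, ← map_mul, hd.ker] at h1
    exact h1
  · obtain ⟨e, rfl⟩ := hd.surj q
    show L x (π e) = π e
    rw [hL, ← mul_inv_eq_one, ← map_inv, ← map_mul, hd.ker]
    show (x : G) * e * (x : G)⁻¹ * (e : G)⁻¹ ∈ oddOf M
    rw [show (x : G) * e * (x : G)⁻¹ * (e : G)⁻¹ = (x : G) * ((e : G) * (x : G)⁻¹ * (e : G)⁻¹) by group]
    exact mul_mem hx (conj_mem_oddOf (hd.le e.2) (inv_mem hx))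
  · rintro _ ⟨q, rfl⟩
    obtain ⟨y, rfl⟩ := hd.surj q
    exact ⟨_, hχ y⟩

namespace ActData

variable {χ : ↥M →* MulAut Q} (hact : ActData M χ)
include hact

theorem ne_one_of_involution {x : ↥M} (hx : (x : G) * x = 1) (hx1 : (x : G) ≠ 1) : χ x ≠ 1 := fun e =>
  hx1 (eq_one_of_odd (odd_card_oddOf M) ((hact.ker x).1 e) hx)

/-- Involutions with the same image are conjugate by the core. -/
theorem exists_conj_of_eq {u u' : ↥M} (hu : u * u = 1) (hu' : u' * u' = 1) (e : χ u = χ u') :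
    ∃ k : ↥M, (k : G) ∈ oddOf M ∧ k * u' * k⁻¹ = u ∧ ∀ z, Commute z u → Commute z u' → Commute z k := by
  set d := u * u' with hd
  have hdK : (d : G) ∈ oddOf M := (hact.ker d).1 (by rw [hd, map_mul, ← e, ← map_mul, hu, map_one])
  obtain ⟨j, hj⟩ := (Odd.of_dvd_nat (odd_card_oddOf M) ((oddOf M).orderOf_dvd_natCard hdK) :
    Odd (orderOf (d : G)))
  rw [Subgroup.orderOf_coe] at hj
  have hud : u' * d⁻¹ * u'⁻¹ = d := by
    rw [hd, _root_.mul_inv_rev, inv_eq_of_mul_eq_one_right hu, inv_eq_of_mul_eq_one_right hu',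
      ← mul_assoc u' u' u, hu', one_mul]
  refine ⟨d ^ (j + 1), by rw [SubmonoidClass.coe_pow]; exact pow_mem hdK _, ?_,
    fun z h1 h2 => (h1.mul_right h2).pow_right _⟩
  have h1 : u' * (d ^ (j + 1))⁻¹ = d ^ (j + 1) * u' := by
    rw [← mul_inv_eq_iff_eq_mul, ← inv_pow, ← conj_pow, hud]
  rw [mul_assoc, h1, ← mul_assoc, ← pow_add, show j + 1 + (j + 1) = orderOf d + 1 by omega, pow_succ,
    pow_orderOf_eq_one, one_mul, hd, mul_assoc, hu', mul_one]

/-- An element centralising the image of an involution has a translate centralising the involution. -/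
theorem exists_lift_commute {v x : ↥M} (hv : v * v = 1) (hx : Commute (χ x) (χ v)) :
    ∃ x' : ↥M, χ x' = χ x ∧ Commute x' v := by
  obtain ⟨k, hk, hkv, -⟩ := hact.exists_conj_of_eq hv (u' := x * v * x⁻¹)
    (by rw [show x * v * x⁻¹ * (x * v * x⁻¹) = x * (v * v) * x⁻¹ by group, hv, mul_one, mul_inv_cancel])
    (by rw [map_mul, map_mul, map_inv, hx.eq, mul_inv_cancel_right])
  refine ⟨k * x, by rw [map_mul, (hact.ker k).2 hk, one_mul], mul_inv_eq_iff_eq_mul.1 ?_⟩
  rw [show k * x * v * (k * x)⁻¹ = k * (x * v * x⁻¹) * k⁻¹ by group, hkv]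

/-- An element centralising the images of two commuting involutions has a translate centralising both. -/
theorem exists_lift_commute₂ {v w x : ↥M} (hv : v * v = 1) (hw : w * w = 1) (hvw : Commute v w)
    (hxv : Commute (χ x) (χ v)) (hxw : Commute (χ x) (χ w)) :
    ∃ x' : ↥M, χ x' = χ x ∧ Commute x' v ∧ Commute x' w := by
  obtain ⟨y, hy, hyv⟩ := hact.exists_lift_commute hv hxv
  have hyv' : y * v * y⁻¹ = v := mul_inv_eq_iff_eq_mul.2 hyv.eq
  obtain ⟨k, hk, hkw, hkz⟩ := hact.exists_conj_of_eq hw (u' := y * w * y⁻¹)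
    (by rw [show y * w * y⁻¹ * (y * w * y⁻¹) = y * (w * w) * y⁻¹ by group, hw, mul_one, mul_inv_cancel])
    (by rw [map_mul, map_mul, map_inv, hy, hxw.eq, mul_inv_cancel_right])
  have hkv : Commute v k := hkz v hvw (by
    have h1 := hvw.conj y
    rwa [hyv'] at h1)
  refine ⟨k * y, by rw [map_mul, (hact.ker k).2 hk, one_mul, hy], hkv.symm.mul_left hyv,
    mul_inv_eq_iff_eq_mul.1 ?_⟩
  rw [show k * y * w * (k * y)⁻¹ = k * (y * w * y⁻¹) * k⁻¹ by group, hkw]

theorem card_split {H : Subgroup G} (hH : H ≤ M) :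
    Nat.card ↥H = Nat.card ↥(oddOf M ⊓ H : Subgroup G) * Nat.card ↥((H.subgroupOf M).map χ) := by
  set f := χ.comp (Subgroup.inclusion hH) with hf
  have e1 : Nat.card ↥f.ker = Nat.card ↥(oddOf M ⊓ H : Subgroup G) :=
    Nat.card_congr
      { toFun := fun x => ⟨(x.1 : G), (hact.ker _).1 x.2, x.1.2⟩
        invFun := fun x => ⟨⟨x.1, x.2.2⟩, (hact.ker _).2 x.2.1⟩
        left_inv := fun _ => rfl
        right_inv := fun _ => rfl }
  have e2 : f.range = (H.subgroupOf M).map χ := by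
    ext a
    constructor
    · rintro ⟨x, rfl⟩
      exact ⟨Subgroup.inclusion hH x, x.2, rfl⟩
    · rintro ⟨x, hx, rfl⟩
      exact ⟨⟨x, hx⟩, rfl⟩
  rw [f.ker.card_eq_card_quotient_mul_card_subgroup,
    Nat.card_congr (QuotientGroup.quotientKerEquivRange f).toEquiv, e1, e2, mul_comm]

theorem card_cent (v : ↥M) (hv : v * v = 1) :
    Nat.card ↥(centralizer ({(v : G)} : Set G) ⊓ M : Subgroup G) =
      Nat.card ↥(fixIn (oddOf M) v) *
        Nat.card ↥(χ.range ⊓ centralizer ({χ v} : Set (MulAut Q)) : Subgroup (MulAut Q)) := by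
  rw [hact.card_split inf_le_right]
  congr 2
  · exact congrArg (fun H : Subgroup G => ↥H) (le_antisymm (fun x hx => ⟨hx.1, hx.2.1⟩)
      fun x hx => ⟨hx.1, hx.2, oddOf_le M hx.1⟩)
  · refine congrArg (fun H : Subgroup (MulAut Q) => ↥H) (le_antisymm ?_ ?_)
    · rintro _ ⟨x, hx, rfl⟩
      refine ⟨⟨x, rfl⟩, mem_centralizer_singleton_iff.2 ?_⟩
      rw [← map_mul, ← map_mul]
      exact congrArg χ (Subtype.ext (mem_centralizer_singleton_iff.1 hx.1))
    · rintro _ ⟨⟨x, rfl⟩, hx⟩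
      obtain ⟨x', hx', hc⟩ := hact.exists_lift_commute hv (mem_centralizer_singleton_iff.1 hx)
      exact ⟨x', ⟨mem_centralizer_singleton_iff.2 (congrArg Subtype.val hc.eq), x'.2⟩, hx'⟩

theorem card_cent₂ (v w : ↥M) (hv : v * v = 1) (hw : w * w = 1) (hvw : Commute v w) :
    Nat.card ↥(centralizer ({(v : G)} : Set G) ⊓ centralizer ({(w : G)} : Set G) ⊓ M : Subgroup G) =
      Nat.card ↥(fixIn₂ (oddOf M) v w) *
        Nat.card ↥(χ.range ⊓ (centralizer ({χ v} : Set (MulAut Q)) ⊓ centralizer ({χ w} : Set (MulAut Q))) :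
          Subgroup (MulAut Q)) := by
  rw [hact.card_split inf_le_right]
  congr 2
  · exact congrArg (fun H : Subgroup G => ↥H) (le_antisymm (fun x hx => ⟨⟨hx.1, hx.2.1.1⟩, hx.2.1.2⟩)
      fun x hx => ⟨hx.1.1, ⟨hx.1.2, hx.2⟩, oddOf_le M hx.1.1⟩)
  · refine congrArg (fun H : Subgroup (MulAut Q) => ↥H) (le_antisymm ?_ ?_)
    · rintro _ ⟨x, hx, rfl⟩
      refine ⟨⟨x, rfl⟩, mem_centralizer_singleton_iff.2 ?_, mem_centralizer_singleton_iff.2 ?_⟩ <;>
        rw [← map_mul, ← map_mul]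
      · exact congrArg χ (Subtype.ext (mem_centralizer_singleton_iff.1 hx.1.1))
      · exact congrArg χ (Subtype.ext (mem_centralizer_singleton_iff.1 hx.1.2))
    · rintro _ ⟨⟨x, rfl⟩, hxv, hxw⟩
      obtain ⟨x', hx', hcv, hcw⟩ := hact.exists_lift_commute₂ hv hw hvw (mem_centralizer_singleton_iff.1 hxv)
        (mem_centralizer_singleton_iff.1 hxw)
      exact ⟨x', ⟨⟨mem_centralizer_singleton_iff.2 (congrArg Subtype.val hcv.eq),
        mem_centralizer_singleton_iff.2 (congrArg Subtype.val hcw.eq)⟩, x'.2⟩, hx'⟩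

end ActData

namespace Hyp

variable {S : Sylow 2 G} {σ τ : G} {n : ℕ} (h : Hyp S σ τ n)
include h

/-- The part of the core of `C(v)` in a subgroup of `C(v)` has index a power of two. -/
theorem card_core_inf {v : G} (hv : orderOf v = 2) {H : Subgroup G} (hH : H ≤ centralizer ({v} : Set G)) :
    ∃ j, Nat.card ↥(coreCent v ⊓ H : Subgroup G) * 2 ^ j = Nat.card ↥H := by
  set C := centralizer ({v} : Set G) with hC
  have hU : coreCent v ≤ C := oddOf_le _
  haveI : ((coreCent v).subgroupOf C).Normal := normal_subgroupOf_of_le_normalizer (le_normalizer_oddOf _)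
  have hcard : Nat.card ↥C = Nat.card ↥(centralizer ({central σ n} : Set G)) := by
    obtain ⟨g, hg⟩ := isConj_iff.1 (h.one_central v hv)
    refine (Nat.card_congr ((MulAut.conj g).toEquiv.subtypeEquiv fun x => ?_)).symm
    show x ∈ centralizer ({central σ n} : Set G) ↔ g * x * g⁻¹ ∈ centralizer ({v} : Set G)
    rw [mem_centralizer_singleton_iff, mem_centralizer_singleton_iff, ← hg,
      show g * x * g⁻¹ * (g * central σ n * g⁻¹) = g * (x * central σ n) * g⁻¹ by group,
      show g * central σ n * g⁻¹ * (g * x * g⁻¹) = g * (central σ n * x) * g⁻¹ by group, mul_left_inj, mul_right_inj]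
  have hidx : ((coreCent v).subgroupOf C).index = 2 ^ n := by
    refine Nat.eq_of_mul_eq_mul_left (Nat.card_pos (α := ↥(coreCent v))) ?_
    rw [h.card_coreCent_eq hv, ← h.card_centralizer, ← hcard, ← h.card_coreCent_eq hv,
      ← Nat.card_congr (subgroupOfEquivOfLe hU).toEquiv]
    exact card_mul_index _
  have hdvd : (coreCent v).relIndex H ∣ 2 ^ n := by
    rw [← hidx, ← relIndex_subgroupOf hH]
    exact relIndex_dvd_index_of_normal _ _
  obtain ⟨j, -, hj⟩ := (Nat.dvd_prime_pow Nat.prime_two).1 hdvd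
  refine ⟨j, ?_⟩
  rw [← hj, ← Nat.card_congr (subgroupOfEquivOfLe (inf_le_right : coreCent v ⊓ H ≤ H)).toEquiv,
    inf_subgroupOf_right]
  exact card_mul_index _

/-- A dihedral group has no commuting elements of orders two and four generating a group of order eight. -/
theorem noTwoFour {χ : ↥M →* MulAut Q} (hact : ActData M χ) : NoTwoFour χ.range := by
  haveI : Fact (Nat.Prime 2) := ⟨Nat.prime_two⟩
  rintro _ ⟨x, rfl⟩ _ ⟨y, rfl⟩ hc hI hI1 hJ hJ1 hne
  set o := Nat.card ↥(oddOf M)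
  obtain ⟨r, hr⟩ : Odd o := odd_card_oddOf M
  have hpow : ∀ z : ↥M, χ z = 1 → z ^ o = 1 := fun z hz => Subtype.ext (by
    rw [SubmonoidClass.coe_pow, OneMemClass.coe_one]
    exact orderOf_dvd_iff_pow_eq_one.1 ((oddOf M).orderOf_dvd_natCard ((hact.ker z).1 hz)))
  -- lifts of two-power order
  set i := x ^ o with hidef
  have hχi : χ i = χ x := by
    rw [hidef, map_pow, hr, pow_succ, pow_mul, pow_two, hI, one_pow, one_mul]
  have hi : i * i = 1 := by
    rw [hidef, ← pow_add, ← two_mul, pow_mul]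
    exact hpow _ (by rw [map_pow, pow_two]; exact hI)
  obtain ⟨y', hy', hyi⟩ := hact.exists_lift_commute hi (x := y) (by rw [hχi]; exact hc.symm)
  set j := y' ^ o
  have hχj : χ j = χ y ^ o := by rw [map_pow, hy']
  have hj4 : j ^ 4 = 1 := by
    rw [← pow_mul, mul_comm, pow_mul]
    exact hpow _ (by rw [map_pow, hy', hJ])
  have hχj2 : χ (j ^ 2) = χ y ^ 2 := by
    rw [map_pow, hχj, ← pow_mul, show o * 2 = 4 * r + 2 by omega, pow_add, pow_mul, hJ, one_pow, one_mul]
  set I : G := (i : G)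
  set J : G := (j : G)
  have hIJ : Commute J I := congrArg Subtype.val ((hyi.pow_left o).eq)
  have hII : I * I = 1 := congrArg Subtype.val hi
  have hJ4 : J ^ 4 = 1 := by
    have := congrArg Subtype.val hj4
    rwa [SubmonoidClass.coe_pow] at this
  have hI1' : I ≠ 1 := fun e => hI1 (by rw [← hχi, show i = 1 from Subtype.ext e, map_one])
  have hJ2 : J ^ 2 ≠ 1 := fun e => hJ1 (by
    rw [← hχj2, show j ^ 2 = 1 from Subtype.ext (by rw [SubmonoidClass.coe_pow]; exact e), map_one])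
  have hIJ2 : I ≠ J ^ 2 := fun e => hne (by
    rw [← hχi, ← hχj2, show i = j ^ 2 from Subtype.ext (by rw [SubmonoidClass.coe_pow]; exact e)])
  -- into the Sylow subgroup
  have hcomm : ∀ a ∈ closure ({I, J} : Set G), Commute a I ∧ Commute a J := fun a ha => by
    have hle : closure ({I, J} : Set G) ≤ centralizer ({I} : Set G) ⊓ centralizer ({J} : Set G) := by
      rw [closure_le]
      rintro z (rfl | rfl)
      exacts [⟨mem_centralizer_singleton_iff.2 rfl, mem_centralizer_singleton_iff.2 hIJ.symm.eq⟩,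
        ⟨mem_centralizer_singleton_iff.2 hIJ.eq, mem_centralizer_singleton_iff.2 rfl⟩]
    exact ⟨mem_centralizer_singleton_iff.1 (hle ha).1, mem_centralizer_singleton_iff.1 (hle ha).2⟩
  have hP : IsPGroup 2 (closure ({I, J} : Set G)) := fun a => ⟨2, Subtype.ext (by
    rw [SubmonoidClass.coe_pow, OneMemClass.coe_one]
    refine closure_induction (p := fun z _ => z ^ 2 ^ 2 = 1) ?_ (one_pow _) ?_ ?_ a.2
    · rintro z (rfl | rfl)
      · rw [show (2 : ℕ) ^ 2 = 2 * 2 from rfl, pow_mul, pow_two I, hII, one_pow]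
      · exact hJ4
    · intro z z' hz hz' e e'
      have hzz : Commute z z' := by
        have hle : closure ({I, J} : Set G) ≤ centralizer ({z} : Set G) := by
          rw [closure_le]
          rintro w (rfl | rfl)
          exacts [mem_centralizer_singleton_iff.2 (hcomm z hz).1.symm.eq,
            mem_centralizer_singleton_iff.2 (hcomm z hz).2.symm.eq]
        exact (mem_centralizer_singleton_iff.1 (hle hz') : z' * z = z * z').symm
      rw [hzz.mul_pow, e, e', one_mul]
    · intro z _ e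
      rw [inv_pow, e, inv_one])⟩
  obtain ⟨g, -, hg⟩ := exists_conj_le_sylow S (X := ⊤) le_top (K := closure ({I, J} : Set G)) le_top hP
  set I' := g * I * g⁻¹ with hI'
  set J' := g * J * g⁻¹ with hJ'
  have hI'S : I' ∈ (S : Subgroup G) := hg I (subset_closure (Set.mem_insert _ _))
  have hJ'S : J' ∈ (S : Subgroup G) := hg J (subset_closure (Set.mem_insert_of_mem _ rfl))
  have hJ'2 : J' * J' ≠ 1 := by
    rw [hJ', show g * J * g⁻¹ * (g * J * g⁻¹) = g * (J * J) * g⁻¹ by group, ← pow_two, ne_eq, conj_eq_one_iff]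
    exact hJ2
  have hI'2 : I' * I' = 1 := by
    rw [hI', show g * I * g⁻¹ * (g * I * g⁻¹) = g * (I * I) * g⁻¹ by group, hII, mul_one, mul_inv_cancel]
  have hJσ : J' ∈ zpowers σ := by
    by_contra hne'
    exact hJ'2 ((h.data.cases J' hJ'S).resolve_left hne').1
  have hIσ : I' ∈ zpowers σ := by
    by_contra hne'
    obtain ⟨-, -, hinv⟩ := (h.data.cases I' hI'S).resolve_left hne'
    obtain ⟨l, hl⟩ := mem_zpowers_iff.1 hJσ
    have h1 : I' * J' * I'⁻¹ = J'⁻¹ := by rw [← hl, ← conj_zpow, hinv, inv_zpow]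
    have h2 : Commute I' J' := hIJ.symm.conj g
    rw [h2.eq, mul_inv_cancel_right] at h1
    exact hJ'2 (eq_inv_iff_mul_eq_one.1 h1)
  have e1 := h.eq_central hIσ hI'2 (by rw [hI', ne_eq, conj_eq_one_iff]; exact hI1')
  have e2 := h.eq_central (mul_mem hJσ hJσ)
    (by rw [hJ', show g * J * g⁻¹ * (g * J * g⁻¹) * (g * J * g⁻¹ * (g * J * g⁻¹)) = g * (J * J * (J * J)) * g⁻¹ by group,
      ← pow_two J, ← pow_add, hJ4, mul_one, mul_inv_cancel]) hJ'2
  refine hIJ2 ?_
  have e3 := e1.trans e2.symm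
  rw [hI', hJ', show g * J * g⁻¹ * (g * J * g⁻¹) = g * (J * J) * g⁻¹ by group, ← pow_two] at e3
  exact mul_left_cancel (mul_right_cancel e3)

/-- The facts, once the action on `PSL₂(q)` is given. -/
theorem facts_of_act {F : Type} [Field F] [Fintype F] (hodd : Odd (Fintype.card F)) (hq : 3 ≤ Fintype.card F)
    {χ : ↥M →* MulAut (Matrix.ProjectiveSpecialLinearGroup (Fin 2) F)} (hact : ActData M χ)
    (hCM : centralizer ({central σ n} : Set G) ≤ M) (t u w : ↥M) (ht : (t : G) = central σ n) (hu : (u : G) = τ)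
    (hw : (w : G) = σ * τ) (hTi : χ t ∈ Cfsg.Inn _) (hUi : χ u ∈ Cfsg.Inn _) (hWi : χ w ∉ Cfsg.Inn _) :
    TwoClassFacts σ τ n M := by
  have hwo := h.orderOf_sigma_tau
  have htt : t * t = 1 := Subtype.ext (by rw [Subgroup.coe_mul, ht, OneMemClass.coe_one]; exact h.central_mul_self)
  have huu : u * u = 1 := Subtype.ext (by rw [Subgroup.coe_mul, hu, OneMemClass.coe_one]; exact h.tau_mul_self)
  have hww : w * w = 1 := Subtype.ext (by
    rw [Subgroup.coe_mul, hw, OneMemClass.coe_one]; exact h.symm.tau_mul_self)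
  have htu : Commute t u := Subtype.ext (by simp only [Subgroup.coe_mul, ht, hu]; exact h.commute_central_tau.eq)
  have htw : Commute t w := Subtype.ext (by
    simp only [Subgroup.coe_mul, ht, hw]; exact h.symm.commute_central_tau.eq)
  have hne : χ t ≠ χ u := fun e => hact.ne_one_of_involution (x := t * u)
    (by rw [← Subgroup.coe_mul, htu.symm.mul_mul_mul_comm, htt, huu, one_mul, OneMemClass.coe_one])
    (by rw [Subgroup.coe_mul, ht, hu]; exact h.central_mul_tau_ne)
    (by rw [map_mul, e, ← map_mul, huu, map_one])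
  obtain ⟨f, m, m', hf, ⟨p, k, hp, hpk, hfk⟩, hm, eT, eW, eTU, eTW, htori, h24⟩ :=
    PGL.image_facts hodd (A := χ.range) hact.inn (h.noTwoFour hact) hTi hUi ⟨w, rfl⟩ hWi
      (hact.ne_one_of_involution (congrArg Subtype.val htt) (by rw [ht]; exact h.central_ne_one))
      (by rw [← map_mul, htt, map_one])
      (hact.ne_one_of_involution (congrArg Subtype.val huu) (by rw [hu]; exact h.tau_ne_one))
      (by rw [← map_mul, huu, map_one]) (by rw [← map_mul, hww, map_one]) (htu.map χ) hne (htw.map χ)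
  have hK : Odd (Nat.card ↥(oddOf M)) := odd_card_oddOf M
  have hfix : ∀ v : G, Odd (Nat.card ↥(fixIn (oddOf M) v)) := fun v => odd_of_le (fixIn_le _ _) hK
  -- the centraliser of `t`
  have c1 := hact.card_cent t htt
  rw [ht, inf_eq_left.2 hCM, h.card_centralizer, eT] at c1
  obtain ⟨a, b, ha, hb, hU, hm', hab⟩ := pgl_arith h.three h.odd_coreCent (hfix _) hf hq c1 hm
  -- the centraliser of `σ τ`
  have hUw : Nat.card ↥(coreCent (σ * τ) ⊓ M : Subgroup G) = Nat.card ↥(fixIn (oddOf M) (σ * τ)) * b * f := by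
    obtain ⟨j, hj⟩ := h.card_core_inf hwo (H := centralizer ({σ * τ} : Set G) ⊓ M) inf_le_left
    rw [← inf_assoc, inf_eq_left.2 (show coreCent (σ * τ) ≤ centralizer ({σ * τ} : Set G) from oddOf_le _)] at hj
    have c2 := hact.card_cent w hww
    rw [hw, eW, ← hj, hm'] at c2
    have ho : Odd (Nat.card ↥(coreCent (σ * τ) ⊓ M : Subgroup G)) := odd_of_le inf_le_left (odd_card_oddOf _)
    exact (eq_of_two_pow_mul ho (((hfix _).mul hb).mul hf) (i := j) (j := 2) (by rw [c2]; ring)).1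
  -- the four groups
  have hR : ∀ v : ↥M, v * v = 1 → Commute t v →
      Nat.card ↥(χ.range ⊓ (centralizer ({χ t} : Set _) ⊓ centralizer ({χ v} : Set _)) : Subgroup _) = 4 * f →
      Nat.card ↥(fixR (central σ n) v) = Nat.card ↥(fixIn₂ (oddOf M) (central σ n) v) * f := by
    intro v hvv htv e
    obtain ⟨j, hj⟩ := h.card_core_inf h.orderOf_central
      (H := centralizer ({central σ n} : Set G) ⊓ centralizer ({(v : G)} : Set G) ⊓ M) (inf_le_left.trans inf_le_left)
    have e1 : coreCent (central σ n) ⊓ (centralizer ({central σ n} : Set G) ⊓ centralizer ({(v : G)} : Set G) ⊓ M) =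
        fixR (central σ n) v := le_antisymm (fun x hx => ⟨hx.1, hx.2.1.2⟩)
      fun x hx => ⟨hx.1, ⟨h.coreCent_le hx.1, hx.2⟩, hCM (h.coreCent_le hx.1)⟩
    have c2 := hact.card_cent₂ t v htt hvv htv
    rw [e, ht] at c2
    rw [e1, c2] at hj
    have ho : Odd (Nat.card ↥(fixR (central σ n) v)) := odd_of_le inf_le_left h.odd_coreCent
    exact (eq_of_two_pow_mul ho ((odd_of_le (fixIn₂_le _ _ _) (hfix _)).mul hf) (i := j) (j := 2)
      (by rw [hj]; ring)).1
  have hfb : f < b ∨ (b = 1 ∧ f = 1) := by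
    have hk0 : k ≠ 0 := fun e => by rw [e, pow_zero] at hpk; omega
    have hfk' : f ≤ k := Nat.le_of_dvd (Nat.pos_of_ne_zero hk0) hfk
    rcases Nat.lt_or_ge k 2 with hk | hk
    · have : 0 < f := hf.pos
      have := hb.pos
      omega
    · have hp3 : 3 ≤ p := by
        rcases hp.eq_two_or_odd with e | e
        · exact absurd hodd (Nat.not_odd_iff_even.2 (by rw [hpk, e]; exact (Nat.even_pow).2 ⟨even_two, hk0⟩))
        · have := hp.two_le; omega
      have h1 := exists_two_pow_le k hk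
      have h2 : 3 ^ k ≤ p ^ k := Nat.pow_le_pow_left hp3 k
      omega
  refine ⟨a, b, f, ha, hb, hf, hab, hfb, hU, hUw, hu ▸ hR u huu htu eTU, hw ▸ hR w hww htw eTW, ?_, ?_⟩
  · intro P hKP hPM hPo hPt hPw hPeq
    set X := (P.subgroupOf M).map χ with hX
    have hXo : Odd (Nat.card ↥X) := by
      refine Odd.of_dvd_nat hPo ?_
      rw [← Nat.card_congr (subgroupOfEquivOfLe hPM).toEquiv]
      exact card_map_dvd _ _
    have hXw : ∀ x ∈ X, χ w * x * (χ w)⁻¹ ∈ X := by
      rintro _ ⟨y, hy, rfl⟩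
      refine ⟨w * y * w⁻¹, ?_, by rw [map_mul, map_mul, map_inv]⟩
      show (w : G) * y * (w : G)⁻¹ ∈ P
      rw [hw]
      exact conj_mem_of_normalizer hPw hy
    have key : ∀ v : ↥M,
        Nat.card ↥(X ⊓ centralizer ({χ v} : Set _) : Subgroup _) ∣ f →
        Nat.card ↥(fixIn P v) ∣ Nat.card ↥(fixIn (oddOf M) v) * f := by
      intro v hdiv
      rw [hact.card_split ((fixIn_le P _).trans hPM)]
      refine mul_dvd_mul (card_dvd_of_le ?_) ((card_dvd_of_le ?_).trans hdiv)
      · exact fun x hx => ⟨hx.1, hx.2.2⟩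
      · rintro _ ⟨y, hy, rfl⟩
        refine ⟨mem_map_of_mem χ hy.1, mem_centralizer_singleton_iff.2 ?_⟩
        rw [← map_mul, ← map_mul]
        exact congrArg χ (Subtype.ext (mem_centralizer_singleton_iff.1 hy.2))
    rcases htori X (map_le_range _ _) hXo hXw with e | e
    · exact hw ▸ key w e
    · obtain ⟨s, hsS, -, hsw⟩ := h.exists_quarter
      have hKeq : Nat.card ↥(fixIn (oddOf M) (central σ n * (σ * τ))) = Nat.card ↥(fixIn (oddOf M) (σ * τ)) :=
        hsw (σ * τ) (mul_mem h.hσ h.hτ) h.symm.tau_notMem ▸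
          card_fixIn_conj (le_normalizer_oddOf M (hCM (h.le_centralizer hsS)))
      rw [← map_mul] at e
      have h1 := key (t * w) e
      rw [Subgroup.coe_mul, ht, hw, hKeq, ← hPeq] at h1
      exact h1
  · intro ha1 hb1
    have hq3 : Fintype.card F = 3 := by omega
    have hf1 : f = 1 := by have := hf.pos; omega
    have c := hact.card_split (le_refl M)
    rw [inf_eq_left.2 (oddOf_le M), subgroupOf_self, ← MonoidHom.range_eq_map, h24 hq3, hf1, mul_one] at c
    exact c

/-- `S₇` is not the quotient. -/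
theorem not_alt_seven {χ : ↥M →* MulAut (alternatingGroup (Fin 7))} (hact : ActData M χ) {w : ↥M}
    (hw : χ w ∉ Cfsg.Inn _) : False := by
  set ψ := (MulAut.conjNormal : Equiv.Perm (Fin 7) →* MulAut ↥(alternatingGroup (Fin 7)))
  have hb : Function.Bijective ψ := AltAut.conjNormal_bijective (by simp) (by simp)
  set R := χ.range.comap ψ with hR
  have heven : ∀ a ∈ alternatingGroup (Fin 7), a ∈ R := fun a ha =>
    hact.inn ⟨⟨a, ha⟩, (MulAut.conjNormal_val (h := (⟨a, ha⟩ : alternatingGroup (Fin 7)))).symm⟩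
  obtain ⟨o, ho⟩ := hb.2 (χ w)
  have hoR : o ∈ R := show ψ o ∈ χ.range from ho ▸ ⟨w, rfl⟩
  have hodd : Equiv.Perm.sign o = -1 := (Int.units_eq_one_or _).resolve_left fun e => hw (by
    rw [← ho]
    exact ⟨⟨o, Equiv.Perm.mem_alternatingGroup.2 e⟩,
      (MulAut.conjNormal_val (h := (⟨o, Equiv.Perm.mem_alternatingGroup.2 e⟩ : alternatingGroup (Fin 7)))).symm⟩)
  have hall : ∀ a : Equiv.Perm (Fin 7), Equiv.Perm.sign a = -1 → a ∈ R := fun a ha => by
    have := mul_mem (heven (a * o⁻¹) (Equiv.Perm.mem_alternatingGroup.2 (by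
      rw [Equiv.Perm.sign_mul, Equiv.Perm.sign_inv, ha, hodd]; rfl))) hoR
    rwa [inv_mul_cancel_right] at this
  set I : Equiv.Perm (Fin 7) := Equiv.swap 0 1 with hI
  set J : Equiv.Perm (Fin 7) := Equiv.swap 2 3 * Equiv.swap 3 4 * Equiv.swap 4 5 with hJ
  have hsI : Equiv.Perm.sign I = -1 := Equiv.Perm.sign_swap (by decide)
  have hsJ : Equiv.Perm.sign J = -1 := by
    rw [hJ, Equiv.Perm.sign_mul, Equiv.Perm.sign_mul, Equiv.Perm.sign_swap (by decide),
      Equiv.Perm.sign_swap (by decide), Equiv.Perm.sign_swap (by decide)]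
    rfl
  refine h.noTwoFour hact (ψ I) (hall I hsI) (ψ J) (hall J hsJ) ?_ ?_ ?_ ?_ ?_ ?_
  · exact Commute.map (show I * J = J * I by rw [hI, hJ]; decide) ψ
  · rw [← map_mul, show I * I = 1 by rw [hI]; decide, map_one]
  · exact fun e => absurd (hb.1 (e.trans (map_one ψ).symm)) (by rw [hI]; decide)
  · rw [← map_pow, show J ^ 4 = 1 by rw [hJ]; decide, map_one]
  · exact fun e => absurd (hb.1 ((map_pow ψ J 2).trans (e.trans (map_one ψ).symm))) (by rw [hJ]; decide)
  · exact fun e => absurd (hb.1 (e.trans (map_pow ψ J 2).symm)) (by rw [hI, hJ]; decide)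

/-- The facts hold for every proper subgroup over `C(t)` with two classes of involutions. -/
theorem twoClassFacts (hM : M ≠ ⊤) (hCM : centralizer ({central σ n} : Set G) ≤ M)
    (hfus : ∃ g ∈ M, g * central σ n * g⁻¹ = τ) (hnot : ∀ g ∈ M, g * central σ n * g⁻¹ ≠ σ * τ) :
    TwoClassFacts σ τ n M := by
  obtain ⟨g, hgM, hg⟩ := hfus
  have hf := h.fuses_of_conj hCM hgM hg
  have hSM : (S : Subgroup G) ≤ M := h.le_centralizer.trans hCM
  have hVM : four (central σ n) τ ≤ M := h.four_le_sylow.trans hSM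
  have htt := h.central_mul_self
  set t : ↥M := ⟨central σ n, hSM h.central_mem⟩
  set u : ↥M := ⟨τ, hSM h.hτ⟩
  set w : ↥M := ⟨σ * τ, hSM (mul_mem h.hσ h.hτ)⟩
  have hww : w * w = 1 := Subtype.ext h.symm.tau_mul_self
  have hnc : ∀ {Q : Type} [Group Q] {χ : ↥M →* MulAut Q}, ActData M χ →
      ∀ c ∈ χ.range, c * χ t * c⁻¹ ≠ χ w := by
    rintro Q _ χ hact _ ⟨x, rfl⟩ e
    obtain ⟨k, -, hk, -⟩ := hact.exists_conj_of_eq hww (u' := x * t * x⁻¹)
      (by rw [show x * t * x⁻¹ * (x * t * x⁻¹) = x * (t * t) * x⁻¹ by group,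
        show t * t = 1 from Subtype.ext htt, mul_one, mul_inv_cancel])
      (by rw [map_mul, map_mul, map_inv, e])
    refine hnot (k * x : ↥M) (k * x).2 ?_
    rw [show (((k * x : ↥M) : G) * central σ n * ((k * x : ↥M) : G)⁻¹) = ((k * (x * t * x⁻¹) * k⁻¹ : ↥M) : G) by
      simp [t, mul_assoc], hk]
  obtain ⟨N, hN⟩ := h.exists_socle hM hVM hf
  have hVN : ∀ {Q : Type} [Group Q] {π : ↥N →* Q}, SocleData M N π → 2 ∣ Nat.card Q →
      four (central σ n) τ ≤ N := fun {Q} _ π hd h2 =>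
    h.four_le_of_fuses hVM hf hd.le hd.normal (h2.trans (Subgroup.card_dvd_of_surjective π hd.surj))
  rcases hN with ⟨π, hd⟩ | ⟨F, _, _, hodd, h3, π, hd⟩
  · -- `A₇`
    exfalso
    obtain ⟨χ, hact, hχ⟩ := hd.exists_action
    refine h.not_alt_seven hact (w := w) fun ⟨q, hq⟩ => ?_
    obtain ⟨y, rfl⟩ := hd.surj q
    have hwN : σ * τ ∈ N := by
      have h1 : χ (w⁻¹ * ⟨y, hd.le y.2⟩) = 1 := by rw [map_mul, map_inv, hχ, hq, inv_mul_cancel]
      have h2 : (σ * τ)⁻¹ * (y : G) ∈ N := hd.core_le ((hact.ker _).1 h1)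
      exact (inv_mem_iff).1 ((mul_mem_cancel_right y.2).1 h2)
    haveI : IsSimpleGroup (alternatingGroup (Fin 7)) := alternatingGroup.isSimpleGroup (by simp)
    have hQ : ¬ IsMulCommutative (alternatingGroup (Fin 7)) := fun hc => by
      have h1 := hc.is_comm.comm (⟨Equiv.swap 0 1 * Equiv.swap 1 2, by simp⟩ : alternatingGroup (Fin 7))
        ⟨Equiv.swap 2 3 * Equiv.swap 3 4, by simp⟩
      exact absurd (congrArg Subtype.val h1) (by decide)
    have hker : Odd (Nat.card ↥π.ker) := by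
      let f : ↥π.ker →* ↥(oddOf M) :=
        (N.subtype.comp π.ker.subtype).codRestrict (oddOf M) fun x => (hd.ker _).1 (MonoidHom.mem_ker.1 x.2)
      refine Odd.of_dvd_nat (odd_card_oddOf M) (Subgroup.card_dvd_of_injective f fun a b e => ?_)
      exact Subtype.ext (Subtype.ext (congrArg (fun z : ↥(oddOf M) => (z : G)) e :))
    have hV : four (central σ n) (σ * τ) ≤ N := Dihedral.four_le
      (hVN hd (by
        rw [nat_card_alternatingGroup]
        simp only [Nat.card_eq_fintype_card, Fintype.card_fin]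
        decide) (left_mem_four _ _)) hwN
    obtain ⟨P, j, hj, ⟨e⟩⟩ := h.symm.exists_dihedral_sylow hV
    obtain ⟨c, -, h1, -⟩ := exists_cycle (fun A hA => no_index_two_of_simple hQ π hd.surj hker A hA) P hj e
      (v := ⟨_, hV (left_mem_four _ _)⟩) (w := ⟨_, hwN⟩)
      (by rw [Subgroup.orderOf_mk]; exact h.orderOf_central) (by rw [Subgroup.orderOf_mk]; exact h.orderOf_sigma_tau)
      (Subtype.ext h.symm.commute_central_tau.eq) (fun e1 => h.symm.central_ne_tau (congrArg Subtype.val e1))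
    exact hnot c (hd.le c.2) (congrArg Subtype.val h1)
  · obtain ⟨χ, hact, hχ⟩ := hd.exists_action
    have h2 : 2 ∣ Nat.card (Matrix.ProjectiveSpecialLinearGroup (Fin 2) F) := by
      obtain ⟨k, hk⟩ := hodd
      have h1 := Klein.PSL.card_mul (F := F) ⟨k, hk⟩
      rw [hk, Nat.add_sub_cancel] at h1
      exact ⟨(2 * k + 1) * (k * (k + 1)), Nat.eq_of_mul_eq_mul_left two_pos (h1.trans (by ring))⟩
    have hV := hVN hd h2
    have hTi : χ t ∈ Cfsg.Inn _ := ⟨_, (hχ ⟨_, hV (left_mem_four _ _)⟩).symm⟩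
    have hUi : χ u ∈ Cfsg.Inn _ := ⟨_, (hχ ⟨_, hV (right_mem_four _ _)⟩).symm⟩
    refine h.facts_of_act hodd h3 hact hCM t u w rfl rfl rfl hTi hUi fun ⟨q, hq⟩ => ?_
    obtain ⟨p, hp⟩ := hTi
    have hinj : ∀ x : Matrix.ProjectiveSpecialLinearGroup (Fin 2) F, MulAut.conj x = 1 → x = 1 := fun x hx => by
      obtain ⟨y, rfl⟩ := hd.surj x
      exact (hd.ker y).2 ((hact.ker _).1 ((hχ y).trans hx))
    have hord : ∀ (v : ↥M) (x : Matrix.ProjectiveSpecialLinearGroup (Fin 2) F), v * v = 1 → (v : G) ≠ 1 →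
        MulAut.conj x = χ v → orderOf x = 2 := fun v x hvv hv1 hx =>
      orderOf_eq_prime (hinj _ (by rw [map_pow, hx, pow_two, ← map_mul, hvv, map_one])) fun e =>
        hact.ne_one_of_involution (congrArg Subtype.val hvv) hv1 (by rw [← hx, e, map_one])
    obtain ⟨c, hc⟩ := isConj_iff.1 (Fus.PSLTwo.involutions_conj (F := F) (Nat.odd_iff.1 hodd)
      (hord t p (Subtype.ext htt) h.central_ne_one hp) (hord w q hww h.symm.tau_ne_one hq))
    exact hnc hact (MulAut.conj c) (hact.inn ⟨c, rfl⟩) (by rw [← hp, ← hq, ← map_inv, ← map_mul, ← map_mul, hc])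

end Hyp

end Cfsg.Agent.Invol.GW.Dihedral
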