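import Cfsg.Agent.Lib.Invol.GW.Klein.Setup
import Cfsg.Agent.Lib.Block.Dihedral.OrderFormula

/-!
# Gorenstein–Walter, dihedral Sylow subgroup of order at least eight: the configuration

`Hyp S σ τ n`: a finite simple group with Sylow 2-subgroup `S = ⟨σ, τ⟩` dihedral of order `2 ^ n`, `σ` of
order `2 ^ (n - 1)`, one class of involutions and known proper subgroups over four groups.  The central
involution is `central σ n`, the two classes of reflections are those of `τ` and `σ * τ`; `Klein.coreCent`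
gives the core `U` of the centraliser and `Klein.fixR` the fixed subgroups `R`, `R₁` of the reflections.
-/

set_option autoImplicit false
set_option linter.unusedSectionVars false

namespace Cfsg.Agent.Invol.GW.Dihedral

open Subgroup Klein

universe u

variable {G : Type u} [Group G]

/-- The central involution of the Sylow subgroup. -/
def central (σ : G) (n : ℕ) : G := σ ^ (2 ^ (n - 2))

/-- `L` modulo its core is a 2-group. -/
def TwoKind (L : Subgroup G) : Prop := IsPGroup 2 (↥L ⧸ Cfsg.oddCore ↥L)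

/-- `L` has modulo its core a self-centralising normal subgroup `PSL₂(q)`, `q ≥ 3` odd, or `A₇`. -/
def SimpleKind (L : Subgroup G) : Prop :=
  ∃ N : Subgroup ↥L, N.Normal ∧ Cfsg.oddCore ↥L ≤ N ∧
    (∀ x : ↥L, (∀ y ∈ N, x * y * x⁻¹ * y⁻¹ ∈ Cfsg.oddCore ↥L) → x ∈ Cfsg.oddCore ↥L) ∧
    ((∃ π : ↥N →* alternatingGroup (Fin 7), Function.Surjective π ∧
        π.ker = (Cfsg.oddCore ↥L).subgroupOf N) ∨
      ∃ (F : Type) (_ : Field F) (_ : Fintype F), Odd (Fintype.card F) ∧ 3 ≤ Fintype.card F ∧
        ∃ π : ↥N →* Matrix.ProjectiveSpecialLinearGroup (Fin 2) F,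
          Function.Surjective π ∧ π.ker = (Cfsg.oddCore ↥L).subgroupOf N)

/-- The configuration. -/
structure Hyp (S : Sylow 2 G) (σ τ : G) (n : ℕ) : Prop where
  simple : IsSimpleGroup G
  three : 3 ≤ n
  hσ : σ ∈ (S : Subgroup G)
  hτ : τ ∈ (S : Subgroup G)
  orderσ : orderOf σ = 2 ^ (n - 1)
  orderτ : orderOf τ = 2
  rel : τ * σ * τ⁻¹ = σ⁻¹
  equiv : Nonempty ((S : Subgroup G) ≃* DihedralGroup (2 ^ (n - 1)))
  one : ∀ s s' : G, orderOf s = 2 → orderOf s' = 2 → IsConj s s'
  known : ∀ L : Subgroup G, L ≠ ⊤ → (∃ W : Subgroup G, W ≤ L ∧ IsKleinFour W) → TwoKind L ∨ SimpleKind L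

namespace Hyp

variable [Finite G] {S : Sylow 2 G} {σ τ : G} {n : ℕ} (h : Hyp S σ τ n)
include h

theorem two_pow_eq : (2 : ℕ) ^ (n - 1) = 2 * ((2 ^ (n - 2) - 1) + 1) := by
  have h1 := Nat.one_le_two_pow (n := n - 2)
  rw [Nat.sub_add_cancel h1, ← pow_succ', show n - 2 + 1 = n - 1 by have := h.three; omega]

theorem exp_eq : 2 ^ (n - 2) - 1 + 1 = 2 ^ (n - 2) := Nat.sub_add_cancel Nat.one_le_two_pow

theorem half_pos : 0 < 2 ^ (n - 2) - 1 ∧ 2 ^ (n - 2) - 1 ≠ 2 := by
  have h3 := h.three
  obtain ⟨k, hk⟩ : ∃ k, n - 2 = k + 1 := ⟨n - 3, by omega⟩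
  rw [hk, pow_succ]
  have := Nat.one_le_two_pow (n := k)
  omega

theorem data : Block.Dih.Data S σ (2 ^ (n - 1)) :=
  Block.Dih.data_of_equiv S h.three h.equiv.some h.hσ h.orderσ

theorem card_sylow : Nat.card (S : Subgroup G) = 2 ^ n := by
  rw [h.data.card, ← pow_succ']
  congr 1
  have := h.three
  omega

theorem sigma_ne_one : σ ≠ 1 := fun e => by
  have h1 := h.orderσ
  rw [e, orderOf_one] at h1
  have := Nat.one_lt_two_pow (show n - 1 ≠ 0 by have := h.three; omega)
  omega

theorem tau_mul_self : τ * τ = 1 := by rw [← pow_two, ← h.orderτ, pow_orderOf_eq_one]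

theorem orderOf_central : orderOf (central σ n) = 2 := by
  rw [central, ← h.exp_eq]
  exact h.data.orderOf_half h.two_pow_eq

theorem central_mem_zpowers : central σ n ∈ zpowers σ := pow_mem (mem_zpowers σ) _

theorem central_mem : central σ n ∈ (S : Subgroup G) := pow_mem h.hσ _

theorem le_centralizer : (S : Subgroup G) ≤ centralizer ({central σ n} : Set G) := by
  rw [central, ← h.exp_eq]
  exact h.data.half_central h.two_pow_eq

theorem one_central (s : G) (hs : orderOf s = 2) : IsConj (central σ n) s := h.one _ _ h.orderOf_central hs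

theorem orderOf_sigma_tau : orderOf (σ * τ) = 2 := by
  have hst : σ * τ * (σ * τ) = 1 := by
    calc σ * τ * (σ * τ) = σ * (τ * σ * τ⁻¹) * (τ * τ) := by group
      _ = 1 := by rw [h.rel, h.tau_mul_self, mul_one, mul_inv_cancel]
  refine orderOf_eq_prime (by rw [pow_two]; exact hst) fun e => ?_
  -- otherwise `σ` would be an involution
  have hσ2 : σ * σ = 1 := by
    rw [show σ = τ⁻¹ from eq_inv_of_mul_eq_one_left e, ← mul_inv_rev, h.tau_mul_self, inv_one]
  have h1 := orderOf_le_of_pow_eq_one (x := σ) (n := 2) (by norm_num) (by rw [pow_two]; exact hσ2)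
  rw [h.orderσ] at h1
  have h4 : 2 ^ 2 ≤ 2 ^ (n - 1) := Nat.pow_le_pow_right two_pos (by have := h.three; omega)
  omega

/-- The same configuration with the two classes of reflections exchanged. -/
theorem symm : Hyp S σ (σ * τ) n where
  simple := h.simple
  three := h.three
  hσ := h.hσ
  hτ := mul_mem h.hσ h.hτ
  orderσ := h.orderσ
  orderτ := h.orderOf_sigma_tau
  rel := by
    calc σ * τ * σ * (σ * τ)⁻¹ = σ * (τ * σ * τ⁻¹) * σ⁻¹ := by group
      _ = σ⁻¹ := by rw [h.rel, mul_inv_cancel, one_mul]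
  equiv := h.equiv
  one := h.one
  known := h.known

theorem not_isMulCommutative : ¬ IsMulCommutative G := fun hc => by
  have h1 : σ * σ = 1 := by
    have e := h.rel
    rw [hc.is_comm.comm τ σ, mul_inv_cancel_right] at e
    exact eq_inv_iff_mul_eq_one.1 e
  have h2 := orderOf_le_of_pow_eq_one (x := σ) (n := 2) (by norm_num) (by rw [pow_two]; exact h1)
  rw [h.orderσ] at h2
  have h4 : 2 ^ 2 ≤ 2 ^ (n - 1) := Nat.pow_le_pow_right two_pos (by have := h.three; omega)
  omega

/-- The core of the centraliser and the Sylow subgroup. -/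
theorem odd2 : Block.Dih.Odd2 (coreCent (central σ n)) (centralizer ({central σ n} : Set G))
    (S : Subgroup G) := by
  obtain ⟨L, o⟩ := h.data.exists_odd2 h.two_pow_eq
  rw [h.exp_eq] at o
  have hodd : Odd (Nat.card L) := Nat.not_even_iff_odd.1 fun e => o.odd e.two_dvd
  have h1 : L ≤ coreCent (central σ n) := le_oddOf o.le o.norm hodd
  have h2 : Nat.card (coreCent (central σ n)) ∣ Nat.card L := by
    refine (Nat.Coprime.dvd_mul_right ?_).1 (o.card ▸ card_dvd_of_le (oddOf_le _))
    rw [h.card_sylow]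
    exact ((Nat.coprime_two_right.2 (odd_card_oddOf _)).pow_right n)
  have e : L = coreCent (central σ n) :=
    Subgroup.eq_of_le_of_card_ge h1 (Nat.le_of_dvd Nat.card_pos h2)
  rwa [← e]

theorem coreCent_le : coreCent (central σ n) ≤ centralizer ({central σ n} : Set G) := oddOf_le _

theorem le_normalizer_coreCent :
    centralizer ({central σ n} : Set G) ≤ normalizer (coreCent (central σ n) : Set G) := le_normalizer_oddOf _

theorem odd_coreCent : Odd (Nat.card ↥(coreCent (central σ n))) := odd_card_oddOf _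

theorem card_centralizer :
    Nat.card (centralizer ({central σ n} : Set G)) = Nat.card ↥(coreCent (central σ n)) * 2 ^ n := by
  rw [h.odd2.card, h.card_sylow]

/-- `C(t) = U S`. -/
theorem exists_mul {x : G} (hx : x ∈ centralizer ({central σ n} : Set G)) :
    ∃ a ∈ coreCent (central σ n), ∃ b ∈ (S : Subgroup G), a * b = x := by
  obtain ⟨⟨a, b⟩, e⟩ := h.odd2.mul_bijective.2 ⟨x, hx⟩
  exact ⟨a, a.2, b, b.2, congrArg Subtype.val e⟩

theorem centralizer_ne_top : centralizer ({central σ n} : Set G) ≠ ⊤ := fun e => by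
  haveI := h.simple
  have hcen : central σ n ∈ Subgroup.center G := mem_center_iff.2 fun g => by
    exact mem_centralizer_singleton_iff.1 (e ▸ mem_top g)
  rcases (inferInstance : (Subgroup.center G).Normal).eq_bot_or_eq_top with hb | ht
  · rw [hb, mem_bot] at hcen
    have := h.orderOf_central
    rw [hcen, orderOf_one] at this
    omega
  · exact h.not_isMulCommutative ⟨⟨fun a b => (mem_center_iff.1 (ht ▸ mem_top b) a)⟩⟩

end Hyp

end Cfsg.Agent.Invol.GW.Dihedral
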