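import Cfsg.Agent.Lib.Invol.GW.Dihedral.Classes
import Cfsg.Agent.Lib.Invol.GW.Dihedral.Leaf
import Cfsg.Agent.Lib.Invol.GW.Dihedral.TwoClassProducer
import Cfsg.Agent.Lib.Invol.GW.Induction.Main
import Cfsg.Agent.Lib.Invol.GW.Klein.Main

/-!
# Gorenstein–Walter: the assembly of the dihedral case and of the theorem

The dihedral case follows from the facts on two-class maximal subgroups, the exclusion of three-class ones properly
over `C(t)`, the goodness of every prime of `U` and the good case.
-/

set_option autoImplicit false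
set_option linter.unusedSectionVars false

namespace Cfsg.Agent.Invol.GW.Dihedral

open Subgroup Klein

universe u

/-- The producer of the two-class facts. -/
def FactsDone : Prop :=
  ∀ {G : Type u} [Group G] [Finite G] (S : Sylow 2 G) (σ τ : G) (n : ℕ), Hyp S σ τ n → ∀ M : Subgroup G,
    IsCoatom M → centralizer ({central σ n} : Set G) ≤ M → (∃ g ∈ M, g * central σ n * g⁻¹ = τ) →
    (∀ g ∈ M, g * central σ n * g⁻¹ ≠ σ * τ) → TwoClassFacts σ τ n M

/-- No three-class maximal subgroup properly over `C(t)`. -/
def ThreeDone : Prop :=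
  ∀ {G : Type u} [Group G] [Finite G] (S : Sylow 2 G) (σ τ : G) (n : ℕ) (h : Hyp S σ τ n) (M : Subgroup G),
    IsCoatom M → centralizer ({central σ n} : Set G) ≤ M → h.ThreeClasses M →
    centralizer ({central σ n} : Set G) = M

/-- With a maximal centraliser every prime of the core is good. -/
def GoodDone : Prop :=
  ∀ {G : Type u} [Group G] [Finite G] (S : Sylow 2 G) (σ τ : G) (n : ℕ), Hyp S σ τ n →
    IsCoatom (centralizer ({central σ n} : Set G)) → ∀ q : ℕ, q.Prime →
    opOf q (coreCent (central σ n)) ≠ ⊥ → Good S σ n q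

/-- The case of good primes. -/
def CaseDone : Prop :=
  ∀ {G : Type u} [Group G] [Finite G] (S : Sylow 2 G) (σ τ : G) (n : ℕ), Hyp S σ τ n →
    IsCoatom (centralizer ({central σ n} : Set G)) →
    (∀ q : ℕ, q.Prime → opOf q (coreCent (central σ n)) ≠ ⊥ → Good S σ n q) → IsPSLTwoOrSeven G

theorem factsDone : FactsDone.{u} := fun S _ _ _ h _ hM hCM hfus hnot => h.twoClassFacts hM.1 hCM hfus hnot

/-- The dihedral case from its four parts. -/
theorem dihedralDone_of (hF : FactsDone.{u}) (hT : ThreeDone.{u}) (hG : GoodDone.{u}) (hK : CaseDone.{u}) :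
    Induction.DihedralDone.{u} := by
  intro G _ _ S σ τ n h
  obtain ⟨M, hM, hCM⟩ : ∃ M, IsCoatom M ∧ centralizer ({central σ n} : Set G) ≤ M := by
    rcases eq_top_or_exists_le_coatom (centralizer ({central σ n} : Set G)) with e | ⟨M, hM, hle⟩
    · exact absurd e h.centralizer_ne_top
    · exact ⟨M, hM, hle⟩
  rcases h.three_or_conclusion hM hCM (hF S σ τ n h M hM hCM) (hF S σ (σ * τ) n h.symm M hM hCM) with e | e
  · exact e
  · have hC : IsCoatom (centralizer ({central σ n} : Set G)) := hT S σ τ n h M hM hCM e ▸ hM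
    exact hK S σ τ n h hC (hG S σ τ n h hC)

/-- The Gorenstein–Walter theorem from the four parts of the dihedral case. -/
theorem gwStatement_of_parts (hF : FactsDone.{u}) (hT : ThreeDone.{u}) (hG : GoodDone.{u}) (hK : CaseDone.{u}) :
    GWStatement.{u} :=
  Induction.gwStatement_of Klein.kleinDone (dihedralDone_of hF hT hG hK)

end Cfsg.Agent.Invol.GW.Dihedral
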