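import Cfsg.Agent.Lib.Invol.GW.Dihedral.Plane
import Mathlib.Algebra.Module.ZMod
import Mathlib.LinearAlgebra.Matrix.ToLin

/-!
# The plane of a frame

A frame is a section `M / N₀` of order `q²` generated by the images of `z` and `y`; the elements normalising `M` and
`N₀` act on it by a homomorphism into `GL₂(q)`, computed in this basis.
-/

set_option autoImplicit false
set_option linter.unusedSectionVars false

namespace Cfsg.Agent.Invol.GW.Dihedral

open Subgroup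

universe u

variable {G : Type u} [Group G]

/-- `M / N₀` is the product of the groups of order `q` generated by `z` and `y`. -/
structure Frame (q : ℕ) (M N₀ : Subgroup G) (z y : G) : Prop where
  le : N₀ ≤ M
  normal : M ≤ normalizer (N₀ : Set G)
  zmem : z ∈ M
  ymem : y ∈ M
  zpow : z ^ q ∈ N₀
  ypow : y ^ q ∈ N₀
  comm : (y * z)⁻¹ * (z * y) ∈ N₀
  indep : ∀ a c : ℕ, z ^ a * y ^ c ∈ N₀ → q ∣ a ∧ q ∣ c
  span : ∀ x ∈ M, ∃ a c : ℕ, (z ^ a * y ^ c)⁻¹ * x ∈ N₀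

/-- The elements acting on a section. -/
abbrev frameDom (M N₀ : Subgroup G) : Subgroup G := normalizer (M : Set G) ⊓ normalizer (N₀ : Set G)

namespace Frame

variable {q : ℕ} [hq : Fact q.Prime] {M N₀ : Subgroup G} {z y : G} (f : Frame q M N₀ z y)

/-- The element with coordinates `v`. -/
def vec (_f : Frame q M N₀ z y) (v : Fin 2 → ZMod q) : G := z ^ (v 0).val * y ^ (v 1).val

theorem vec_mem (v : Fin 2 → ZMod q) : f.vec v ∈ M := mul_mem (pow_mem f.zmem _) (pow_mem f.ymem _)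

/-- Equality modulo `N₀` in the quotient of the normaliser. -/
theorem mem_iff_quot {a b : G} (ha : a ∈ normalizer (N₀ : Set G)) (hb : b ∈ normalizer (N₀ : Set G)) :
    a⁻¹ * b ∈ N₀ ↔ ((⟨a, ha⟩ : ↥(normalizer (N₀ : Set G))) :
      ↥(normalizer (N₀ : Set G)) ⧸ N₀.subgroupOf (normalizer (N₀ : Set G))) =
      ((⟨b, hb⟩ : ↥(normalizer (N₀ : Set G))) :
        ↥(normalizer (N₀ : Set G)) ⧸ N₀.subgroupOf (normalizer (N₀ : Set G))) := by
  rw [QuotientGroup.eq, mem_subgroupOf]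
  simp

theorem vec_add (v w : Fin 2 → ZMod q) : (f.vec (v + w))⁻¹ * (f.vec v * f.vec w) ∈ N₀ := by
  classical
  haveI : (N₀.subgroupOf (normalizer (N₀ : Set G))).Normal := normal_in_normalizer
  have hN : ∀ {x : G}, x ∈ M → x ∈ normalizer (N₀ : Set G) := fun h => f.normal h
  rw [mem_iff_quot (hN (f.vec_mem _)) (hN (mul_mem (f.vec_mem _) (f.vec_mem _)))]
  set Z : ↥(normalizer (N₀ : Set G)) ⧸ N₀.subgroupOf (normalizer (N₀ : Set G)) :=
    QuotientGroup.mk ⟨z, hN f.zmem⟩ with hZ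
  set Y : ↥(normalizer (N₀ : Set G)) ⧸ N₀.subgroupOf (normalizer (N₀ : Set G)) :=
    QuotientGroup.mk ⟨y, hN f.ymem⟩ with hY
  have hvec : ∀ v : Fin 2 → ZMod q,
      ((⟨f.vec v, hN (f.vec_mem v)⟩ : ↥(normalizer (N₀ : Set G))) :
        ↥(normalizer (N₀ : Set G)) ⧸ N₀.subgroupOf (normalizer (N₀ : Set G))) = Z ^ (v 0).val * Y ^ (v 1).val := by
    intro v
    rw [hZ, hY, ← QuotientGroup.mk_pow, ← QuotientGroup.mk_pow, ← QuotientGroup.mk_mul]
    rfl
  have hzy : Commute Z Y := by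
    rw [commute_iff_eq, hZ, hY, ← QuotientGroup.mk_mul, ← QuotientGroup.mk_mul]
    exact ((mem_iff_quot (mul_mem (hN f.ymem) (hN f.zmem)) (mul_mem (hN f.zmem) (hN f.ymem))).1 f.comm).symm
  have hZq : Z ^ q = 1 := by
    rw [hZ, ← QuotientGroup.mk_pow]
    exact (QuotientGroup.eq_one_iff _).2 (mem_subgroupOf.2 f.zpow)
  have hYq : Y ^ q = 1 := by
    rw [hY, ← QuotientGroup.mk_pow]
    exact (QuotientGroup.eq_one_iff _).2 (mem_subgroupOf.2 f.ypow)
  change QuotientGroup.mk _ = QuotientGroup.mk ((⟨f.vec v, hN (f.vec_mem _)⟩ : ↥(normalizer (N₀ : Set G))) * ⟨f.vec w, hN (f.vec_mem _)⟩)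
  rw [QuotientGroup.mk_mul, hvec, hvec, hvec,
    Pi.add_apply, Pi.add_apply, ZMod.val_add, ZMod.val_add, ← pow_eq_pow_mod _ hZq, ← pow_eq_pow_mod _ hYq,
    pow_add, pow_add]
  exact Commute.mul_mul_mul_comm (hzy.pow_pow _ _) _ _

theorem exists_vec {x : G} (hx : x ∈ M) : ∃ v : Fin 2 → ZMod q, (f.vec v)⁻¹ * x ∈ N₀ := by
  obtain ⟨a, c, h⟩ := f.span x hx
  refine ⟨![(a : ZMod q), (c : ZMod q)], ?_⟩
  classical
  haveI : (N₀.subgroupOf (normalizer (N₀ : Set G))).Normal := normal_in_normalizer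
  have hN : ∀ {x : G}, x ∈ M → x ∈ normalizer (N₀ : Set G) := fun h => f.normal h
  rw [mem_iff_quot (hN (f.vec_mem _)) (hN hx)]
  rw [mem_iff_quot (hN (mul_mem (pow_mem f.zmem a) (pow_mem f.ymem c))) (hN hx)] at h
  rw [← h, QuotientGroup.eq, mem_subgroupOf]
  simp only [vec, Matrix.cons_val_zero, Matrix.cons_val_one, ZMod.val_natCast, Subgroup.coe_mul,
    InvMemClass.coe_inv]
  have ha := Nat.mod_add_div a q
  have hc := Nat.mod_add_div c q
  set Z := ((⟨z, hN f.zmem⟩ : ↥(normalizer (N₀ : Set G))) :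
    ↥(normalizer (N₀ : Set G)) ⧸ N₀.subgroupOf (normalizer (N₀ : Set G))) with hZ
  set Y := ((⟨y, hN f.ymem⟩ : ↥(normalizer (N₀ : Set G))) :
    ↥(normalizer (N₀ : Set G)) ⧸ N₀.subgroupOf (normalizer (N₀ : Set G))) with hY
  have hZq : Z ^ q = 1 := by
    rw [hZ, ← QuotientGroup.mk_pow]
    exact (QuotientGroup.eq_one_iff _).2 (mem_subgroupOf.2 f.zpow)
  have hYq : Y ^ q = 1 := by
    rw [hY, ← QuotientGroup.mk_pow]
    exact (QuotientGroup.eq_one_iff _).2 (mem_subgroupOf.2 f.ypow)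
  rw [mem_iff_quot (hN (mul_mem (pow_mem f.zmem _) (pow_mem f.ymem _)))
    (hN (mul_mem (pow_mem f.zmem a) (pow_mem f.ymem c)))]
  show ((⟨z, hN f.zmem⟩ ^ (a % q) * ⟨y, hN f.ymem⟩ ^ (c % q) : ↥(normalizer (N₀ : Set G))) :
      ↥(normalizer (N₀ : Set G)) ⧸ N₀.subgroupOf (normalizer (N₀ : Set G))) =
    ((⟨z, hN f.zmem⟩ ^ a * ⟨y, hN f.ymem⟩ ^ c : ↥(normalizer (N₀ : Set G))) : _)
  rw [QuotientGroup.mk_mul, QuotientGroup.mk_mul, QuotientGroup.mk_pow, QuotientGroup.mk_pow,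
    QuotientGroup.mk_pow, QuotientGroup.mk_pow, ← hZ, ← hY, ← pow_eq_pow_mod _ hZq, ← pow_eq_pow_mod _ hYq]

theorem vec_inj {v w : Fin 2 → ZMod q} (h : (f.vec v)⁻¹ * f.vec w ∈ N₀) : v = w := by
  have h1 : f.vec (w - v) ∈ N₀ := by
    have h2 := f.vec_add v (w - v)
    rw [add_sub_cancel] at h2
    have h3 := mul_mem h h2
    rwa [show (f.vec v)⁻¹ * f.vec w * ((f.vec w)⁻¹ * (f.vec v * f.vec (w - v))) = f.vec (w - v) by group] at h3
  obtain ⟨h0, h1'⟩ := f.indep _ _ h1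
  have e0 := (ZMod.natCast_eq_zero_iff _ _).2 h0
  have e1 := (ZMod.natCast_eq_zero_iff _ _).2 h1'
  rw [ZMod.natCast_zmod_val] at e0 e1
  funext i
  fin_cases i
  · exact (sub_eq_zero.1 e0).symm
  · exact (sub_eq_zero.1 e1).symm

/-- The coordinates of an element of `M`. -/
noncomputable def coord (f : Frame q M N₀ z y) (x : G) : Fin 2 → ZMod q :=
  haveI := Classical.dec (x ∈ M)
  if hx : x ∈ M then Classical.choose (f.exists_vec hx) else 0

theorem coord_spec {x : G} (hx : x ∈ M) : (f.vec (f.coord x))⁻¹ * x ∈ N₀ := by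
  simp only [coord, dif_pos hx]
  exact Classical.choose_spec (f.exists_vec hx)

theorem coord_eq {x : G} (hx : x ∈ M) {v : Fin 2 → ZMod q} (h : (f.vec v)⁻¹ * x ∈ N₀) : f.coord x = v := by
  refine f.vec_inj ?_
  have := mul_mem (f.coord_spec hx) (inv_mem h)
  rwa [show (f.vec (f.coord x))⁻¹ * x * ((f.vec v)⁻¹ * x)⁻¹ = (f.vec (f.coord x))⁻¹ * f.vec v by group] at this

theorem coord_vec (v : Fin 2 → ZMod q) : f.coord (f.vec v) = v := f.coord_eq (f.vec_mem v) (by simp)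

include f in
theorem conj_mem_M {g x : G} (hg : g ∈ frameDom M N₀) (hx : x ∈ M) : g * x * g⁻¹ ∈ M :=
  (mem_normalizer_iff.1 hg.1 x).1 hx

include f in
theorem conj_mem_N {g x : G} (hg : g ∈ frameDom M N₀) (hx : x ∈ N₀) : g * x * g⁻¹ ∈ N₀ :=
  (mem_normalizer_iff.1 hg.2 x).1 hx

/-- The action of `g` on the coordinates. -/
noncomputable def act (f : Frame q M N₀ z y) (g : G) (hg : g ∈ frameDom M N₀) :
    (Fin 2 → ZMod q) →ₗ[ZMod q] (Fin 2 → ZMod q) :=
  AddMonoidHom.toZModLinearMap q (AddMonoidHom.mk' (fun v => f.coord (g * f.vec v * g⁻¹)) fun v w => by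
    have hm := fun v => f.conj_mem_M hg (f.vec_mem v)
    refine f.coord_eq (hm _) ?_
    have h1 := f.vec_add (f.coord (g * f.vec v * g⁻¹)) (f.coord (g * f.vec w * g⁻¹))
    have h2 := f.coord_spec (hm v)
    have h3 := f.coord_spec (hm w)
    have h4 := f.conj_mem_N hg (inv_mem (f.vec_add v w))
    set A := f.vec (f.coord (g * f.vec v * g⁻¹) + f.coord (g * f.vec w * g⁻¹))
    set B := f.vec (f.coord (g * f.vec v * g⁻¹))
    set B' := f.vec (f.coord (g * f.vec w * g⁻¹))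
    have h2' : B'⁻¹ * (B⁻¹ * (g * f.vec v * g⁻¹)) * B' ∈ N₀ :=
      (mem_normalizer_iff''.1 (f.normal (f.vec_mem _)) _).1 h2
    have h5 := mul_mem (mul_mem (mul_mem h1 h2') h3) h4
    rwa [show A⁻¹ * (B * B') * (B'⁻¹ * (B⁻¹ * (g * f.vec v * g⁻¹)) * B') * (B'⁻¹ * (g * f.vec w * g⁻¹)) *
      (g * ((f.vec (v + w))⁻¹ * (f.vec v * f.vec w))⁻¹ * g⁻¹) = A⁻¹ * (g * f.vec (v + w) * g⁻¹) by group] at h5)

theorem act_apply (g : G) (hg : g ∈ frameDom M N₀) (v : Fin 2 → ZMod q) :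
    f.act g hg v = f.coord (g * f.vec v * g⁻¹) := rfl

theorem act_mul (g g' : G) (hg : g ∈ frameDom M N₀) (hg' : g' ∈ frameDom M N₀) :
    f.act (g * g') (mul_mem hg hg') = (f.act g hg).comp (f.act g' hg') := by
  refine LinearMap.ext fun v => ?_
  rw [LinearMap.comp_apply, act_apply, act_apply, act_apply]
  refine f.coord_eq (f.conj_mem_M (mul_mem hg hg') (f.vec_mem v)) ?_
  set w := f.coord (g' * f.vec v * g'⁻¹)
  have h1 := f.coord_spec (f.conj_mem_M hg (f.vec_mem w))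
  have h2 := f.conj_mem_N hg (f.coord_spec (f.conj_mem_M hg' (f.vec_mem v)))
  have h3 := mul_mem h1 h2
  rwa [show (f.vec (f.coord (g * f.vec w * g⁻¹)))⁻¹ * (g * f.vec w * g⁻¹) *
    (g * ((f.vec w)⁻¹ * (g' * f.vec v * g'⁻¹)) * g⁻¹) =
      (f.vec (f.coord (g * f.vec w * g⁻¹)))⁻¹ * (g * g' * f.vec v * (g * g')⁻¹) by group] at h3

/-- The homomorphism to `GL₂(q)`. -/
noncomputable def hom (f : Frame q M N₀ z y) : ↥(frameDom M N₀) →* Plane.GL2 q :=
  MonoidHom.toHomUnits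
    { toFun := fun g => LinearMap.toMatrix' (f.act g g.2)
      map_one' := by
        have : f.act (1 : G) (one_mem _) = LinearMap.id := by
          refine LinearMap.ext fun v => ?_
          rw [act_apply, one_mul, inv_one, mul_one, f.coord_vec]
          rfl
        show LinearMap.toMatrix' (f.act (1 : G) (one_mem _)) = 1
        rw [this, LinearMap.toMatrix'_id]
      map_mul' := fun g g' => by
        show LinearMap.toMatrix' (f.act ((g : G) * g') _) = _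
        rw [f.act_mul g g' g.2 g'.2, LinearMap.toMatrix'_comp] }

theorem ent_hom (g : ↥(frameDom M N₀)) (i j : Fin 2) :
    Plane.ent (f.hom g) i j = f.coord ((g : G) * f.vec (Pi.single j 1) * (g : G)⁻¹) i := by
  show LinearMap.toMatrix' (f.act g g.2) i j = _
  rw [LinearMap.toMatrix'_apply, act_apply]

theorem vec_first : f.vec (Pi.single 0 1) = z := by
  haveI : Fact (1 < q) := ⟨hq.out.one_lt⟩
  simp [vec, ZMod.val_one, ZMod.val_zero]

theorem vec_second : f.vec (Pi.single 1 1) = y := by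
  haveI : Fact (1 < q) := ⟨hq.out.one_lt⟩
  simp [vec, ZMod.val_one, ZMod.val_zero]

theorem vec_zpow_first (a : ZMod q) : f.vec ![a, 0] = z ^ a.val := by simp [vec, ZMod.val_zero]

theorem vec_zpow_second (c : ZMod q) : f.vec ![0, c] = y ^ c.val := by simp [vec, ZMod.val_zero]

/-- The first axis is fixed. -/
theorem ent_low_iff (g : ↥(frameDom M N₀)) :
    Plane.ent (f.hom g) 1 0 = 0 ↔ ∃ a : ℕ, (z ^ a)⁻¹ * ((g : G) * z * (g : G)⁻¹) ∈ N₀ := by
  rw [ent_hom, f.vec_first]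
  have hm := f.conj_mem_M g.2 f.zmem
  constructor
  · intro h
    refine ⟨(f.coord ((g : G) * z * (g : G)⁻¹) 0).val, ?_⟩
    have h1 := f.coord_spec hm
    rwa [show f.coord ((g : G) * z * (g : G)⁻¹) = ![f.coord ((g : G) * z * (g : G)⁻¹) 0, 0] by
      funext i; fin_cases i
      · rfl
      · exact h, f.vec_zpow_first] at h1
  · rintro ⟨a, ha⟩
    obtain ⟨k, hk⟩ : ∃ k, a = ((a : ZMod q)).val + q * k :=
      ⟨a / q, by rw [ZMod.val_natCast]; exact (Nat.mod_add_div a q).symm⟩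
    rw [f.coord_eq hm (v := ![(a : ZMod q), 0]) ?_]
    · simp
    · rw [f.vec_zpow_first]
      have h2 : (z ^ (a : ZMod q).val)⁻¹ * z ^ a ∈ N₀ := by
        conv => enter [2, 2]; rw [hk]
        rw [pow_add, inv_mul_cancel_left, pow_mul]
        exact pow_mem f.zpow k
      have h3 := mul_mem h2 ha
      rwa [mul_assoc, mul_inv_cancel_left] at h3

/-- The second axis is fixed. -/
theorem ent_upp_iff (g : ↥(frameDom M N₀)) :
    Plane.ent (f.hom g) 0 1 = 0 ↔ ∃ c : ℕ, (y ^ c)⁻¹ * ((g : G) * y * (g : G)⁻¹) ∈ N₀ := by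
  rw [ent_hom, f.vec_second]
  have hm := f.conj_mem_M g.2 f.ymem
  constructor
  · intro h
    refine ⟨(f.coord ((g : G) * y * (g : G)⁻¹) 1).val, ?_⟩
    have h1 := f.coord_spec hm
    rwa [show f.coord ((g : G) * y * (g : G)⁻¹) = ![0, f.coord ((g : G) * y * (g : G)⁻¹) 1] by
      funext i; fin_cases i
      · exact h
      · rfl, f.vec_zpow_second] at h1
  · rintro ⟨c, hc⟩
    obtain ⟨k, hk⟩ : ∃ k, c = ((c : ZMod q)).val + q * k :=
      ⟨c / q, by rw [ZMod.val_natCast]; exact (Nat.mod_add_div c q).symm⟩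
    rw [f.coord_eq hm (v := ![0, (c : ZMod q)]) ?_]
    · simp
    · rw [f.vec_zpow_second]
      have h2 : (y ^ (c : ZMod q).val)⁻¹ * y ^ c ∈ N₀ := by
        conv => enter [2, 2]; rw [hk]
        rw [pow_add, inv_mul_cancel_left, pow_mul]
        exact pow_mem f.ypow k
      have h3 := mul_mem h2 hc
      rwa [mul_assoc, mul_inv_cancel_left] at h3

theorem hom_eq_one_of {g : ↥(frameDom M N₀)} (hz : z⁻¹ * ((g : G) * z * (g : G)⁻¹) ∈ N₀)
    (hy : y⁻¹ * ((g : G) * y * (g : G)⁻¹) ∈ N₀) : f.hom g = 1 := by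
  have e1 := f.coord_eq (f.conj_mem_M g.2 f.zmem) (v := Pi.single 0 1) (by rwa [f.vec_first])
  have e2 := f.coord_eq (f.conj_mem_M g.2 f.ymem) (v := Pi.single 1 1) (by rwa [f.vec_second])
  apply Plane.ext_ent <;> rw [ent_hom, Plane.ent_one] <;> simp [f.vec_first, f.vec_second, e1, e2]

theorem mem_of_hom_eq_one {g : ↥(frameDom M N₀)} (h : f.hom g = 1) {x : G} (hx : x ∈ M) :
    x⁻¹ * ((g : G) * x * (g : G)⁻¹) ∈ N₀ := by
  have h1 : f.act g g.2 = LinearMap.id := by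
    refine LinearMap.toMatrix'.injective ?_
    rw [LinearMap.toMatrix'_id]
    exact congrArg Units.val h
  have h2 := LinearMap.congr_fun h1 (f.coord x)
  rw [act_apply, LinearMap.id_apply] at h2
  set X := f.vec (f.coord x) with hX
  have h4 := f.coord_spec (f.conj_mem_M g.2 (f.vec_mem (f.coord x)))
  rw [h2, ← hX] at h4
  have hn := f.coord_spec hx
  rw [← hX] at hn
  have h5 := mul_mem h4 (f.conj_mem_N g.2 hn)
  have h6 : (X⁻¹ * x)⁻¹ * (X⁻¹ * ((g : G) * x * (g : G)⁻¹)) ∈ N₀ := mul_mem (inv_mem hn) (by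
    rwa [show X⁻¹ * ((g : G) * X * (g : G)⁻¹) * ((g : G) * (X⁻¹ * x) * (g : G)⁻¹) =
      X⁻¹ * ((g : G) * x * (g : G)⁻¹) by group] at h5)
  rwa [show (X⁻¹ * x)⁻¹ * (X⁻¹ * ((g : G) * x * (g : G)⁻¹)) = x⁻¹ * ((g : G) * x * (g : G)⁻¹) by group] at h6

/-- An element fixing `z` and inverting `y` modulo `N₀` acts as the reflection. -/
theorem hom_eq_refl {g : ↥(frameDom M N₀)} (hz : z⁻¹ * ((g : G) * z * (g : G)⁻¹) ∈ N₀)
    (hy : y * ((g : G) * y * (g : G)⁻¹) ∈ N₀) : f.hom g = Plane.refl := by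
  have e1 := f.coord_eq (f.conj_mem_M g.2 f.zmem) (v := Pi.single 0 1) (by rwa [f.vec_first])
  have e2 := f.coord_eq (f.conj_mem_M g.2 f.ymem) (v := ![0, -1]) (by
    rw [f.vec_zpow_second]
    have h1 : (y ^ (-1 : ZMod q).val)⁻¹ * y⁻¹ ∈ N₀ := by
      rw [← mul_inv_rev, ← pow_succ']
      refine inv_mem ?_
      obtain ⟨k, hk⟩ : q ∣ (-1 : ZMod q).val + 1 := by
        rw [← ZMod.natCast_eq_zero_iff, Nat.cast_add, ZMod.natCast_zmod_val, Nat.cast_one, neg_add_cancel]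
      rw [hk, pow_mul]
      exact pow_mem f.ypow k
    have h2 := mul_mem h1 hy
    rwa [mul_assoc, inv_mul_cancel_left] at h2)
  apply Plane.ext_ent <;> rw [ent_hom] <;>
    simp [f.vec_first, f.vec_second, e1, e2, Plane.ent, Plane.refl, Matrix.GeneralLinearGroup.mkOfDetNeZero]

end Frame

end Cfsg.Agent.Invol.GW.Dihedral
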