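import Cfsg.Agent.Lib.Invol.GW.Dihedral.Plane
import Cfsg.Agent.Lib.Invol.GW.Klein.Setup
import Mathlib.GroupTheory.Solvable
import Mathlib.GroupTheory.Abelianization.Defs

/-!
# A group of odd order in `GL₂(q)` normalised by a reflection: the semisimple case and the trichotomy
-/

set_option autoImplicit false
set_option linter.unusedSectionVars false
set_option linter.style.haveILetI false

namespace Cfsg.Agent.Invol.GW.Dihedral.Plane

open Subgroup Matrix
open scoped commutatorElement

variable {q : ℕ} [hq : Fact q.Prime]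

/-- A commuting element is `i + j g`. -/
theorem exists_coef {g x : GL2 q} (hg : g ∉ scal q) (hx : Commute x g) : ∃ i j : ZMod q,
    ent x 0 0 = i + j * ent g 0 0 ∧ ent x 0 1 = j * ent g 0 1 ∧ ent x 1 0 = j * ent g 1 0 ∧
      ent x 1 1 = i + j * ent g 1 1 := by
  have e : ∀ a b, ent (x * g) a b = ent (g * x) a b := fun a b => by rw [hx.eq]
  have e00 := e 0 0
  have e01 := e 0 1
  have e10 := e 1 0
  simp only [ent_mul] at e00 e01 e10
  by_cases h1 : ent g 0 1 = 0
  · by_cases h2 : ent g 1 0 = 0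
    · have h3 : ent g 1 1 - ent g 0 0 ≠ 0 := fun h3 => hg (mem_scal.2 ⟨h2, h1, (sub_eq_zero.1 h3).symm⟩)
      rw [h1] at e01; rw [h2] at e10
      have x01 : ent x 0 1 = 0 :=
        (mul_eq_zero.1 (show ent x 0 1 * (ent g 1 1 - ent g 0 0) = 0 by linear_combination e01)).resolve_right h3
      have x10 : ent x 1 0 = 0 :=
        (mul_eq_zero.1 (show ent x 1 0 * (ent g 1 1 - ent g 0 0) = 0 by linear_combination -e10)).resolve_right h3
      obtain ⟨j, hj⟩ : ∃ j, j * (ent g 1 1 - ent g 0 0) = ent x 1 1 - ent x 0 0 := ⟨_, div_mul_cancel₀ _ h3⟩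
      refine ⟨ent x 0 0 - j * ent g 0 0, j, by ring, by rw [h1, x01, mul_zero], by rw [h2, x10, mul_zero], ?_⟩
      linear_combination -hj
    · obtain ⟨j, hj⟩ : ∃ j, j * ent g 1 0 = ent x 1 0 := ⟨_, div_mul_cancel₀ _ h2⟩
      refine ⟨ent x 0 0 - j * ent g 0 0, j, by ring, ?_, hj.symm, ?_⟩
      · refine mul_right_cancel₀ h2 ?_
        linear_combination e00 - ent g 0 1 * hj
      · refine mul_right_cancel₀ h2 ?_
        linear_combination e10 + (ent g 0 0 - ent g 1 1) * hj
  · obtain ⟨j, hj⟩ : ∃ j, j * ent g 0 1 = ent x 0 1 := ⟨_, div_mul_cancel₀ _ h1⟩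
    refine ⟨ent x 0 0 - j * ent g 0 0, j, by ring, hj.symm, ?_, ?_⟩
    · refine mul_right_cancel₀ h1 ?_
      linear_combination -e00 - ent g 1 0 * hj
    · refine mul_right_cancel₀ h1 ?_
      linear_combination -e01 + (ent g 0 0 - ent g 1 1) * hj

theorem commute_of_commute {g x y : GL2 q} (hg : g ∉ scal q) (hx : Commute x g) (hy : Commute y g) :
    Commute x y := by
  obtain ⟨i, j, x0, x1, x2, x3⟩ := exists_coef hg hx
  obtain ⟨i', j', y0, y1, y2, y3⟩ := exists_coef hg hy
  apply ext_ent <;> simp only [ent_mul, x0, x1, x2, x3, y0, y1, y2, y3] <;> ring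

theorem card_scal : Nat.card ↥(scal q) = q - 1 := by
  rw [← ZMod.card_units q, ← Nat.card_eq_fintype_card]
  refine Nat.card_congr (Equiv.ofBijective
    (fun s : ↥(scal q) => Units.mk0 (ent (s : GL2 q) 0 0) fun e => det_ne (s : GL2 q) (by
      rw [e, (mem_scal.1 s.2).2.1, zero_mul, zero_mul, sub_zero])) ⟨?_, ?_⟩)
  · intro a b e
    have e' : ent (a : GL2 q) 0 0 = ent (b : GL2 q) 0 0 := congrArg Units.val e
    obtain ⟨a10, a01, a00⟩ := mem_scal.1 a.2
    obtain ⟨b10, b01, b00⟩ := mem_scal.1 b.2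
    exact Subtype.ext (ext_ent e' (a01.trans b01.symm) (a10.trans b10.symm) (by rw [← a00, e', b00]))
  · intro v
    refine ⟨⟨Matrix.GeneralLinearGroup.mkOfDetNeZero !![(v : ZMod q), 0; 0, v] (by
      rw [Matrix.det_fin_two]; simp), ?_⟩, Units.ext ?_⟩
    · exact mem_scal.2 (by simp [ent, Matrix.GeneralLinearGroup.mkOfDetNeZero])
    · simp [ent, Matrix.GeneralLinearGroup.mkOfDetNeZero]

namespace Cfg

variable {H : Subgroup (GL2 q)} (c : Cfg H) (hd : ¬ q ∣ Nat.card ↥H)
include c hd

theorem eq_one_of_pow {u : GL2 q} (hu : u ∈ H) (h : u ^ q = 1) : u = 1 := by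
  rcases (Nat.dvd_prime hq.out).1 (orderOf_dvd_of_pow_eq_one h) with e | e
  · exact orderOf_eq_one_iff.1 e
  · exact absurd ((dvd_of_eq e.symm).trans (H.orderOf_dvd_natCard hu)) hd

/-- An element stabilising an axis stabilises both. -/
theorem upp_of_low {h : GL2 q} (hh : h ∈ H) (h10 : ent h 1 0 = 0) : ent h 0 1 = 0 := by
  obtain ⟨f00, f01, f10, f11⟩ := ent_conj_refl h
  set w := h⁻¹ * (refl * h * refl) with hw
  have hhw : h * w = refl * h * refl := by rw [hw, mul_inv_cancel_left]
  have hdet := det_ne h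
  rw [h10, mul_zero, sub_zero] at hdet
  have e2 : ent (h * w) 1 0 = -ent h 1 0 := by rw [hhw, f10]
  rw [ent_mul, h10, zero_mul, zero_add, neg_zero] at e2
  have w10 := (mul_eq_zero.1 e2).resolve_left (right_ne_zero_of_mul hdet)
  have e3 : ent (h * w) 1 1 = ent h 1 1 := by rw [hhw, f11]
  rw [ent_mul, h10, zero_mul, zero_add] at e3
  have w11 : ent w 1 1 = 1 := mul_left_cancel₀ (right_ne_zero_of_mul hdet) (e3.trans (mul_one _).symm)
  have e0 : ent (h * w) 0 0 = ent h 0 0 := by rw [hhw, f00]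
  rw [ent_mul, w10, mul_zero, add_zero] at e0
  have w00 : ent w 0 0 = 1 := mul_left_cancel₀ (left_ne_zero_of_mul hdet) (e0.trans (mul_one _).symm)
  have hpow : ∀ i : ℕ, ent (w ^ i) 0 0 = 1 ∧ ent (w ^ i) 0 1 = i * ent w 0 1 ∧ ent (w ^ i) 1 0 = 0 ∧
      ent (w ^ i) 1 1 = 1 := by
    intro i
    induction i with
    | zero => simp [ent_one]
    | succ i ih =>
      simp only [pow_succ, ent_mul, ih.1, ih.2.1, ih.2.2.1, ih.2.2.2, w00, w10, w11]
      push_cast
      refine ⟨?_, ?_, ?_, ?_⟩ <;> ring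
  have hw1 : w = 1 := c.eq_one_of_pow hd (mul_mem (inv_mem hh) (c.conj h hh)) (by
    obtain ⟨p0, p1, p2, p3⟩ := hpow q
    rw [ZMod.natCast_self, zero_mul] at p1
    apply ext_ent <;> simp [ent_one, p0, p1, p2, p3])
  rw [hw1, mul_one] at hhw
  have e1 : ent h 0 1 = -ent h 0 1 := by rw [← f01, ← hhw]
  exact (mul_eq_zero.1 (show (2 : ZMod q) * ent h 0 1 = 0 by linear_combination e1)).resolve_left
    (two_ne_zero' c.ne_two)

/-- An element of determinant one and trace `± 2` is trivial. -/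
theorem trace_ne {g : GL2 q} (hg : g ∈ H) (hs : g ∉ scal q)
    (hdet : ent g 0 0 * ent g 1 1 - ent g 0 1 * ent g 1 0 = 1) :
    (ent g 0 0 + ent g 1 1) ^ 2 - 4 ≠ 0 := by
  intro e
  set t := ent g 0 0 + ent g 1 1
  obtain ⟨ε, hεt, hε⟩ : ∃ ε : ZMod q, t = 2 * ε ∧ ε * ε = 1 := by
    rcases mul_eq_zero.1 (show (t - 2) * (t + 2) = 0 by linear_combination e) with e' | e'
    · exact ⟨1, by linear_combination e', one_mul 1⟩
    · exact ⟨-1, by linear_combination e', by ring⟩
  have hpow : ∀ i : ℕ,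
      ε * ent (g ^ i) 0 0 = ε ^ i * (ε + i * (ent g 0 0 - ε)) ∧ ε * ent (g ^ i) 0 1 = ε ^ i * (i * ent g 0 1) ∧
      ε * ent (g ^ i) 1 0 = ε ^ i * (i * ent g 1 0) ∧
        ε * ent (g ^ i) 1 1 = ε ^ i * (ε + i * (ent g 1 1 - ε)) := by
    intro i
    induction i with
    | zero => simp [ent_one]
    | succ i ih =>
      obtain ⟨i0, i1, i2, i3⟩ := ih
      simp only [pow_succ, ent_mul]
      push_cast
      refine ⟨?_, ?_, ?_, ?_⟩
      · linear_combination ent g 0 0 * i0 + ent g 1 0 * i1 + ε ^ i * (i : ZMod q) * (-hdet + ent g 0 0 * hεt + hε)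
      · linear_combination ent g 0 1 * i0 + ent g 1 1 * i1 + ε ^ i * (i : ZMod q) * ent g 0 1 * hεt
      · linear_combination ent g 0 0 * i2 + ent g 1 0 * i3 + ε ^ i * (i : ZMod q) * ent g 1 0 * hεt
      · linear_combination ent g 0 1 * i2 + ent g 1 1 * i3 + ε ^ i * (i : ZMod q) * (-hdet + ent g 1 1 * hεt + hε)
  obtain ⟨p0, p1, p2, p3⟩ := hpow (2 * q)
  have hε0 : ε ≠ 0 := left_ne_zero_of_mul_eq_one hε
  have h2q : ((2 * q : ℕ) : ZMod q) = 0 := by push_cast; rw [ZMod.natCast_self, mul_zero]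
  have hεq : ε ^ (2 * q) = 1 := by rw [pow_mul, pow_two, hε, one_pow]
  rw [h2q, hεq] at p0 p1 p2 p3
  have hg2 : g ^ (2 * q) = 1 := by
    apply ext_ent <;> simp only [ent_one] <;> refine mul_left_cancel₀ hε0 ?_
    · rw [p0]; simp
    · rw [p1]; simp
    · rw [p2]; simp
    · rw [p3]; simp
  have hco : (orderOf g).Coprime 2 := Nat.coprime_two_right.2 (c.odd_orderOf hg)
  have hgq := orderOf_dvd_iff_pow_eq_one.1 (hco.dvd_of_dvd_mul_left (orderOf_dvd_of_pow_eq_one hg2))
  exact hs (c.eq_one_of_pow hd hg hgq ▸ one_mem _)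

/-- Order prime to `q` makes it abelian. -/
theorem commute : ∀ x ∈ H, ∀ y ∈ H, Commute x y := by
  classical
  by_contra hcon
  push Not at hcon
  obtain ⟨x₀, hx₀, y₀, hy₀, hne⟩ := hcon
  haveI : Group.IsSolvable ↥H := Klein.isSolvable_of_odd c.odd
  have hex : ∃ j, derivedSeries ↥H j = ⊥ := Group.IsSolvable.solvable
  have hD1 : derivedSeries ↥H 1 ≠ ⊥ := fun e => by
    have h1 : ⁅(⟨x₀, hx₀⟩ : ↥H), ⟨y₀, hy₀⟩⁆ ∈ derivedSeries ↥H 1 := by
      rw [derivedSeries_succ]
      exact commutator_mem_commutator (by rw [derivedSeries_zero]; exact mem_top _)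
        (by rw [derivedSeries_zero]; exact mem_top _)
    rw [e, mem_bot, commutatorElement_eq_one_iff_commute] at h1
    exact hne (congrArg Subtype.val h1.eq)
  obtain ⟨j, hj, hj0⟩ : ∃ j, derivedSeries ↥H (j + 1 + 1) = ⊥ ∧ derivedSeries ↥H (j + 1) ≠ ⊥ := by
    have h0 := Nat.find_spec hex
    have hpos : 2 ≤ Nat.find hex := by
      by_contra hlt
      have := derivedSeries_antitone ↥H (show Nat.find hex ≤ 1 by omega)
      exact hD1 (le_bot_iff.1 (this.trans h0.le))
    refine ⟨Nat.find hex - 2, ?_, Nat.find_min hex (by omega)⟩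
    rwa [show Nat.find hex - 2 + 1 + 1 = Nat.find hex by omega]
  obtain ⟨g₀, hg₀, hg₀1⟩ := (bot_or_exists_ne_one _).resolve_left hj0
  set g := (g₀ : GL2 q) with hgdef
  have hgH : g ∈ H := g₀.2
  have hdet : ent g 0 0 * ent g 1 1 - ent g 0 1 * ent g 1 0 = 1 := by
    have h1 : g₀ ∈ (Matrix.GeneralLinearGroup.det.comp H.subtype).ker :=
      Abelianization.commutator_subset_ker _ (by
        rw [← derivedSeries_one]
        exact derivedSeries_antitone ↥H (show 1 ≤ j + 1 by omega) hg₀)
    have h2 : ((Matrix.GeneralLinearGroup.det g : (ZMod q)ˣ) : ZMod q) = 1 := congrArg Units.val h1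
    simpa [Matrix.det_fin_two] using h2
  have hg1 : g ≠ 1 := fun e => hg₀1 (Subtype.ext e)
  have hgs : g ∉ scal q := fun hs => by
    obtain ⟨h10, h01, h00⟩ := mem_scal.1 hs
    rw [h01, ← h00, zero_mul, sub_zero] at hdet
    rcases mul_self_eq_one_iff.1 hdet with e | e
    · exact hg1 (ext_ent (by rw [e, ent_one, if_pos rfl]) (by rw [h01, ent_one, if_neg (by decide)])
        (by rw [h10, ent_one, if_neg (by decide)]) (by rw [← h00, e, ent_one, if_pos rfl]))
    · exact c.ne_neg_one hgH e h10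
  refine hne (commute_of_commute hgs ?_ ?_) <;> [skip; skip]
  all_goals
    have key : ∀ k ∈ H, Commute k g := by
      intro k hk
      set g' := k * g * k⁻¹ with hg'
      have hnor : (derivedSeries ↥H (j + 1)).Normal := derivedSeries_normal ↥H (j + 1)
      have hmem : (⟨k, hk⟩ : ↥H) * g₀ * ⟨k, hk⟩⁻¹ ∈ derivedSeries ↥H (j + 1) := hnor.conj_mem _ hg₀ _
      have hcomm : Commute g' g := by
        have h1 : ⁅(⟨k, hk⟩ : ↥H) * g₀ * ⟨k, hk⟩⁻¹, g₀⁆ ∈ derivedSeries ↥H (j + 1 + 1) := by
          rw [derivedSeries_succ]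
          exact commutator_mem_commutator hmem hg₀
        rw [hj, mem_bot, commutatorElement_eq_one_iff_commute] at h1
        exact congrArg Subtype.val h1.eq
      obtain ⟨i, s, e0, e1, e2, e3⟩ := exists_coef hgs hcomm
      have hconj : ((g' : GL2 q) : Matrix (Fin 2) (Fin 2) (ZMod q)) =
          (k : Matrix (Fin 2) (Fin 2) (ZMod q)) * g * ((k⁻¹ : GL2 q) : Matrix (Fin 2) (Fin 2) (ZMod q)) := by
        simp [hg']
      have ht : ent g' 0 0 + ent g' 1 1 = ent g 0 0 + ent g 1 1 := by
        have : (g' : GL2 q).1.trace = g.1.trace := by rw [hconj, Matrix.trace_units_conj]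
        simpa [Matrix.trace_fin_two] using this
      have hdd : ent g' 0 0 * ent g' 1 1 - ent g' 0 1 * ent g' 1 0 = 1 := by
        have : (g' : GL2 q).1.det = g.1.det := by rw [hconj, Matrix.det_units_conj]
        rw [Matrix.det_fin_two, Matrix.det_fin_two] at this
        exact this.trans hdet
      rw [e0, e3] at ht
      rw [e0, e1, e2, e3] at hdd
      set t := ent g 0 0 + ent g 1 1
      have hkey : (1 - s) * (1 + s) * (t ^ 2 - 4) = 0 := by
        linear_combination (4 : ZMod q) * hdd - 4 * s ^ 2 * hdet - (2 * i + s * t + t) * ht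
      rcases mul_eq_zero.1 ((mul_eq_zero.1 hkey).resolve_right (c.trace_ne hd hgH hgs hdet)) with h1 | h1
      · have hs : s = 1 := by linear_combination -h1
        have hi : i = 0 := (mul_eq_zero.1 (show (2 : ZMod q) * i = 0 by
          rw [hs] at ht; linear_combination ht)).resolve_left (two_ne_zero' c.ne_two)
        have : g' = g := ext_ent (by rw [e0, hs, hi]; ring) (by rw [e1, hs]; ring) (by rw [e2, hs]; ring)
          (by rw [e3, hs, hi]; ring)
        exact mul_inv_eq_iff_eq_mul.1 this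
      · have hs : s = -1 := by linear_combination h1
        have hi : i = t := sub_eq_zero.1 ((mul_eq_zero.1 (show (2 : ZMod q) * (i - t) = 0 by
          rw [hs] at ht; linear_combination ht)).resolve_left (two_ne_zero' c.ne_two))
        have hinv : g' = g⁻¹ := by
          refine eq_inv_of_mul_eq_one_left (ext_ent ?_ ?_ ?_ ?_) <;>
            simp only [ent_mul, ent_one, e0, e1, e2, e3, hs, hi] <;> simp <;>
            first | ring1 | linear_combination hdet
        have h2 := Klein.mul_self_of_inverted (c.odd_orderOf hk) hinv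
        refine absurd ?_ hg1
        refine orderOf_eq_one_iff.1 ?_
        rcases (Nat.dvd_prime Nat.prime_two).1 (orderOf_dvd_of_pow_eq_one
          (show g ^ 2 = 1 by rw [pow_two]; exact h2)) with e | e
        · exact e
        · have := c.odd_orderOf hgH
          rw [e] at this
          exact absurd this (by decide)
    first | exact key x₀ hx₀ | exact key y₀ hy₀

/-- No element has a double eigenvalue. -/
theorem disc_ne {g : GL2 q} (hgH : g ∈ H) (hgs : g ∉ scal q) :
    (ent g 0 0 + ent g 1 1) ^ 2 - 4 * (ent g 0 0 * ent g 1 1 - ent g 0 1 * ent g 1 0) ≠ 0 := by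
  intro hdisc
  set t := ent g 0 0 + ent g 1 1 with ht
  set D := ent g 0 0 * ent g 1 1 - ent g 0 1 * ent g 1 0 with hD
  obtain ⟨ρ, et⟩ : ∃ ρ : ZMod q, t = 2 * ρ := ⟨t / 2, by rw [mul_div_cancel₀ _ (two_ne_zero' c.ne_two)]⟩
  have eD : D = ρ * ρ := by
    refine mul_left_cancel₀ (show (4 : ZMod q) ≠ 0 by
      rw [show (4 : ZMod q) = 2 * 2 by norm_num]
      exact mul_ne_zero (two_ne_zero' c.ne_two) (two_ne_zero' c.ne_two)) ?_
    linear_combination -hdisc + (t + 2 * ρ) * et
  have hpow : ∀ i : ℕ, ρ * ent (g ^ i) 0 0 = ρ ^ i * (ρ + i * (ent g 0 0 - ρ)) ∧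
      ρ * ent (g ^ i) 0 1 = ρ ^ i * (i * ent g 0 1) ∧ ρ * ent (g ^ i) 1 0 = ρ ^ i * (i * ent g 1 0) ∧
      ρ * ent (g ^ i) 1 1 = ρ ^ i * (ρ + i * (ent g 1 1 - ρ)) := by
    intro i
    induction i with
    | zero => simp [ent_one]
    | succ i ih =>
      obtain ⟨i0, i1, i2, i3⟩ := ih
      simp only [pow_succ, ent_mul]
      push_cast
      rw [ht] at et
      rw [hD] at eD
      refine ⟨?_, ?_, ?_, ?_⟩
      · linear_combination ent g 0 0 * i0 + ent g 1 0 * i1 + ρ ^ i * (i : ZMod q) * (-eD + ent g 0 0 * et)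
      · linear_combination ent g 0 1 * i0 + ent g 1 1 * i1 + ρ ^ i * (i : ZMod q) * ent g 0 1 * et
      · linear_combination ent g 0 0 * i2 + ent g 1 0 * i3 + ρ ^ i * (i : ZMod q) * ent g 1 0 * et
      · linear_combination ent g 0 1 * i2 + ent g 1 1 * i3 + ρ ^ i * (i : ZMod q) * (-eD + ent g 1 1 * et)
  have hρ0 : ρ ≠ 0 := fun e0 => det_ne g (by rw [← hD, eD, e0, mul_zero])
  obtain ⟨p0, p1, p2, p3⟩ := hpow q
  rw [ZMod.natCast_self, ZMod.pow_card] at p0 p1 p2 p3
  simp only [zero_mul, mul_zero, add_zero] at p0 p1 p2 p3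
  -- `g ^ q` is the scalar `ρ`, and `g` is a power of it
  have hq2 : g ^ q ∈ scal q := mem_scal.2 ⟨(mul_eq_zero.1 p2).resolve_left hρ0,
    (mul_eq_zero.1 p1).resolve_left hρ0, mul_left_cancel₀ hρ0 (p0.trans p3.symm)⟩
  obtain ⟨k, hk⟩ := exists_pow_eq_self_of_coprime (x := g) (n := q)
    ((hq.out.coprime_iff_not_dvd).2 fun e => hd (e.trans (H.orderOf_dvd_natCard hgH)))
  exact hgs (hk ▸ pow_mem hq2 k)

/-- The centraliser of an element with distinct eigenvalues modulo scalars. -/
theorem relIndex_centralizer {g : GL2 q} (hgH : g ∈ H) (hgs : g ∉ scal q) :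
    (scal q).relIndex (centralizer ({g} : Set (GL2 q))) = q - 1 ∨
      (scal q).relIndex (centralizer ({g} : Set (GL2 q))) = q + 1 := by
  classical
  have hdisc := c.disc_ne hd hgH hgs
  set t := ent g 0 0 + ent g 1 1 with ht
  set D := ent g 0 0 * ent g 1 1 - ent g 0 1 * ent g 1 0 with hD
  set C := centralizer ({g} : Set (GL2 q)) with hCdef
  have hsC : scal q ≤ C := fun x hx => mem_centralizer_singleton_iff.2 (commute_of_mem_scal hx g).eq
  let P : ZMod q × ZMod q → ZMod q := fun p => p.1 * p.1 + p.1 * p.2 * t + p.2 * p.2 * D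
  have hentP : ∀ p : ZMod q × ZMod q, (p.1 + p.2 * ent g 0 0) * (p.1 + p.2 * ent g 1 1) -
      p.2 * ent g 0 1 * (p.2 * ent g 1 0) = P p := fun p => by simp only [P, ht, hD]; ring
  let mk : {p // P p ≠ 0} → ↥C := fun p => ⟨Matrix.GeneralLinearGroup.mkOfDetNeZero
      !![p.1.1 + p.1.2 * ent g 0 0, p.1.2 * ent g 0 1; p.1.2 * ent g 1 0, p.1.1 + p.1.2 * ent g 1 1]
      (by rw [Matrix.det_fin_two]; simpa [hentP p.1] using p.2),
    mem_centralizer_singleton_iff.2 (by
      apply ext_ent <;> simp [ent_mul] <;> simp [ent, Matrix.GeneralLinearGroup.mkOfDetNeZero] <;> ring)⟩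
  have hmk : Function.Bijective mk := by
    refine ⟨fun p p' e => ?_, fun x => ?_⟩
    · have e' : ∀ a b, ent (mk p : GL2 q) a b = ent (mk p' : GL2 q) a b := fun a b => by rw [e]
      have E00 := e' 0 0
      have E01 := e' 0 1
      have E10 := e' 1 0
      have E11 := e' 1 1
      simp [mk, ent, Matrix.GeneralLinearGroup.mkOfDetNeZero] at E00 E01 E10 E11
      have h2 : p.1.2 = p'.1.2 := by
        by_contra hne
        have hne' := sub_ne_zero.2 hne
        refine hgs (mem_scal.2 ⟨?_, ?_, ?_⟩)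
        · exact E10.resolve_left hne
        · exact E01.resolve_left hne
        · exact mul_left_cancel₀ hne' (by linear_combination E00 - E11)
      exact Subtype.ext (Prod.ext (by rw [h2] at E00; linear_combination E00) h2)
    · obtain ⟨i, j, x0, x1, x2, x3⟩ := exists_coef hgs (mem_centralizer_singleton_iff.1 x.2)
      refine ⟨⟨(i, j), ?_⟩, Subtype.ext ?_⟩
      · rw [← hentP (i, j), ← x0, ← x3, ← x1, ← x2]
        exact det_ne _
      · apply ext_ent <;> simp [mk, ent, Matrix.GeneralLinearGroup.mkOfDetNeZero] <;>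
          first | exact x0.symm | exact x1.symm | exact x2.symm | exact x3.symm
  have hcard : Nat.card ↥C + (Finset.univ.filter fun p => P p = 0).card = q * q := by
    rw [← Nat.card_eq_of_bijective mk hmk, Nat.card_eq_fintype_card, Fintype.card_subtype, add_comm,
      Finset.card_filter_add_card_filter_not, Finset.card_univ, Fintype.card_prod, ZMod.card]
  have hidx : (scal q).relIndex C * (q - 1) = Nat.card ↥C := by
    rw [← card_scal, ← Subgroup.relIndex_bot_left (H := scal q), mul_comm,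
      Subgroup.relIndex_mul_relIndex _ _ _ bot_le hsC, Subgroup.relIndex_bot_left]
  obtain ⟨m, hm⟩ : ∃ m, q = m + 2 := ⟨q - 2, by have := hq.out.two_le; omega⟩
  by_cases hroot : ∃ ρ : ZMod q, ρ * ρ - t * ρ + D = 0
  · obtain ⟨ρ, hρ⟩ := hroot
    set ρ' := t - ρ with hρ'
    have hne : ρ ≠ ρ' := by
      intro e
      rw [hρ'] at e
      exact hdisc (by linear_combination -4 * hρ - (t + 2 * ρ) * e + 4 * ρ * e)
    have hzero : (Finset.univ.filter fun p => P p = 0) =
        (Finset.univ.image fun j : ZMod q => (-(j * ρ), j)) ∪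
          (Finset.univ.image fun j : ZMod q => (-(j * ρ'), j)) := by
      ext ⟨i, j⟩
      simp only [Finset.mem_filter, Finset.mem_univ, true_and, Finset.mem_union, Finset.mem_image, Prod.mk.injEq]
      have hfac : P (i, j) = (i + j * ρ) * (i + j * ρ') := by
        simp only [P, hρ']
        linear_combination j * j * hρ
      constructor
      · intro h0
        rw [hfac] at h0
        rcases mul_eq_zero.1 h0 with h1 | h1
        · exact Or.inl ⟨j, by linear_combination -h1, rfl⟩
        · exact Or.inr ⟨j, by linear_combination -h1, rfl⟩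
      · rintro (⟨j', h1, rfl⟩ | ⟨j', h1, rfl⟩) <;> rw [hfac, ← h1] <;> ring
    have hinter : ((Finset.univ.image fun j : ZMod q => (-(j * ρ), j)) ∩
        (Finset.univ.image fun j : ZMod q => (-(j * ρ'), j))) = {(0, 0)} := by
      ext ⟨i, j⟩
      simp only [Finset.mem_inter, Finset.mem_image, Finset.mem_univ, true_and, Prod.mk.injEq,
        Finset.mem_singleton]
      constructor
      · rintro ⟨⟨a, ha, rfl⟩, ⟨b, hb, rfl⟩⟩
        have : b = 0 := (mul_eq_zero.1 (show b * (ρ - ρ') = 0 by linear_combination hb - ha)).resolve_right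
          (sub_ne_zero.2 hne)
        exact ⟨by rw [← hb, this, zero_mul, neg_zero], this⟩
      · rintro ⟨rfl, rfl⟩
        exact ⟨⟨0, by simp, rfl⟩, ⟨0, by simp, rfl⟩⟩
    have h2 := Finset.card_union_add_card_inter (Finset.univ.image fun j : ZMod q => (-(j * ρ), j))
      (Finset.univ.image fun j : ZMod q => (-(j * ρ'), j))
    rw [← hzero, hinter, Finset.card_singleton,
      Finset.card_image_of_injective _ (fun a b e => congrArg Prod.snd e),
      Finset.card_image_of_injective _ (fun a b e => congrArg Prod.snd e), Finset.card_univ, ZMod.card] at h2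
    left
    refine Nat.eq_of_mul_eq_mul_right (show 0 < q - 1 by omega) ?_
    rw [hidx, show q - 1 = m + 1 by omega]
    nlinarith [hcard, h2, hm]
  · have hzero : (Finset.univ.filter fun p => P p = 0) = {(0, 0)} := by
      ext ⟨i, j⟩
      simp only [Finset.mem_filter, Finset.mem_univ, true_and, Finset.mem_singleton, Prod.mk.injEq]
      constructor
      · intro h0
        by_cases hj : j = 0
        · rw [hj] at h0
          simp [P] at h0
          exact ⟨h0, hj⟩
        · refine absurd ⟨-i / j, ?_⟩ hroot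
          simp only [P] at h0
          field_simp
          linear_combination h0
      · rintro ⟨rfl, rfl⟩; simp [P]
    rw [hzero, Finset.card_singleton] at hcard
    right
    refine Nat.eq_of_mul_eq_mul_right (show 0 < q - 1 by omega) ?_
    rw [hidx, show q - 1 = m + 1 by omega]
    nlinarith [hcard, hm]

theorem scal_normal : (scal q).Normal :=
  ⟨fun n hn x => by rwa [← (commute_of_mem_scal hn x).eq, mul_inv_cancel_right]⟩

/-- The image modulo scalars. -/
theorem relIndex_dvd {g : GL2 q} (hgH : g ∈ H) (hgs : g ∉ scal q) :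
    (scal q).relIndex H ∣ q - 1 ∨ (scal q).relIndex H ∣ q + 1 := by
  haveI := c.scal_normal hd
  have hdvd : (scal q).relIndex H ∣ (scal q).relIndex (centralizer ({g} : Set (GL2 q))) := by
    rw [← Subgroup.relIndex_sup_left, ← Subgroup.relIndex_mul_relIndex (scal q) (scal q ⊔ H) _ le_sup_left
      (sup_le (fun x hx => mem_centralizer_singleton_iff.2 (commute_of_mem_scal hx g).eq)
        fun x hx => mem_centralizer_singleton_iff.2 (c.commute hd x hx g hgH).eq)]
    exact dvd_mul_right _ _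
  rcases c.relIndex_centralizer hd hgH hgs with e | e <;> rw [e] at hdvd
  exacts [Or.inl hdvd, Or.inr hdvd]

end Cfg

/-- The trichotomy. -/
theorem Cfg.trichotomy {H : Subgroup (GL2 q)} (c : Cfg H) :
    (∀ h ∈ H, ent h 1 0 = 0) ∨
    ((∀ h ∈ H, ent h 0 1 = 0) ∧ (low q).relIndex H = q) ∨
    ((¬ ∀ h ∈ H, ent h 0 1 = 0) ∧ (¬ ∀ h ∈ H, ent h 1 0 = 0) ∧ ¬ q ∣ Nat.card ↥H ∧
      (∀ x ∈ H, ∀ y ∈ H, Commute x y) ∧ (∀ h ∈ H, ent h 1 0 = 0 → h ∈ scal q) ∧
      (∀ h ∈ H, ent h 0 1 = 0 → h ∈ scal q) ∧ (low q).relIndex H = (scal q).relIndex H ∧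
      (upp q).relIndex H = (scal q).relIndex H ∧
      ((scal q).relIndex H ∣ q - 1 ∨ (scal q).relIndex H ∣ q + 1)) := by
  by_cases hlow : ∀ h ∈ H, ent h 1 0 = 0
  · exact Or.inl hlow
  by_cases hup : ∀ h ∈ H, ent h 0 1 = 0
  · exact Or.inr (Or.inl ⟨hup, (c.translations hup).resolve_left hlow⟩)
  right; right
  have hd : ¬ q ∣ Nat.card ↥H := fun hd => (c.axis_of_dvd hd).elim hup hlow
  -- a non-scalar diagonal element would make all elements diagonal
  have hdiag : ∀ h ∈ H, ent h 1 0 = 0 → ent h 0 1 = 0 → h ∈ scal q := by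
    intro h hh h10 h01
    by_contra hs
    refine hlow fun k hk => ?_
    have e : ent (h * k) 1 0 = ent (k * h) 1 0 := by rw [(c.commute hd h hh k hk).eq]
    simp only [ent_mul, h10, zero_mul, zero_add, mul_zero, add_zero] at e
    have hne : ent h 1 1 - ent h 0 0 ≠ 0 := fun e' => hs (mem_scal.2 ⟨h10, h01, (sub_eq_zero.1 e').symm⟩)
    exact (mul_eq_zero.1 (show (ent h 1 1 - ent h 0 0) * ent k 1 0 = 0 by linear_combination e)).resolve_left hne
  have hl : ∀ h ∈ H, ent h 1 0 = 0 → h ∈ scal q := fun h hh h10 => hdiag h hh h10 (c.upp_of_low hd hh h10)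
  have hu : ∀ h ∈ H, ent h 0 1 = 0 → h ∈ scal q := by
    intro h hh h01
    refine hdiag h hh ?_ h01
    by_contra h10
    -- otherwise the image of `h` under the reflection differs from it only below the diagonal
    obtain ⟨f00, f01, f10, f11⟩ := ent_conj_refl h
    have hk := c.commute hd h hh _ (c.conj h hh)
    have e : ent (h * (refl * h * refl)) 1 0 = ent (refl * h * refl * h) 1 0 := by rw [hk.eq]
    simp only [ent_mul (a := h), ent_mul (a := refl * h * refl) (b := h), f00, f10, f11] at e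
    have heq : ent h 0 0 = ent h 1 1 := by
      refine mul_left_cancel₀ h10 ?_
      refine sub_eq_zero.1 ((mul_eq_zero.1 (show (2 : ZMod q) * (ent h 1 0 * ent h 0 0 - ent h 1 0 * ent h 1 1) = 0
        by linear_combination e)).resolve_left (two_ne_zero' c.ne_two))
    refine hup fun k hk' => ?_
    have e' : ent (h * k) 0 0 = ent (k * h) 0 0 := by rw [(c.commute hd h hh k hk').eq]
    simp only [ent_mul, h01, zero_mul, add_zero] at e'
    exact (mul_eq_zero.1 (show ent k 0 1 * ent h 1 0 = 0 by linear_combination -e')).resolve_right h10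
  have e1 : (low q).relIndex H = (scal q).relIndex H := by
    rw [← Subgroup.inf_relIndex_right, ← Subgroup.inf_relIndex_right (scal q)]
    congr 1
    exact le_antisymm (fun x hx => ⟨hl x hx.2 hx.1, hx.2⟩) (inf_le_inf_right _ fun x hx => hx.1)
  have e2 : (upp q).relIndex H = (scal q).relIndex H := by
    rw [← Subgroup.inf_relIndex_right, ← Subgroup.inf_relIndex_right (scal q)]
    congr 1
    exact le_antisymm (fun x hx => ⟨hu x hx.2 hx.1, hx.2⟩) (inf_le_inf_right _ fun x hx => hx.2.1)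
  obtain ⟨g, hg, hgs⟩ : ∃ g ∈ H, g ∉ scal q := by
    by_contra hcon
    push Not at hcon
    exact hup fun h hh => (hcon h hh).2.1
  exact ⟨hup, hlow, hd, c.commute hd, hl, hu, e1, e2, c.relIndex_dvd hd hg hgs⟩

end Cfsg.Agent.Invol.GW.Dihedral.Plane
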