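import Cfsg.Agent.Lib.Invol.GW.Dihedral.BadLine
import Cfsg.Agent.Lib.Invol.GW.Dihedral.PlaneSplit
import Cfsg.Agent.Lib.Invol.GW.Dihedral.Coord

/-!
# Gorenstein–Walter, dihedral, bad three: the parameters of the line

In the plane of the elements of order `q` of `O_q(U)` the number `e` of conjugates of the fixed line is `q` or `2 e`
divides `q - 1` or `q + 1`.  The fixed part of `[U, τ]` has order dividing that of its moved part, and the centraliser
of `z` and `t` is `U ⊓ C(z)` times `⟨t, σ * τ⟩`.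
-/

set_option autoImplicit false
set_option linter.unusedSectionVars false
set_option linter.style.haveILetI false

namespace Cfsg.Agent.Invol.GW.Dihedral

open Subgroup Klein
open scoped Pointwise commutatorElement

universe u

variable {G : Type u} [Group G] [Finite G]

namespace Hyp

variable {S : Sylow 2 G} {σ τ : G} {n : ℕ} (h : Hyp S σ τ n) (hC : IsCoatom (centralizer ({central σ n} : Set G)))
  (hbad : Bad S σ τ n 3) (hY3 : opOf 3 (coreCent (central σ n)) ≠ ⊥)
include h hC hbad hY3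

/-- Every element of `O_s(U)` is an element of the fixed part times one of `D`, in `[U, τ]`. -/
theorem opOf_split {q : ℕ} [Fact q.Prime] (hq : q ≠ 3) {z : G} (hzY : z ∈ opOf q (coreCent (central σ n)))
    (hzR : z ∈ fixR (central σ n) (σ * τ)) (hz1 : z ≠ 1) {s : ℕ} [Fact s.Prime] (hs : s ≠ 3) {y : G}
    (hy : y ∈ opOf s (coreCent (central σ n))) :
    ∃ a ∈ ⁅coreCent (central σ n), zpowers τ⁆ ⊓ locD σ (σ * τ) n (centralizer ({z} : Set G)),
      ∃ e ∈ fixR (central σ n) (σ * τ),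
        a ∈ opOf s (coreCent (central σ n)) ∧ Commute a e ∧ y = a * e := by
  obtain ⟨a, ha, e, he, hinv, rfl⟩ := h.inverted_of_mem_opOf hC hbad hY3 hs hy
  have haN := h.opOf_le_coreCommutator hC hbad hY3 hs ha
  refine ⟨a, ⟨haN, ?_⟩, e, (Subgroup.mem_inf.1 he).2, ha, ?_, rfl⟩
  · exact (h.mem_locD_iff hC hbad hY3 hq hzY hzR hz1).2 ⟨opOf_le s _ ha,
      h.coreCommutator_comm hC hbad hY3 haN (h.opOf_le_coreCommutator hC hbad hY3 hq hzY), hinv⟩
  · exact h.coreCommutator_comm hC hbad hY3 haN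
      (h.opOf_le_coreCommutator hC hbad hY3 hs (Subgroup.mem_inf.1 he).1)

variable {q : ℕ} [Fact q.Prime] (hq : q ≠ 3) {z : G} (hzY : z ∈ opOf q (coreCent (central σ n)))
  (hzR : z ∈ fixR (central σ n) (σ * τ)) (hz1 : z ≠ 1) (hzq : z ^ q = 1)
include hq hzY hzR hz1 hzq

theorem five_le_prime : 5 ≤ q := by
  have hp : q.Prime := Fact.out
  have hodd := h.odd_prime hC (h.good_of_fixed hC hbad hY3 hq hzY hz1).1
  have h2 := hp.two_le
  obtain ⟨k, rfl⟩ := hodd
  by_contra hlt
  obtain rfl : k = 1 := by omega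
  exact hq rfl

/-- The number of conjugates of the fixed line. -/
theorem fixed_index :
    let e := (normalizer ((opOf q (coreCent (central σ n)) ⊓ fixR (central σ n) (σ * τ) : Subgroup G) :
      Set G)).relIndex (coreCent (central σ n))
    Odd e ∧ 3 ≤ e ∧ (e = q ∨ 2 * e ∣ q - 1 ∨ 2 * e ∣ q + 1) := by
  intro e
  set U := coreCent (central σ n) with hU
  set w := σ * τ with hw
  set E := opOf q U ⊓ fixR (central σ n) w with hE
  have hg := h.good_of_fixed hC hbad hY3 hq hzY hz1
  have hoddq := h.odd_prime hC hg.1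
  have he : Odd e := Odd.of_dvd_nat h.symm.idx_odd ⟨_, h.idx_symm_eq hC hbad hY3 hq hzY hzR hz1⟩
  have he1 : e ≠ 1 := fun e1 => h.not_normalized hC hbad hY3 hq hzY hzR hz1 (relIndex_eq_one.1 e1)
  have he3 : 3 ≤ e := by obtain ⟨k, hk⟩ := he; omega
  refine ⟨he, he3, ?_⟩
  obtain ⟨y, hyY, hy1, hyq, hyi⟩ := h.exists_moved hC hbad hY3 hq hzY hzR hz1 hzq
  set B := omZ q (opOf q U) with hB
  have hYc : ∀ x ∈ opOf q U, ∀ x' ∈ opOf q U, x * x' = x' * x := fun x hx x' hx' =>
    h.opOf_comm hC hbad hY3 hq hx (h.opOf_le_coreCommutator hC hbad hY3 hq hx')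
  have hmem : ∀ x ∈ opOf q U, x ^ q = 1 → x ∈ B := fun x hx hxq =>
    mem_omZ.2 ⟨hx, fun x' hx' => hYc x hx x' hx', hxq⟩
  have hzw : Commute z w := (h.symm.mem_fixR.1 hzR).2
  have hoz : orderOf z = q := orderOf_eq_prime hzq hz1
  have hoy : orderOf y = q := orderOf_eq_prime hyq hy1
  have hbot : ∀ g : G, g ∈ normalizer ((⊥ : Subgroup G) : Set G) := fun g => mem_normalizer_iff.2 fun x => by simp
  have f : Frame q B ⊥ z y :=
    { le := bot_le
      normal := fun g _ => hbot g
      zmem := hmem z hzY hzq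
      ymem := hmem y hyY hyq
      zpow := mem_bot.2 hzq
      ypow := mem_bot.2 hyq
      comm := by rw [mem_bot, inv_mul_eq_one]; exact hYc y hyY z hzY
      indep := fun a c hac => by
        rw [mem_bot] at hac
        have e1 : w * (z ^ a * y ^ c) * w⁻¹ = z ^ a * (y ^ c)⁻¹ := by
          rw [show w * (z ^ a * y ^ c) * w⁻¹ = (w * z ^ a * w⁻¹) * (w * y ^ c * w⁻¹) by group,
            ← (hzw.pow_left a).eq, mul_inv_cancel_right, ← conj_pow, hyi, inv_pow]
        rw [hac, mul_one, mul_inv_cancel, eq_comm, mul_inv_eq_one] at e1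
        rw [e1, ← pow_add] at hac
        have hc : q ∣ c := by
          have h1 := orderOf_dvd_of_pow_eq_one hac
          rw [hoy, ← two_mul] at h1
          exact (Nat.coprime_two_right.2 hoddq).dvd_of_dvd_mul_left h1
        refine ⟨?_, hc⟩
        rw [← hoz]
        refine orderOf_dvd_of_pow_eq_one ?_
        rw [e1]
        exact orderOf_dvd_iff_pow_eq_one.1 (hoy.symm ▸ hc)
      span := fun x hx => by
        obtain ⟨a, ha, b, hb, hinv, hc, rfl, -⟩ := Klein.exists_inverted_mul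
          (odd_of_le ((omZ_le _ _).trans (opOf_le q U)) h.odd_coreCent) h.symm.tau_mul_self
          (normalizer_le_omZ q _ (h.symm_mem_normalizer_opOf hC hbad hY3 q)) hx
        obtain ⟨haY, -, haq⟩ := mem_omZ.1 ha
        obtain ⟨hbY, -, hbq⟩ := mem_omZ.1 hb
        have h1 := h.fixed_line hC hbad hY3 hq hzY hzR hz1 hzq hbY (h.symm.mem_fixR.2 ⟨opOf_le q U hbY, hc⟩) hbq
        have h2 := h.symm.inverted_mem_zpowers hC hg hzY hzR hz1 (opOf_le q U hyY) (hYc y hyY z hzY) hyi hyq hy1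
          (opOf_le q U haY) (hYc a haY z hzY) hinv haq
        obtain ⟨i, rfl⟩ := (Submonoid.mem_powers_iff _ _).1 (mem_powers_iff_mem_zpowers.2 h1)
        obtain ⟨j, rfl⟩ := (Submonoid.mem_powers_iff _ _).1 (mem_powers_iff_mem_zpowers.2 h2)
        exact ⟨i, j, by rw [mem_bot, inv_mul_eq_one]; exact hYc _ hbY _ haY⟩ }
  set L := frameDom B (⊥ : Subgroup G) with hL
  have hUL : U ≤ L := fun g hg' => ⟨normalizer_le_omZ q _ (le_normalizer_opOf q U hg'), hbot g⟩
  have hwL : w ∈ L := ⟨normalizer_le_omZ q _ (h.symm_mem_normalizer_opOf hC hbad hY3 q), hbot w⟩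
  have hrefl : f.hom ⟨w, hwL⟩ = Plane.refl := f.hom_eq_refl
    (by
      rw [mem_bot, inv_mul_eq_one]
      show z = w * z * w⁻¹
      rw [← hzw.eq, mul_inv_cancel_right])
    (by
      rw [mem_bot]
      show y * (w * y * w⁻¹) = 1
      rw [hyi, mul_inv_cancel])
  set H := (U.subgroupOf L).map f.hom with hH
  have hcfg : Plane.Cfg H :=
    { ne_two := fun e2 => by rw [e2] at hoddq; exact absurd hoddq (by decide)
      odd := by
        refine Odd.of_dvd_nat h.odd_coreCent ?_
        rw [← Nat.card_congr (subgroupOfEquivOfLe hUL).toEquiv]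
        exact Subgroup.card_map_dvd _ _
      conj := by
        rintro _ ⟨g, hg', rfl⟩
        refine ⟨⟨w, hwL⟩ * g * ⟨w, hwL⟩, mem_subgroupOf.2 ?_, by rw [map_mul, map_mul, hrefl]⟩
        show w * (g : G) * w ∈ U
        have h1 := conj_mem_of_normalizer (h.sylow_le_normalizer_coreCent h.symm.hτ) (mem_subgroupOf.1 hg')
        rwa [h.symm.tau_inv] at h1 }
  have hzE : z ∈ E := Subgroup.mem_inf.2 ⟨hzY, hzR⟩
  have hlow : ∀ g : ↥L, (g : G) ∈ U → (Plane.ent (f.hom g) 1 0 = 0 ↔ (g : G) ∈ normalizer (E : Set G)) := by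
    intro g hgU
    rw [f.ent_low_iff]
    constructor
    · rintro ⟨a, ha⟩
      rw [mem_bot, inv_mul_eq_one] at ha
      have hle : zpowers ((g : G) * z * (g : G)⁻¹) ≤ zpowers z := zpowers_le.2 (ha ▸ pow_mem (mem_zpowers z) a)
      have heq := Subgroup.eq_of_le_of_card_ge hle (by rw [Nat.card_zpowers, Nat.card_zpowers, orderOf_conj])
      obtain ⟨i, hi⟩ := mem_zpowers_iff.1 (heq.ge (mem_zpowers z))
      refine h.mem_normalizer_fixed hC hbad hY3 hq hzY hzR hz1 hgU ?_ hq
      rw [conj_zpow] at hi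
      rw [show (g : G)⁻¹ * z * g = z ^ i by
        conv_lhs => rw [← hi]
        group]
      exact hzw.zpow_left i
    · intro hn
      obtain ⟨hY', hR'⟩ := Subgroup.mem_inf.1 (conj_mem_of_normalizer hn hzE)
      have h1 := h.fixed_line hC hbad hY3 hq hzY hzR hz1 hzq hY' hR'
        (by rw [conj_pow, hzq, mul_one, mul_inv_cancel])
      obtain ⟨a, ha⟩ := (Submonoid.mem_powers_iff _ _).1 (mem_powers_iff_mem_zpowers.2 h1)
      exact ⟨a, by rw [mem_bot, inv_mul_eq_one]; exact ha⟩
  have hidx : (Plane.low q).relIndex H = e := by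
    rw [hH, ← relIndex_comap]
    calc ((Plane.low q).comap f.hom).relIndex (U.subgroupOf L)
        = ((normalizer (E : Set G)).subgroupOf L).relIndex (U.subgroupOf L) := by
          rw [← inf_relIndex_right, ← inf_relIndex_right ((normalizer (E : Set G)).subgroupOf L)]
          congr 1
          ext g
          simp only [Subgroup.mem_inf, mem_comap, Plane.mem_low, mem_subgroupOf]
          exact and_congr_left (hlow g)
      _ = e := relIndex_subgroupOf hUL
  rcases hcfg.trichotomy with hc | ⟨-, hc⟩ | ⟨-, -, -, -, -, -, hc, -, hd⟩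
  · exfalso
    refine he1 ?_
    rw [← hidx, relIndex_eq_one]
    exact hc
  · exact Or.inl (hidx ▸ hc)
  · rw [← hc, hidx] at hd
    have h2 : Nat.Coprime 2 e := Nat.coprime_two_left.2 he
    obtain ⟨k, hk⟩ := hoddq
    rcases hd with hd | hd
    · exact Or.inr (Or.inl (h2.mul_dvd_of_dvd_of_dvd (by omega) hd))
    · exact Or.inr (Or.inr (h2.mul_dvd_of_dvd_of_dvd (by omega) hd))

omit hzq in
/-- The fixed part of `[U, τ]` has order dividing that of the moved part. -/
theorem card_fixed_dvd :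
    Nat.card ↥(⁅coreCent (central σ n), zpowers τ⁆ ⊓ fixR (central σ n) (σ * τ) : Subgroup G) ∣
      Nat.card ↥(⁅coreCent (central σ n), zpowers τ⁆ ⊓
        locD σ (σ * τ) n (centralizer ({z} : Set G)) : Subgroup G) := by
  haveI : Group.IsSolvable ↥(coreCent (central σ n)) := h.isSolvable_coreCent
  set U := coreCent (central σ n)
  set N := ⁅U, zpowers τ⁆
  set R₁ := fixR (central σ n) (σ * τ)
  set M := N ⊓ locD σ (σ * τ) n (centralizer ({z} : Set G))
  refine (Nat.dvd_iff_prime_pow_dvd_dvd _ _).2 fun p k hp hpk => ?_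
  rcases Nat.eq_zero_or_pos k with rfl | hk
  · simp
  haveI : Fact p.Prime := ⟨hp⟩
  have hp3 : p ≠ 3 := fun e3 => by
    subst e3
    exact h.coreCommutator_coprime hC hbad hY3
      (((dvd_pow_self 3 hk.ne').trans hpk).trans (card_dvd_of_le inf_le_left))
  by_contra hnd
  obtain ⟨P₀, hP₀⟩ := Sylow.exists_subgroup_card_pow_prime p hpk
  set P := P₀.map (N ⊓ R₁ : Subgroup G).subtype with hP
  have hPcard : Nat.card ↥P = p ^ k := by rw [hP, Subgroup.card_subtype, hP₀]
  have hPN : P ≤ N ⊓ R₁ := map_subtype_le _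
  have hPE : P ≤ opOf p U ⊓ R₁ := fun x hx => by
    obtain ⟨hxN, hxR⟩ := Subgroup.mem_inf.1 (hPN hx)
    obtain ⟨i, hi⟩ := (IsPGroup.of_card hPcard) ⟨x, hx⟩
    exact ⟨mem_opOf_of_mem_fitting (mem_fitting_of_commute (h.coreCommutator_le hxN)
      (h.coreCommutator_commute_opOf hC hbad hY3 hxN)) (congrArg Subtype.val hi), hxR⟩
  obtain ⟨v, hv⟩ := exists_prime_orderOf_dvd_card' (G := ↥P) p (hPcard ▸ dvd_pow_self p hk.ne')
  rw [← orderOf_coe] at hv
  obtain ⟨hvY, hvR⟩ := Subgroup.mem_inf.1 (hPE v.2)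
  have hv1 : (v : G) ≠ 1 := fun e1 => by rw [e1, orderOf_one] at hv; exact hp.ne_one hv.symm
  haveI := h.isCyclic_fixed hC hbad hY3 hp3 hvY hvR hv1 (by rw [← hv, pow_orderOf_eq_one])
  haveI : IsCyclic ↥P := isCyclic_of_le hPE
  obtain ⟨x, hx⟩ := IsCyclic.exists_ofOrder_eq_natCard (α := ↥P)
  rw [← orderOf_coe, hPcard] at hx
  set j := p ^ (k - 1) with hj
  have hYc : ∀ a ∈ opOf p U, ∀ b ∈ opOf p U, a * b = b * a := fun a ha b hb =>
    h.opOf_comm hC hbad hY3 hp3 ha (h.opOf_le_coreCommutator hC hbad hY3 hp3 hb)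
  let K : Subgroup G :=
    { carrier := {v | ∃ y ∈ opOf p U, y ^ j = v}
      one_mem' := ⟨1, one_mem _, one_pow _⟩
      mul_mem' := by
        rintro _ _ ⟨a, ha, rfl⟩ ⟨b, hb, rfl⟩
        exact ⟨a * b, mul_mem ha hb, (show Commute a b from hYc a ha b hb).mul_pow j⟩
      inv_mem' := by
        rintro _ ⟨a, ha, rfl⟩
        exact ⟨a⁻¹, inv_mem ha, inv_pow a j⟩ }
  have hKY : IsPGroup p K := (isPGroup_opOf p U).to_le (by rintro _ ⟨a, ha, rfl⟩; exact pow_mem ha j)
  have hKR : K ≤ R₁ := by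
    rintro _ ⟨y, hy, rfl⟩
    obtain ⟨a, ha, e, he, haY, hae, rfl⟩ := h.opOf_split hC hbad hY3 hq hzY hzR hz1 hp3 hy
    obtain ⟨i, hi⟩ := IsPGroup.iff_orderOf.1 (isPGroup_opOf p U) ⟨a, haY⟩
    rw [Subgroup.orderOf_mk] at hi
    have hik : i ≤ k - 1 := by
      by_contra hlt
      exact hnd ((pow_dvd_pow p (show k ≤ i by omega)).trans (hi ▸ M.orderOf_dvd_natCard ha))
    have haj : a ^ j = 1 := orderOf_dvd_iff_pow_eq_one.1 (hi ▸ pow_dvd_pow p hik)
    rw [hae.mul_pow, haj, one_mul]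
    exact pow_mem he j
  have hKn : centralizer ({central σ n} : Set G) ≤ normalizer (K : Set G) := fun g hg =>
    mem_normalizer_fintype fun v hv => by
      obtain ⟨y, hy, rfl⟩ := hv
      exact ⟨g * y * g⁻¹, conj_mem_of_normalizer (h.le_normalizer_opOf_coreCent p hg) hy, conj_pow⟩
  have hK := h.symm.eq_bot_of_le_fixR hC (h.good_of_fixed hC hbad hY3 hp3 hvY hv1) hKY hKR hKn
  have hxj : (x : G) ^ j = 1 := mem_bot.1 (hK ▸ (⟨x, (Subgroup.mem_inf.1 (hPE x.2)).1, rfl⟩ : (x : G) ^ j ∈ K))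
  have h1 := orderOf_dvd_of_pow_eq_one hxj
  rw [hx, hj, Nat.pow_dvd_pow_iff_le_right hp.one_lt] at h1
  omega

omit hzq in
/-- The involutions of `S` centralising `z`. -/
theorem sylow_inf_centralizer :
    (S : Subgroup G) ⊓ centralizer ({z} : Set G) = four (central σ n) (σ * τ) := by
  obtain ⟨hn, -⟩ := id hbad
  set D := (S : Subgroup G) ⊓ centralizer ({z} : Set G)
  have hle : four (central σ n) (σ * τ) ≤ D := fun v hv =>
    ⟨h.symm.four_le_sylow hv, mem_centralizer_singleton_iff.2 (h.symm.commute_of_mem_fixR hzR hv).symm.eq⟩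
  refine (Subgroup.eq_of_le_of_card_ge hle ?_).symm
  haveI := h.symm.isKleinFour_four
  rw [h.symm.isKleinFour_four.card_four]
  have h8 : Nat.card ↥D ∣ 8 := by
    have := card_dvd_of_le (inf_le_left : D ≤ (S : Subgroup G))
    rwa [h.card_sylow, hn] at this
  have hne : Nat.card ↥D ≠ 8 := fun e8 => by
    have heq := Subgroup.eq_of_le_of_card_ge (inf_le_left : D ≤ (S : Subgroup G))
      (by rw [e8, h.card_sylow, hn]; norm_num)
    have hτz : Commute τ z := mem_centralizer_singleton_iff.1 (Subgroup.mem_inf.1 (heq.ge h.hτ)).2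
    have h1 := h.opOf_inverted hC hbad hY3 hq z hzY
    exact hz1 (eq_one_of_inverted_of_commute h.odd_coreCent (opOf_le q _ hzY) h1 hτz.symm)
  have h9 := Nat.le_of_dvd (by norm_num) h8
  by_contra hlt
  push Not at hlt
  interval_cases hc : Nat.card ↥D
  all_goals first | omega | norm_num at h8

omit hzq in
theorem centralizer_split {x : G} (hx : x ∈ centralizer ({z} : Set G) ⊓ centralizer ({central σ n} : Set G)) :
    ∃ a ∈ coreCent (central σ n) ⊓ centralizer ({z} : Set G),
      ∃ b ∈ four (central σ n) (σ * τ), a * b = x := by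
  obtain ⟨hxz, hxt⟩ := Subgroup.mem_inf.1 hx
  obtain ⟨a, ha, b, hb, rfl⟩ := h.exists_mul hxt
  have hD := h.sylow_inf_centralizer hC hbad hY3 hq hzY hzR hz1
  haveI := h.symm.isKleinFour_four
  by_cases hbD : b ∈ four (central σ n) (σ * τ)
  · have hbz : b ∈ centralizer ({z} : Set G) := (Subgroup.mem_inf.1 (hD.ge hbD)).2
    exact ⟨a, ⟨ha, by simpa using mul_mem hxz (inv_mem hbz)⟩, b, hbD, rfl⟩
  exfalso
  -- `b` inverts `z`
  obtain ⟨hn, -⟩ := id hbad
  have hidx : ((four (central σ n) (σ * τ)).subgroupOf (S : Subgroup G)).index = 2 := by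
    have e := ((four (central σ n) (σ * τ)).subgroupOf (S : Subgroup G)).card_mul_index
    rw [Nat.card_congr (subgroupOfEquivOfLe h.symm.four_le_sylow).toEquiv, h.card_sylow,
      h.symm.isKleinFour_four.card_four] at e
    subst hn
    omega
  have hτD : τ ∉ four (central σ n) (σ * τ) := fun hm => by
    have hτz : Commute τ z := mem_centralizer_singleton_iff.1 (Subgroup.mem_inf.1 (hD.ge hm)).2
    exact hz1 (eq_one_of_inverted_of_commute h.odd_coreCent (opOf_le q _ hzY)
      (h.opOf_inverted hC hbad hY3 hq z hzY) hτz.symm)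
  have hbτ : b * τ ∈ four (central σ n) (σ * τ) := by
    have h1 := (Subgroup.mul_mem_iff_of_index_two hidx (a := ⟨b, hb⟩) (b := ⟨τ, h.hτ⟩)).2 (by
      simp [mem_subgroupOf, hbD, hτD])
    exact mem_subgroupOf.1 h1
  have hd : Commute (b * τ) z := mem_centralizer_singleton_iff.1 (Subgroup.mem_inf.1 (hD.ge hbτ)).2
  have hbz : b * z * b⁻¹ = z⁻¹ := by
    calc b * z * b⁻¹ = b * τ * (τ⁻¹ * z * τ) * (b * τ)⁻¹ := by group
      _ = b * τ * z⁻¹ * (b * τ)⁻¹ := by
        rw [show τ⁻¹ * z * τ = τ * z * τ⁻¹ by rw [h.tau_inv], h.opOf_inverted hC hbad hY3 hq z hzY]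
      _ = z⁻¹ := by rw [hd.inv_right.eq, mul_inv_cancel_right]
  have hab : a * b * z * (a * b)⁻¹ = z := by
    rw [mem_centralizer_singleton_iff.1 hxz, mul_inv_cancel_right]
  have haz : a * z⁻¹ * a⁻¹ = z := by
    rw [← hbz, show a * (b * z * b⁻¹) * a⁻¹ = a * b * z * (a * b)⁻¹ by group, hab]
  have h2 : a * a * z * (a * a)⁻¹ = z := by
    calc a * a * z * (a * a)⁻¹ = a * (a * z⁻¹ * a⁻¹)⁻¹ * a⁻¹ := by group
      _ = z := by rw [haz, haz]
  obtain ⟨k, hk⟩ := exists_pow_eq_self_of_coprime (x := a) (n := 2) (Nat.coprime_two_left.2 (h.odd_of_mem ha))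
  have h3 : Commute a z := by
    have h4 : Commute (a ^ 2) z := by rw [pow_two]; exact mul_inv_eq_iff_eq_mul.1 h2
    exact hk ▸ h4.pow_left k
  rw [h3.inv_right.eq, mul_inv_cancel_right] at haz
  exact hz1 (eq_one_of_odd h.odd_coreCent (opOf_le q _ hzY) (inv_eq_iff_mul_eq_one.1 haz))

omit hzq in
/-- The two-part of the centraliser of `z` and `t`. -/
theorem bad_factorization_centralizer :
    (Nat.card ↥(centralizer ({z} : Set G) ⊓ centralizer ({central σ n} : Set G) : Subgroup G)).factorization 2 = 2 := by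
  haveI := h.symm.isKleinFour_four
  have hV : four (central σ n) (σ * τ) ≤ centralizer ({z} : Set G) ⊓ centralizer ({central σ n} : Set G) :=
    fun v hv => ⟨mem_centralizer_singleton_iff.2 (h.symm.commute_of_mem_fixR hzR hv).symm.eq,
      h.symm.four_le_centralizer hv⟩
  have hcard := card_mul_of_unique (A := coreCent (central σ n) ⊓ centralizer ({z} : Set G))
    (B := four (central σ n) (σ * τ)) (le_inf inf_le_right (inf_le_left.trans h.coreCent_le)) hV
    (fun a ha b hb a' ha' b' hb' e => by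
      have e' : a'⁻¹ * a = b' * b⁻¹ := by
        calc a'⁻¹ * a = a'⁻¹ * (a * b) * b⁻¹ := by group
          _ = b' * b⁻¹ := by rw [e]; group
      have h1 : a'⁻¹ * a ∈ coreCent (central σ n) ⊓ (S : Subgroup G) := Subgroup.mem_inf.2
        ⟨mul_mem (inv_mem (Subgroup.mem_inf.1 ha').1) (Subgroup.mem_inf.1 ha).1,
          e' ▸ h.symm.four_le_sylow (mul_mem hb' (inv_mem hb))⟩
      rw [h.coreCent_inf, mem_bot] at h1
      exact (inv_mul_eq_one.1 h1).symm)
    fun x hx => h.centralizer_split hC hbad hY3 hq hzY hzR hz1 hx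
  rw [← hcard, h.symm.isKleinFour_four.card_four, Nat.factorization_mul Nat.card_pos.ne' (by norm_num),
    Finsupp.add_apply,
    Nat.factorization_eq_zero_of_not_dvd (fun h2 => Nat.not_even_iff_odd.2
      (odd_of_le inf_le_left h.odd_coreCent) (even_iff_two_dvd.2 h2)),
    show (4 : ℕ) = 2 ^ 2 from rfl, Nat.Prime.factorization_pow Nat.prime_two]
  simp

omit hzq in
/-- No involution other than `t` of the centraliser of `z` and `t` centralises `D`. -/
theorem no_invol {ρ : G} (hρz : ρ ∈ centralizer ({z} : Set G)) (hρ : orderOf ρ = 2) (hne : ρ ≠ central σ n)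
    (hρt : Commute ρ (central σ n)) :
    ¬ ∀ d ∈ locD σ (σ * τ) n (centralizer ({z} : Set G)), Commute ρ d := by
  intro hc
  set t := central σ n with ht
  set w := σ * τ with hw
  obtain ⟨a, ha, b, hb, rfl⟩ := h.centralizer_split hC hbad hY3 hq hzY hzR hz1
    (Subgroup.mem_inf.2 ⟨hρz, mem_centralizer_singleton_iff.2 hρt.eq⟩)
  obtain ⟨haU, haz⟩ := Subgroup.mem_inf.1 ha
  have hd := h.bad_lineData hC hbad hY3 hq hzY hzR hz1
  have hbb : b * b = 1 := by
    rcases h.symm.mem_four_tau.1 hb with e | e | e | e <;> rw [e]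
    exacts [one_mul _, h.central_mul_self, h.symm.tau_mul_self, by
      rw [h.symm.commute_central_tau.symm.mul_mul_mul_comm, h.central_mul_self, h.symm.tau_mul_self, one_mul]]
  have hba : b * a * b⁻¹ = a⁻¹ := by
    rw [inv_eq_of_mul_eq_one_right hbb]
    refine eq_inv_of_mul_eq_one_right ?_
    rw [show a * (b * a * b) = (a * b) * (a * b) by group, ← pow_two, ← hρ, pow_orderOf_eq_one]
  have ha1 : (b = 1 ∨ b = t) → a = 1 := fun hb' => by
    refine eq_one_of_inverted_of_commute h.odd_coreCent haU hba ?_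
    rcases hb' with e | e <;> rw [e]
    exacts [Commute.one_right a, h.commute_central haU]
  rcases h.symm.mem_four_tau.1 hb with e | e | e | e
  · rw [e, ha1 (Or.inl e), one_mul, orderOf_one] at hρ
    omega
  · exact hne (by rw [e, ha1 (Or.inr e), one_mul])
  all_goals
    have hwa : w * a * w⁻¹ = a⁻¹ := by
      have e' : b = w ∨ b = t * w := by first | exact Or.inl e | exact Or.inr e
      rcases e' with e' | e' <;> subst e'
      · exact hba
      · calc w * a * w⁻¹ = t * (t * w * a * (t * w)⁻¹) * t⁻¹ := by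
              rw [show t * (t * w * a * (t * w)⁻¹) * t⁻¹ = (t * t) * w * a * w⁻¹ * (t * t)⁻¹ by group,
                h.central_mul_self, one_mul, inv_one, mul_one]
          _ = a⁻¹ := by rw [hba, (h.commute_central (inv_mem haU)).symm.eq, mul_inv_cancel_right]
    have haD := (h.mem_locD_iff hC hbad hY3 hq hzY hzR hz1).2
      ⟨haU, mem_centralizer_singleton_iff.1 haz, hwa⟩
    haveI := hd.isCyclic
    haveI : IsMulCommutative ↥(locD σ (σ * τ) n (centralizer ({z} : Set G))) := IsCyclic.isMulCommutative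
    refine hd.ne_bot ((eq_bot_iff_forall _).2 fun d hd' => ?_)
    obtain ⟨hdU, -, hdi⟩ := (h.mem_locD_iff hC hbad hY3 hq hzY hzR hz1).1 hd'
    have h1 : Commute a d :=
      congrArg Subtype.val (mul_comm' (⟨a, haD⟩ : ↥(locD σ (σ * τ) n (centralizer ({z} : Set G)))) ⟨d, hd'⟩)
    have h2 : Commute b d := by
      have h3 := h1.inv_left.mul_left (hc d hd')
      rwa [inv_mul_cancel_left] at h3
    refine eq_one_of_inverted_of_commute h.odd_coreCent hdU hdi ?_
    subst e
    first
      | exact h2.symm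
      | have h4 := (h.commute_central hdU).symm.mul_left h2
        rw [← mul_assoc, h.central_mul_self, one_mul] at h4
        exact h4.symm

end Hyp

end Cfsg.Agent.Invol.GW.Dihedral
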