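import Cfsg.Agent.Lib.Classical.PSLFieldAut
import Cfsg.Agent.Lib.Invol.GW.Klein.LinearPSL
import Mathlib.NumberTheory.Multiplicity

/-!
# Automorphisms of `PSL₂(l)` fixing a four group

An automorphism of odd prime power order `r ^ i` fixing `t` and `u` that centralises the elements of order prime to
`r` of the odd part of the torus at `t` is trivial: a field automorphism of order `r` fixes only elements of order
dividing `l₀ ∓ 1`, `l = l₀ ^ r`, and `(l ∓ 1) / (l₀ ∓ 1)` is never a power of `r`.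
-/

set_option autoImplicit false
set_option linter.unusedSectionVars false
set_option linter.style.haveILetI false

namespace Cfsg.Agent.Invol.GW.Dihedral.PSLField

open Matrix Subgroup Cfsg.Agent.Classical Cfsg.Agent.Classical.PSLAut

theorem mul_succ_lt_pow {l r : ℕ} (hl : 3 ≤ l) (hr : 3 ≤ r) : r * (l + 1) + 1 < l ^ r := by
  induction r, hr using Nat.le_induction with
  | base => nlinarith [Nat.mul_le_mul (Nat.mul_le_mul hl hl) hl, Nat.mul_le_mul hl hl]
  | succ r hr ih =>
    rw [pow_succ]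
    calc (r + 1) * (l + 1) + 1 ≤ (r * (l + 1) + 1) * l := by
          nlinarith [Nat.mul_le_mul_left (r * (l + 1) + 1) hl, Nat.mul_le_mul_right (l + 1) hr]
      _ < l ^ r * l := Nat.mul_lt_mul_of_pos_right ih (by omega)

/-- `(l₀ ^ r ∓ 1) / (l₀ ∓ 1)` is not a power of `r`. -/
theorem no_field_ratio {l₀ r a m Dn k : ℕ} (h3 : 3 ≤ l₀) (hl₀ : Odd l₀) (hr : r.Prime) (hro : Odd r)
    (hDo : Odd Dn) (hD : l₀ ^ r + 1 = 2 ^ k * Dn ∨ l₀ ^ r = 2 ^ k * Dn + 1)
    (hm : m ∣ l₀ - 1 ∨ m ∣ l₀ + 1) (hmD : m ∣ Dn) (hDm : Dn ∣ m * r ^ a) : False := by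
  haveI : Fact r.Prime := ⟨hr⟩
  have hr3 : 3 ≤ r := by
    have := hr.two_le
    obtain ⟨j, hj⟩ := hro
    omega
  obtain ⟨ε, hε, hD'⟩ : ∃ ε : ℤ, (ε = 1 ∨ ε = -1) ∧ (l₀ : ℤ) ^ r - ε = 2 ^ k * Dn := by
    rcases hD with e | e
    · exact ⟨-1, Or.inr rfl, by have := congrArg (Nat.cast : ℕ → ℤ) e; push_cast at this; linarith⟩
    · exact ⟨1, Or.inl rfl, by have := congrArg (Nat.cast : ℕ → ℤ) e; push_cast at this; linarith⟩
  have hεε : ε * ε = 1 := by rcases hε with rfl | rfl <;> norm_num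
  have hεr : ε ^ r = ε := by rcases hε with rfl | rfl <;> simp [hro.neg_one_pow]
  -- `m` divides `l₀ - ε`
  have hm' : (m : ℤ) ∣ (l₀ : ℤ) - ε := by
    have hcases : (m : ℤ) ∣ (l₀ : ℤ) - ε ∨ (m : ℤ) ∣ (l₀ : ℤ) + ε := by
      rcases hm with e | e <;> have e' := Int.natCast_dvd_natCast.2 e <;>
        rcases hε with rfl | rfl
      · exact Or.inl (by rwa [Nat.cast_sub (by omega)] at e')
      · exact Or.inr (by rwa [Nat.cast_sub (by omega)] at e')
      · exact Or.inr (by push_cast at e'; exact e')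
      · exact Or.inl (by push_cast at e'; simpa using e')
    rcases hcases with e | e
    · exact e
    · have h1 : (m : ℤ) ∣ (l₀ : ℤ) ^ r + ε := by
        refine e.trans ?_
        have := sub_dvd_pow_sub_pow (l₀ : ℤ) (-ε) r
        rwa [sub_neg_eq_add, hro.neg_pow, sub_neg_eq_add, hεr] at this
      have h2 : (m : ℤ) ∣ (l₀ : ℤ) ^ r - ε := hD' ▸ Dvd.dvd.mul_left (Int.natCast_dvd_natCast.2 hmD) _
      have h4 : (m : ℤ) ∣ 2 := by
        have h5 := dvd_mul_of_dvd_left (dvd_sub h1 h2) ε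
        rwa [show ((l₀ : ℤ) ^ r + ε - ((l₀ : ℤ) ^ r - ε)) * ε = 2 * (ε * ε) by ring, hεε, mul_one] at h5
      have h6 : m ∣ 2 := by exact_mod_cast h4
      rcases (Nat.dvd_prime Nat.prime_two).1 h6 with h7 | h7
      · rw [h7, Nat.cast_one]; exact one_dvd _
      · exact absurd (Odd.of_dvd_nat hDo hmD) (by rw [h7]; decide)
  set x : ℤ := ε * l₀ with hx
  set M : ℤ := ∑ i ∈ Finset.range r, x ^ i with hM
  have hgeo : M * (x - 1) = x ^ r - 1 := geom_sum_mul x r
  have hfac : (l₀ : ℤ) ^ r - ε = ((l₀ : ℤ) - ε) * M := by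
    have h1 : ε * (x ^ r - 1) = (l₀ : ℤ) ^ r - ε := by
      rw [hx, mul_pow, hεr, mul_sub, ← mul_assoc, hεε, one_mul, mul_one]
    have h2 : ε * (x - 1) = (l₀ : ℤ) - ε := by rw [hx, mul_sub, ← mul_assoc, hεε, one_mul, mul_one]
    rw [← h1, ← h2, ← hgeo]
    ring
  have hne : (l₀ : ℤ) - ε ≠ 0 := by rcases hε with rfl | rfl <;> omega
  -- `M` is odd, so divides a power of `r`
  have hMdvd : M ∣ 2 ^ k * (r : ℤ) ^ a := by
    refine (mul_dvd_mul_iff_left hne).1 ?_
    rw [← hfac, hD']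
    have h1 : (Dn : ℤ) ∣ (m : ℤ) * (r : ℤ) ^ a := by exact_mod_cast hDm
    calc (2 : ℤ) ^ k * Dn ∣ 2 ^ k * (((l₀ : ℤ) - ε) * (r : ℤ) ^ a) :=
          mul_dvd_mul_left _ (h1.trans (mul_dvd_mul_right hm' _))
      _ = ((l₀ : ℤ) - ε) * (2 ^ k * (r : ℤ) ^ a) := by ring
  have hxodd : Odd x := by
    rw [hx]
    refine Odd.mul ?_ (by exact_mod_cast hl₀)
    rcases hε with rfl | rfl <;> decide
  have hpar : ∀ j : ℕ, ((∑ i ∈ Finset.range j, x ^ i : ℤ) : ZMod 2) = (j : ZMod 2) := by
    intro j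
    have hx2 : (x : ZMod 2) = 1 := by
      obtain ⟨c, hc⟩ := hxodd
      rw [hc]
      push_cast
      rw [show (2 : ZMod 2) = 0 from rfl, zero_mul, zero_add]
    rw [Int.cast_sum]
    simp [hx2]
  have hModd : Odd M := by
    rw [← Int.not_even_iff_odd, even_iff_two_dvd]
    intro e'
    have e : (M : ZMod 2) = 0 := (ZMod.intCast_zmod_eq_zero_iff_dvd M 2).2 (by exact_mod_cast e')
    have h1 := hpar r
    rw [← hM, e] at h1
    obtain ⟨j, hj⟩ := hro
    rw [hj] at h1
    push_cast at h1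
    rw [show (2 : ZMod 2) = 0 from rfl, zero_mul, zero_add] at h1
    exact absurd h1 (by decide)
  have hMr : M.natAbs ∣ r ^ a := by
    have h1 : M.natAbs ∣ 2 ^ k * r ^ a := by
      have := Int.natAbs_dvd_natAbs.2 hMdvd
      rwa [Int.natAbs_mul, Int.natAbs_pow, Int.natAbs_pow, Int.natAbs_natCast] at this
    refine (Nat.Coprime.dvd_of_dvd_mul_left ?_ h1)
    exact (Nat.coprime_two_right.2 (Int.natAbs_odd.2 hModd)).pow_right k
  obtain ⟨b, -, hb⟩ := (Nat.dvd_prime_pow hr).1 hMr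
  -- `M` is larger than `r`
  have hbig : r < M.natAbs := by
    have h1 := congrArg Int.natAbs hgeo
    rw [Int.natAbs_mul] at h1
    have hx1 : (x - 1).natAbs ≤ l₀ + 1 := by
      rw [hx]; rcases hε with rfl | rfl <;> omega
    have hxr : l₀ ^ r ≤ (x ^ r - 1).natAbs + 1 := by
      have h2 : (x ^ r).natAbs = l₀ ^ r := by
        rw [Int.natAbs_pow, hx, Int.natAbs_mul]
        rcases hε with rfl | rfl <;> simp
      have h3 := Int.natAbs_add_le (x ^ r - 1) 1
      rw [sub_add_cancel, h2, Int.natAbs_one] at h3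
      exact h3
    by_contra hle
    have h4 : M.natAbs * (x - 1).natAbs ≤ r * (l₀ + 1) := Nat.mul_le_mul (Nat.le_of_not_lt hle) hx1
    have h5 := mul_succ_lt_pow h3 hr3
    omega
  have hb2 : 2 ≤ b := by
    by_contra hlt
    rcases (show b = 0 ∨ b = 1 by omega) with rfl | rfl <;> simp at hb <;> omega
  have hrM : (r : ℤ) ∣ M := Int.natCast_dvd.2 (hb ▸ dvd_pow_self r (by omega))
  -- so `x = 1` modulo `r` and `M = r` modulo `r ^ 2`
  have hx1 : (r : ℤ) ∣ x - 1 := by
    rw [← ZMod.intCast_zmod_eq_zero_iff_dvd]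
    have h1 : ((x ^ r - 1 : ℤ) : ZMod r) = 0 := by
      rw [ZMod.intCast_zmod_eq_zero_iff_dvd, ← hgeo]
      exact hrM.mul_right _
    push_cast at h1 ⊢
    rwa [ZMod.pow_card] at h1
  obtain ⟨c, hc⟩ := hx1
  have h1 := odd_sq_dvd_geom_sum₂_sub (R := ℤ) (a := 1) (b := c) hro
  simp only [one_pow, mul_one] at h1
  rw [show (1 : ℤ) + r * c = x by linarith, ← hM] at h1
  have h2 : ((r : ℤ) ^ 2) ∣ M := by
    refine Int.dvd_natAbs.1 ?_
    rw [hb]
    push_cast
    exact pow_dvd_pow _ hb2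
  have h6 : (r ^ 2 : ℕ) ∣ r := by
    have := dvd_sub h2 h1
    rw [sub_sub_cancel] at this
    exact_mod_cast this
  have := Nat.le_of_dvd hr.pos h6
  nlinarith

variable {F : Type*} [Field F] [Fintype F]

local notation "SS" => Matrix.SpecialLinearGroup (Fin 2) F
local notation "PS" => Matrix.ProjectiveSpecialLinearGroup (Fin 2) F
local notation "π₂" => Classical.slToPSL 2 F
local notation "M₂" => Matrix (Fin 2) (Fin 2) F

/-- The powers of a matrix of size two through a root of its characteristic polynomial. -/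
theorem root_pow {K : Type*} [Field K] (B : Matrix (Fin 2) (Fin 2) K) (a b : K)
    (hB : B * B = (a + b) • B - (a * b) • 1) (j : ℕ) :
    (a - b) • B ^ j = (a ^ j - b ^ j) • B + (a * b ^ j - b * a ^ j) • 1 := by
  induction j with
  | zero => simp
  | succ j ih =>
    rw [pow_succ, ← Matrix.smul_mul, ih, Matrix.add_mul, Matrix.smul_mul, Matrix.smul_mul, Matrix.one_mul, hB]
    rw [smul_sub, smul_smul, smul_smul, sub_add_eq_add_sub, ← add_smul, sub_eq_add_neg, ← neg_smul]
    congr 2 <;> ring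

/-- An element of order prime to the characteristic with trace in the field of order `l₀` has order dividing
`l₀ ∓ 1`. -/
theorem orderOf_dvd_of_trace {p : ℕ} [Fact p.Prime] [CharP F p] (hp : p ≠ 2) {e : ℕ} (A : SS)
    (htr : ((A : M₂) 0 0 + (A : M₂) 1 1) ^ p ^ e = (A : M₂) 0 0 + (A : M₂) 1 1)
    (hm : (orderOf (π₂ A)).Coprime p) :
    orderOf (π₂ A) ∣ p ^ e - 1 ∨ orderOf (π₂ A) ∣ p ^ e + 1 := by
  classical
  set j : F →+* (AlgebraicClosure F) := algebraMap F (AlgebraicClosure F) with hj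
  haveI : CharP (AlgebraicClosure F) p := charP_of_injective_ringHom j.injective p
  set τ₀ : F := (A : M₂) 0 0 + (A : M₂) 1 1 with hτ
  set B : Matrix (Fin 2) (Fin 2) (AlgebraicClosure F) := (A : M₂).map j with hB
  have h2F : (2 : (AlgebraicClosure F)) ≠ 0 := Ring.two_ne_zero (by rw [ringChar.eq (AlgebraicClosure F) p]; exact hp)
  have hdet : (A : M₂) 0 0 * (A : M₂) 1 1 - (A : M₂) 0 1 * (A : M₂) 1 0 = 1 := by
    rw [← Matrix.det_fin_two]; exact A.2
  obtain ⟨s, hs⟩ := IsAlgClosed.exists_pow_nat_eq (j τ₀ ^ 2 - 4) two_pos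
  set a : (AlgebraicClosure F) := (j τ₀ + s) / 2 with ha
  set b : (AlgebraicClosure F) := (j τ₀ - s) / 2 with hbd
  have hsum : a + b = j τ₀ := by rw [ha, hbd]; field_simp; ring
  have hprod : a * b = 1 := by
    rw [ha, hbd]; field_simp; linear_combination -hs
  have hBB : B * B = (a + b) • B - (a * b) • 1 := by
    rw [hsum, hprod, one_smul]
    have hd := congrArg j hdet
    rw [map_sub, map_mul, map_mul, map_one] at hd
    ext i k
    fin_cases i <;> fin_cases k <;> simp [hB, hτ, Matrix.mul_apply, Fin.sum_univ_two] <;>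
      first | ring1 | linear_combination -hd | linear_combination hd
  have hpow : ∀ N : ℕ, a ^ N = 1 → a ≠ b → (π₂ A) ^ N = 1 := by
    intro N hN hab
    have hbN : b ^ N = 1 := by
      have h1 := congrArg (· ^ N) hprod
      simp only [mul_pow, hN, one_pow, one_mul] at h1
      exact h1
    have h1 := root_pow B a b hBB N
    rw [hN, hbN, sub_self, zero_smul, zero_add, mul_one, mul_one] at h1
    have h2 : B ^ N = 1 := smul_right_injective _ (sub_ne_zero.2 hab) h1
    have h3 : ((A : M₂) ^ N).map j = (1 : M₂).map j := by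
      rw [Matrix.map_one j (map_zero _) (map_one _), Matrix.map_pow, ← hB, h2]
    rw [← map_pow, show A ^ N = 1 from Subtype.ext (by
      rw [Matrix.SpecialLinearGroup.coe_pow]
      exact Matrix.map_injective j.injective h3), map_one]
  by_cases hab : a = b
  · -- a unipotent element
    have hts : τ₀ ^ 2 = 4 := by
      refine j.injective ?_
      have hs0 : s = 0 := by
        rw [ha, hbd, div_left_inj' h2F] at hab
        have h3 : (2 : (AlgebraicClosure F)) * s = 0 := by linear_combination hab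
        exact (mul_eq_zero.1 h3).resolve_left h2F
      rw [hs0, zero_pow two_ne_zero, eq_comm, sub_eq_zero] at hs
      rw [map_pow, hs, map_ofNat]
    have h2 : (2 : F) ≠ 0 := fun e => h2F (by rw [← map_ofNat j 2, e, map_zero])
    set c : F := τ₀ / 2 with hc
    set Nm : M₂ := (A : M₂) - c • 1 with hNm
    have hN2 : Nm ^ 2 = 0 := by
      have hc2 : c * c = 1 := by rw [hc]; field_simp; linear_combination hts
      have hτc : τ₀ = c + c := by rw [hc]; field_simp; ring
      have hAA : (A : M₂) * (A : M₂) = (c + c) • (A : M₂) - 1 := by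
        rw [← hτc]
        ext i k
        fin_cases i <;> fin_cases k <;> simp [hτ, Matrix.mul_apply, Fin.sum_univ_two] <;>
          first | ring1 | linear_combination -hdet | linear_combination hdet
      rw [hNm, pow_two]
      simp only [sub_mul, mul_sub, smul_mul_assoc, mul_smul_comm, one_mul, mul_one, hAA]
      match_scalars <;> first | ring1 | linear_combination hc2 | linear_combination -hc2
    have hApow : (A : M₂) ^ p = c ^ p • 1 := by
      have h3 : (A : M₂) = c • 1 + Nm := by rw [hNm]; abel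
      rw [h3, add_pow_char_of_commute p ((Commute.one_left Nm).smul_left c), smul_pow, one_pow]
      have hp2 : 2 ≤ p := (Fact.out : p.Prime).two_le
      rw [show Nm ^ p = 0 by rw [show p = 2 + (p - 2) by omega, pow_add, hN2, zero_mul], add_zero]
    have h4 : (π₂ A) ^ p = 1 := by
      rw [← map_pow, Classical.slToPSL_eq_one_iff]
      refine ⟨c ^ p, ?_⟩
      rw [Matrix.SpecialLinearGroup.coe_pow, hApow, Matrix.scalar_apply, ← Matrix.smul_one_eq_diagonal]
    rw [Nat.eq_one_of_dvd_coprimes hm dvd_rfl (orderOf_dvd_of_pow_eq_one h4)]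
    exact Or.inl (one_dvd _)
  · have ha0 : a ≠ 0 := fun e => by rw [e, zero_mul] at hprod; exact zero_ne_one hprod
    have hbinv : b = a⁻¹ := eq_inv_of_mul_eq_one_right hprod
    have hfix : (a + b) ^ p ^ e = a + b := by rw [hsum, ← map_pow, htr]
    rw [add_pow_char_pow, hbinv, inv_pow] at hfix
    set L := a ^ p ^ e with hL
    have hL0 : L ≠ 0 := pow_ne_zero _ ha0
    have h5 : (L - a) * (L * a - 1) = 0 := by
      field_simp at hfix
      linear_combination hfix
    have hpe : 1 ≤ p ^ e := Nat.one_le_pow _ _ (Fact.out : p.Prime).pos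
    rcases mul_eq_zero.1 h5 with h6 | h6
    · refine Or.inl (orderOf_dvd_of_pow_eq_one (hpow _ ?_ hab))
      refine mul_right_cancel₀ ha0 ?_
      rw [one_mul, ← pow_succ, Nat.sub_add_cancel hpe]
      exact sub_eq_zero.1 h6
    · refine Or.inr (orderOf_dvd_of_pow_eq_one (hpow _ ?_ hab))
      rw [pow_succ]
      exact sub_eq_zero.1 h6

/-- An automorphism with field part `σ` maps `π₂ A` to itself only if `σ` fixes the trace up to sign. -/
theorem trace_fix {g : GL (Fin 2) F} {σ : RingAut F} (A : SS)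
    (hA : (pslSemi g σ : MulAut PS) (π₂ A) = π₂ A) :
    σ ((A : M₂) 0 0 + (A : M₂) 1 1) = (A : M₂) 0 0 + (A : M₂) 1 1 ∨
      σ ((A : M₂) 0 0 + (A : M₂) 1 1) = -((A : M₂) 0 0 + (A : M₂) 1 1) := by
  rw [pslSemi_mk, ← mul_inv_eq_one, ← map_inv, ← map_mul, Classical.slToPSL_eq_one_iff] at hA
  obtain ⟨c, hc⟩ := hA
  have hdet := congrArg Matrix.det hc
  rw [Matrix.SpecialLinearGroup.det_coe] at hdet
  simp at hdet
  have h1 : ((slSemi g σ A : SS) : M₂) = c • (A : M₂) := by
    have h2 : slSemi g σ A = slSemi g σ A * A⁻¹ * A := by group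
    rw [h2, Matrix.SpecialLinearGroup.coe_mul, hc, Matrix.scalar_apply, ← Matrix.smul_one_eq_diagonal,
      Matrix.smul_mul, Matrix.one_mul]
  have h3 := congrArg Matrix.trace h1
  rw [slSemi_coe, Matrix.trace_units_conj, Matrix.trace_smul, Matrix.trace_fin_two, Matrix.trace_fin_two,
    Matrix.map_apply, Matrix.map_apply, ← map_add, smul_eq_mul] at h3
  have hc1 : c * c = 1 := by linear_combination -hdet
  rcases mul_self_eq_one_iff.1 hc1 with rfl | rfl
  · exact Or.inl (by rw [h3, one_mul])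
  · exact Or.inr (by rw [h3, neg_one_mul])

variable (hodd : Odd (Fintype.card F)) (h5 : 5 ≤ Fintype.card F)
include hodd h5

/-- The case of an automorphism of prime order. -/
theorem eq_one_of_fix_prime {t u : PS} {D : Subgroup PS} [IsCyclic ↥D] (hDo : Odd (Nat.card ↥D))
    (hDm : ∀ x : PS, Odd (orderOf x) → Commute x t → x ∈ D)
    (hDu : ∀ x ∈ D, u * x * u⁻¹ = x⁻¹) {k : ℕ}
    (hk : Fintype.card F + 1 = 2 ^ k * Nat.card ↥D ∨ Fintype.card F = 2 ^ k * Nat.card ↥D + 1)
    {α : MulAut PS} {r : ℕ} (hr : r.Prime) (hro : Odd r) (hα : α ^ r = 1) (hαt : α t = t) (hαu : α u = u)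
    (hfix : ∀ d ∈ D, (orderOf d).Coprime r → α d = d) : α = 1 := by
  haveI : Fact r.Prime := ⟨hr⟩
  haveI := Klein.PSL.isSimple (F := F) h5
  obtain ⟨p, hc⟩ := CharP.exists F
  haveI : Fact p.Prime := ⟨CharP.char_is_prime F p⟩
  obtain ⟨f, -, hF⟩ := FiniteField.card F p
  have hp2 : p ≠ 2 := by
    rintro rfl
    rw [hF] at hodd
    exact absurd hodd (by simp [Nat.not_odd_iff_even, Nat.even_pow, f.pos.ne'])
  obtain ⟨g, σ, ε, hrep⟩ := PSLAut.exists_rep (p := p) (le_refl 2) α
  obtain ⟨-, hε0, hαe⟩ := hrep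
  rw [hε0 rfl, pow_zero, mul_one] at hαe
  by_cases hσ : σ = 1
  · -- inner
    subst hσ
    have hin : α ∈ (inndiagHom 2 F).range := ⟨g, by rw [inndiagHom_apply, hαe]; rfl⟩
    have hinn : α ∈ Inn PS := by
      rw [← QuotientGroup.eq_one_iff]
      set y : MulAut PS ⧸ Inn PS := (α : MulAut PS ⧸ Inn PS) with hy
      have h1 : orderOf y ∣ 2 := by
        have h2 := (((inndiagHom 2 F).range.map (QuotientGroup.mk' (Inn PS))).orderOf_dvd_natCard
          (mem_map_of_mem _ hin))
        rw [(PSLAut.outDiag (F := F) (le_refl 2)).2] at h2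
        exact h2.trans (Nat.gcd_dvd_left 2 _)
      have h2 : orderOf y ∣ r :=
        orderOf_dvd_of_pow_eq_one (by rw [hy, ← QuotientGroup.mk_pow, hα, QuotientGroup.mk_one])
      exact orderOf_eq_one_iff.1 (Nat.eq_one_of_dvd_coprimes (Nat.coprime_two_left.2 hro) h1 h2)
    obtain ⟨s, rfl⟩ := hinn
    have hcen : Function.Injective (MulAut.conj : PS →* MulAut PS) := by
      refine (MonoidHom.ker_eq_bot_iff _).1 (((MonoidHom.normal_ker _).eq_bot_or_eq_top).resolve_right fun e => ?_)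
      refine Klein.PSL.not_commute (F := F) h5 fun a b => ?_
      have h1 : MulAut.conj a = (1 : MulAut PS) := MonoidHom.mem_ker.1 (e ▸ mem_top a)
      exact (mul_inv_eq_iff_eq_mul.1 (DFunLike.congr_fun h1 b))
    have hsr : s ^ r = 1 := hcen (by rw [map_pow, hα, map_one])
    have hsD : s ∈ D := hDm s (Odd.of_dvd_nat hro (orderOf_dvd_of_pow_eq_one hsr)) (mul_inv_eq_iff_eq_mul.1 hαt)
    have hsu : u * s * u⁻¹ = s := by
      rw [← (mul_inv_eq_iff_eq_mul.1 hαu : s * u = u * s), mul_inv_cancel_right]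
    rw [hDu s hsD, inv_eq_iff_mul_eq_one] at hsu
    rw [orderOf_eq_one_iff.1 (Nat.eq_one_of_dvd_coprimes (Nat.coprime_two_right.2
      (Odd.of_dvd_nat hDo (D.orderOf_dvd_natCard hsD))) dvd_rfl
      (orderOf_dvd_of_pow_eq_one (by rw [pow_two]; exact hsu))), map_one]
  · exfalso
    have hord : orderOf σ = r := (PSLAut.orderOf_field (le_refl 2) hr hσ (hαe ▸ orderOf_eq_prime hα
      (fun e => hσ (by
        rw [hαe] at e
        exact ((PSLAut.semi_eq_one_iff (le_refl 2)).1 e).1)))).1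
    haveI : Fintype (GaloisField p ((f : ℕ) / r)) := Fintype.ofFinite _
    obtain ⟨hcyc, hcard⟩ := PSLAut.card_ringAut hF
    have hrf : r ∣ (f : ℕ) := hord ▸ hcard ▸ orderOf_dvd_natCard σ
    have he0 : (f : ℕ) / r ≠ 0 := (Nat.div_pos (Nat.le_of_dvd f.pos hrf) hr.pos).ne'
    obtain ⟨-, -, j, hj⟩ := PSLAut.exists_fixed_embedding hF hord (GaloisField p ((f : ℕ) / r))
      (by rw [← Nat.card_eq_fintype_card, GaloisField.card p _ he0])
    set e := (f : ℕ) / r with he
    have hfixpow : ∀ x : F, σ x = x → x ^ p ^ e = x := fun x hx => by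
      obtain ⟨y, rfl⟩ := (hj x).1 hx
      rw [← map_pow, ← GaloisField.card p e he0, Nat.card_eq_fintype_card, FiniteField.pow_card]
    -- the fixed part of `D`
    let Df : Subgroup PS :=
      { carrier := {d | d ∈ D ∧ α d = d}
        one_mem' := ⟨one_mem _, map_one α⟩
        mul_mem' := fun ha hb => ⟨mul_mem ha.1 hb.1, by rw [map_mul, ha.2, hb.2]⟩
        inv_mem' := fun ha => ⟨inv_mem ha.1, by rw [map_inv, ha.2]⟩ }
    have hDfD : Df ≤ D := fun d hd => hd.1
    haveI : IsCyclic ↥Df := isCyclic_of_le hDfD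
    obtain ⟨⟨d, hd, hdα⟩, hgen⟩ := IsCyclic.exists_generator (α := ↥Df)
    have hdm : orderOf d = Nat.card ↥Df := by
      rw [← orderOf_eq_card_of_forall_mem_zpowers hgen]
      exact Subgroup.orderOf_coe (⟨d, hd, hdα⟩ : ↥Df)
    obtain ⟨⟨G₀, hG₀⟩, hgenD⟩ := IsCyclic.exists_generator (α := ↥D)
    have hG₀o : orderOf G₀ = Nat.card ↥D := by
      rw [← orderOf_eq_card_of_forall_mem_zpowers hgenD]
      exact Subgroup.orderOf_coe (⟨G₀, hG₀⟩ : ↥D)
    obtain ⟨a, w, hw, haw⟩ := Nat.exists_eq_pow_mul_and_not_dvd (Nat.card_pos (α := ↥D)).ne' r hr.ne_one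
    have hDm' : Nat.card ↥D ∣ Nat.card ↥Df * r ^ a := by
      rw [haw, mul_comm]
      refine Nat.mul_dvd_mul_right ?_ _
      have hwo : orderOf (G₀ ^ r ^ a) = w := by
        rw [orderOf_pow, hG₀o, haw, Nat.gcd_eq_right (dvd_mul_right _ _),
          Nat.mul_div_cancel_left _ (pow_pos hr.pos a)]
      rw [← hwo]
      exact Df.orderOf_dvd_natCard ⟨pow_mem hG₀ _, hfix _ (pow_mem hG₀ _)
        (hwo.symm ▸ (hr.coprime_iff_not_dvd.2 hw).symm)⟩
    have hcop : (orderOf d).Coprime p := by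
      refine (Nat.coprime_comm.1 (((Fact.out : p.Prime).coprime_iff_not_dvd).2 fun hpd => ?_))
      have h1 : p ∣ 2 ^ k * Nat.card ↥D :=
        (hdm ▸ hpd : p ∣ Nat.card ↥Df).trans (card_dvd_of_le hDfD) |>.mul_left _
      have h2 : p ∣ Fintype.card F := hF ▸ dvd_pow_self p f.pos.ne'
      have hp := (Fact.out : p.Prime)
      rcases hk with h | h
      · exact hp.one_lt.ne' (Nat.dvd_one.1 ((Nat.dvd_add_right h2).1 (h ▸ h1)))
      · exact hp.one_lt.ne' (Nat.dvd_one.1 ((Nat.dvd_add_right h1).1 (h ▸ h2)))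
    obtain ⟨A, rfl⟩ := Classical.slToPSL_surjective d
    have htr : σ ((A : M₂) 0 0 + (A : M₂) 1 1) = (A : M₂) 0 0 + (A : M₂) 1 1 := by
      rcases trace_fix A (hαe ▸ hdα) with h | h
      · exact h
      · set τ₀ := (A : M₂) 0 0 + (A : M₂) 1 1
        have h1 : ∀ i : ℕ, (σ ^ i) τ₀ = (-1) ^ i * τ₀ := fun i => by
          induction i with
          | zero => simp
          | succ i ih => rw [pow_succ', RingAut.mul_apply, ih, map_mul, map_pow, map_neg, map_one, h, pow_succ]; ring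
        have h2 := h1 r
        rw [← hord, pow_orderOf_eq_one, RingAut.one_apply, hord, hro.neg_one_pow, neg_one_mul] at h2
        rw [h, ← h2]
    have hm := orderOf_dvd_of_trace hp2 A (hfixpow _ htr) hcop
    rw [hdm] at hm
    have hl0 : Odd (p ^ e) := ((Fact.out : p.Prime).odd_of_ne_two hp2).pow
    have hlr : (p ^ e) ^ r = Fintype.card F := by rw [hF, ← pow_mul, he, Nat.div_mul_cancel hrf]
    refine no_field_ratio (l₀ := p ^ e) (k := k) (Dn := Nat.card ↥D) ?_ hl0 hr hro hDo (hlr.symm ▸ hk) hm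
      (card_dvd_of_le hDfD) hDm'
    have hp3 : 3 ≤ p := by
      have := (Fact.out : p.Prime).two_le
      omega
    exact hp3.trans (Nat.le_self_pow he0 p)

/-- An automorphism of odd prime power order fixing the four group and the elements of the torus of order prime
to it is trivial. -/
theorem eq_one_of_fix {t u : PS} {D : Subgroup PS} [IsCyclic ↥D] (hDo : Odd (Nat.card ↥D))
    (hDm : ∀ x : PS, Odd (orderOf x) → Commute x t → x ∈ D)
    (hDu : ∀ x ∈ D, u * x * u⁻¹ = x⁻¹) {k : ℕ}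
    (hk : Fintype.card F + 1 = 2 ^ k * Nat.card ↥D ∨ Fintype.card F = 2 ^ k * Nat.card ↥D + 1)
    {α : MulAut PS} {r : ℕ} (hr : r.Prime) (hro : Odd r) {i : ℕ} (hα : α ^ r ^ i = 1) (hαt : α t = t)
    (hαu : α u = u) (hfix : ∀ d ∈ D, (orderOf d).Coprime r → α d = d) : α = 1 := by
  induction i with
  | zero => simpa using hα
  | succ i ih =>
    refine ih ?_
    have hpow : ∀ x, α x = x → ∀ j : ℕ, (α ^ j) x = x := fun x hx j => by
      induction j with
      | zero => rfl
      | succ j ih => rw [pow_succ, MulAut.mul_apply, hx, ih]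
    exact eq_one_of_fix_prime hodd h5 hDo hDm hDu hk hr hro (by rw [← pow_mul, ← pow_succ, hα])
      (hpow t hαt _) (hpow u hαu _) fun d hd hc => hpow d (hfix d hd hc) _

end Cfsg.Agent.Invol.GW.Dihedral.PSLField
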