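import Cfsg.Agent.Lib.Invol.GW.Dihedral.LocalsSeven
import Cfsg.Agent.Lib.Invol.GW.Dihedral.LocalsField

/-!
# Gorenstein–Walter, dihedral case: the data of a fusing subgroup with one class of involutions

With socle `PSL₂(l)` the last derived subgroup is `PSL₂(l)`, `locD` is the odd part of the torus at `t` and an
element of `R ⊓ H` centralising the part of `locD` of order prime to its order centralises it; with socle `A₇` see
`LocalsSeven`.  Together: `Hyp.localStatement`.
-/

set_option autoImplicit false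
set_option linter.unusedSectionVars false
set_option linter.style.haveILetI false

namespace Cfsg.Agent.Invol.GW.Dihedral

open Subgroup Klein
open scoped commutatorElement

universe u

variable {G : Type u} [Group G]

namespace Hyp

variable [Finite G] {S : Sylow 2 G} {σ τ : G} {n : ℕ} (h : Hyp S σ τ n)
include h

/-- The 2-part of `H ⊓ C(t)` is that of `H`. -/
theorem factorization_centralizer {H : Subgroup G} (hVH : four (central σ n) τ ≤ H)
    (hone : ∀ s ∈ H, orderOf s = 2 → ∃ k ∈ H, k * s * k⁻¹ = central σ n) :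
    (Nat.card ↥(H ⊓ centralizer ({central σ n} : Set G))).factorization 2 = (Nat.card ↥H).factorization 2 := by
  haveI : Fact (Nat.Prime 2) := ⟨Nat.prime_two⟩
  refine le_antisymm ((Nat.factorization_le_iff_dvd Nat.card_pos.ne' Nat.card_pos.ne').2
    (card_dvd_of_le inf_le_left) 2) ?_
  obtain ⟨P, j, hj, ⟨e⟩⟩ := h.exists_dihedral_sylow hVH
  obtain ⟨z, hz, hz2⟩ : ∃ z ∈ center ↥(P : Subgroup ↥H), orderOf z = 2 := by
    haveI : Nontrivial ↥(P : Subgroup ↥H) := Finite.one_lt_card_iff_nontrivial.1 (by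
      rw [Nat.card_congr e.toEquiv, DihedralGroup.nat_card]
      have := Nat.one_le_two_pow (n := j)
      omega)
    haveI := P.isPGroup'.center_nontrivial
    obtain ⟨i, hi0, hi⟩ := (P.isPGroup'.to_subgroup (center ↥(P : Subgroup ↥H))).nontrivial_iff_card.1 inferInstance
    exact Invol.exists_orderOf_two_mem (by rw [hi]; exact Nat.even_pow.2 ⟨even_two, hi0.ne'⟩)
  obtain ⟨k, hk, hkz⟩ := hone ((z : ↥H) : G) (z : ↥H).2 (by rw [Subgroup.orderOf_coe, Subgroup.orderOf_coe, hz2])
  let f : ↥(P : Subgroup ↥H) →* ↥(H ⊓ centralizer ({central σ n} : Set G)) :=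
    (((MulAut.conj k).toMonoidHom.comp H.subtype).comp (P : Subgroup ↥H).subtype).codRestrict _ fun a =>
      ⟨H.mul_mem (H.mul_mem hk (a : ↥H).2) (H.inv_mem hk), mem_centralizer_singleton_iff.2 (by
        have h1 : Commute ((a : ↥H) : G) ((z : ↥H) : G) :=
          congrArg (fun w : ↥(P : Subgroup ↥H) => ((w : ↥H) : G)) (mem_center_iff.1 hz a)
        have h2 := h1.conj k
        rw [hkz] at h2
        exact h2.eq)⟩
  have hf : Function.Injective f := fun a b e1 => Subtype.ext (Subtype.ext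
    ((MulAut.conj k).injective (congrArg Subtype.val e1)))
  have h1 := Subgroup.card_dvd_of_injective f hf
  rw [P.card_eq_multiplicity] at h1
  exact (Nat.prime_two.pow_dvd_iff_le_factorization Nat.card_pos.ne').1 h1

/-- The data of a subgroup with socle `PSL₂(l)`. -/
theorem localData_psl {H E : Subgroup G} {F : Type} [Field F] [Fintype F] (hodd : Odd (Fintype.card F))
    (h5 : 5 ≤ Fintype.card F) {φ : ↥E →* Matrix.ProjectiveSpecialLinearGroup (Fin 2) F}
    (hE : EData σ τ n H E φ) (hVH : four (central σ n) τ ≤ H)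
    (hone : ∀ s ∈ H, orderOf s = 2 → ∃ k ∈ H, k * s * k⁻¹ = central σ n)
    (hO : oddOf H ≤ fixR (central σ n) τ)
    (hmov : ¬ coreCent (central σ n) ⊓ H ≤ centralizer ({τ} : Set G)) : LocalData σ τ n H := by
  haveI : Fact (Nat.Prime 2) := ⟨Nat.prime_two⟩
  set U := coreCent (central σ n) with hU
  set t : ↥E := ⟨central σ n, hE.four_le (left_mem_four _ _)⟩ with ht
  set u : ↥E := ⟨τ, hE.four_le (right_mem_four _ _)⟩ with hu
  have hord : ∀ v : ↥E, (v : G) ∈ four (central σ n) τ → (v : G) * v = 1 → (v : G) ≠ 1 → orderOf (φ v) = 2 :=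
    fun v hv hv2 hv1 => orderOf_eq_prime (by rw [pow_two, ← map_mul, show v * v = 1 from Subtype.ext hv2, map_one])
      fun e => hv1 (h.eq_one_of_mem_oddOf hv ((hE.ker v).1 e))
  have hto := hord t (left_mem_four _ _) h.central_mul_self h.central_ne_one
  have huo := hord u (right_mem_four _ _) h.tau_mul_self h.tau_ne_one
  have hut : Commute (φ u) (φ t) := (show Commute u t from Subtype.ext h.commute_central_tau.symm.eq).map φ
  have hne' : φ u ≠ φ t := fun e => h.central_mul_tau_ne (h.eq_one_of_mem_oddOf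
    (mul_mem (left_mem_four _ _) (right_mem_four _ _)) ((hE.ker (t * u)).1 (by
      rw [map_mul, e, ← pow_two]; exact orderOf_dvd_iff_pow_eq_one.1 hto.dvd)))
  obtain ⟨T, hTc, hTt, hTm, hTi, hT1, hT3⟩ := Klein.PSL.exists_torus hodd hto
  have hoddU : ∀ x : ↥E, (x : G) ∈ U → Odd (orderOf (φ x)) := fun x hx => by
    refine Odd.of_dvd_nat ?_ (orderOf_map_dvd φ x)
    rw [← Subgroup.orderOf_coe]
    exact h.odd_orderOf h.odd_coreCent hx
  have hmemT : ∀ x : ↥E, (x : G) ∈ U → φ x ∈ T := fun x hx =>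
    hTm _ (hoddU x hx) ((show Commute x t from Subtype.ext (h.commute_central hx).eq).map φ)
  obtain ⟨hmem, hcyc, hne, hsup⟩ := h.locD_facts hE hO hmov hTc hmemT
  obtain ⟨d₁, hd₁, hd₁1⟩ := (bot_or_exists_ne_one _).resolve_left hne
  -- `l = 9` is impossible, so `E` is `PSL₂`
  have h9 : Fintype.card F ≠ 9 := fun e9 => by
    obtain ⟨hd1', hd2⟩ := (hmem d₁).1 hd₁
    have h4 : Nat.card ↥T = 4 := by have := hT1 (by omega); omega
    have h1 : orderOf (φ ⟨d₁, hd1'.2⟩) ∣ 4 := h4 ▸ T.orderOf_dvd_natCard (hmemT ⟨d₁, hd1'.2⟩ hd1'.1)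
    have h2 : φ ⟨d₁, hd1'.2⟩ = 1 := orderOf_eq_one_iff.1 (Nat.eq_one_of_dvd_coprimes
      ((Nat.coprime_two_right.2 (hoddU ⟨d₁, hd1'.2⟩ hd1'.1)).pow_right 2) dvd_rfl h1)
    exact hd₁1 (h.eq_one_of_inverted hO ((hE.ker _).1 h2) hd2)
  have hinj : Function.Injective φ := by
    refine injective_of_odd_perfect_cover ⟨hE.perfect⟩ hodd h5 h9 φ hE.surj (fun x hx => ?_) ?_
    · exact mem_center_iff.2 fun y => Subtype.ext
        (hE.comm_core y y.2 x ((hE.ker x).1 (MonoidHom.mem_ker.1 hx))).eq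
    · let g : ↥φ.ker →* ↥(oddOf H) :=
        (E.subtype.comp φ.ker.subtype).codRestrict (oddOf H) fun x => (hE.ker _).1 (MonoidHom.mem_ker.1 x.2)
      refine Odd.of_dvd_nat (odd_card_oddOf H) (Subgroup.card_dvd_of_injective g fun a b e => ?_)
      exact Subtype.ext (Subtype.ext (congrArg (fun z : ↥(oddOf H) => (z : G)) e :))
  have hinv : ∀ (d : G) (hd : d ∈ U ⊓ E), τ * d * τ⁻¹ = d⁻¹ := fun d hd => by
    have h1 := hTi (φ u) huo hut hne' _ (hmemT ⟨d, hd.2⟩ hd.1)
    rw [← map_inv, ← map_inv, ← map_mul, ← map_mul] at h1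
    exact congrArg Subtype.val (hinj h1)
  have heq : locD σ τ n H = U ⊓ E :=
    le_antisymm (fun d hd => ((hmem d).1 hd).1) fun d hd => (hmem d).2 ⟨hd, hinv d hd⟩
  set e₀ : ↥E ≃* Matrix.ProjectiveSpecialLinearGroup (Fin 2) F := MulEquiv.ofBijective φ ⟨hinj, hE.surj⟩
  -- the odd part of the torus
  set Dq : Subgroup (Matrix.ProjectiveSpecialLinearGroup (Fin 2) F) := (U.subgroupOf E).map φ with hDq
  have hcardD : Nat.card ↥Dq = Nat.card ↥(locD σ τ n H) := by
    rw [hDq, card_map_of_injective hinj, heq, ← inf_subgroupOf_right,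
      Nat.card_congr (subgroupOfEquivOfLe inf_le_right).toEquiv]
  have hDT : Dq ≤ T := by
    rintro _ ⟨x, hx, rfl⟩
    exact hmemT x (mem_subgroupOf.1 hx)
  have hDm : ∀ y, Odd (orderOf y) → Commute y (φ t) → y ∈ Dq := fun y ho hy => by
    obtain ⟨x, rfl⟩ := hE.surj y
    refine mem_map_of_mem φ (mem_subgroupOf.2 (h.mem_coreCent_of_odd ?_ ?_))
    · exact congrArg Subtype.val (hinj (by rw [map_mul, map_mul]; exact hy.eq) : x * t = t * x)
    · rwa [orderOf_injective φ hinj, ← Subgroup.orderOf_coe] at ho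
  have hDo : Odd (Nat.card ↥Dq) := by
    rw [hcardD, heq]
    exact odd_of_le inf_le_left h.odd_coreCent
  -- `|T|` is twice a 2-power times `|D|`
  obtain ⟨m, hm⟩ : 2 ∣ Nat.card ↥T := by
    rcases (show Fintype.card F % 4 = 1 ∨ Fintype.card F % 4 = 3 by obtain ⟨i, hi⟩ := hodd; omega) with e | e
    · have := hT1 e; omega
    · have := hT3 e; omega
  obtain ⟨i, d, hd, hid⟩ := Nat.exists_eq_pow_mul_and_not_dvd (Nat.card_pos (α := ↥T)).ne' 2 (by norm_num)
  have hi1 : 1 ≤ i := by
    by_contra hlt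
    obtain rfl : i = 0 := by omega
    rw [pow_zero, one_mul] at hid
    exact hd ⟨m, hid ▸ hm⟩
  have hDd : Nat.card ↥Dq = d := by
    refine Nat.dvd_antisymm ?_ ?_
    · refine (Nat.Coprime.dvd_mul_left ((Nat.coprime_two_right.2 hDo).pow_right i)).1 ?_
      exact hid ▸ card_dvd_of_le hDT
    · obtain ⟨⟨g, hg⟩, hgen⟩ := IsCyclic.exists_generator (α := ↥T)
      have hgo : orderOf g = Nat.card ↥T := by
        rw [← orderOf_eq_card_of_forall_mem_zpowers hgen]
        exact Subgroup.orderOf_coe (⟨g, hg⟩ : ↥T)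
      have h1 : orderOf (g ^ 2 ^ i) = d := by
        rw [orderOf_pow, hgo, hid, Nat.gcd_eq_right (dvd_mul_right _ _),
          Nat.mul_div_cancel_left _ (pow_pos two_pos i)]
      rw [← h1]
      refine Dq.orderOf_dvd_natCard (hDm _ ?_ (hTt _ (pow_mem hg _)))
      rw [h1]
      exact Nat.odd_iff.2 (by omega)
  have hk : Fintype.card F + 1 = 2 ^ (i + 1) * Nat.card ↥(locD σ τ n H) ∨
      Fintype.card F = 2 ^ (i + 1) * Nat.card ↥(locD σ τ n H) + 1 := by
    rw [← hcardD, hDd, pow_succ', mul_assoc, ← hid]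
    rcases (show Fintype.card F % 4 = 1 ∨ Fintype.card F % 4 = 3 by obtain ⟨i, hi⟩ := hodd; omega) with e | e
    · exact Or.inr (hT1 e).symm
    · exact Or.inl (hT3 e).symm
  have hfac : (Nat.card ↥(H ⊓ centralizer ({central σ n} : Set G))).factorization 2 = i + 1 := by
    rw [h.factorization_centralizer hVH hone, show Nat.card ↥H = E.relIndex H * Nat.card ↥E by
      rw [← (E.subgroupOf H).card_mul_index, Nat.card_congr (subgroupOfEquivOfLe hE.le).toEquiv, mul_comm]; rfl,
      Nat.factorization_mul hE.odd_index.pos.ne' Nat.card_pos.ne', Finsupp.add_apply,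
      Nat.factorization_eq_zero_of_not_dvd (fun e => Nat.not_even_iff_odd.2 hE.odd_index (even_iff_two_dvd.2 e)),
      zero_add, Nat.card_congr e₀.toEquiv]
    -- `|PSL₂(q)| = 2 ^ (i + 1) * (odd)`
    have hcp := Klein.PSL.card_mul (F := F) hodd
    obtain ⟨r, hro, hr⟩ : ∃ r, Odd r ∧
        Nat.card (Matrix.ProjectiveSpecialLinearGroup (Fin 2) F) = 2 ^ (i + 1) * r := by
      obtain ⟨c, hc⟩ := hodd
      have hdo : Odd d := Nat.odd_iff.2 (by omega)
      rcases (show Fintype.card F % 4 = 1 ∨ Fintype.card F % 4 = 3 by omega) with e | e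
      · have e1 : Fintype.card F - 1 = 2 ^ (i + 1) * d := by
          have := hT1 e
          rw [pow_succ', mul_assoc, ← hid]
          omega
        refine ⟨Fintype.card F * (d * (c + 1)), Odd.mul ⟨c, hc⟩ (hdo.mul (Nat.odd_iff.2 (by omega))), ?_⟩
        refine Nat.eq_of_mul_eq_mul_left two_pos (hcp.trans ?_)
        rw [e1, show Fintype.card F + 1 = 2 * (c + 1) by omega]
        ring
      · have e1 : Fintype.card F + 1 = 2 ^ (i + 1) * d := by
          have := hT3 e
          rw [pow_succ', mul_assoc, ← hid]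
          omega
        refine ⟨Fintype.card F * (d * c), Odd.mul ⟨c, hc⟩ (hdo.mul (Nat.odd_iff.2 (by omega))), ?_⟩
        refine Nat.eq_of_mul_eq_mul_left two_pos (hcp.trans ?_)
        rw [e1, show Fintype.card F - 1 = 2 * c by omega]
        ring
    rw [hr, Nat.factorization_mul (by positivity) hro.pos.ne', Finsupp.add_apply,
      Nat.factorization_eq_zero_of_not_dvd (fun e => Nat.not_even_iff_odd.2 hro (even_iff_two_dvd.2 e)),
      add_zero, Nat.prime_two.factorization_pow, Finsupp.single_eq_same]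
  refine ⟨hE.normalizer_locE, ?_, ?_, hne, hcyc, fun d hd => ((hmem d).1 hd).2, hsup, ?_, Or.inr
    ⟨F, inferInstance, inferInstance, i + 1, hodd, h5, ?_, ?_, ?_, ?_, by omega, hfac, hk⟩⟩
  · rw [hE.locE_eq]
    intro hle
    refine Klein.PSL.not_commute (F := F) h5 ?_
    haveI := Klein.PSL.isSimple (F := F) h5
    have hcen : φ t ∈ center (Matrix.ProjectiveSpecialLinearGroup (Fin 2) F) := mem_center_iff.2 fun y => by
      obtain ⟨x, rfl⟩ := hE.surj y
      exact ((show Commute x t from Subtype.ext (mem_centralizer_singleton_iff.1 (hle x.2))).map φ).eq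
    have htop := (inferInstance : (center (Matrix.ProjectiveSpecialLinearGroup (Fin 2) F)).Normal).eq_bot_or_eq_top
      |>.resolve_left fun e => by
        rw [e, mem_bot] at hcen
        rw [hcen, orderOf_one] at hto
        omega
    exact fun a b => mem_center_iff.1 (htop ▸ mem_top b) a
  · rw [hE.locE_eq]
    exact heq.le
  · -- field automorphisms
    intro q hq x hx hxq hDx y hy
    rw [hE.locE_eq] at hy
    have : Fact q.Prime := ⟨hq⟩
    by_cases hx1 : x = 1
    · exact hx1 ▸ Commute.one_left y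
    have hxU : x ∈ U := (h.mem_fixR.1 hx.1).1
    have hxo := h.odd_orderOf h.odd_coreCent hxU
    obtain ⟨j, hj⟩ := hxq ⟨x, mem_zpowers x⟩
    have hxj : x ^ q ^ j = 1 := congrArg Subtype.val hj
    have hqo : Odd q := by
      obtain ⟨i', -, hi'⟩ := (Nat.dvd_prime_pow hq).1 (orderOf_dvd_of_pow_eq_one hxj)
      rcases i' with _ | i'
      · exact absurd (orderOf_eq_one_iff.1 (hi'.trans (pow_zero q))) hx1
      · exact Odd.of_dvd_nat hxo (hi' ▸ dvd_pow_self q (by omega))
    let Θ : ↥(normalizer (E : Set G)) →* MulAut (Matrix.ProjectiveSpecialLinearGroup (Fin 2) F) :=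
      (MulAut.congr e₀).toMonoidHom.comp E.normalizerMonoidHom
    set xN : ↥(normalizer (E : Set G)) := ⟨x, hE.normal hx.2⟩
    have hΘ : ∀ v : ↥E, Θ xN (φ v) = φ ⟨x * v * x⁻¹, conj_mem_of_normalizer (hE.normal hx.2) v.2⟩ := fun v => by
      show e₀ (E.normalizerMonoidHom xN (e₀.symm (e₀ v))) = _
      rw [e₀.symm_apply_apply]
      rfl
    have hfixv : ∀ v : ↥E, Commute x (v : G) → Θ xN (φ v) = φ v := fun v hv => by
      rw [hΘ]
      refine congrArg φ (Subtype.ext ?_)
      show x * v * x⁻¹ = v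
      rw [hv.eq, mul_inv_cancel_right]
    haveI : IsCyclic ↥Dq := isCyclic_of_le hDT
    have hα : Θ xN = 1 := by
      refine PSLField.eq_one_of_fix hodd h5 (t := φ t) (u := φ u) hDo hDm
        (fun v hv => hTi _ huo hut hne' v (hDT hv)) (k := i + 1) (hcardD ▸ hk) hq hqo (i := j)
        (by rw [← map_pow, show xN ^ q ^ j = 1 from Subtype.ext hxj, map_one])
        (hfixv t (h.commute_central hxU)) (hfixv u (h.mem_fixR.1 hx.1).2) ?_
      rintro _ ⟨v, hv, rfl⟩ hcop
      refine hfixv v ?_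
      -- `[v, x]` is a `q`-element of order dividing that of `v`
      have hvU : (v : G) ∈ U ⊓ E := ⟨mem_subgroupOf.1 hv, v.2⟩
      have hw : x * (v : G)⁻¹ * x⁻¹ ∈ U ⊓ E :=
        ⟨U.mul_mem (U.mul_mem hxU (U.inv_mem hvU.1)) (U.inv_mem hxU),
          conj_mem_of_normalizer (hE.normal hx.2) (inv_mem hvU.2)⟩
      have hc : Commute (v : G) (x * (v : G)⁻¹ * x⁻¹) := by
        rw [← heq] at hvU hw
        haveI := hcyc
        letI : CommGroup ↥(locD σ τ n H) := IsCyclic.commGroup
        exact congrArg Subtype.val (mul_comm (⟨_, hvU⟩ : ↥(locD σ τ n H)) ⟨_, hw⟩)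
      have hcm : ⁅(v : G), x⁆ ∈ ⁅locD σ τ n H, zpowers x⁆ :=
        commutator_mem_commutator (heq ▸ hvU) (mem_zpowers x)
      obtain ⟨a, ha⟩ := hDx ⟨_, hcm⟩
      have ha' : ⁅(v : G), x⁆ ^ q ^ a = 1 := congrArg Subtype.val ha
      have hm1 : ⁅(v : G), x⁆ ^ orderOf (φ v) = 1 := by
        rw [orderOf_injective φ hinj, ← Subgroup.orderOf_coe, commutatorElement_def,
          show (v : G) * x * (v : G)⁻¹ * x⁻¹ = (v : G) * (x * (v : G)⁻¹ * x⁻¹) by group, hc.mul_pow,
          pow_orderOf_eq_one, one_mul, conj_pow, inv_pow, pow_orderOf_eq_one, inv_one, mul_one, mul_inv_cancel]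
      have h1 : ⁅(v : G), x⁆ = 1 := orderOf_eq_one_iff.1 (Nat.eq_one_of_dvd_coprimes (hcop.pow_right a)
        (orderOf_dvd_of_pow_eq_one hm1) (orderOf_dvd_of_pow_eq_one ha'))
      exact (commutatorElement_eq_one_iff_mul_comm.1 h1).symm
    have h1 := hΘ ⟨y, hy⟩
    rw [hα, MulAut.one_apply] at h1
    have h2 := congrArg Subtype.val (hinj h1)
    exact (mul_inv_eq_iff_eq_mul.1 h2.symm)
  · exact hE.locE_eq.symm ▸ ⟨e₀⟩
  · exact hE.locE_eq.symm ▸ hE.four_le
  · rw [hE.locE_eq]
    refine (eq_bot_iff_forall _).2 fun x hx => ?_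
    obtain ⟨hxU, hxu⟩ := h.mem_fixR.1 hx.2
    have h1 := hinv x ⟨hxU, hx.1⟩
    rw [hxu.symm.eq, mul_inv_cancel_right] at h1
    exact eq_one_of_odd h.odd_coreCent hxU (mul_eq_one_iff_eq_inv.2 h1)
  · rw [hE.locE_eq]
    exact heq

/-- The data of a fusing subgroup with one class of involutions. -/
theorem localStatement : LocalStatement σ τ n := by
  intro H hH hVH hf hone hO hmov
  obtain ⟨E, hE⟩ := h.exists_eData hH hVH hf hone hO hmov
  rcases hE with ⟨φ, hE⟩ | ⟨F, _, _, hodd, h5, φ, hE⟩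
  · exact h.localData_seven hE hO hmov
  · exact h.localData_psl hodd h5 hE hVH hone hO hmov

end Hyp

end Cfsg.Agent.Invol.GW.Dihedral
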