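import Cfsg.Agent.Lib.Invol.GW.Dihedral.Core
import Cfsg.Agent.Lib.Invol.GW.Dihedral.LocalsPSL
import Cfsg.Agent.Lib.Invol.GW.Klein.Ctx

/-!
# Gorenstein–Walter, dihedral: an element of `O_q(U) ⊓ R` for a good prime

A `q`-group of `U` normalised by `C(t)` is neither inside `R` nor centralised by an involution other than `t`.  For
`z ∈ O_q(U) ⊓ R` the centraliser `C(z)` has local data; its inverted part contains every inverted element of `U`
centralising `z`, and elements of a core of `U` in `R ⊓ C(z)` centralise its last derived subgroup.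
-/

set_option autoImplicit false
set_option linter.unusedSectionVars false
set_option linter.style.haveILetI false

namespace Cfsg.Agent.Invol.GW.Dihedral

open Subgroup Klein
open scoped Pointwise commutatorElement

universe u

variable {G : Type u} [Group G] [Finite G] {S : Sylow 2 G} {σ τ : G} {n : ℕ}

namespace Hyp

variable (h : Hyp S σ τ n)
include h

/-- An involution of `C(t)` other than `t` is conjugate there to `τ` or `σ * τ`. -/
theorem exists_conj_reflection {ρ : G} (hρ : orderOf ρ = 2) (hρt : Commute ρ (central σ n))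
    (hne : ρ ≠ central σ n) : ∃ c ∈ centralizer ({central σ n} : Set G),
      c * ρ * c⁻¹ = τ ∨ c * ρ * c⁻¹ = σ * τ := by
  haveI : Fact (Nat.Prime 2) := ⟨Nat.prime_two⟩
  obtain ⟨c, hc, hcS⟩ := exists_conj_le_sylow S h.le_centralizer
    (zpowers_le.2 (mem_centralizer_singleton_iff.2 hρt.eq))
    (isPGroup_zpowers (n := 1) (by rw [hρ, pow_one]) : IsPGroup 2 (zpowers ρ))
  have hct : c * central σ n * c⁻¹ = central σ n := by
    rw [mem_centralizer_singleton_iff.1 hc, mul_inv_cancel_right]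
  have hsq : c * ρ * c⁻¹ * (c * ρ * c⁻¹) = 1 := by
    rw [show c * ρ * c⁻¹ * (c * ρ * c⁻¹) = c * (ρ * ρ) * c⁻¹ by group, ← pow_two, ← hρ, pow_orderOf_eq_one]
    group
  have hwσ : c * ρ * c⁻¹ ∉ zpowers σ := fun hmem => by
    refine hne (mul_left_cancel (mul_right_cancel ((h.eq_central hmem hsq ?_).trans hct.symm)))
    rw [ne_eq, conj_eq_one_iff]
    intro e
    rw [e, orderOf_one] at hρ
    omega
  obtain ⟨s, hs, hsρ⟩ := h.exists_conj_class (hcS ρ (mem_zpowers _)) hwσ
  refine ⟨s * c, mul_mem (h.le_centralizer hs) hc, ?_⟩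
  rw [show s * c * ρ * (s * c)⁻¹ = s * (c * ρ * c⁻¹) * s⁻¹ by group]
  exact hsρ

theorem le_normalizer_opOf_coreCent (q : ℕ) :
    centralizer ({central σ n} : Set G) ≤ normalizer (opOf q (coreCent (central σ n)) : Set G) :=
  h.le_normalizer_coreCent.trans (normalizer_le_normalizer_opOf q _)

variable (hC : IsCoatom (centralizer ({central σ n} : Set G))) {q : ℕ} [Fact q.Prime] (hg : Good S σ n q)
include hC hg

/-- A `q`-group of `R` normalised by `C(t)` is trivial. -/
theorem eq_bot_of_le_fixR {L : Subgroup G} (hL : IsPGroup q L) (hLR : L ≤ fixR (central σ n) τ)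
    (hn : centralizer ({central σ n} : Set G) ≤ normalizer (L : Set G)) : L = ⊥ := by
  obtain ⟨P, hP, hLP⟩ := Grp.HomDPi.exists_isSylowIn_ge hLR hL
  by_cases hP1 : P = ⊥
  · exact le_bot_iff.1 (hP1 ▸ hLP)
  exact h.eq_bot_of_fuses hC hLP (hP.1.trans (inf_le_left.trans h.coreCent_le)) hn
    (h.fuses_centralizer_sylow hC hg h.normalFusion hP hP1)

/-- A `q`-group of `U` normalised by `C(t)` and centralised by an involution other than `t` is trivial. -/
theorem eq_bot_of_centralized {L : Subgroup G} (hL : IsPGroup q L) (hLU : L ≤ coreCent (central σ n))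
    (hn : centralizer ({central σ n} : Set G) ≤ normalizer (L : Set G)) {ρ : G} (hρ : orderOf ρ = 2)
    (hρt : Commute ρ (central σ n)) (hne : ρ ≠ central σ n) (hc : ∀ y ∈ L, Commute ρ y) : L = ⊥ := by
  obtain ⟨c, hcC, hcρ⟩ := h.exists_conj_reflection hρ hρt hne
  have hcL := commute_conj_of hc (hn hcC)
  rcases hcρ with e | e <;> rw [e] at hcL
  · exact h.eq_bot_of_le_fixR hC hg hL (fun y hy => h.mem_fixR.2 ⟨hLU hy, (hcL y hy).symm⟩) hn
  · exact h.symm.eq_bot_of_le_fixR hC hg hL (fun y hy => h.symm.mem_fixR.2 ⟨hLU hy, (hcL y hy).symm⟩) hn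

variable {z : G} (hzY : z ∈ opOf q (coreCent (central σ n))) (hzR : z ∈ fixR (central σ n) τ) (hz1 : z ≠ 1)
include hzY hzR hz1

/-- The local data of `C(z)`. -/
theorem lineData : LocalData σ τ n (centralizer ({z} : Set G)) := by
  have hzp : IsPGroup q (zpowers z) := (isPGroup_opOf q _).to_le (zpowers_le.2 hzY)
  have hf := h.fuses_of_mem hC hg h.normalFusion hzR hzp hz1
  refine h.localStatement _ ?_ ?_ hf
    (fun s hs h2 => h.one_class hC hg h.normalFusion h.symm.normalFusion hzR hzp hz1 h2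
      (mem_centralizer_singleton_iff.1 hs))
    (h.oddOf_centralizer_le hC hzY hzR hz1 hf) ?_
  · intro e
    refine h.normalizer_ne_top (X := zpowers z) (fun e' => hz1 (zpowers_eq_bot.1 e'))
      (zpowers_le.2 (h.coreCent_le (h.mem_fixR.1 hzR).1)) (top_le_iff.1 ?_)
    rw [← e, Grp.centralizer_singleton_eq_zpowers]
    exact centralizer_le_normalizer _
  · exact fun v hv => mem_centralizer_singleton_iff.2 (h.commute_of_mem_fixR hzR hv).symm.eq
  · intro hle
    have hY : opOf q (coreCent (central σ n)) ≠ ⊥ := fun e => hz1 (by rwa [e, mem_bot] at hzY)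
    refine omZ_ne_bot (isPGroup_opOf q _) hY (h.eq_bot_of_le_fixR hC hg
      ((isPGroup_opOf q _).to_le (omZ_le _ _)) (fun x hx => h.mem_fixR.2 ⟨opOf_le q _ (omZ_le _ _ hx), ?_⟩)
      ((h.le_normalizer_opOf_coreCent q).trans (normalizer_le_omZ q _)))
    exact mem_centralizer_singleton_iff.1 (hle ⟨opOf_le q _ (omZ_le _ _ hx),
      mem_centralizer_singleton_iff.2 ((mem_omZ.1 hx).2.1 z hzY).eq⟩)

/-- An element of a core of `U` in `R` centralising `z` centralises `E(z)`. -/
theorem commute_locE {s : ℕ} [Fact s.Prime] {x : G} (hx : x ∈ opOf s (coreCent (central σ n)))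
    (hxR : x ∈ fixR (central σ n) τ) (hxz : Commute x z) :
    ∀ e ∈ locE (centralizer ({z} : Set G)), Commute x e := by
  have hd := h.lineData hC hg hzY hzR hz1
  refine hd.field s Fact.out x ⟨hxR, mem_centralizer_singleton_iff.2 hxz.eq⟩
    ((isPGroup_opOf s _).to_le (zpowers_le.2 hx)) ((isPGroup_opOf s (coreCent (central σ n))).to_le ?_)
  refine commutator_le.2 fun d hd' w hw => ?_
  have hw' := zpowers_le.2 hx hw
  rw [commutatorElement_def]
  exact mul_mem (conj_mem_of_normalizer (le_normalizer_opOf s _ (hd.le_E hd').1) hw') (inv_mem hw')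

omit hC hg hzY hzR hz1

/-- Inverted elements of `U ⊓ H` lie in its inverted part. -/
theorem mem_locD_of_inverted {H : Subgroup G} {x : G} (hx : x ∈ coreCent (central σ n)) (hxH : x ∈ H)
    (hinv : τ * x * τ⁻¹ = x⁻¹) : x ∈ locD σ τ n H := by
  have h2 : x * x ∈ locD σ τ n H := by
    have h1 : ⁅x, τ⁆ ∈ locD σ τ n H := commutator_mem_commutator ⟨hx, hxH⟩ (mem_zpowers τ)
    rwa [commutatorElement_def, show x * τ * x⁻¹ * τ⁻¹ = x * (τ * x * τ⁻¹)⁻¹ by group, hinv, inv_inv] at h1
  obtain ⟨k, hk⟩ := h.odd_orderOf h.odd_coreCent hx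
  have h3 := pow_mem h2 (k + 1)
  rwa [← pow_two, ← pow_mul, show 2 * (k + 1) = orderOf x + 1 by omega, pow_succ, pow_orderOf_eq_one,
    one_mul] at h3

include hC hg hzY hzR hz1

/-- Inverted elements of `U` centralising `z` commute. -/
theorem inverted_commute {x y : G} (hx : x ∈ coreCent (central σ n)) (hxz : Commute x z)
    (hxi : τ * x * τ⁻¹ = x⁻¹) (hy : y ∈ coreCent (central σ n)) (hyz : Commute y z)
    (hyi : τ * y * τ⁻¹ = y⁻¹) : Commute x y := by
  haveI := (h.lineData hC hg hzY hzR hz1).isCyclic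
  haveI : IsMulCommutative ↥(locD σ τ n (centralizer ({z} : Set G))) := IsCyclic.isMulCommutative
  exact congrArg Subtype.val (mul_comm'
    (⟨x, h.mem_locD_of_inverted hx (mem_centralizer_singleton_iff.2 hxz.eq) hxi⟩ :
      ↥(locD σ τ n (centralizer ({z} : Set G))))
    ⟨y, h.mem_locD_of_inverted hy (mem_centralizer_singleton_iff.2 hyz.eq) hyi⟩)

/-- Inverted elements of order `q` of `U` centralising `z` lie in one line. -/
theorem inverted_mem_zpowers {x y : G} (hx : x ∈ coreCent (central σ n)) (hxz : Commute x z)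
    (hxi : τ * x * τ⁻¹ = x⁻¹) (hxq : x ^ q = 1) (hx1 : x ≠ 1) (hy : y ∈ coreCent (central σ n))
    (hyz : Commute y z) (hyi : τ * y * τ⁻¹ = y⁻¹) (hyq : y ^ q = 1) : y ∈ zpowers x := by
  haveI := (h.lineData hC hg hzY hzR hz1).isCyclic
  exact mem_zpowers_of_isCyclic (h.mem_locD_of_inverted hx (mem_centralizer_singleton_iff.2 hxz.eq) hxi)
    (h.mem_locD_of_inverted hy (mem_centralizer_singleton_iff.2 hyz.eq) hyi) hxq hx1 hyq

omit hC hg hzY hzR hz1

/-- An element of `R` conjugates inverted elements to inverted ones. -/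
theorem inverted_conj {e x : G} (he : e ∈ fixR (central σ n) τ) (hx : τ * x * τ⁻¹ = x⁻¹) :
    τ * (e * x * e⁻¹) * τ⁻¹ = (e * x * e⁻¹)⁻¹ := by
  have hte : τ * e = e * τ := (h.mem_fixR.1 he).2.symm.eq
  calc τ * (e * x * e⁻¹) * τ⁻¹ = (τ * e) * x * (τ * e)⁻¹ := by group
    _ = e * (τ * x * τ⁻¹) * e⁻¹ := by rw [hte]; group
    _ = (e * x * e⁻¹)⁻¹ := by rw [hx]; group

/-- An element moving `r ∈ R` to a point fixed by `τ` is an inverted element centralising `r` times one of `R`. -/
theorem exists_factor {g r : G} (hg' : g ∈ coreCent (central σ n)) (hr : r ∈ fixR (central σ n) τ)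
    (hr' : Commute (g⁻¹ * r * g) τ) : ∃ a ∈ coreCent (central σ n), ∃ e ∈ fixR (central σ n) τ,
      τ * a * τ⁻¹ = a⁻¹ ∧ Commute a r ∧ g = a * e := by
  obtain ⟨a, ha, e, he, hinv, hcomm, hge, hmem⟩ := Klein.exists_inverted_mul h.odd_coreCent h.tau_mul_self
    (h.four_le_normalizer_coreCent (right_mem_four _ _)) hg'
  refine ⟨a, ha, e, h.mem_fixR.2 ⟨he, hcomm⟩, hinv, ?_, hge⟩
  obtain ⟨i, rfl⟩ := Subgroup.mem_zpowers_iff.1 hmem
  refine Commute.zpow_left ?_ i
  have h1 := hr'.symm.conj g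
  rw [show g * (g⁻¹ * r * g) * g⁻¹ = r by group] at h1
  exact h1.mul_left (h.mem_fixR.1 hr).2.symm

include hC hg hzY hzR hz1

/-- An element moving `z` inside `R` keeps an inverted line of `C(z)`. -/
theorem conj_line {g y : G} (hg' : g ∈ coreCent (central σ n)) (hz' : Commute (g⁻¹ * z * g) τ)
    (hy : y ∈ coreCent (central σ n)) (hyz : Commute y z) (hyi : τ * y * τ⁻¹ = y⁻¹) (hyq : y ^ q = 1)
    (hy1 : y ≠ 1) (he : ∀ e ∈ fixR (central σ n) τ, Commute (e * y * e⁻¹) z) :
    g * y * g⁻¹ ∈ zpowers y := by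
  obtain ⟨a, ha, e, heR, hai, haz, rfl⟩ := h.exists_factor hg' hzR hz'
  have heU := (h.mem_fixR.1 heR).1
  have hey : e * y * e⁻¹ ∈ coreCent (central σ n) := mul_mem (mul_mem heU hy) (inv_mem heU)
  have hmem := h.inverted_mem_zpowers hC hg hzY hzR hz1 hy hyz hyi hyq hy1 hey (he e heR)
    (h.inverted_conj heR hyi) (by rw [conj_pow, hyq, mul_one, mul_inv_cancel])
  have hcomm := h.inverted_commute hC hg hzY hzR hz1 ha haz hai hey (he e heR) (h.inverted_conj heR hyi)
  rwa [show a * e * y * (a * e)⁻¹ = a * (e * y * e⁻¹) * a⁻¹ by group, hcomm.eq, mul_inv_cancel_right]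

end Hyp

end Cfsg.Agent.Invol.GW.Dihedral
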