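import Cfsg.Agent.Lib.Invol.GW.Dihedral.BadThree
import Cfsg.Agent.Lib.Invol.GW.Dihedral.Line
import Cfsg.Agent.Lib.Fus.CaminaPairBasic

/-!
# Gorenstein–Walter, dihedral, bad three: a line fixed by `σ * τ`

`z` of prime order `q ≠ 3` lies in `O_q(U)` and is fixed by `σ * τ`.  An element of `U` moving `z` to a fixed point
normalises all fixed parts `O_s(U) ⊓ R₁`; hence these are cyclic and not normal in `U`.  The index of `R₁` is the
number of conjugates of the fixed part times the order of `D = [C_U(z), σ * τ]`, and `D` is the moved part of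
`[U, τ]` times a nontrivial three-group in `R`.
-/

set_option autoImplicit false
set_option linter.unusedSectionVars false
set_option linter.style.haveILetI false

namespace Cfsg.Agent.Invol.GW.Dihedral

open Subgroup Klein
open scoped Pointwise commutatorElement

universe u

variable {G : Type u} [Group G] [Finite G]

/-- The order of a product of two subgroups meeting trivially. -/
theorem card_mul_of_unique {A B M : Subgroup G} (hA : A ≤ M) (hB : B ≤ M)
    (huniq : ∀ a ∈ A, ∀ b ∈ B, ∀ a' ∈ A, ∀ b' ∈ B, a * b = a' * b' → a = a')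
    (hex : ∀ x ∈ M, ∃ a ∈ A, ∃ b ∈ B, a * b = x) : Nat.card ↥A * Nat.card ↥B = Nat.card ↥M := by
  rw [← Nat.card_prod]
  refine Nat.card_eq_of_bijective (fun p => (⟨(p.1 : G) * p.2, mul_mem (hA p.1.2) (hB p.2.2)⟩ : ↥M)) ⟨?_, ?_⟩
  · rintro ⟨a, b⟩ ⟨a', b'⟩ e
    have e' : (a : G) * b = a' * b' := congrArg Subtype.val e
    have h1 := huniq a a.2 b b.2 a' a'.2 b' b'.2 e'
    exact Prod.ext (Subtype.ext h1) (Subtype.ext (mul_left_cancel (h1 ▸ e')))
  · intro x
    obtain ⟨a, ha, b, hb, e⟩ := hex x x.2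
    exact ⟨(⟨a, ha⟩, ⟨b, hb⟩), Subtype.ext e⟩

/-- An element inverted and fixed by `v` in a subgroup of odd order is trivial. -/
theorem eq_one_of_inverted_of_commute {K : Subgroup G} (hK : Odd (Nat.card ↥K)) {x v : G} (hx : x ∈ K)
    (hinv : v * x * v⁻¹ = x⁻¹) (hc : Commute x v) : x = 1 := by
  refine eq_one_of_odd hK hx ?_
  rw [← hc.eq, mul_inv_cancel_right] at hinv
  exact eq_inv_iff_mul_eq_one.1 hinv

namespace Hyp

variable {S : Sylow 2 G} {σ τ : G} {n : ℕ} (h : Hyp S σ τ n) (hC : IsCoatom (centralizer ({central σ n} : Set G)))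
  (hbad : Bad S σ τ n 3) (hY3 : opOf 3 (coreCent (central σ n)) ≠ ⊥)
include h hC hbad hY3

/-- The reflection `σ * τ` normalises each core of `U`. -/
theorem symm_mem_normalizer_opOf (s : ℕ) : σ * τ ∈ normalizer (opOf s (coreCent (central σ n)) : Set G) :=
  h.le_normalizer_opOf_coreCent s (h.le_centralizer h.symm.hτ)

theorem opOf_comm {s : ℕ} [Fact s.Prime] (hs : s ≠ 3) {x y : G} (hx : x ∈ opOf s (coreCent (central σ n)))
    (hy : y ∈ ⁅coreCent (central σ n), zpowers τ⁆) : x * y = y * x :=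
  h.coreCommutator_comm hC hbad hY3 (h.opOf_le_coreCommutator hC hbad hY3 hs hx) hy

/-- A prime other than three with a fixed element is good. -/
theorem good_of_fixed {s : ℕ} [Fact s.Prime] (hs : s ≠ 3) {z : G} (hzY : z ∈ opOf s (coreCent (central σ n)))
    (hz1 : z ≠ 1) : Good S σ n s :=
  h.good_of_ne_three hC (fun e => hz1 (by rwa [e, mem_bot] at hzY)) hs

/-- The fixed part of a core. -/
theorem inverted_of_mem_opOf {s : ℕ} [Fact s.Prime] (hs : s ≠ 3) {y : G}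
    (hy : y ∈ opOf s (coreCent (central σ n))) :
    ∃ a ∈ opOf s (coreCent (central σ n)), ∃ e ∈ opOf s (coreCent (central σ n)) ⊓ fixR (central σ n) (σ * τ),
      σ * τ * a * (σ * τ)⁻¹ = a⁻¹ ∧ y = a * e := by
  obtain ⟨a, ha, e, he, hinv, hc, rfl, -⟩ := Klein.exists_inverted_mul
    (odd_of_le (opOf_le s _) h.odd_coreCent) h.symm.tau_mul_self (h.symm_mem_normalizer_opOf hC hbad hY3 s) hy
  exact ⟨a, ha, e, ⟨he, h.symm.mem_fixR.2 ⟨opOf_le s _ he, hc⟩⟩, hinv, rfl⟩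

variable {q : ℕ} [Fact q.Prime] (hq : q ≠ 3) {z : G} (hzY : z ∈ opOf q (coreCent (central σ n)))
  (hzR : z ∈ fixR (central σ n) (σ * τ)) (hz1 : z ≠ 1)
include hq hzY hzR hz1

theorem bad_lineData : LocalData σ (σ * τ) n (centralizer ({z} : Set G)) :=
  h.symm.lineData hC (h.good_of_fixed hC hbad hY3 hq hzY hz1) hzY hzR hz1

/-- An element of `U` moving `z` to a fixed point normalises every fixed part. -/
theorem mem_normalizer_fixed {g : G} (hgU : g ∈ coreCent (central σ n))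
    (hg : Commute (g⁻¹ * z * g) (σ * τ)) {s : ℕ} [Fact s.Prime] (hs : s ≠ 3) :
    g ∈ normalizer ((opOf s (coreCent (central σ n)) ⊓ fixR (central σ n) (σ * τ) : Subgroup G) : Set G) := by
  refine mem_normalizer_fintype fun y hy => ?_
  obtain ⟨hyY, hyR⟩ := Subgroup.mem_inf.1 hy
  obtain ⟨a, ha, e, he, hinv, haz, rfl⟩ := h.symm.exists_factor hgU hzR hg
  have hy' : e * y * e⁻¹ ∈ opOf s (coreCent (central σ n)) := conj_mem_opOf s (h.symm.mem_fixR.1 he).1 hyY
  have hyR' : e * y * e⁻¹ ∈ fixR (central σ n) (σ * τ) := mul_mem (mul_mem he hyR) (inv_mem he)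
  have hyz : Commute (e * y * e⁻¹) z :=
    h.opOf_comm hC hbad hY3 hs hy' (h.opOf_le_coreCommutator hC hbad hY3 hq hzY)
  have hd := h.bad_lineData hC hbad hY3 hq hzY hzR hz1
  have haD := h.symm.mem_locD_of_inverted (H := centralizer ({z} : Set G)) ha
    (mem_centralizer_singleton_iff.2 haz.eq) hinv
  have hcomm := h.symm.commute_locE hC (h.good_of_fixed hC hbad hY3 hq hzY hz1) hzY hzR hz1 hy' hyR' hyz a
    (hd.le_E haD).2
  rw [show a * e * y * (a * e)⁻¹ = a * (e * y * e⁻¹) * a⁻¹ by group, hcomm.symm.eq, mul_inv_cancel_right]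
  exact ⟨hy', hyR'⟩

/-- The fixed part is not normal in `U`. -/
theorem not_normalized :
    ¬ coreCent (central σ n) ≤
      normalizer ((opOf q (coreCent (central σ n)) ⊓ fixR (central σ n) (σ * τ) : Subgroup G) : Set G) := by
  intro hU
  set E := opOf q (coreCent (central σ n)) ⊓ fixR (central σ n) (σ * τ)
  obtain ⟨hn, -⟩ := id hbad
  have hw : σ * τ ∈ normalizer (E : Set G) := mem_normalizer_fintype fun y hy => by
    have hc := (h.symm.mem_fixR.1 (Subgroup.mem_inf.1 hy).2).2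
    rwa [← hc.eq, mul_inv_cancel_right]
  have hτ : τ ∈ normalizer (E : Set G) := mem_normalizer_fintype fun y hy => by
    rw [h.opOf_inverted hC hbad hY3 hq y (Subgroup.mem_inf.1 hy).1]
    exact inv_mem hy
  have hσ : σ ∈ normalizer (E : Set G) := by
    have := mul_mem hw hτ
    rwa [mul_assoc, h.tau_mul_self, mul_one] at this
  have hle : centralizer ({central σ n} : Set G) ≤ normalizer (E : Set G) := by
    intro x hx
    obtain ⟨a, ha, b, hb, rfl⟩ := h.exists_mul hx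
    refine mul_mem (hU ha) ?_
    by_cases hbσ : b ∈ zpowers σ
    · exact zpowers_le.2 hσ hbσ
    · obtain ⟨i, rfl⟩ := h.exists_rotation_mul_tau hb hbσ
      exact mul_mem (zpow_mem hσ i) hτ
  have hE := h.symm.eq_bot_of_le_fixR hC (h.good_of_fixed hC hbad hY3 hq hzY hz1)
    ((isPGroup_opOf q _).to_le inf_le_left) inf_le_right hle
  exact hz1 (mem_bot.1 (hE ▸ Subgroup.mem_inf.2 ⟨hzY, hzR⟩))

/-- A moved element of order `q`. -/
theorem exists_moved (hzq : z ^ q = 1) :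
    ∃ y ∈ opOf q (coreCent (central σ n)), y ≠ 1 ∧ y ^ q = 1 ∧ σ * τ * y * (σ * τ)⁻¹ = y⁻¹ := by
  set B := omZ q (opOf q (coreCent (central σ n)))
  have hg := h.good_of_fixed hC hbad hY3 hq hzY hz1
  have hwN : σ * τ ∈ normalizer (B : Set G) :=
    normalizer_le_omZ q _ (h.symm_mem_normalizer_opOf hC hbad hY3 q)
  obtain ⟨b, hb, hbw⟩ : ∃ b ∈ B, ¬ Commute b (σ * τ) := by
    by_contra hno
    push Not at hno
    exact omZ_ne_bot (isPGroup_opOf q _) hg.1 (h.symm.eq_bot_of_le_fixR hC hg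
      ((isPGroup_opOf q _).to_le (omZ_le _ _))
      (fun x hx => h.symm.mem_fixR.2 ⟨opOf_le q _ (omZ_le _ _ hx), hno x hx⟩)
      ((h.le_normalizer_opOf_coreCent q).trans (normalizer_le_omZ q _)))
  set y := b⁻¹ * (σ * τ * b * (σ * τ)⁻¹) with hy
  have hyB : y ∈ B := mul_mem (inv_mem hb) (conj_mem_of_normalizer hwN hb)
  refine ⟨y, omZ_le _ _ hyB, fun e => hbw ?_, (mem_omZ.1 hyB).2.2, ?_⟩
  · rw [hy, inv_mul_eq_one] at e
    exact (mul_inv_eq_iff_eq_mul.1 e.symm).symm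
  · rw [hy, show σ * τ * (b⁻¹ * (σ * τ * b * (σ * τ)⁻¹)) * (σ * τ)⁻¹ =
      (σ * τ * b * (σ * τ)⁻¹)⁻¹ * ((σ * τ * (σ * τ)) * b * (σ * τ * (σ * τ))⁻¹) by group, h.symm.tau_mul_self]
    group

/-- The fixed elements of order `q` form one line. -/
theorem fixed_line (hzq : z ^ q = 1) {z' : G} (hzY' : z' ∈ opOf q (coreCent (central σ n)))
    (hzR' : z' ∈ fixR (central σ n) (σ * τ)) (hzq' : z' ^ q = 1) : z' ∈ zpowers z := by
  by_contra hnot
  set U := coreCent (central σ n)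
  set w := σ * τ with hw
  set Y := opOf q U
  set A := omZ q Y ⊓ fixR (central σ n) w
  have hYc : ∀ x ∈ Y, ∀ y ∈ Y, x * y = y * x := fun x hx y hy =>
    h.opOf_comm hC hbad hY3 hq hx (h.opOf_le_coreCommutator hC hbad hY3 hq hy)
  have hmem : ∀ x ∈ Y, x ^ q = 1 → x ∈ omZ q Y := fun x hx hxq =>
    mem_omZ.2 ⟨hx, fun y hy => hYc x hx y hy, hxq⟩
  have hlt : q < Nat.card ↥A := by
    have hle : zpowers z ≤ A := zpowers_le.2 ⟨hmem z hzY hzq, hzR⟩
    have hcard : Nat.card ↥(zpowers z) = q := by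
      rw [Nat.card_zpowers]; exact orderOf_eq_prime hzq hz1
    by_contra hge
    have heq := Subgroup.eq_of_le_of_card_ge hle (by omega)
    exact hnot (heq.ge ⟨hmem z' hzY' hzq', hzR'⟩)
  obtain ⟨y, hyY, hy1, hyq, hyi⟩ := h.exists_moved hC hbad hY3 hq hzY hzR hz1 hzq
  refine h.not_normalized hC hbad hY3 hq hzY hzR hz1 fun g hg => ?_
  have hin : ∀ v : ↥A, g⁻¹ * v * g ∈ omZ q Y := fun v => by
    have := (mem_normalizer_iff.1 (inv_mem (normalizer_le_omZ q _ (le_normalizer_opOf q U hg))) (v : G)).1 v.2.1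
    simpa using this
  have hmove : ∀ v : ↥A, (g⁻¹ * v * g)⁻¹ * (w * (g⁻¹ * v * g) * w⁻¹) ∈ zpowers y := fun v => by
    set c := g⁻¹ * (v : G) * g
    have hcY : c ∈ omZ q Y := hin v
    have hcY' : w * c * w⁻¹ ∈ omZ q Y :=
      conj_mem_of_normalizer (normalizer_le_omZ q _ (h.symm_mem_normalizer_opOf hC hbad hY3 q)) hcY
    have hx := mul_mem (inv_mem hcY) hcY'
    refine h.symm.inverted_mem_zpowers hC (h.good_of_fixed hC hbad hY3 hq hzY hz1) hzY hzR hz1
      (opOf_le q U hyY) (hYc _ hyY _ hzY) hyi hyq hy1 (opOf_le q U (omZ_le _ _ hx))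
      (hYc _ (omZ_le _ _ hx) _ hzY) ?_ (mem_omZ.1 hx).2.2
    rw [show w * (c⁻¹ * (w * c * w⁻¹)) * w⁻¹ = (w * c * w⁻¹)⁻¹ * (w * w * c * (w * w)⁻¹) by group,
      show w * w = 1 from h.symm.tau_mul_self]
    group
  obtain ⟨v, v', hne, heq⟩ : ∃ v v' : ↥A, v ≠ v' ∧ (g⁻¹ * v * g)⁻¹ * (w * (g⁻¹ * v * g) * w⁻¹) =
      (g⁻¹ * v' * g)⁻¹ * (w * (g⁻¹ * v' * g) * w⁻¹) := by
    by_contra hno
    push Not at hno
    have hinj : Function.Injective (fun v : ↥A => (⟨_, hmove v⟩ : ↥(zpowers y))) := fun v v' e => by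
      by_contra hne
      exact hno v v' hne (congrArg Subtype.val e)
    have h1 := Nat.card_le_card_of_injective _ hinj
    rw [Nat.card_zpowers, orderOf_eq_prime hyq hy1] at h1
    omega
  set c := g⁻¹ * (v : G) * g
  set c' := g⁻¹ * (v' : G) * g
  set x := (v : G) * (v' : G)⁻¹ with hx
  have hxA : x ∈ A := mul_mem v.2 (inv_mem v'.2)
  have hx1 : x ≠ 1 := fun e => hne (Subtype.ext (mul_inv_eq_one.1 e))
  have hcom : Commute (g⁻¹ * x * g) w := by
    have e : g⁻¹ * x * g = c * c'⁻¹ := by simp only [hx, c, c']; group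
    have e1 : w * c * w⁻¹ = c * (c'⁻¹ * (w * c' * w⁻¹)) := by rw [← heq]; group
    have hcc' : c * c'⁻¹ = c'⁻¹ * c := hYc _ (omZ_le _ _ (hin v)) _ (inv_mem (omZ_le _ _ (hin v')))
    refine (mul_inv_eq_iff_eq_mul.1 ?_).symm
    rw [e, show w * (c * c'⁻¹) * w⁻¹ = w * c * w⁻¹ * (w * c' * w⁻¹)⁻¹ by group, e1]
    group
  exact h.mem_normalizer_fixed hC hbad hY3 hq (omZ_le _ _ hxA.1) hxA.2 hx1 hg hcom hq

/-- The fixed part of a core is cyclic. -/
theorem isCyclic_fixed (hzq : z ^ q = 1) :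
    IsCyclic ↥(opOf q (coreCent (central σ n)) ⊓ fixR (central σ n) (σ * τ) : Subgroup G) := by
  set E := opOf q (coreCent (central σ n)) ⊓ fixR (central σ n) (σ * τ)
  letI : CommGroup ↥E := { (inferInstance : Group ↥E) with
    mul_comm := fun a b => Subtype.ext (h.opOf_comm hC hbad hY3 hq (Subgroup.mem_inf.1 a.2).1
      (h.opOf_le_coreCommutator hC hbad hY3 hq (Subgroup.mem_inf.1 b.2).1)) }
  refine Fus.isCyclic_of_unique_order_prime (q := q) ((isPGroup_opOf q _).to_le inf_le_left) fun a b ha hb ha1 => ?_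
  have ha' : (a : G) ^ q = 1 := congrArg Subtype.val ha
  have ha1' : (a : G) ≠ 1 := fun e => ha1 (Subtype.ext e)
  have h1 := h.fixed_line hC hbad hY3 hq hzY hzR hz1 hzq (Subgroup.mem_inf.1 b.2).1 (Subgroup.mem_inf.1 b.2).2
    (congrArg Subtype.val hb)
  have h2 := h.fixed_line hC hbad hY3 hq hzY hzR hz1 hzq (Subgroup.mem_inf.1 a.2).1 (Subgroup.mem_inf.1 a.2).2 ha'
  have heq : zpowers (a : G) = zpowers z := Subgroup.eq_of_le_of_card_ge (zpowers_le.2 h2) (by
    rw [Nat.card_zpowers, Nat.card_zpowers, orderOf_eq_prime ha' ha1', orderOf_eq_prime hzq hz1])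
  rw [← heq] at h1
  obtain ⟨i, hi⟩ := mem_zpowers_iff.1 h1
  exact mem_zpowers_iff.2 ⟨i, Subtype.ext (by rw [Subgroup.coe_zpow]; exact hi)⟩

/-! ## The inverted part `D` -/

/-- An element of `D` is determined as an inverted element of `U` centralising `z`. -/
theorem mem_locD_iff {x : G} : x ∈ locD σ (σ * τ) n (centralizer ({z} : Set G)) ↔
    x ∈ coreCent (central σ n) ∧ Commute x z ∧ σ * τ * x * (σ * τ)⁻¹ = x⁻¹ := by
  have hd := h.bad_lineData hC hbad hY3 hq hzY hzR hz1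
  constructor
  · intro hx
    have h1 := hd.le_E hx
    exact ⟨(Subgroup.mem_inf.1 h1).1, mem_centralizer_singleton_iff.1
      (((iInf_le (fun i => (derivedSeries ↥(centralizer ({z} : Set G)) i).map (centralizer ({z} : Set G)).subtype) 0).trans
        (map_subtype_le _)) (Subgroup.mem_inf.1 h1).2), hd.inverted x hx⟩
  · rintro ⟨hxU, hxz, hinv⟩
    exact h.symm.mem_locD_of_inverted hxU (mem_centralizer_singleton_iff.2 hxz.eq) hinv

/-- `τ` normalises `D`. -/
theorem tau_conj_mem_locD {x : G} (hx : x ∈ locD σ (σ * τ) n (centralizer ({z} : Set G))) :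
    τ * x * τ⁻¹ ∈ locD σ (σ * τ) n (centralizer ({z} : Set G)) := by
  obtain ⟨hn, -⟩ := id hbad
  rw [h.mem_locD_iff hC hbad hY3 hq hzY hzR hz1] at hx ⊢
  obtain ⟨hxU, hxz, hinv⟩ := hx
  refine ⟨conj_mem_of_normalizer h.tau_mem_normalizer_coreCent hxU, ?_, ?_⟩
  · have h1 := hxz.conj τ
    rw [h.opOf_inverted hC hbad hY3 hq z hzY] at h1
    simpa using h1.inv_right
  · have e : τ⁻¹ * (σ * τ) * τ = central σ n * (σ * τ) := by
      rw [h.tau_inv, show τ * (σ * τ) * τ = τ * σ * (τ * τ) by group, h.tau_mul_self, mul_one,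
        show τ * σ = σ⁻¹ * τ by rw [← h.rel]; group, ← mul_assoc]
      congr 1
      refine inv_eq_of_mul_eq_one_right ?_
      rw [central, hn, show σ * (σ ^ 2 ^ (3 - 2) * σ) = σ ^ (4 : ℕ) by
        rw [show (2 : ℕ) ^ (3 - 2) = 2 from rfl]; group]
      exact orderOf_dvd_iff_pow_eq_one.1 (by rw [h.orderσ, hn]; norm_num)
    have e2 : central σ n * x * (central σ n)⁻¹ = x := by
      rw [(h.commute_central hxU).symm.eq, mul_inv_cancel_right]
    calc σ * τ * (τ * x * τ⁻¹) * (σ * τ)⁻¹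
        = τ * ((τ⁻¹ * (σ * τ) * τ) * x * (τ⁻¹ * (σ * τ) * τ)⁻¹) * τ⁻¹ := by group
      _ = τ * (central σ n * (σ * τ * x * (σ * τ)⁻¹) * (central σ n)⁻¹) * τ⁻¹ := by rw [e]; group
      _ = (τ * (central σ n * x * (central σ n)⁻¹) * τ⁻¹)⁻¹ := by rw [hinv]; group
      _ = (τ * x * τ⁻¹)⁻¹ := by rw [e2]

/-- `D` is its part in `[U, τ]` times its part in `R`. -/
theorem locD_factor {x : G} (hx : x ∈ locD σ (σ * τ) n (centralizer ({z} : Set G))) :
    ∃ a ∈ ⁅coreCent (central σ n), zpowers τ⁆ ⊓ locD σ (σ * τ) n (centralizer ({z} : Set G)),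
      ∃ r ∈ fixR (central σ n) τ ⊓ locD σ (σ * τ) n (centralizer ({z} : Set G)), a * r = x := by
  set U := coreCent (central σ n)
  have hxU := ((h.mem_locD_iff hC hbad hY3 hq hzY hzR hz1).1 hx).1
  obtain ⟨a, ha, r, hr, rfl⟩ := h.exists_commutator_mul hxU
  have h1 := mul_mem hx (inv_mem (h.tau_conj_mem_locD hC hbad hY3 hq hzY hzR hz1 hx))
  have e : a * r * (τ * (a * r) * τ⁻¹)⁻¹ = a ^ 2 := by
    rw [show τ * (a * r) * τ⁻¹ = τ * a * τ⁻¹ * (τ * r * τ⁻¹) by group,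
      h.coreCommutator_inverted hC hbad hY3 ha, ← (h.mem_fixR.1 hr).2.eq, mul_inv_cancel_right, pow_two]
    group
  rw [e] at h1
  obtain ⟨k, hk⟩ := exists_pow_eq_self_of_coprime (x := a)
    (Nat.coprime_two_left.2 (h.odd_of_mem (h.coreCommutator_le ha)))
  have haD : a ∈ locD σ (σ * τ) n (centralizer ({z} : Set G)) := hk ▸ pow_mem h1 k
  refine ⟨a, ⟨ha, haD⟩, r, ⟨hr, ?_⟩, rfl⟩
  simpa using mul_mem (inv_mem haD) hx

/-- Every prime part of `D ⊓ R` other than three is trivial. -/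
theorem isPGroup_locD_fixR :
    IsPGroup 3 ↥(fixR (central σ n) τ ⊓ locD σ (σ * τ) n (centralizer ({z} : Set G)) : Subgroup G) := by
  haveI : Fact (Nat.Prime 3) := ⟨Nat.prime_three⟩
  haveI : Group.IsSolvable ↥(coreCent (central σ n)) := h.isSolvable_coreCent
  set U := coreCent (central σ n) with hUdef
  set X := fixR (central σ n) τ ⊓ locD σ (σ * τ) n (centralizer ({z} : Set G))
  have hd := h.bad_lineData hC hbad hY3 hq hzY hzR hz1
  have hzU := opOf_le q U hzY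
  have hzN := h.opOf_le_coreCommutator hC hbad hY3 hq hzY
  refine IsPGroup.of_card (Nat.eq_prime_pow_of_unique_prime_dvd Nat.card_pos.ne' fun {s} hs hsd => ?_)
  haveI : Fact s.Prime := ⟨hs⟩
  by_contra hs3
  obtain ⟨⟨r, hrX⟩, hr⟩ := exists_prime_orderOf_dvd_card' s hsd
  rw [Subgroup.orderOf_mk] at hr
  obtain ⟨hrR, hrD⟩ := Subgroup.mem_inf.1 hrX
  haveI := hd.isCyclic
  haveI : IsMulCommutative ↥(locD σ (σ * τ) n (centralizer ({z} : Set G))) := IsCyclic.isMulCommutative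
  have hDc : ∀ a ∈ locD σ (σ * τ) n (centralizer ({z} : Set G)),
      ∀ b ∈ locD σ (σ * τ) n (centralizer ({z} : Set G)), a * b = b * a := fun a ha b hb =>
    congrArg Subtype.val (mul_comm' (⟨a, ha⟩ : ↥(locD σ (σ * τ) n (centralizer ({z} : Set G)))) ⟨b, hb⟩)
  have hcores : ∀ p : ℕ, p.Prime → ∀ y ∈ opOf p U, Commute r y := by
    intro p hp y hy
    haveI : Fact p.Prime := ⟨hp⟩
    by_cases hp3 : p = 3
    · subst hp3
      set c := r * y * r⁻¹ * y⁻¹ with hc
      have hrU : r ∈ U := (h.mem_fixR.1 hrR).1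
      have hc3 : c ∈ opOf 3 U := mul_mem (conj_mem_opOf 3 hrU hy) (inv_mem hy)
      have hyH : y ∈ U ⊓ centralizer ({z} : Set G) := ⟨opOf_le 3 U hy, mem_centralizer_singleton_iff.2
        (commute_of_disjoint (inf_eq_bot_of_primes (Ne.symm hq) (isPGroup_opOf 3 _) (isPGroup_opOf q _)) hy hzY
          (le_normalizer_opOf q _ (opOf_le 3 _ hy)) (le_normalizer_opOf 3 _ hzU)).eq⟩
      have hcD : c ∈ locD σ (σ * τ) n (centralizer ({z} : Set G)) := by
        rw [hc, show r * y * r⁻¹ * y⁻¹ = r * (y * r⁻¹ * y⁻¹) by group]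
        exact mul_mem hrD (conj_mem_of_normalizer
          (Grp.left_le_normalizer_commutator (zpowers (σ * τ)) (U ⊓ centralizer ({z} : Set G)) hyH) (inv_mem hrD))
      have hrc : r * c = c * r := hDc r hrD c hcD
      have hk : ∀ k : ℕ, r ^ k * y * (r ^ k)⁻¹ = c ^ k * y := by
        intro k
        induction k with
        | zero => simp
        | succ k ih =>
          calc r ^ (k + 1) * y * (r ^ (k + 1))⁻¹ = r * (r ^ k * y * (r ^ k)⁻¹) * r⁻¹ := by rw [pow_succ']; group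
            _ = (r * c ^ k * r⁻¹) * (r * y * r⁻¹) := by rw [ih]; group
            _ = c ^ k * (r * y * r⁻¹) := by
              rw [((show Commute r c from hrc).pow_right k).eq, mul_inv_cancel_right]
            _ = c ^ (k + 1) * y := by rw [pow_succ, hc]; group
      have h1 := hk s
      rw [← hr, pow_orderOf_eq_one, one_mul, inv_one, mul_one, hr, eq_comm, mul_eq_right] at h1
      obtain ⟨j, hj⟩ := isPGroup_opOf 3 U ⟨c, hc3⟩
      have hc1 : c = 1 := orderOf_eq_one_iff.1 (Nat.eq_one_of_dvd_coprimes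
        (((Nat.coprime_primes hs Nat.prime_three).2 hs3).pow_right j)
        (orderOf_dvd_of_pow_eq_one h1) (orderOf_dvd_of_pow_eq_one (congrArg Subtype.val hj)))
      rw [hc, mul_inv_eq_one] at hc1
      exact mul_inv_eq_iff_eq_mul.1 hc1
    · obtain ⟨a, ha, e, he, hinv, rfl⟩ := h.inverted_of_mem_opOf hC hbad hY3 hp3 hy
      have haN := h.opOf_le_coreCommutator hC hbad hY3 hp3 ha
      have haD : a ∈ locD σ (σ * τ) n (centralizer ({z} : Set G)) :=
        (h.mem_locD_iff hC hbad hY3 hq hzY hzR hz1).2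
          ⟨opOf_le p U ha, h.coreCommutator_comm hC hbad hY3 haN hzN, hinv⟩
      have h1 : Commute r a := hDc r hrD a haD
      have h2 : Commute e r := h.symm.commute_locE hC (h.good_of_fixed hC hbad hY3 hq hzY hz1) hzY hzR hz1
        (Subgroup.mem_inf.1 he).1 (Subgroup.mem_inf.1 he).2
        (h.opOf_comm hC hbad hY3 hp3 (Subgroup.mem_inf.1 he).1 hzN) r (hd.le_E hrD).2
      exact h1.mul_right h2.symm
  have hrY : r ∈ opOf s U := mem_opOf_of_mem_fitting (mem_fitting_of_commute (h.mem_fixR.1 hrR).1 hcores)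
    (k := 1) (by rw [pow_one, ← hr, pow_orderOf_eq_one])
  have hr1 : r = 1 := mem_bot.1 (h.opOf_inf_fixR_eq_bot hC hbad hY3 hs3 ▸ Subgroup.mem_inf.2 ⟨hrY, hrR⟩)
  rw [hr1, orderOf_one] at hr
  exact hs.ne_one hr.symm


/-- `D` meets `R` nontrivially. -/
theorem locD_fixR_ne_bot :
    fixR (central σ n) τ ⊓ locD σ (σ * τ) n (centralizer ({z} : Set G)) ≠ ⊥ := by
  intro hX
  haveI : Fact (Nat.Prime 3) := ⟨Nat.prime_three⟩
  set U := coreCent (central σ n) with hUdef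
  have hg := h.good_of_fixed hC hbad hY3 hq hzY hz1
  have hd := h.bad_lineData hC hbad hY3 hq hzY hzR hz1
  have hzU := opOf_le q U hzY
  have hfix : ∀ y ∈ opOf 3 U, y ∈ fixR (central σ n) (σ * τ) ∧ Commute y z := by
    intro y hy
    have hyz : ∀ v ∈ opOf 3 U, Commute v z := fun v hv => commute_of_disjoint
      (inf_eq_bot_of_primes (Ne.symm hq) (isPGroup_opOf 3 _) (isPGroup_opOf q _)) hv hzY
      (le_normalizer_opOf q _ (opOf_le 3 _ hv)) (le_normalizer_opOf 3 _ hzU)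
    set c := y⁻¹ * (σ * τ * y * (σ * τ)⁻¹) with hc
    have hc3 : c ∈ opOf 3 U :=
      mul_mem (inv_mem hy) (conj_mem_of_normalizer (h.symm_mem_normalizer_opOf hC hbad hY3 3) hy)
    have hcD : c ∈ locD σ (σ * τ) n (centralizer ({z} : Set G)) := by
      refine (h.mem_locD_iff hC hbad hY3 hq hzY hzR hz1).2 ⟨opOf_le 3 U hc3, hyz c hc3, ?_⟩
      rw [hc, show σ * τ * (y⁻¹ * (σ * τ * y * (σ * τ)⁻¹)) * (σ * τ)⁻¹ =
        (σ * τ * y * (σ * τ)⁻¹)⁻¹ * ((σ * τ * (σ * τ)) * y * (σ * τ * (σ * τ))⁻¹) by group, h.symm.tau_mul_self]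
      group
    have hc1 : c = 1 := mem_bot.1 (hX ▸ Subgroup.mem_inf.2 ⟨h.opOf_three_le_fixR hC hbad hc3, hcD⟩)
    rw [hc, inv_mul_eq_one] at hc1
    exact ⟨h.symm.mem_fixR.2 ⟨opOf_le 3 U hy, (mul_inv_eq_iff_eq_mul.1 hc1.symm).symm⟩, hyz y hy⟩
  refine hd.not_le fun e he => ?_
  rw [← h.normalizer_omZ hC hY3]
  refine centralizer_le_normalizer _ (mem_centralizer_iff.2 fun x hx => ?_)
  have hx3 : x ∈ opOf 3 U := omZ_le _ _ hx
  exact (h.symm.commute_locE hC hg hzY hzR hz1 hx3 (hfix x hx3).1 (hfix x hx3).2 e he).eq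

/-- The order of `D`. -/
theorem card_locD : Nat.card ↥(⁅coreCent (central σ n), zpowers τ⁆ ⊓
      locD σ (σ * τ) n (centralizer ({z} : Set G)) : Subgroup G) *
      Nat.card ↥(fixR (central σ n) τ ⊓ locD σ (σ * τ) n (centralizer ({z} : Set G)) : Subgroup G) =
    Nat.card ↥(locD σ (σ * τ) n (centralizer ({z} : Set G))) :=
  card_mul_of_unique inf_le_right inf_le_right
    (fun _ ha _ hb _ ha' _ hb' e => (h.coreCommutator_eq_of_mul_eq hC hbad hY3 (Subgroup.mem_inf.1 ha).1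
      (Subgroup.mem_inf.1 ha').1 (Subgroup.mem_inf.1 hb).1 (Subgroup.mem_inf.1 hb').1 e).1)
    fun _ hx => h.locD_factor hC hbad hY3 hq hzY hzR hz1 hx

/-- The index of `R` is the order of the fixed and of the moved part of `[U, τ]`. -/
theorem idx_tau_eq : idx σ τ n =
    Nat.card ↥(⁅coreCent (central σ n), zpowers τ⁆ ⊓ fixR (central σ n) (σ * τ) : Subgroup G) *
      Nat.card ↥(⁅coreCent (central σ n), zpowers τ⁆ ⊓
        locD σ (σ * τ) n (centralizer ({z} : Set G)) : Subgroup G) := by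
  set N := ⁅coreCent (central σ n), zpowers τ⁆
  have hzN := h.opOf_le_coreCommutator hC hbad hY3 hq hzY
  rw [h.idx_eq_card hC hbad hY3]
  refine (card_mul_of_unique inf_le_left inf_le_left (fun a ha b hb a' ha' b' hb' e => ?_) fun x hx => ?_).symm
  · obtain ⟨haN, haR⟩ := Subgroup.mem_inf.1 (mul_mem (inv_mem ha') ha)
    have e' : a'⁻¹ * a = b' * b⁻¹ := by
      calc a'⁻¹ * a = a'⁻¹ * (a * b) * b⁻¹ := by group
        _ = b' * b⁻¹ := by rw [e]; group
    have hD := (Subgroup.mem_inf.1 (mul_mem hb' (inv_mem hb))).2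
    rw [← e'] at hD
    exact (inv_mul_eq_one.1 (eq_one_of_inverted_of_commute h.odd_coreCent (h.coreCommutator_le haN)
      ((h.mem_locD_iff hC hbad hY3 hq hzY hzR hz1).1 hD).2.2 (h.symm.mem_fixR.1 haR).2)).symm
  · obtain ⟨a, ha, e, he, hinv, hc, rfl, -⟩ := Klein.exists_inverted_mul (odd_of_le h.coreCommutator_le h.odd_coreCent)
      h.symm.tau_mul_self (h.symm_mem_normalizer_coreCommutator hC hbad hY3) hx
    refine ⟨e, ⟨he, h.symm.mem_fixR.2 ⟨h.coreCommutator_le he, hc⟩⟩, a, ⟨ha, ?_⟩, ?_⟩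
    · exact (h.mem_locD_iff hC hbad hY3 hq hzY hzR hz1).2
        ⟨h.coreCommutator_le ha, h.coreCommutator_comm hC hbad hY3 ha hzN, hinv⟩
    · exact h.coreCommutator_comm hC hbad hY3 he ha

/-- The index of `R₁`. -/
theorem idx_symm_eq : idx σ (σ * τ) n =
    (normalizer ((opOf q (coreCent (central σ n)) ⊓ fixR (central σ n) (σ * τ) : Subgroup G) : Set G)).relIndex
        (coreCent (central σ n)) *
      Nat.card ↥(locD σ (σ * τ) n (centralizer ({z} : Set G))) := by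
  set U := coreCent (central σ n)
  set R₁ := fixR (central σ n) (σ * τ)
  set E := opOf q U ⊓ R₁
  set D := locD σ (σ * τ) n (centralizer ({z} : Set G))
  set M := normalizer (E : Set G) ⊓ U
  have hRM : R₁ ≤ M := fun r hr => by
    refine ⟨mem_normalizer_fintype fun y hy => ?_, (h.symm.mem_fixR.1 hr).1⟩
    obtain ⟨hyY, hyR⟩ := Subgroup.mem_inf.1 hy
    exact ⟨conj_mem_opOf q (h.symm.mem_fixR.1 hr).1 hyY, R₁.mul_mem (R₁.mul_mem hr hyR) (R₁.inv_mem hr)⟩
  have hDM : D ≤ M := fun d hd => by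
    obtain ⟨hdU, hdz, -⟩ := (h.mem_locD_iff hC hbad hY3 hq hzY hzR hz1).1 hd
    refine ⟨h.mem_normalizer_fixed hC hbad hY3 hq hzY hzR hz1 hdU ?_ hq, hdU⟩
    rw [show d⁻¹ * z * d = z by rw [mul_assoc, ← hdz.eq, inv_mul_cancel_left]]
    exact (h.symm.mem_fixR.1 hzR).2
  have hcard : Nat.card ↥D * Nat.card ↥R₁ = Nat.card ↥M := by
    refine card_mul_of_unique hDM hRM (fun a ha b hb a' ha' b' hb' e => ?_) fun g hg => ?_
    · have e' : a'⁻¹ * a = b' * b⁻¹ := by
        calc a'⁻¹ * a = a'⁻¹ * (a * b) * b⁻¹ := by group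
          _ = b' * b⁻¹ := by rw [e]; group
      have hD := (h.mem_locD_iff hC hbad hY3 hq hzY hzR hz1).1 (mul_mem (inv_mem ha') ha)
      refine (inv_mul_eq_one.1 (eq_one_of_inverted_of_commute h.odd_coreCent hD.1 hD.2.2 ?_)).symm
      rw [e']
      exact (h.symm.mem_fixR.1 (mul_mem hb' (inv_mem hb))).2
    · obtain ⟨hgN, hgU⟩ := Subgroup.mem_inf.1 hg
      have hgz : g⁻¹ * z * g ∈ E := by
        have := conj_mem_of_normalizer (inv_mem hgN) (Subgroup.mem_inf.2 ⟨hzY, hzR⟩ : z ∈ E)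
        rwa [inv_inv] at this
      obtain ⟨a, ha, e, he, hinv, haz, rfl⟩ := h.symm.exists_factor hgU hzR
        (h.symm.mem_fixR.1 (Subgroup.mem_inf.1 hgz).2).2
      exact ⟨a, (h.mem_locD_iff hC hbad hY3 hq hzY hzR hz1).2 ⟨ha, haz, hinv⟩, e, he, rfl⟩
  have h1 : R₁.relIndex M = Nat.card ↥D := by
    have e := relIndex_mul_relIndex ⊥ R₁ M bot_le hRM
    rw [relIndex_bot_left, relIndex_bot_left, ← hcard, mul_comm] at e
    exact Nat.eq_of_mul_eq_mul_right Nat.card_pos e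
  rw [idx, ← relIndex_mul_relIndex R₁ M U hRM inf_le_right, h1, mul_comm]
  congr 1
  exact inf_relIndex_right _ _

end Hyp

end Cfsg.Agent.Invol.GW.Dihedral
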