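import Cfsg.Agent.Lib.Invol.GW.Dihedral.LocalsSeven
import Cfsg.Agent.Lib.Invol.GW.Dihedral.TwoClassPGL
import Cfsg.Agent.Lib.Classical.PSLFieldAut

/-!
# Gorenstein–Walter, dihedral of order eight: an element inverted by one reflection and fixed by the other

`H` contains `⟨t, τ⟩` and fuses `⟨t, σ * τ⟩`.  An element of `H` of order prime to six centralised by `t` and `τ`
and inverted by `σ * τ` lies in the core of `H`: modulo the core it is an element of `PSL₂(q)` with two commuting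
involutions of `PGL₂(q)` in its centraliser, or an element of order prime to three centralising an involution of `A₇`.
-/

set_option autoImplicit false
set_option linter.unusedSectionVars false
set_option linter.style.haveILetI false

namespace Cfsg.Agent.Invol.GW.Dihedral

open Subgroup Klein Cfsg.Agent.Classical Cfsg.Agent.Classical.PSLAut

universe u

variable {G : Type u} [Group G]

/-- Conjugation by the elements of `L` on the socle modulo the core. -/
theorem SocleData.exists_conjAut {L N : Subgroup G} {Q : Type} [Group Q] {π : ↥N →* Q} (hd : SocleData L N π) :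
    ∃ Θ : ↥L →* MulAut Q, (∀ (x : ↥L) (e : ↥N),
      Θ x (π e) = π ⟨(x : G) * e * (x : G)⁻¹, conj_mem_of_normalizer (hd.normal x.2) e.2⟩) ∧
      ∀ x : ↥L, Θ x = 1 → (x : G) ∈ oddOf L := by
  let c : ↥L → (↥N →* ↥N) := fun x =>
    (((MulAut.conj (x : G)).toMonoidHom.comp N.subtype).codRestrict N fun e =>
      conj_mem_of_normalizer (hd.normal x.2) e.2)
  have hker : ∀ x : ↥L, π.ker ≤ (π.comp (c x)).ker := fun x e he =>
    (hd.ker _).2 (conj_mem_oddOf x.2 ((hd.ker e).1 he))
  let A : ↥L → (Q →* Q) := fun x => π.liftOfSurjective hd.surj ⟨π.comp (c x), hker x⟩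
  have hA : ∀ x e, A x (π e) = π (c x e) := fun x e =>
    π.liftOfRightInverse_comp_apply _ _ ⟨π.comp (c x), hker x⟩ e
  have hmul : ∀ x y q, A (x * y) q = A x (A y q) := fun x y q => by
    obtain ⟨e, rfl⟩ := hd.surj q
    rw [hA, hA, hA]
    refine congrArg π (Subtype.ext ?_)
    show ((x : G) * y) * e * ((x : G) * y)⁻¹ = (x : G) * ((y : G) * e * (y : G)⁻¹) * (x : G)⁻¹
    group
  have hone : ∀ q, A 1 q = q := fun q => by
    obtain ⟨e, rfl⟩ := hd.surj q
    rw [hA]
    refine congrArg π (Subtype.ext ?_)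
    show ((1 : ↥L) : G) * e * ((1 : ↥L) : G)⁻¹ = e
    simp
  let Θ : ↥L →* MulAut Q :=
    { toFun := fun x =>
        { toFun := A x
          invFun := A x⁻¹
          left_inv := fun q => by rw [← hmul, inv_mul_cancel, hone]
          right_inv := fun q => by rw [← hmul, mul_inv_cancel, hone]
          map_mul' := map_mul _ }
      map_one' := MulEquiv.ext hone
      map_mul' := fun x y => MulEquiv.ext (hmul x y) }
  refine ⟨Θ, fun x e => hA x e, fun x hx => hd.self x x.2 fun y hy => ?_⟩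
  have h1 : π (c x ⟨y, hy⟩) = π ⟨y, hy⟩ := (hA x ⟨y, hy⟩).symm.trans (DFunLike.congr_fun hx (π ⟨y, hy⟩))
  rw [← mul_inv_eq_one, ← map_inv, ← map_mul, hd.ker] at h1
  exact h1

/-- An involutory automorphism of `PSL₂(q)` is inner-diagonal unless eight divides the order of the group. -/
theorem invol_mem_inndiag_or_eight_dvd {F : Type} [Field F] [Fintype F] (hodd : Odd (Fintype.card F))
    {α : MulAut (Matrix.ProjectiveSpecialLinearGroup (Fin 2) F)} (hα : α * α = 1) :
    α ∈ (inndiagHom 2 F).range ∨ 8 ∣ Nat.card (Matrix.ProjectiveSpecialLinearGroup (Fin 2) F) := by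
  obtain ⟨p, hp⟩ := CharP.exists F
  obtain ⟨f, hprime, hf⟩ := FiniteField.card F p
  haveI : Fact p.Prime := ⟨hprime⟩
  obtain ⟨g, φ, ε, -, hε, hrep⟩ := exists_rep (p := p) (le_refl 2) α
  rw [hε rfl, pow_zero, mul_one] at hrep
  by_cases hφ : φ = 1
  · exact Or.inl ⟨g, by rw [hrep, hφ]; rfl⟩
  right
  rw [hrep, pslSemi_mul', semi_eq_one_iff le_rfl] at hα
  have h2 : orderOf φ = 2 := orderOf_eq_prime (by rw [pow_two]; exact hα.1) hφ
  obtain ⟨-, hcard⟩ := card_ringAut (F := F) hf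
  obtain ⟨k, hk⟩ : 2 ∣ (f : ℕ) := hcard ▸ h2 ▸ orderOf_dvd_natCard φ
  by_contra h8
  have h1 := Klein.PSL.mod_eight hodd h8
  have hpo : Odd p := by
    rw [hf] at hodd
    exact (Nat.odd_pow_iff f.ne_zero).1 hodd
  obtain ⟨j, hj⟩ := hpo.pow (n := k)
  have hsq : Fintype.card F = (2 * j + 1) ^ 2 := by rw [hf, hk, mul_comm, pow_mul, hj]
  rw [hsq] at h1
  rcases Nat.even_or_odd' j with ⟨i, rfl | rfl⟩ <;> ring_nf at h1 <;> omega

namespace Hyp

variable [Finite G] {S : Sylow 2 G} {σ τ : G} {n : ℕ} (h : Hyp S σ τ n)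
include h

/-- A normal subgroup of order divisible by eight contains the involutions. -/
theorem mem_of_eight_dvd (hn : n = 3) {L N : Subgroup G} (hNL : N ≤ L) (hnorm : L ≤ normalizer (N : Set G))
    (h8 : 8 ∣ Nat.card ↥N) {w : G} (hw : w ∈ L) (hww : w * w = 1) : w ∈ N := by
  haveI : Fact (Nat.Prime 2) := ⟨Nat.prime_two⟩
  haveI : (N.subgroupOf L).Normal := normal_subgroupOf_of_le_normalizer hnorm
  have h1 := (N.subgroupOf L).pow_index_mem ⟨w, hw⟩
  obtain ⟨k, hk⟩ : Odd (N.subgroupOf L).index := by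
    refine Nat.not_even_iff_odd.1 fun he => ?_
    have h16 : 2 ^ 4 ∣ Nat.card G := by
      refine dvd_trans ?_ (card_subgroup_dvd_card L)
      rw [← (N.subgroupOf L).card_mul_index, Nat.card_congr (subgroupOfEquivOfLe hNL).toEquiv]
      exact (mul_dvd_mul h8 he.two_dvd : 8 * 2 ∣ _)
    obtain ⟨K, hK⟩ := Sylow.exists_subgroup_card_pow_prime 2 h16
    obtain ⟨T, hT⟩ := (IsPGroup.of_card hK).exists_le_sylow
    have h2 := card_dvd_of_le hT
    rw [hK, Nat.card_congr (T.equiv S).toEquiv, h.card_sylow, hn] at h2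
    exact absurd h2 (by norm_num)
  rw [hk, pow_succ, pow_mul] at h1
  simpa [mem_subgroupOf, pow_two, hww] using h1

/-- An element centralised by `t` and `τ` and inverted by `σ * τ`, of order prime to six, lies in the core. -/
theorem mem_oddOf_of_commute (hn : n = 3) {H : Subgroup G} (hH : H ≠ ⊤)
    (hV : four (central σ n) (σ * τ) ≤ H) (hf : Fuses H (central σ n) (σ * τ)) (hτ : τ ∈ H) {x : G} (hx : x ∈ H)
    (hxt : Commute x (central σ n)) (hxτ : Commute x τ) (hinv : σ * τ * x * (σ * τ)⁻¹ = x⁻¹)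
    (hx6 : (orderOf x).Coprime 6) : x ∈ oddOf H := by
  classical
  have hx2 : (orderOf x).Coprime 2 := hx6.coprime_dvd_right (by norm_num)
  have hxo : Odd (orderOf x) := Nat.coprime_two_right.1 hx2
  -- a normal subgroup over the four group contains `x`
  have hmem : ∀ N : Subgroup G, H ≤ normalizer (N : Set G) → four (central σ n) (σ * τ) ≤ N → x ∈ N := by
    intro N hnorm hVN
    have hwN : σ * τ ∈ N := hVN (right_mem_four _ _)
    have h1 : σ * τ * x * (σ * τ)⁻¹ * x⁻¹ ∈ N := by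
      rw [show σ * τ * x * (σ * τ)⁻¹ * x⁻¹ = σ * τ * (x * (σ * τ)⁻¹ * x⁻¹) by group]
      exact mul_mem hwN (conj_mem_of_normalizer (hnorm hx) (inv_mem hwN))
    rw [hinv, ← mul_inv_rev, inv_mem_iff, ← pow_two] at h1
    obtain ⟨k, hk⟩ := exists_pow_eq_self_of_coprime (x := x) hx2.symm
    exact hk ▸ pow_mem h1 k
  have ht1 : central σ n ∉ oddOf H := fun e => h.central_ne_one (h.eq_one_of_mem_oddOf (left_mem_four _ _) e)
  have htH : central σ n ∈ H := hV (left_mem_four _ _)
  obtain ⟨N, hN⟩ := h.symm.exists_socle hH hV hf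
  rcases hN with ⟨π, hd⟩ | ⟨F, _, _, hodd, h3, π, hd⟩
  · have hVN : four (central σ n) (σ * τ) ≤ N := h.symm.four_le_of_fuses hV hf hd.le hd.normal
      (Dvd.dvd.trans (by rw [nat_card_alternatingGroup]; simp only [Nat.card_eq_fintype_card, Fintype.card_fin]; decide)
        (Subgroup.card_dvd_of_surjective π hd.surj))
    have hxN := hmem N hd.normal hVN
    set xN : ↥N := ⟨x, hxN⟩
    set tN : ↥N := ⟨central σ n, hVN (left_mem_four _ _)⟩
    obtain ⟨g, hg⟩ := exists_conj_sevenT (x := (π tN : Equiv.Perm (Fin 7))) (π tN).2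
      (congrArg Subtype.val (show π tN * π tN = 1 by
        rw [← map_mul, show tN * tN = 1 from Subtype.ext h.central_mul_self, map_one]))
      (fun e => ht1 ((hd.ker tN).1 (Subtype.ext e)))
    set c : Equiv.Perm (Fin 7) := g * (π xN : Equiv.Perm (Fin 7)) * g⁻¹ with hc
    have hcomm : c * sevenT = sevenT * c := by
      have h1 : Commute (π xN : Equiv.Perm (Fin 7)) (π tN : Equiv.Perm (Fin 7)) :=
        congrArg Subtype.val (show π xN * π tN = π tN * π xN from
          ((show Commute xN tN from Subtype.ext hxt.eq).map π).eq)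
      have h2 := h1.conj g
      rw [hg] at h2
      exact h2.eq
    obtain ⟨h12, -, -⟩ := seven_facts c hcomm
    have h1 : orderOf c ∣ 12 := orderOf_dvd_of_pow_eq_one (by simpa [pow_succ, mul_assoc] using h12)
    have h2 : orderOf c ∣ orderOf x := by
      refine orderOf_dvd_of_pow_eq_one ?_
      rw [hc, conj_pow, ← SubgroupClass.coe_pow, ← map_pow,
        show xN ^ orderOf x = 1 from Subtype.ext (pow_orderOf_eq_one x), map_one, OneMemClass.coe_one, mul_one,
        mul_inv_cancel]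
    have hc12 : (orderOf x).Coprime 12 := by
      rw [show (12 : ℕ) = 2 * 6 from rfl]
      exact hx2.mul_right hx6
    have hc1 : c = 1 := orderOf_eq_one_iff.1 (Nat.eq_one_of_dvd_coprimes hc12 h2 h1)
    exact (hd.ker xN).1 (Subtype.ext (conj_eq_one_iff.1 hc1))
  · obtain ⟨Θ, hΘ, hker⟩ := hd.exists_conjAut
    have hVN : four (central σ n) (σ * τ) ≤ N := h.symm.four_le_of_fuses hV hf hd.le hd.normal
      (Dvd.dvd.trans (by
        obtain ⟨k, hk⟩ := hodd
        have h1 := Klein.PSL.card_mul (F := F) ⟨k, hk⟩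
        rw [hk, Nat.add_sub_cancel] at h1
        exact ⟨(2 * k + 1) * (k * (k + 1)), Nat.eq_of_mul_eq_mul_left two_pos (h1.trans (by ring))⟩)
        (Subgroup.card_dvd_of_surjective π hd.surj))
    have hxN := hmem N hd.normal hVN
    have hinner : ∀ y : ↥H, (y : G) ∈ N → Θ y ∈ (inndiagHom 2 F).range := by
      intro y hy
      rw [← inndiagPSL_eq]
      refine inn_le_inndiag ⟨π ⟨y, hy⟩, MulEquiv.ext fun q => ?_⟩
      obtain ⟨e, rfl⟩ := hd.surj q
      rw [hΘ, MulAut.conj_apply, ← map_inv, ← map_mul, ← map_mul]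
      rfl
    have hτ2 : Θ ⟨τ, hτ⟩ * Θ ⟨τ, hτ⟩ = 1 := by
      rw [← map_mul, show (⟨τ, hτ⟩ : ↥H) * ⟨τ, hτ⟩ = 1 from Subtype.ext h.tau_mul_self, map_one]
    have hτr : Θ ⟨τ, hτ⟩ ∈ (inndiagHom 2 F).range := by
      rcases invol_mem_inndiag_or_eight_dvd hodd hτ2 with e | e
      · exact e
      · exact hinner _ (h.mem_of_eight_dvd hn hd.le hd.normal
          (e.trans (Subgroup.card_dvd_of_surjective π hd.surj)) hτ h.tau_mul_self)
    by_contra hxO
    have ht2 : Θ ⟨_, htH⟩ * Θ ⟨_, htH⟩ = 1 := by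
      rw [← map_mul, show (⟨_, htH⟩ : ↥H) * ⟨_, htH⟩ = 1 from Subtype.ext h.central_mul_self, map_one]
    have heq : Θ ⟨_, htH⟩ = Θ ⟨τ, hτ⟩ := PGL.invol_unique hodd (x := Θ ⟨x, hx⟩) (hinner _ hxN)
      (hxo.of_dvd_nat (by rw [← Subgroup.orderOf_mk x hx]; exact orderOf_map_dvd Θ _))
      (fun e => hxO (hker _ e)) (hinner _ (hVN (left_mem_four _ _))) hτr
      (fun e => ht1 (hker _ e)) ht2
      (fun e => h.tau_ne_one (h.eq_one_of_mem_oddOf (right_mem_four _ _) (hker _ e))) hτ2
      ((show Commute (⟨_, htH⟩ : ↥H) ⟨x, hx⟩ from Subtype.ext hxt.symm.eq).map Θ)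
      ((show Commute (⟨τ, hτ⟩ : ↥H) ⟨x, hx⟩ from Subtype.ext hxτ.symm.eq).map Θ)
    refine h.central_mul_tau_ne (h.eq_one_of_mem_oddOf (mul_mem (left_mem_four _ _) (right_mem_four _ _))
      (hker (⟨_, htH⟩ * ⟨τ, hτ⟩) ?_))
    rw [map_mul, heq, hτ2]

end Hyp

end Cfsg.Agent.Invol.GW.Dihedral
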