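import Cfsg.Agent.Lib.Invol.GW.Dihedral.Leaf
import Cfsg.Agent.Lib.Invol.GW.Dihedral.LocalsNormal
import Cfsg.Agent.Lib.Invol.GW.Dihedral.BadPrimeSocle

/-!
# Gorenstein–Walter, dihedral, maximal centraliser: only the prime three can be bad

`τ` centralises an invariant Sylow `l`-subgroup `Q` of `U` and `σ * τ` does not.  The conjugates of `t` under
`N(Q)` lie in `⟨t, τ⟩`, so for `l ≠ 3` `Q` is a Sylow subgroup of the group and every `l`-group is centralised by an
involution.  Then `σ * τ` does not invert `Q` (the centraliser of `Q` would fuse `⟨t, τ⟩`), the centraliser of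
`P = Q ⊓ R₁` fuses `⟨t, σ * τ⟩`, and an element of `Q ⊓ C(P)` inverted by `σ * τ` lies in its core, hence in `R₁`.
-/

set_option autoImplicit false
set_option linter.unusedSectionVars false
set_option linter.style.haveILetI false

namespace Cfsg.Agent.Invol.GW.Dihedral

open Subgroup Klein
open scoped Pointwise

universe u

variable {G : Type u} [Group G]

namespace Hyp

variable [Finite G] {S : Sylow 2 G} {σ τ : G} {n : ℕ} (h : Hyp S σ τ n)
include h

theorem conj_tau_of_three (hn : n = 3) : σ * τ * τ * (σ * τ)⁻¹ = central σ n * τ := by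
  have h1 := h.conj_rotation 0 1
  rw [zpow_zero, one_mul, zpow_one] at h1
  calc σ * τ * τ * (σ * τ)⁻¹ = σ * τ * σ⁻¹ := by group
    _ = σ ^ (0 + 2 * 1 : ℤ) * τ := h1
    _ = central σ n * τ := by rw [central, hn]; norm_num [zpow_ofNat]

/-- LEAF in general form: the centraliser of a Sylow subgroup of `R` fuses. -/
theorem fuses_centralizer_of_involCentral {l : ℕ} [Fact l.Prime] (hI : InvolCentral G l)
    (hno : ∀ Q : Subgroup G, Grp.IsSylowIn l Q (coreCent (central σ n)) → ¬ Q ≤ fixR (central σ n) τ)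
    {P : Subgroup G} (hP : Grp.IsSylowIn l P (fixR (central σ n) τ)) (hP1 : P ≠ ⊥) :
    Fuses (centralizer (P : Set G)) (central σ n) τ := by
  set V := four (central σ n) τ
  have hVP : V ≤ centralizer (P : Set G) := h.four_le_centralizer_of_le_fixR hP.1
  have hVN : V ≤ normalizer (P : Set G) := hVP.trans (centralizer_le_normalizer _)
  obtain ⟨g, -, hgt, hgu⟩ := h.exists_fuse
  have hgR := h.normalizer_four_le_normalizer_fixR (h.fuse_mem_normalizer hgt hgu)
  obtain ⟨c, hc, hcP⟩ := (hP.smul (Grp.mem_normalizer_iff_smul.1 hgR)).conj hP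
  have hcv : ∀ v ∈ V, c * v * c⁻¹ = v := fun v hv => by
    rw [(h.commute_of_mem_fixR hc hv).eq, mul_inv_cancel_right]
  have hf : Fuses (normalizer (P : Set G)) (central σ n) τ := by
    refine ⟨c * g, ?_, ?_, ?_⟩
    · rw [Grp.mem_normalizer_iff_smul, ← Grp.conj_smul_conj_smul]
      exact hcP
    · rw [show c * g * central σ n * (c * g)⁻¹ = c * (g * central σ n * g⁻¹) * c⁻¹ by group, hgt,
        hcv _ (right_mem_four _ _)]
    · rw [show c * g * τ * (c * g)⁻¹ = c * (g * τ * g⁻¹) * c⁻¹ by group, hgu,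
        hcv _ (mul_mem (left_mem_four _ _) (right_mem_four _ _))]
  have hPC : P ≤ centralizer ({central σ n} : Set G) := hP.1.trans (inf_le_left.trans h.coreCent_le)
  have hNc : normalizer (P : Set G) ≤ normalizer (centralizer (P : Set G) : Set G) := fun k hk => by
    refine mem_normalizer_fintype fun x hx => mem_centralizer_iff.2 fun y hy => ?_
    exact (commute_conj_of (fun z hz => (mem_centralizer_iff.1 hx z hz).symm) hk y hy).eq.symm
  rcases h.normalFusion _ _ (h.normalizer_ne_top hP1 hPC) hVP (centralizer_le_normalizer _) hNc hf with hk | hk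
  · exact hk
  exfalso
  obtain ⟨Q, hQ, hQV, hPQ⟩ := Grp.exists_invariant_sylow_ge V (coreCent (central σ n))
    h.four_le_normalizer_coreCent (h.coprime_four h.odd_coreCent) (Or.inr h.isSolvable_coreCent)
    (hP.1.trans inf_le_left) hP.2.1 hVN
  have hlt : P < Q := lt_of_le_of_ne hPQ fun e => hno Q hQ (e ▸ hP.1)
  refine not_inf_normalizer_le hQ.2.1 hlt ?_
  set T0 := Q ⊓ normalizer (P : Set G)
  have hT0V : V ≤ normalizer (T0 : Set G) := fun v hv => by
    rw [Grp.mem_normalizer_iff_smul, Subgroup.smul_inf, Grp.mem_normalizer_iff_smul.1 (hQV hv),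
      Grp.conj_smul_eq_self_of_mem (hVN hv)]
  have hT0O : T0 ≤ oddOf (normalizer (P : Set G)) := (le_inf (inf_le_left.trans hQ.1) inf_le_right).trans hk
  obtain ⟨T, hT, hTV, hT0T⟩ := Grp.exists_invariant_sylow_ge V _ (hVN.trans (le_normalizer_oddOf _))
    (h.coprime_four (odd_card_oddOf _)) (Or.inr (isSolvable_of_odd (odd_card_oddOf _))) hT0O
    (hQ.2.1.to_le inf_le_left) hT0V
  have hTR := hT0T.trans (h.sylow_core_le_fixR hI hVN hf hT hTV)
  exact (hP.eq_of_le (le_inf hPQ le_normalizer) hTR (hQ.2.1.to_le inf_le_left)).ge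

/-! ## An invariant Sylow subgroup centralised by `τ` -/

variable {l : ℕ} [Fact l.Prime] {Q : Subgroup G} (hQ : Grp.IsSylowIn l Q (coreCent (central σ n)))
include hQ

theorem le_fixR_of_centralizes (hτQ : ∀ y ∈ Q, Commute τ y) : Q ≤ fixR (central σ n) τ :=
  fun y hy => h.mem_fixR.2 ⟨hQ.1 hy, (hτQ y hy).symm⟩

theorem exists_fuse_normalizer (hτQ : ∀ y ∈ Q, Commute τ y) :
    Fuses (normalizer (Q : Set G)) (central σ n) τ := by
  set R := fixR (central σ n) τ
  have hQR : Q ≤ R := h.le_fixR_of_centralizes hQ hτQ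
  have hQ' : Grp.IsSylowIn l Q R := ⟨hQR, hQ.2.1, fun hd => hQ.2.2 (hd.trans
    ⟨_, (relIndex_mul_relIndex Q R (coreCent (central σ n)) hQR inf_le_left).symm⟩)⟩
  obtain ⟨g, -, hgt, hgu⟩ := h.exists_fuse
  have hgR := h.normalizer_four_le_normalizer_fixR (h.fuse_mem_normalizer hgt hgu)
  obtain ⟨c, hc, hcQ⟩ := (hQ'.smul (Grp.mem_normalizer_iff_smul.1 hgR)).conj hQ'
  have hcv : ∀ v ∈ four (central σ n) τ, c * v * c⁻¹ = v := fun v hv => by
    rw [(h.commute_of_mem_fixR hc hv).eq, mul_inv_cancel_right]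
  refine ⟨c * g, ?_, ?_, ?_⟩
  · rw [Grp.mem_normalizer_iff_smul, ← Grp.conj_smul_conj_smul]
    exact hcQ
  · rw [show c * g * central σ n * (c * g)⁻¹ = c * (g * central σ n * g⁻¹) * c⁻¹ by group, hgt,
      hcv _ (right_mem_four _ _)]
  · rw [show c * g * τ * (c * g)⁻¹ = c * (g * τ * g⁻¹) * c⁻¹ by group, hgu,
      hcv _ (mul_mem (left_mem_four _ _) (right_mem_four _ _))]

theorem not_le_fixR_symm (hQS : (S : Subgroup G) ≤ normalizer (Q : Set G))
    (hστ : ¬ ∀ y ∈ Q, Commute (σ * τ) y) {Q' : Subgroup G}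
    (hQ' : Grp.IsSylowIn l Q' (coreCent (central σ n))) : ¬ Q' ≤ fixR (central σ n) (σ * τ) := fun hR => hστ (by
  obtain ⟨c, ⟨-, hcV⟩, hcQ⟩ := Grp.invariant_sylow_conj (four (central σ n) (σ * τ)) (coreCent (central σ n))
    h.symm.four_le_normalizer_coreCent (h.symm.coprime_four h.odd_coreCent) (Or.inr h.isSolvable_coreCent) hQ' hQ
    ((h.symm.four_le_centralizer_of_le_fixR hR).trans (centralizer_le_normalizer _))
    (h.symm.four_le_sylow.trans hQS)
  intro y hy
  rw [← hcQ] at hy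
  obtain ⟨q, hq, rfl⟩ := hy
  have h1 := (h.symm.mem_fixR.1 (hR hq)).2.symm.conj c
  rwa [show c * (σ * τ) * c⁻¹ = σ * τ by
    rw [← mem_centralizer_iff.1 hcV _ (right_mem_four _ _), mul_inv_cancel_right]] at h1)

variable (hC : IsCoatom (centralizer ({central σ n} : Set G))) (hY : opOf l (coreCent (central σ n)) ≠ ⊥)
  (hQS : (S : Subgroup G) ≤ normalizer (Q : Set G)) (hτQ : ∀ y ∈ Q, Commute τ y)
include hC hY hQS hτQ

/-- The conjugates of `t` under the normaliser of `Q` lie in `⟨t, τ⟩`. -/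
theorem conj_central_mem_four {g : G} (hg : g ∈ normalizer (Q : Set G)) :
    g * central σ n * g⁻¹ ∈ four (central σ n) τ := by
  set t := central σ n with ht
  set t' := g * t * g⁻¹ with ht'
  have hcl : ∀ x : G, (∀ y ∈ Q, Commute x y) → Commute x t := fun x hx =>
    mem_centralizer_singleton_iff.1 (h.centralizer_le_central hC hY hQ
      (mem_centralizer_iff.2 fun y hy => (hx y hy).eq.symm))
  have hcom : ∀ x : G, (∀ y ∈ Q, Commute x y) → Commute t' x := fun x hx => by
    have h1 := (hcl _ (commute_conj_of hx (inv_mem hg))).symm.conj g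
    rwa [show g * (g⁻¹ * x * g⁻¹⁻¹) * g⁻¹ = x by group] at h1
  have htQ : ∀ y ∈ Q, Commute t y := fun y hy => (h.commute_central (hQ.1 hy)).symm
  set P0 := (S : Subgroup G) ⊓ centralizer (Q : Set G) with hP0
  have hmemP0 : ∀ {x : G}, x ∈ (S : Subgroup G) → (∀ y ∈ Q, Commute x y) → x ∈ P0 := fun hx hc =>
    ⟨hx, mem_centralizer_iff.2 fun y hy => (hc y hy).eq.symm⟩
  have hzP : zpowers t' ≤ normalizer (P0 : Set G) := (zpowers_le.2 (mem_centralizer_iff.2 fun x hx =>
    (hcom x (fun y hy => (mem_centralizer_iff.1 hx.2 y hy).symm)).eq.symm :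
    t' ∈ centralizer (P0 : Set G))).trans (centralizer_le_normalizer _)
  have ht'2 : IsPGroup 2 (zpowers t') := isPGroup_zpowers (n := 1) (by
    rw [ht', orderOf_conj, ht, h.orderOf_central, pow_one])
  have hD : IsPGroup 2 (zpowers t' ⊔ P0 : Subgroup G) :=
    ht'2.to_sup_of_normal_right' (S.isPGroup'.to_le inf_le_left) hzP
  have hV : four t τ ≤ zpowers t' ⊔ P0 :=
    Dihedral.four_le (mem_sup_right (hmemP0 h.central_mem htQ)) (mem_sup_right (hmemP0 h.hτ hτQ))
  exact h.mem_four_of_commute hD hV (mem_sup_left (mem_zpowers t')) (hcom t htQ) (hcom τ hτQ)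

/-- An element of `l`-power order normalising `Q` centralises `t`, unless `l = 3`. -/
theorem commute_central_of_normalizes (hl : l ≠ 3) {x : G} (hx : x ∈ normalizer (Q : Set G))
    (hxl : ∃ k, x ^ l ^ k = 1) : Commute x (central σ n) := by
  set t := central σ n with ht
  have hp : l.Prime := Fact.out
  have hlo := h.odd_prime hC hY
  have h4 : ∀ i : ℕ, x ^ i * t * (x ^ i)⁻¹ = t ∨ x ^ i * t * (x ^ i)⁻¹ = τ ∨ x ^ i * t * (x ^ i)⁻¹ = t * τ := by
    intro i
    rcases h.mem_four_tau.1 (h.conj_central_mem_four hQ hC hY hQS hτQ (pow_mem hx i)) with e | e | e | e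
    · exact absurd (conj_eq_one_iff.1 e) h.central_ne_one
    exacts [Or.inl e, Or.inr (Or.inl e), Or.inr (Or.inr e)]
  suffices hex : ∃ k, 0 < k ∧ k < 4 ∧ x ^ k ∈ centralizer ({t} : Set G) by
    obtain ⟨k, hk0, hk4, hk⟩ := hex
    obtain ⟨j, hj⟩ := hxl
    have hcop : k.Coprime (orderOf x) := by
      refine Nat.Coprime.coprime_dvd_right (orderOf_dvd_of_pow_eq_one hj) (Nat.Coprime.pow_right j ?_)
      refine ((hp.coprime_iff_not_dvd).2 fun hd => ?_).symm
      have h2 := Nat.le_of_dvd hk0 hd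
      have h3 := hp.two_le
      obtain ⟨i, rfl⟩ := hlo
      omega
    obtain ⟨i, hi⟩ := exists_pow_eq_self_of_coprime hcop
    exact mem_centralizer_singleton_iff.1 (hi ▸ pow_mem hk i)
  have hdiff : ∀ i j : ℕ, i < j → x ^ i * t * (x ^ i)⁻¹ = x ^ j * t * (x ^ j)⁻¹ →
      x ^ (j - i) ∈ centralizer ({t} : Set G) := by
    intro i j hij e
    refine mem_centralizer_singleton_iff.2 (mul_inv_eq_iff_eq_mul.1 ?_)
    rw [show x ^ j = x ^ i * x ^ (j - i) by rw [← pow_add, Nat.add_sub_cancel' hij.le]] at e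
    calc x ^ (j - i) * t * (x ^ (j - i))⁻¹
        = (x ^ i)⁻¹ * (x ^ i * x ^ (j - i) * t * (x ^ i * x ^ (j - i))⁻¹) * x ^ i := by group
      _ = t := by rw [← e]; group
  have h0 : x ^ 0 * t * (x ^ 0)⁻¹ = t := by simp
  rcases h4 1 with e1 | e1 | e1
  · exact ⟨1, one_pos, by norm_num, hdiff 0 1 one_pos (h0.trans e1.symm)⟩
  all_goals
    rcases h4 2 with e2 | e2 | e2
    all_goals
      first
        | exact ⟨2, two_pos, by norm_num, hdiff 0 2 two_pos (h0.trans e2.symm)⟩
        | exact ⟨1, one_pos, by norm_num, hdiff 1 2 (by norm_num) (e1.trans e2.symm)⟩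
        | rcases h4 3 with e3 | e3 | e3 <;>
            first
              | exact ⟨3, by norm_num, by norm_num, hdiff 0 3 (by norm_num) (h0.trans e3.symm)⟩
              | exact ⟨2, two_pos, by norm_num, hdiff 1 3 (by norm_num) (e1.trans e3.symm)⟩
              | exact ⟨1, one_pos, by norm_num, hdiff 2 3 (by norm_num) (e2.trans e3.symm)⟩

/-- Away from three every `l`-group is centralised by an involution. -/
theorem involCentral_of_centralizes (hl : l ≠ 3) : InvolCentral G l := by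
  obtain ⟨P, hP⟩ := hQ.2.1.exists_le_sylow
  have hPQ : (P : Subgroup G) = Q := by
    refine le_antisymm ?_ hP
    by_contra hne
    have hlt : Q < (P : Subgroup G) := lt_of_le_of_ne hP fun e => hne e.ge
    refine not_inf_normalizer_le P.isPGroup' hlt fun x hx => ?_
    obtain ⟨k, hk⟩ := P.isPGroup' ⟨x, hx.1⟩
    have hxk : x ^ l ^ k = 1 := congrArg Subtype.val hk
    have hxU := h.mem_coreCent_of_odd (h.commute_central_of_normalizes hQ hC hY hQS hτQ hl hx.2 ⟨k, hxk⟩)
      (Odd.of_dvd_nat ((h.odd_prime hC hY).pow (n := k)) (orderOf_dvd_of_pow_eq_one hxk))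
    have heq := hQ.eq_of_le (Y := Q ⊔ zpowers x) le_sup_left (sup_le hQ.1 (zpowers_le.2 hxU))
      (P.isPGroup'.to_le (sup_le hP (zpowers_le.2 hx.1)))
    exact heq.ge (mem_sup_right (mem_zpowers x))
  intro T hT
  obtain ⟨P', hP'⟩ := hT.exists_le_sylow
  obtain ⟨g, hg⟩ := MulAction.exists_smul_eq G P P'
  refine ⟨g * central σ n * g⁻¹, (orderOf_conj g _).trans h.orderOf_central, fun y hy => ?_⟩
  have hy' := hP' hy
  rw [← hg, Sylow.coe_subgroup_smul, hPQ] at hy'
  obtain ⟨q, hq, rfl⟩ := hy'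
  exact (h.commute_central (hQ.1 hq)).symm.conj g

/-- Only three is bad. -/
theorem eq_three (hn : n = 3) (hστ : ¬ ∀ y ∈ Q, Commute (σ * τ) y) : l = 3 := by
  by_contra hl
  set t := central σ n with ht
  set w := σ * τ with hw
  set V₁ := four t w
  have hw2 : w * w = 1 := h.symm.tau_mul_self
  have hwi : w⁻¹ = w := inv_eq_of_mul_eq_one_right hw2
  have hwN : w ∈ normalizer (Q : Set G) := hQS (h.symm.hτ)
  have hI := h.involCentral_of_centralizes hQ hC hY hQS hτQ hl
  have hno : ∀ Q' : Subgroup G, Grp.IsSylowIn l Q' (coreCent t) → ¬ Q' ≤ fixR t w := fun Q' hQ' =>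
    h.not_le_fixR_symm hQ hQS hστ hQ'
  -- a Sylow subgroup of `R₁` inside `Q`
  obtain ⟨P₀, hP₀⟩ := Grp.exists_isSylowIn l (fixR t w)
  obtain ⟨Q₀, hQ₀, hQ₀V, hPQ₀⟩ := Grp.exists_invariant_sylow_ge V₁ (coreCent t)
    h.symm.four_le_normalizer_coreCent (h.symm.coprime_four h.odd_coreCent) (Or.inr h.isSolvable_coreCent)
    (hP₀.1.trans inf_le_left) hP₀.2.1
    ((h.symm.four_le_centralizer_of_le_fixR hP₀.1).trans (centralizer_le_normalizer _))
  obtain ⟨c, ⟨hcU, hcV⟩, hcQ⟩ := Grp.invariant_sylow_conj V₁ (coreCent t)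
    h.symm.four_le_normalizer_coreCent (h.symm.coprime_four h.odd_coreCent) (Or.inr h.isSolvable_coreCent) hQ₀ hQ
    hQ₀V (h.symm.four_le_sylow.trans hQS)
  have hcR : c ∈ fixR t w := h.symm.mem_fixR.2 ⟨hcU, (mem_centralizer_iff.1 hcV w (right_mem_four _ _)).symm⟩
  set P := MulAut.conj c • P₀
  have hP : Grp.IsSylowIn l P (fixR t w) := hP₀.smul (Grp.conj_smul_eq_self_of_mem hcR)
  have hPQ : P ≤ Q := hcQ ▸ (Subgroup.pointwise_smul_le_pointwise_smul_iff.2 hPQ₀)
  have hPw : ∀ y ∈ P, Commute y w := fun y hy => (h.symm.mem_fixR.1 (hP.1 hy)).2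
  by_cases hP1 : P = ⊥
  · -- `w` inverts `Q`
    have hfix : ∀ y ∈ Q, Commute y w → y = 1 := fun y hy hyw => by
      have hyR : y ∈ fixR t w := h.symm.mem_fixR.2 ⟨hQ.1 hy, hyw⟩
      have heq := hP.eq_of_le (Y := zpowers y) (hP1 ▸ bot_le) (zpowers_le.2 hyR)
        (hQ.2.1.to_le (zpowers_le.2 hy))
      have hy' : y ∈ P := heq.ge (mem_zpowers y)
      rwa [hP1, mem_bot] at hy'
    let f : ↥Q → ↥Q := fun y => ⟨(y : G)⁻¹ * (w * y * w⁻¹),
      mul_mem (inv_mem y.2) (conj_mem_of_normalizer hwN y.2)⟩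
    have hf : Function.Injective f := fun a b e => by
      have e1 : (a : G)⁻¹ * (w * a * w⁻¹) = (b : G)⁻¹ * (w * b * w⁻¹) := congrArg Subtype.val e
      have e2 : (b : G) * (a : G)⁻¹ = w * ((b : G) * (a : G)⁻¹) * w⁻¹ := by
        calc (b : G) * (a : G)⁻¹ = (b : G) * ((a : G)⁻¹ * (w * a * w⁻¹)) * (w * a * w⁻¹)⁻¹ := by group
          _ = _ := by rw [e1]; group
      have := hfix _ (mul_mem b.2 (inv_mem a.2)) (mul_inv_eq_iff_eq_mul.1 e2.symm).symm
      exact Subtype.ext (mul_inv_eq_one.1 this).symm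
    have hinv : ∀ y ∈ Q, w * y * w⁻¹ = y⁻¹ := fun y hy => by
      obtain ⟨z, hz⟩ := Finite.injective_iff_surjective.1 hf ⟨y, hy⟩
      have hz' : (z : G)⁻¹ * (w * z * w⁻¹) = y := congrArg Subtype.val hz
      rw [← hz', show w * ((z : G)⁻¹ * (w * z * w⁻¹)) * w⁻¹ = (w * z * w⁻¹)⁻¹ * (w * w * z * (w * w)⁻¹) by group,
        hw2]
      group
    obtain ⟨g, hg, hgt, hgu⟩ := h.exists_fuse_normalizer hQ hτQ
    set k := g * w * g⁻¹ * w⁻¹ with hk
    refine h.not_fuses_of_le (L := centralizer (Q : Set G)) (h.centralizer_le_central hC hY hQ)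
      ⟨k⁻¹, inv_mem (mem_centralizer_iff.2 fun y hy => ?_), ?_, ?_⟩
    · refine (mul_inv_eq_iff_eq_mul.1 ?_).symm
      have h1 : g⁻¹ * y⁻¹ * g ∈ Q := by simpa using conj_mem_of_normalizer (inv_mem hg) (inv_mem hy)
      calc k * y * k⁻¹ = g * (w * (g⁻¹ * (w⁻¹ * y * w) * g) * w⁻¹) * g⁻¹ := by rw [hk]; group
        _ = g * (w * (g⁻¹ * y⁻¹ * g) * w⁻¹) * g⁻¹ := by
          rw [show w⁻¹ * y * w = w * y * w⁻¹ by rw [hwi], hinv y hy]
        _ = y := by rw [hinv _ h1]; group
    all_goals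
      have hwτ : w * τ * w⁻¹ = t * τ := h.conj_tau_of_three hn
      have hwt : w * t * w⁻¹ = t := by
        rw [← (h.central_commute (h.symm.hτ)).eq, mul_inv_cancel_right]
      have hwtτ : w * (t * τ) * w⁻¹ = τ := by
        rw [show w * (t * τ) * w⁻¹ = (w * t * w⁻¹) * (w * τ * w⁻¹) by group, hwt, hwτ, ← mul_assoc,
          h.central_mul_self, one_mul]
      have hg3 : g * (t * τ) * g⁻¹ = t := by
        rw [show g * (t * τ) * g⁻¹ = (g * t * g⁻¹) * (g * τ * g⁻¹) by group, hgt, hgu,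
          ← mul_assoc, ← h.commute_central_tau.eq, mul_assoc, h.tau_mul_self, mul_one]
      have e1 : k * τ * k⁻¹ = t := by
        calc k * τ * k⁻¹ = g * (w * (g⁻¹ * (w⁻¹ * τ * w) * g) * w⁻¹) * g⁻¹ := by rw [hk]; group
          _ = g * (w * (g⁻¹ * (g * τ * g⁻¹) * g) * w⁻¹) * g⁻¹ := by
            rw [show w⁻¹ * τ * w = w * τ * w⁻¹ by rw [hwi], hwτ, hgu]
          _ = g * (w * τ * w⁻¹) * g⁻¹ := by group
          _ = t := by rw [hwτ, hg3]
    · calc k⁻¹ * t * k⁻¹⁻¹ = k⁻¹ * (k * τ * k⁻¹) * k := by rw [e1, inv_inv]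
        _ = τ := by group
    · have e2 : k * t * k⁻¹ = t * τ := by
        calc k * t * k⁻¹ = g * (w * (g⁻¹ * (w⁻¹ * t * w) * g) * w⁻¹) * g⁻¹ := by rw [hk]; group
          _ = g * (w * (g⁻¹ * (g * (t * τ) * g⁻¹) * g) * w⁻¹) * g⁻¹ := by
            rw [show w⁻¹ * t * w = w * t * w⁻¹ by rw [hwi], hwt, hg3]
          _ = g * (w * (t * τ) * w⁻¹) * g⁻¹ := by group
          _ = t * τ := by rw [hwtτ, hgu]
      have e3 : k * (t * τ) * k⁻¹ = τ := by
        calc k * (t * τ) * k⁻¹ = (k * t * k⁻¹) * (k * τ * k⁻¹) := by group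
          _ = τ := by
            rw [e1, e2, mul_assoc, ← h.commute_central_tau.eq, ← mul_assoc, h.central_mul_self, one_mul]
      calc k⁻¹ * τ * k⁻¹⁻¹ = k⁻¹ * (k * (t * τ) * k⁻¹) * k := by rw [e3, inv_inv]
        _ = t * τ := by group
  · -- `P` is moved in its centraliser
    set H := centralizer (P : Set G)
    have hwH : w ∈ H := mem_centralizer_iff.2 fun y hy => (hPw y hy).eq
    have hVH : V₁ ≤ H := h.symm.four_le_centralizer_of_le_fixR hP.1
    have hτH : τ ∈ H := mem_centralizer_iff.2 fun y hy => (hτQ y (hPQ hy)).eq.symm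
    obtain ⟨y, hy, hyw⟩ : ∃ y ∈ Q ⊓ H, ¬ Commute y w := by
      by_contra hno'
      push Not at hno'
      refine hστ fun y hy => ?_
      have hlo := h.odd_prime hC hY
      have h1 := Grp.thompson_PQ (p := l) P (zpowers w) hP.2.1 (by
          rw [Nat.card_zpowers, h.symm.orderτ]; exact Nat.coprime_two_left.2 hlo)
        (fun z hz => mem_centralizer_iff.2 fun v hv => by
          obtain ⟨i, rfl⟩ := mem_zpowers_iff.1 hv
          exact ((hPw z hz).symm.zpow_left i).eq)
        Q hQ.2.1 (hPQ.trans le_normalizer) (zpowers_le.2 hwN)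
        (fun z hz => mem_centralizer_iff.2 fun v hv => by
          obtain ⟨i, rfl⟩ := mem_zpowers_iff.1 hv
          exact ((hno' z hz).symm.zpow_left i).eq)
      exact (mem_centralizer_iff.1 (h1 (mem_zpowers w)) y hy).symm
    set x := y⁻¹ * (w * y * w⁻¹) with hx
    have hxQ : x ∈ Q := mul_mem (inv_mem hy.1) (conj_mem_of_normalizer hwN hy.1)
    have hxH : x ∈ H := mul_mem (inv_mem hy.2) (mul_mem (mul_mem hwH hy.2) (inv_mem hwH))
    have hxinv : w * x * w⁻¹ = x⁻¹ := by
      rw [hx, show w * (y⁻¹ * (w * y * w⁻¹)) * w⁻¹ = (w * y * w⁻¹)⁻¹ * (w * w * y * (w * w)⁻¹) by group, hw2]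
      group
    have hxR := h.le_fixR_of_centralizes hQ hτQ hxQ
    have hxo : (orderOf x).Coprime 6 := by
      obtain ⟨k, hk⟩ := hQ.2.1 ⟨x, hxQ⟩
      refine Nat.Coprime.coprime_dvd_left (orderOf_dvd_of_pow_eq_one (congrArg Subtype.val hk)) ?_
      refine Nat.Coprime.pow_left k ?_
      rw [show (6 : ℕ) = 2 * 3 from rfl]
      exact (Nat.coprime_two_right.2 (h.odd_prime hC hY)).mul_right
        ((Nat.coprime_primes Fact.out Nat.prime_three).2 hl)
    have hHt : H ≠ ⊤ := fun e => h.symm.normalizer_ne_top hP1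
      (hP.1.trans (inf_le_left.trans h.coreCent_le)) (top_le_iff.1 (e ▸ centralizer_le_normalizer _))
    have hfus := h.symm.fuses_centralizer_of_involCentral hI hno hP hP1
    have hxO := h.mem_oddOf_of_commute hn hHt hVH hfus hτH hxH
      (h.commute_central (hQ.1 hxQ)) (h.mem_fixR.1 hxR).2 hxinv hxo
    have hxz : V₁ ≤ normalizer (zpowers x : Set G) := by
      refine Dihedral.four_le ?_ ?_
      · exact centralizer_le_normalizer _ (mem_centralizer_iff.2 fun v hv => by
          obtain ⟨i, rfl⟩ := mem_zpowers_iff.1 hv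
          exact ((h.commute_central (hQ.1 hxQ)).zpow_left i).eq)
      · rw [Grp.mem_normalizer_iff_smul, ← Grp.map_conj_eq_smul, MonoidHom.map_zpowers]
        show zpowers (w * x * w⁻¹) = _
        rw [hxinv, zpowers_inv]
    obtain ⟨T, hT, hTV, hxT⟩ := Grp.exists_invariant_sylow_ge V₁ (oddOf H) (hVH.trans (le_normalizer_oddOf H))
      (h.symm.coprime_four (odd_card_oddOf H)) (Or.inr (isSolvable_of_odd (odd_card_oddOf H)))
      (zpowers_le.2 hxO) (hQ.2.1.to_le (zpowers_le.2 hxQ)) hxz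
    have hxR1 := (h.symm.mem_fixR.1 (h.symm.sylow_core_le_fixR hI hVH hfus hT hTV (hxT (mem_zpowers x)))).2
    refine hyw ?_
    -- then `x` is an involution
    have hxx : x * x = 1 := by
      rw [show w * x * w⁻¹ = x * w * w⁻¹ from congrArg (· * w⁻¹) hxR1.eq.symm, mul_inv_cancel_right] at hxinv
      exact eq_inv_iff_mul_eq_one.1 hxinv
    have hx1 : x = 1 := eq_one_of_odd h.odd_coreCent (hQ.1 hxQ) hxx
    rw [hx, inv_mul_eq_one] at hx1
    exact (mul_inv_eq_iff_eq_mul.1 hx1.symm).symm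

end Hyp

end Cfsg.Agent.Invol.GW.Dihedral
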