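import Cfsg.Agent.Lib.Invol.GW.Dihedral.Local
import Cfsg.Agent.Lib.Char.Constituent

/-!
# Gorenstein–Walter, dihedral case: small degrees

A nontrivial irreducible character of the simple group is faithful and is not linear; one of degree three, constant
`± 1` on the sections of the involutions, leaves no element of odd order centralising a four group.
-/

set_option autoImplicit false
set_option linter.unusedSectionVars false
set_option linter.style.haveILetI false

namespace Cfsg.Agent.Invol.GW.Dihedral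

open Subgroup Klein Block

universe u

variable {G : Type u} [Group G] [Finite G] {S : Sylow 2 G} {σ τ : G} {n : ℕ}

theorem Hyp.faithful (h : Hyp S σ τ n) (ξ : IrrCharacter G) (hξ : (ξ : G → ℂ) ≠ fun _ => 1) {g : G}
    (hg : (ξ : G → ℂ) g = (ξ : G → ℂ) 1) : g = 1 := by
  haveI := h.simple
  cases nonempty_fintype G
  haveI := Char.charKer_normal (irr_isChar ξ)
  rcases (inferInstance : (Char.charKer (irr_isChar ξ)).Normal).eq_bot_or_eq_top with hb | ht
  · rw [← mem_bot, ← hb, Char.mem_charKer]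
    exact hg
  · have hc : ∀ y, (ξ : G → ℂ) y = (ξ : G → ℂ) 1 := fun y =>
      (Char.mem_charKer (irr_isChar ξ)).1 (ht ▸ mem_top y)
    exact absurd (Char.irr_const_eq_one ξ.2 hc) hξ

theorem Hyp.degree_ne_one (h : Hyp S σ τ n) (ξ : IrrCharacter G) (hξ : (ξ : G → ℂ) ≠ fun _ => 1) :
    charDegree (ξ : G → ℂ) ≠ 1 := fun e => by
  obtain ⟨l, hl⟩ := Char.linearHom_of_isCharacter (irr_isChar ξ) (by rw [charDeg_spec' ξ, e, Nat.cast_one])
  refine h.not_isMulCommutative ⟨⟨fun a b => ?_⟩⟩
  have e1 : a * b * a⁻¹ * b⁻¹ = 1 := h.faithful ξ hξ (by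
    rw [hl]
    simp only [map_mul, map_inv, map_one]
    rw [mul_right_comm (l a) (l b), mul_inv_cancel, one_mul, mul_inv_cancel])
  rwa [mul_inv_eq_one, mul_inv_eq_iff_eq_mul] at e1

/-- The degree three. -/
theorem Hyp.degree_ne_three (h : Hyp S σ τ n) (ξ : IrrCharacter G) (hξ : (ξ : G → ℂ) ≠ fun _ => 1)
    {w : G} (hw : orderOf w = 2) (hwS : w ∈ (S : Subgroup G)) (hwσ : w ∉ zpowers σ)
    (hfix : fixR (central σ n) w ≠ ⊥) {e : ℤ} (he : e = 1 ∨ e = -1)
    (hval : ∀ z y : G, orderOf z = 2 → Commute z y → Odd (orderOf y) → (ξ : G → ℂ) (z * y) = e) :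
    charDegree (ξ : G → ℂ) ≠ 3 := by
  intro h3
  obtain ⟨y, hy, hy1⟩ : ∃ y ∈ fixR (central σ n) w, y ≠ 1 := by
    by_contra hno
    push Not at hno
    exact hfix ((eq_bot_iff_forall _).2 hno)
  refine hy1 (h.faithful ξ hξ ?_)
  set J := central σ n with hJdef
  have hJ : orderOf J = 2 := h.orderOf_central
  have hJJ : J * J = 1 := by rw [← pow_two, ← hJ, pow_orderOf_eq_one]
  have hww : w * w = 1 := by rw [← pow_two, ← hw, pow_orderOf_eq_one]
  have hJw : Commute J w := (mem_centralizer_singleton_iff.1 (h.le_centralizer hwS)).symm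
  have hJwo : orderOf (J * w) = 2 := by
    refine orderOf_eq_prime ?_ fun e' => hwσ ?_
    · rw [pow_two, mul_assoc, ← mul_assoc w J, ← hJw.eq, mul_assoc, hww, mul_one, hJJ]
    · rw [show w = J⁻¹ from eq_inv_of_mul_eq_one_right e']
      exact inv_mem h.central_mem_zpowers
  have hyJ : Commute J y := (h.commute_core hy.1).symm
  have hyw : Commute w y := (show Commute y w from mem_centralizer_singleton_iff.1 hy.2).symm
  have hyo : Odd (orderOf y) := h.odd_of_mem hy.1
  have hdeg := charDeg_spec' ξ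
  rw [h3] at hdeg
  obtain ⟨d, ρ, hρ⟩ := irr_isChar ξ
  set E : (Fin d → ℂ) →ₗ[ℂ] (Fin d → ℂ) := ρ 1 + ρ J + ρ w + ρ (J * w) with hE
  have hEE : E * E = (4 : ℂ) • E := by
    have h1 : ρ J * E = E := by
      simp only [hE, mul_add, ← map_mul, mul_one, hJJ, ← mul_assoc, one_mul]
      abel
    have h2 : ρ w * E = E := by
      simp only [hE, mul_add, ← map_mul, mul_one, hww, ← mul_assoc, one_mul, ← hJw.eq]
      rw [mul_assoc, hww, mul_one]
      abel
    have hsplit : ∀ F, E * F = F + ρ J * F + ρ w * F + ρ J * (ρ w * F) := fun F => by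
      rw [hE, add_mul, add_mul, add_mul, map_one, one_mul, map_mul, mul_assoc]
    calc E * E = E + ρ J * E + ρ w * E + ρ J * (ρ w * E) := hsplit E
      _ = (4 : ℂ) • E := by rw [h2, h1]; module
  have htr : ∀ g, LinearMap.trace ℂ _ (ρ g) = (ξ : G → ℂ) g := fun g => congrFun hρ g
  have hv1 : (ξ : G → ℂ) J = e := by simpa using hval J 1 hJ (Commute.one_right _) (by simp)
  have hv2 : (ξ : G → ℂ) w = e := by simpa using hval w 1 hw (Commute.one_right _) (by simp)
  have hv3 : (ξ : G → ℂ) (J * w) = e := by simpa using hval (J * w) 1 hJwo (Commute.one_right _) (by simp)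
  set Pr : (Fin d → ℂ) →ₗ[ℂ] (Fin d → ℂ) := (4 : ℂ)⁻¹ • E with hPr
  have hidem : IsIdempotentElem Pr := by
    rw [IsIdempotentElem, hPr, smul_mul_smul_comm, hEE, smul_smul]
    norm_num
  have htrP := ((LinearMap.isProj_range_iff_isIdempotentElem Pr).2 hidem).trace
  have hE0 : E = 0 := by
    have h4 : LinearMap.trace ℂ _ Pr = (4 : ℂ)⁻¹ * (3 + 3 * e) := by
      simp only [hPr, hE, map_smul, map_add, htr, hv1, hv2, hv3, hdeg, smul_eq_mul]
      push_cast
      ring
    rw [h4] at htrP
    have hk : ((3 + 3 * e : ℤ) : ℂ) = ((4 * Module.finrank ℂ (LinearMap.range Pr) : ℤ) : ℂ) := by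
      push_cast
      linear_combination 4 * htrP
    have hk' := Int.cast_injective hk
    have h0 : Module.finrank ℂ (LinearMap.range Pr) = 0 := by rcases he with rfl | rfl <;> omega
    have hP0 : Pr = 0 := LinearMap.range_eq_bot.1 (Submodule.finrank_eq_zero.1 h0)
    rw [hPr] at hP0
    exact (smul_eq_zero.1 hP0).resolve_left (by norm_num)
  have hm : LinearMap.trace ℂ _ (E * ρ y) = 0 := by rw [hE0, zero_mul, map_zero]
  rw [hE, add_mul, add_mul, add_mul, ← map_mul, ← map_mul, ← map_mul, ← map_mul, one_mul, map_add, map_add,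
    map_add, htr, htr, htr, htr, hval J y hJ hyJ hyo, hval w y hw hyw hyo,
    hval (J * w) y hJwo (hyJ.mul_left hyw) hyo] at hm
  have he1 : e = -1 := by
    have h0 : LinearMap.trace ℂ _ E = 0 := by rw [hE0, map_zero]
    simp only [hE, map_add, htr, hv1, hv2, hv3, hdeg] at h0
    have h1 : ((3 + 3 * e : ℤ) : ℂ) = ((0 : ℤ) : ℂ) := by push_cast; linear_combination h0
    have := Int.cast_injective h1
    omega
  rw [he1] at hm
  rw [hdeg]
  push_cast at hm ⊢
  linear_combination hm

end Cfsg.Agent.Invol.GW.Dihedral
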