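import Cfsg.Agent.Lib.Char.ExtendMain
import Cfsg.Agent.Lib.Char.Constituent
import Cfsg.Agent.Lib.Char.Integral
import Cfsg.Agent.Lib.Char.Det

/-!
# Generalised characters vanishing outside an odd normal subgroup

If `S` is a 2-subgroup meeting the odd normal subgroup `N` trivially and the generalised character `f` vanishes
outside `N` with nonnegative coefficients on `N`, then the restriction of `f` to `N` is the sum over `S` of the
conjugates of one character of `N`: a character fixed by a subgroup of `S` extends to the product with it.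
-/

set_option autoImplicit false
set_option linter.unusedSectionVars false

namespace Cfsg.Agent.Invol.GW.Dihedral.Orbit

open scoped ComplexConjugate
open Subgroup Cfsg.Agent.Char

universe u

variable {K : Type u} [Group K] [Finite K]

/-- The coefficient of a fixed character is divisible by the order of the 2-group fixing it. -/
theorem inner_eq_card_mul (N T : Subgroup K) [N.Normal] [Fintype N] (hodd : Odd (Nat.card N))
    (hT : IsPGroup 2 T) (hdisj : N ⊓ T = ⊥) {f : K → ℂ} (hf : IsGeneralizedCharacter K f)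
    (hvan : ∀ x, x ∉ N → f x = 0) {ψ : N → ℂ} (hψ : IsIrrCharacter N ψ)
    (hinv : ∀ t ∈ T, conjN N t ψ = ψ) :
    ∃ d : ℤ, classInner (fun v : N => f v) ψ = (Nat.card T : ℂ) * d := by
  classical
  haveI : Fact (Nat.Prime 2) := ⟨Nat.prime_two⟩
  cases nonempty_fintype K
  set H : Subgroup K := N ⊔ T with hH
  cases nonempty_fintype H
  set e : N.subgroupOf H ≃* N := subgroupOfEquivOfLe le_sup_left
  have hθ : IsIrrCharacter (N.subgroupOf H) (fun m => ψ (e m)) := IsIrr.comp_mulEquiv e hψ
  have hidx : (N.subgroupOf H).index = Nat.card T := by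
    show N.relIndex H = _
    rw [hH, sup_comm, relIndex_sup_right, ← inf_relIndex_right, hdisj, relIndex_bot_left]
  obtain ⟨k, hk⟩ := IsPGroup.iff_card.1 hT
  obtain ⟨d, hd⟩ := IsChar.one_eq_nat (IsIrr.isCharacter hθ)
  have hcard : Nat.card (N.subgroupOf H) = Nat.card N := Nat.card_congr e.toEquiv
  have hcop : Nat.Coprime (N.subgroupOf H).index
      (orderOf (detChar (fun m : N.subgroupOf H => ψ (e m))) * d) := by
    have hc : ∀ {j : ℕ}, j ∣ Nat.card (N.subgroupOf H) →
        Nat.Coprime (N.subgroupOf H).index j := fun {j} hj => by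
      rw [hidx, hk]
      exact ((Nat.coprime_two_left.2 hodd).coprime_dvd_right (hcard ▸ hj)).pow_left k
    obtain ⟨l, hl⟩ := isCharacter_detChar hθ
    refine Nat.Coprime.mul_right (hc (orderOf_dvd_of_pow_eq_one ?_))
      (hc (IsIrr.degree_dvd_card hθ hd))
    funext m
    rw [Pi.pow_apply, hl, Pi.one_apply, ← Units.val_pow_eq_pow_val, ← map_pow, pow_card_eq_one',
      map_one, Units.val_one]
  have hstab : ∀ (g : H) (m : N.subgroupOf H),
      ψ (e ⟨g * m * g⁻¹, normal_subgroupOf.conj_mem (m : H) m.2 g⟩) = ψ (e m) := by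
    intro g m
    obtain ⟨a, ha, t, ht, he⟩ := mem_sup_of_normal_left.1 g.2
    have h1 : conjN N (g : K) ψ = ψ := by
      rw [← he, conjN_mul, conjN_mem N (IsIrr.classFun hψ) ha, hinv t ht]
    exact congrFun h1 (e m)
  obtain ⟨η, hη, hres⟩ := Ext.exists_extension_of_witness hθ hstab hd
    fun p hp => Ext.witness_of_coprime hθ hcop hp
  obtain ⟨z, hz⟩ := IsGenChar.classInner_int (IsGenChar.comp H.subtype hf)
    (IsGenChar.of_isCharacter (IsIrr.isCharacter hη))
  refine ⟨z, ?_⟩
  have hsum : ∑ x : H, f (x : K) * conj (η x) = ∑ v : N, f (v : K) * conj (ψ v) := by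
    rw [← Finset.sum_subset (Finset.filter_subset (fun x : H => (x : K) ∈ N) Finset.univ) fun x _ hx => by
        rw [hvan _ fun hh => hx (Finset.mem_filter.2 ⟨Finset.mem_univ _, hh⟩), zero_mul],
      Finset.sum_subtype _ (p := fun x : H => x ∈ N.subgroupOf H) (fun x => by simp [mem_subgroupOf])
        (fun x : H => f (x : K) * conj (η x))]
    exact Fintype.sum_equiv e.toEquiv (fun m : N.subgroupOf H => f ((m : H) : K) * conj (η m))
      (fun v : N => f (v : K) * conj (ψ v)) fun m => by rw [hres m]; rfl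
  simp only [classInner, Function.comp_apply, coe_subtype] at hz
  rw [hsum] at hz
  have hH' : (Nat.card H : ℂ) = (Nat.card N : ℂ) * Nat.card T := by
    rw [← (N.subgroupOf H).card_mul_index, hidx, hcard, Nat.cast_mul]
  rw [hH'] at hz
  simp only [classInner, ← hz]
  field_simp [(Nat.card_pos : 0 < Nat.card T).ne']

/-- The restriction is the sum of the conjugates of one character. -/
theorem exists_orbit_char (N S : Subgroup K) [N.Normal] [Fintype N] [Fintype S] (hodd : Odd (Nat.card N))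
    (hS : IsPGroup 2 S) (hdisj : N ⊓ S = ⊥) {f : K → ℂ} (hf : IsGeneralizedCharacter K f)
    (hvan : ∀ x, x ∉ N → f x = 0)
    (hpos : ∀ ψ : IrrCharacter N, 0 ≤ (classInner (fun v : N => f v) (ψ : N → ℂ)).re) :
    ∃ Θ : N → ℂ, IsCharacter N Θ ∧ ∀ v : N, f v = ∑ s : S, conjN N (s : K) Θ v := by
  classical
  cases nonempty_fintype (IrrCharacter N)
  letI : MulAction S (IrrCharacter N) :=
    { smul := fun s ψ => ⟨conjN N (s : K)⁻¹ (ψ : N → ℂ), IsIrr.conjN N ψ.2 _⟩
      one_smul := fun ψ => Subtype.ext (by show conjN N _ _ = _; simp [conjN_one])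
      mul_smul := fun s t ψ => Subtype.ext (by
        show conjN N ((s * t : S) : K)⁻¹ _ = conjN N (s : K)⁻¹ (conjN N (t : K)⁻¹ _)
        rw [← conjN_mul, Subgroup.coe_mul, mul_inv_rev]) }
  have hsmul : ∀ (s : S) (ψ : IrrCharacter N),
      ((s • ψ : IrrCharacter N) : N → ℂ) = conjN N (s : K)⁻¹ (ψ : N → ℂ) := fun _ _ => rfl
  have hfc : IsClassFunction K f := IsGenChar.classFun hf
  set c : IrrCharacter N → ℂ := fun ψ => classInner (fun v : N => f v) (ψ : N → ℂ) with hc
  have hcs : ∀ (s : S) (ψ : IrrCharacter N), c (s • ψ) = c ψ := fun s ψ => by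
    have h1 := classInner_conjN N (s : K)⁻¹ (fun v : N => f v) (ψ : N → ℂ)
    rw [conjN_res N hfc] at h1
    exact h1
  -- the coefficients
  have hdiv : ∀ ψ : IrrCharacter N, ∃ d : ℕ,
      c ψ = (Nat.card (MulAction.stabilizer S ψ) : ℂ) * d := by
    intro ψ
    have hT : IsPGroup 2 ↥((MulAction.stabilizer S ψ).map S.subtype) :=
      (hS.to_subgroup _).map _
    have hle : (MulAction.stabilizer S ψ).map S.subtype ≤ S := map_subtype_le _
    obtain ⟨d, hd⟩ := inner_eq_card_mul N _ hodd hT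
      (le_bot_iff.1 ((inf_le_inf_left N hle).trans_eq hdisj)) hf hvan ψ.2 (by
        rintro t ⟨s, hs, rfl⟩
        have h1 := congrArg (fun φ : IrrCharacter N => (φ : N → ℂ))
          (MulAction.mem_stabilizer_iff.1 (inv_mem hs))
        simpa [hsmul] using h1)
    rw [card_map_of_injective S.subtype_injective] at hd
    have h0 := hpos ψ
    rw [hd, show ((Nat.card (MulAction.stabilizer S ψ) : ℂ) * (d : ℂ)).re
      = (((Nat.card (MulAction.stabilizer S ψ) : ℤ) * d : ℤ) : ℝ) by norm_cast] at h0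
    have hd0 : 0 ≤ d := nonneg_of_mul_nonneg_right
      (show (0 : ℤ) ≤ (Nat.card (MulAction.stabilizer S ψ) : ℤ) * d by exact_mod_cast h0)
      (by exact_mod_cast Nat.card_pos)
    obtain ⟨d', rfl⟩ := Int.eq_ofNat_of_zero_le hd0
    exact ⟨d', by rw [hc]; simpa using hd⟩
  choose d hd using hdiv
  -- orbit representatives
  set r : IrrCharacter N → IrrCharacter N := fun ψ =>
    (Quotient.mk (MulAction.orbitRel S (IrrCharacter N)) ψ).out with hr
  have hrel : ∀ ψ, ∃ s : S, s • r ψ = ψ := fun ψ => by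
    have h1 := Quotient.exact (Quotient.out_eq (Quotient.mk (MulAction.orbitRel S (IrrCharacter N)) ψ))
    obtain ⟨s, hs⟩ := MulAction.orbitRel_apply.1 h1
    exact ⟨s⁻¹, by rw [inv_smul_eq_iff]; exact hs.symm⟩
  have hrs : ∀ (s : S) (ψ : IrrCharacter N), r (s • ψ) = r ψ := fun s ψ => by
    have h1 : Quotient.mk (MulAction.orbitRel S (IrrCharacter N)) (s • ψ) = Quotient.mk _ ψ :=
      Quotient.sound (MulAction.orbitRel_apply.2 (MulAction.mem_orbit _ _))
    rw [hr]; simp only [h1]
  set R : Finset (IrrCharacter N) := Finset.univ.filter fun ψ => r ψ = ψ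
  refine ⟨∑ ψ ∈ R, fun v => (d ψ : ℂ) * (ψ : N → ℂ) v,
    IsChar.sum fun ψ _ => IsChar.nsmul (IsIrr.isCharacter ψ.2) (d ψ), fun v => ?_⟩
  have hexp := congrFun (classFunction_expansion (f := fun v : N => f v)
    (fun a b => hfc (a : K) (b : K))) v
  rw [Finset.sum_apply] at hexp
  have hswap : ∑ s : S, conjN N (s : K) (∑ ψ ∈ R, fun v => (d ψ : ℂ) * (ψ : N → ℂ) v) v =
      ∑ ψ ∈ R, (d ψ : ℂ) * ∑ s : S, ((s • ψ : IrrCharacter N) : N → ℂ) v := by
    simp only [conjN_apply, Finset.sum_apply, hsmul, Finset.mul_sum]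
    rw [Finset.sum_comm]
    refine Finset.sum_congr rfl fun ψ _ => Fintype.sum_equiv (Equiv.inv S) _ _ fun s => ?_
    simp
  rw [hswap, hexp, ← Finset.sum_fiberwise_of_maps_to (t := R) (g := r) (fun ψ _ => by
    obtain ⟨s, hs⟩ := hrel ψ
    refine Finset.mem_filter.2 ⟨Finset.mem_univ _, ?_⟩
    exact (hrs s (r ψ)).symm.trans (congrArg r hs))]
  refine Finset.sum_congr rfl fun ψ hψ => ?_
  have hψr : r ψ = ψ := (Finset.mem_filter.1 hψ).2
  -- the elements over one member of the orbit
  rw [← Finset.sum_fiberwise_of_maps_to (t := Finset.univ.filter fun φ => r φ = ψ)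
    (g := fun s : S => s • ψ) (fun s _ => Finset.mem_filter.2 ⟨Finset.mem_univ _, by rw [hrs, hψr]⟩),
    Finset.mul_sum]
  refine Finset.sum_congr (by ext; simp) fun φ hφ => ?_
  obtain ⟨s₀, hs₀⟩ := hrel φ
  rw [(Finset.mem_filter.1 hφ).2] at hs₀
  rw [Finset.sum_congr rfl (g := fun _ => (φ : N → ℂ) v) fun s hs => by
    rw [(Finset.mem_filter.1 hs).2], Finset.sum_const, nsmul_eq_mul, ← mul_assoc]
  show c φ * _ = _
  rw [← hs₀, hcs, hd, hs₀]
  congr 1
  rw [mul_comm]
  congr 2
  rw [← Nat.card_eq_finsetCard]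
  refine Nat.card_congr
    { toFun := fun q => ⟨s₀ * q, Finset.mem_filter.2 ⟨Finset.mem_univ _, by
        rw [mul_smul, MulAction.mem_stabilizer_iff.1 q.2, hs₀]⟩⟩
      invFun := fun s => ⟨s₀⁻¹ * s, MulAction.mem_stabilizer_iff.2 (by
        rw [mul_smul, (Finset.mem_filter.1 s.2).2, inv_smul_eq_iff, hs₀])⟩
      left_inv := fun q => Subtype.ext (inv_mul_cancel_left _ _)
      right_inv := fun s => Subtype.ext (mul_inv_cancel_left _ _) }

end Cfsg.Agent.Invol.GW.Dihedral.Orbit
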