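import Cfsg.Agent.Lib.Invol.GW.Dihedral.Principal
import Cfsg.Agent.Lib.Invol.GW.Dihedral.Degree
import Cfsg.Agent.Lib.Invol.GW.Dihedral.Orbit

/-!
# Gorenstein–Walter, dihedral case: consequences of the principal block

For `P : Principal S σ τ n`: the order of the group, the character `Θ` of the core with
`χ|U = δ + Σ_{s ∈ S} Θ^s`, the consequences of `Θ(1) ≤ 2`, the degrees at least five when a reflection fixes
something in the core, and the inequality between `a`, `a₁` and the degrees.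
-/

set_option autoImplicit false
set_option linter.unusedSectionVars false
set_option linter.style.haveILetI false

open scoped ComplexConjugate

namespace Cfsg.Agent.Invol.GW.Dihedral

open Subgroup Klein Block

universe u

variable {G : Type u} [Group G] [Finite G] {S : Sylow 2 G} {σ τ : G} {n : ℕ}

namespace Principal

variable (P : Principal S σ τ n)

/-- The degree `x`. -/
noncomputable def x : ℕ := charDegree (P.χ : G → ℂ)

theorem deg' : (P.x : ℤ) = P.δ + 2 ^ n * P.Θ := P.deg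

theorem x_pos : 0 < P.x := charDeg_pos P.χ

theorem two_pow_theta : (P.x : ℤ) - P.δ = 2 ^ n * P.Θ := by rw [P.deg']; ring

theorem sub_pos : (0 : ℤ) < (P.x : ℤ) - P.δ := by
  rw [P.two_pow_theta]
  exact mul_pos (pow_pos two_pos n) (by exact_mod_cast P.theta_pos)

theorem add_pos (h : Hyp S σ τ n) : (0 : ℤ) < (P.x : ℤ) + P.δ := by
  have h1 := P.sub_pos
  have h3 : (8 : ℤ) ≤ 2 ^ n := by
    calc (8 : ℤ) = 2 ^ 3 := by norm_num
      _ ≤ _ := pow_le_pow_right₀ (by norm_num) h.three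
  have h4 : (2 : ℤ) ^ n * 1 ≤ 2 ^ n * P.Θ :=
    mul_le_mul_of_nonneg_left (by exact_mod_cast P.theta_pos) (by positivity)
  have h2 := P.two_pow_theta
  rcases P.delta with hd | hd <;> rw [hd] at h1 h2 ⊢ <;> omega

theorem card_eq (h : Hyp S σ τ n) : (Nat.card G : ℤ) =
    2 ^ (n - 1) * Nat.card ↥(coreCent (central σ n)) * (P.m : ℤ) ^ 2 * P.x * ((P.x : ℤ) + P.δ) := by
  have e : 2 * ((centralizer ({central σ n} : Set G)).index : ℤ) = (P.m : ℤ) ^ 2 * P.x * ((P.x : ℤ) + P.δ) :=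
    P.index_eq
  have h2 : (2 : ℤ) ^ n = 2 ^ (n - 1) * 2 := by
    rw [← pow_succ, show n - 1 + 1 = n by have := h.three; omega]
  rw [← (centralizer ({central σ n} : Set G)).card_mul_index, h.card_centralizer]
  push_cast
  rw [h2]
  linear_combination ((Nat.card ↥(coreCent (central σ n)) : ℤ) * 2 ^ (n - 1)) * e

theorem odd_x (h : Hyp S σ τ n) : Odd (P.x : ℤ) := by
  rw [P.deg', show (2 : ℤ) ^ n = 2 * 2 ^ (n - 1) by
    rw [← pow_succ', show n - 1 + 1 = n by have := h.three; omega]]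
  rcases P.delta with hd | hd <;> rw [hd]
  · exact ⟨2 ^ (n - 1) * P.Θ, by ring⟩
  · exact ⟨2 ^ (n - 1) * P.Θ - 1, by ring⟩

theorem faithful (h : Hyp S σ τ n) {g : G} (hg : (P.χ : G → ℂ) g = (P.χ : G → ℂ) 1) : g = 1 :=
  h.faithful P.χ P.ne_one hg

theorem natAbs_pos : 0 < P.A.natAbs ∧ 0 < P.B.natAbs :=
  ⟨P.deg₂ ▸ charDeg_pos P.χ₂, P.deg₃ ▸ charDeg_pos P.χ₃⟩

theorem natAbs_sum (h : Hyp S σ τ n) : ((P.A + P.B).natAbs : ℤ) = (P.x : ℤ) + P.δ := by
  rw [P.deg_sum, Int.natAbs_mul, show P.δ.natAbs = 1 by rcases P.delta with hd | hd <;> rw [hd] <;> rfl,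
    one_mul]
  exact Int.natAbs_of_nonneg (P.add_pos h).le

/-- The character of the core. -/
theorem exists_theta (h : Hyp S σ τ n) [Fintype ↥(S : Subgroup G)] :
    ∃ Θc : ↥(coreCent (central σ n)) → ℂ, IsCharacter ↥(coreCent (central σ n)) Θc ∧ Θc 1 = P.Θ ∧
      (∀ u : coreCent (central σ n), (P.χ : G → ℂ) u = P.δ + ∑ s : ↥(S : Subgroup G),
        Θc ⟨(s : G) * u * (s : G)⁻¹, h.conj_core (h.le_centralizer s.2) u.2⟩) ∧
      (P.δ = -1 → ∃ Ψ : ↥(coreCent (central σ n)) → ℂ, IsCharacter ↥(coreCent (central σ n)) Ψ ∧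
        ∀ u, Θc u = 1 + Ψ u) := by
  classical
  cases nonempty_fintype G
  cases nonempty_fintype ↥(coreCent (central σ n))
  set U := coreCent (central σ n) with hUdef
  set C := centralizer ({central σ n} : Set G) with hCdef
  cases nonempty_fintype C
  haveI hN : (U.subgroupOf C).Normal := h.core_normal
  cases nonempty_fintype (U.subgroupOf C)
  cases nonempty_fintype ((S : Subgroup G).subgroupOf C)
  set e : U.subgroupOf C ≃* U := subgroupOfEquivOfLe h.coreCent_le
  have he : ∀ v : U.subgroupOf C, ((e v : U) : G) = ((v : C) : G) := fun v => rfl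
  have hodd : Odd (Nat.card (U.subgroupOf C)) := by rw [Nat.card_congr e.toEquiv]; exact h.odd_coreCent
  have hS : IsPGroup 2 ((S : Subgroup G).subgroupOf C) := S.isPGroup'.comap_subtype
  have hdisj : U.subgroupOf C ⊓ (S : Subgroup G).subgroupOf C = ⊥ :=
    (eq_bot_iff_forall _).2 fun x hx => Subtype.ext (by
      have h1 : (x : G) ∈ U ⊓ (S : Subgroup G) := ⟨mem_subgroupOf.1 hx.1, mem_subgroupOf.1 hx.2⟩
      rwa [h.coreCent_inf, mem_bot] at h1)
  set f : C → ℂ := fun c => (P.χ : G → ℂ) c - (P.δ : ℂ) with hf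
  have hgen : IsGeneralizedCharacter C f := by
    have h1 : IsGeneralizedCharacter C (fun c : C => (P.χ : G → ℂ) c) :=
      Char.IsGenChar.of_isCharacter (Char.IsChar.res (irr_isChar P.χ) C)
    have h2 := Char.IsGenChar.zsmul (Char.IsGenChar.of_isCharacter (Char.IsChar.one (G := C))) P.δ
    convert Char.IsGenChar.sub h1 h2 using 1
    funext c
    simp [hf]
  have hvan : ∀ c : C, c ∉ U.subgroupOf C → f c = 0 := fun c hc => by
    have hev : Even (orderOf (c : G)) :=
      Nat.not_odd_iff_even.1 fun ho => hc (mem_subgroupOf.2 (h.mem_core_of_odd c.2 ho))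
    simp only [hf, P.value _ hev, sub_self]
  have hone : IsIrrCharacter (U.subgroupOf C) (fun _ => (1 : ℂ)) := Char.isIrr_one
  have hpos : ∀ ψ : IrrCharacter (U.subgroupOf C),
      0 ≤ (classInner (fun v : U.subgroupOf C => f v) (ψ : U.subgroupOf C → ℂ)).re := by
    intro ψ
    obtain ⟨k, hk⟩ := Char.IsChar.classInner_nat
      (Char.IsChar.res (Char.IsChar.res (irr_isChar P.χ) C) (U.subgroupOf C)) (Char.IsIrr.isCharacter ψ.2)
    have hfe : classInner (fun v : U.subgroupOf C => f v) (ψ : U.subgroupOf C → ℂ) =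
        (k : ℂ) - (P.δ : ℂ) * classInner (fun _ : U.subgroupOf C => (1 : ℂ)) (ψ : U.subgroupOf C → ℂ) := by
      rw [← hk, ← Char.classInner_smul_left, ← Char.classInner_sub_left]
      congr 1
      funext v
      simp [hf]
    rw [Char.classInner_irr_eq_ite hone ψ.2] at hfe
    by_cases hψ : (fun _ : U.subgroupOf C => (1 : ℂ)) = (ψ : U.subgroupOf C → ℂ)
    · rw [if_pos hψ, mul_one] at hfe
      obtain ⟨d, hd⟩ := Orbit.inner_eq_card_mul _ _ hodd hS hdisj hgen hvan ψ.2 (fun t _ => by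
        rw [← hψ]; rfl)
      have hcS : Nat.card ((S : Subgroup G).subgroupOf C) = 2 ^ n := by
        rw [Nat.card_congr (subgroupOfEquivOfLe h.le_centralizer).toEquiv, h.card_sylow]
      rw [hcS] at hd
      have hz : ((2 ^ n * d : ℤ) : ℂ) = ((k - P.δ : ℤ) : ℂ) := by
        push_cast
        exact_mod_cast hd.symm.trans hfe
      have hz' := Int.cast_injective hz
      have hd0 : 0 ≤ d := by
        by_contra hneg
        push Not at hneg
        have : (2 : ℤ) ^ n * d ≤ -((2 : ℤ) ^ n) := by nlinarith [pow_pos (two_pos (α := ℤ)) n]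
        have h3 : (8 : ℤ) ≤ 2 ^ n := by
          calc (8 : ℤ) = 2 ^ 3 := by norm_num
            _ ≤ _ := pow_le_pow_right₀ (by norm_num) h.three
        rcases P.delta with hd' | hd' <;> omega
      rw [hd, show (((2 ^ n : ℕ) : ℂ) * (d : ℂ)).re = (((2 ^ n : ℤ) * d : ℤ) : ℝ) by norm_cast]
      exact_mod_cast mul_nonneg (by positivity : (0 : ℤ) ≤ 2 ^ n) hd0
    · rw [if_neg hψ, mul_zero, sub_zero] at hfe
      rw [hfe, Complex.natCast_re]
      exact Nat.cast_nonneg k
  obtain ⟨Θ', hΘ', hsum⟩ := Orbit.exists_orbit_char _ _ hodd hS hdisj hgen hvan hpos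
  set Θc : U → ℂ := fun u => Θ' (e.symm u) with hΘc
  have hchar : IsCharacter U Θc := Char.IsChar.comp e.symm.toMonoidHom hΘ'
  have hform : ∀ u : U, (P.χ : G → ℂ) u = P.δ + ∑ s : ↥(S : Subgroup G),
      Θc ⟨(s : G) * u * (s : G)⁻¹, h.conj_core (h.le_centralizer s.2) u.2⟩ := by
    intro u
    have h1 := hsum (e.symm u)
    simp only [hf] at h1
    rw [show (((e.symm u : U.subgroupOf C) : C) : G) = (u : G) from rfl, sub_eq_iff_eq_add'] at h1
    rw [h1]
    congr 1
    refine Fintype.sum_equiv (subgroupOfEquivOfLe h.le_centralizer).toEquiv _ _ fun s => ?_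
    rw [Char.conjN_apply, hΘc]
    exact congrArg Θ' (Subtype.ext (Subtype.ext rfl))
  have hΘ1 : Θc 1 = P.Θ := by
    have h1 := hform 1
    rw [Finset.sum_congr rfl (g := fun _ => Θc 1) fun s _ => congrArg Θc (Subtype.ext (by simp)),
      Finset.sum_const, nsmul_eq_mul, Finset.card_univ, ← Nat.card_eq_fintype_card, h.card_sylow,
      OneMemClass.coe_one, charDeg_spec' P.χ] at h1
    have h2 : ((charDegree (P.χ : G → ℂ) : ℕ) : ℂ) = ((P.δ + 2 ^ n * P.Θ : ℤ) : ℂ) := by rw [← P.deg]; push_cast; rfl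
    rw [h2] at h1
    push_cast at h1
    exact mul_left_cancel₀ (pow_ne_zero n (two_ne_zero (α := ℂ))) (by linear_combination -h1)
  refine ⟨Θc, hchar, hΘ1, hform, fun hδ => ?_⟩
  obtain ⟨c₁, hc₁⟩ := Char.IsChar.classInner_nat hchar Char.IsChar.one
  obtain ⟨c₀, hc₀⟩ := Char.IsChar.classInner_nat (Char.IsChar.res (irr_isChar P.χ) U) Char.IsChar.one
  have hrel : (c₀ : ℂ) + 1 = (2 : ℂ) ^ n * c₁ := by
    rw [← hc₀, ← hc₁]
    simp only [classInner, map_one, mul_one]
    have hU0 : (Nat.card U : ℂ) ≠ 0 := Nat.cast_ne_zero.2 Nat.card_pos.ne'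
    rw [Finset.sum_congr rfl fun u _ => hform u, Finset.sum_add_distrib, Finset.sum_comm,
      Finset.sum_congr rfl (g := fun _ => ∑ u : U, Θc u) fun s _ =>
        Fintype.sum_equiv (sylowConj (h.le_normalizer_coreCent (h.le_centralizer s.2))).toEquiv _ _ fun u =>
          congrArg Θc (Subtype.ext (sylowConj_val _ u).symm),
      Finset.sum_const, Finset.sum_const, nsmul_eq_mul, nsmul_eq_mul, Finset.card_univ, Finset.card_univ,
      ← Nat.card_eq_fintype_card, ← Nat.card_eq_fintype_card, h.card_sylow, hδ]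
    push_cast
    field_simp
    ring
  have hc1 : 1 ≤ c₁ := by
    by_contra hlt
    rw [show c₁ = 0 by omega, Nat.cast_zero, mul_zero] at hrel
    have : ((c₀ + 1 : ℕ) : ℂ) = 0 := by push_cast; exact hrel
    exact absurd (Nat.cast_eq_zero.1 this) (by omega)
  refine ⟨fun u => Θc u - 1, ?_, fun u => by ring⟩
  refine Char.isCharacter_of_classInner_nat
    (Char.classFunction_sub (Char.IsChar.classFun hchar) (Char.IsChar.classFun Char.IsChar.one)) fun φ hφ => ?_
  obtain ⟨k, hk⟩ := Char.IsChar.classInner_nat hchar (Char.IsIrr.isCharacter hφ)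
  have hsub : classInner (fun u : U => Θc u - 1) φ =
      (k : ℂ) - classInner (fun _ : U => (1 : ℂ)) φ := by rw [← hk, ← Char.classInner_sub_left]; rfl
  rw [Char.classInner_irr_eq_ite Char.isIrr_one hφ] at hsub
  by_cases hψ : (fun _ : U => (1 : ℂ)) = φ
  · rw [if_pos hψ] at hsub
    have hk1 : k = c₁ := Nat.cast_injective (R := ℂ) (by rw [← hk, ← hc₁, ← hψ])
    refine ⟨k - 1, ?_⟩
    show classInner (fun u : U => Θc u - 1) φ = _
    rw [hsub, Nat.cast_sub (by omega), Nat.cast_one]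
  · rw [if_neg hψ, sub_zero] at hsub
    exact ⟨k, hsub⟩

/-- With `Θ(1) ≤ 2` the core is abelian. -/
theorem commute_of_le_two (h : Hyp S σ τ n) (hle : P.Θ ≤ 2) {a b : G} (ha : a ∈ coreCent (central σ n))
    (hb : b ∈ coreCent (central σ n)) : a * b = b * a := by
  classical
  cases nonempty_fintype ↥(S : Subgroup G)
  cases nonempty_fintype ↥(coreCent (central σ n))
  obtain ⟨Θc, hchar, h1, hform, -⟩ := P.exists_theta h
  obtain ⟨c, hc, hdec⟩ := Char.IsChar.exists_decomp_inner hchar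
  have hlin : ∀ φ : IrrCharacter ↥(coreCent (central σ n)), c φ ≠ 0 →
      ∀ p q : ↥(coreCent (central σ n)),
        (φ : ↥(coreCent (central σ n)) → ℂ) (p * q * p⁻¹ * q⁻¹) = (φ : ↥(coreCent (central σ n)) → ℂ) 1 := by
    intro φ hφ p q
    obtain ⟨d, hd⟩ := Char.IsChar.one_eq_nat (Char.IsIrr.isCharacter φ.2)
    have hle' : d ≤ P.Θ := Char.degree_le_of_constituent hchar φ.2
      (by rw [hc φ]; exact Nat.cast_ne_zero.2 hφ) h1 hd
    have hdodd : Odd d := Odd.of_dvd_nat h.odd_coreCent (Char.IsIrr.degree_dvd_card φ.2 hd)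
    obtain ⟨l, hl⟩ := Char.linearHom_of_isCharacter (Char.IsIrr.isCharacter φ.2) (by
      rw [hd, show d = 1 by obtain ⟨k, hk⟩ := hdodd; omega, Nat.cast_one])
    rw [hl]
    simp only [map_mul, map_inv, map_one]
    rw [mul_right_comm (l p) (l q), mul_inv_cancel, one_mul, mul_inv_cancel]
  have hker : ∀ p q, Θc (p * q * p⁻¹ * q⁻¹) = Θc 1 := fun p q => by
    rw [hdec, Char.sum_irr_apply, Char.sum_irr_apply]
    refine Finset.sum_congr rfl fun φ _ => ?_
    by_cases hφ : c φ = 0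
    · simp [hφ]
    · rw [hlin φ hφ]
  have hmem : a * b * a⁻¹ * b⁻¹ = 1 := P.faithful h (by
    rw [show a * b * a⁻¹ * b⁻¹ = (((⟨a, ha⟩ * ⟨b, hb⟩ * ⟨a, ha⟩⁻¹ * ⟨b, hb⟩⁻¹ :
      coreCent (central σ n))) : G) from rfl, hform,
      show (P.χ : G → ℂ) 1 = (P.χ : G → ℂ) ((1 : coreCent (central σ n)) : G) from rfl, hform]
    congr 1
    refine Finset.sum_congr rfl fun s _ => ?_
    rw [show (⟨(s : G) * ((1 : coreCent (central σ n)) : G) * (s : G)⁻¹,
        h.conj_core (h.le_centralizer s.2) (one_mem _)⟩ : coreCent (central σ n)) = 1 from Subtype.ext (by simp)]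
    refine Eq.trans (congrArg Θc (Subtype.ext ?_)) (hker
      ⟨(s : G) * a * (s : G)⁻¹, h.conj_core (h.le_centralizer s.2) ha⟩
      ⟨(s : G) * b * (s : G)⁻¹, h.conj_core (h.le_centralizer s.2) hb⟩)
    simp only [Subgroup.coe_mul, Subgroup.coe_inv]
    group)
  rwa [mul_inv_eq_one, mul_inv_eq_iff_eq_mul] at hmem

theorem isMulCommutative_of_le_two (h : Hyp S σ τ n) (hle : P.Θ ≤ 2) :
    IsMulCommutative ↥(coreCent (central σ n)) :=
  ⟨⟨fun a b => Subtype.ext (P.commute_of_le_two h hle a.2 b.2)⟩⟩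

/-- `Θ(1) = 1` and `δ = -1` leave no core. -/
theorem coreCent_eq_bot (h : Hyp S σ τ n) (hΘ : P.Θ = 1) (hδ : P.δ = -1) : coreCent (central σ n) = ⊥ := by
  classical
  cases nonempty_fintype ↥(S : Subgroup G)
  obtain ⟨Θc, hchar, h1, hform, htriv⟩ := P.exists_theta h
  obtain ⟨Ψ, hΨ, hΨe⟩ := htriv hδ
  have hΨ0 : Ψ = 0 := Char.IsChar.eq_zero_of_one_eq_zero hΨ (by
    have := hΨe 1
    rw [h1, hΘ, Nat.cast_one] at this
    linear_combination -this)
  refine (eq_bot_iff_forall _).2 fun u hu => P.faithful h ?_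
  have hconst : ∀ v, Θc v = Θc 1 := fun v => by rw [hΨe v, hΨe 1, hΨ0, Pi.zero_apply, Pi.zero_apply]
  rw [show u = ((⟨u, hu⟩ : coreCent (central σ n)) : G) from rfl, hform,
    show (P.χ : G → ℂ) 1 = (P.χ : G → ℂ) ((1 : coreCent (central σ n)) : G) from rfl, hform]
  congr 1
  exact Finset.sum_congr rfl fun s _ => (hconst _).trans (hconst _).symm

/-- A reflection fixing something in the core makes the two degrees at least five. -/
theorem five_le_of_reflection (h : Hyp S σ τ n) {w : G} (hw : orderOf w = 2) (hwS : w ∈ (S : Subgroup G))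
    (hwσ : w ∉ zpowers σ) (hfix : fixR (central σ n) w ≠ ⊥) : 5 ≤ P.A.natAbs ∧ 5 ≤ P.B.natAbs := by
  have key : ∀ (ξ : IrrCharacter G) (D : ℤ), (ξ : G → ℂ) ≠ (fun _ => 1) → D.natAbs = charDegree (ξ : G → ℂ) →
      Odd D → (∀ z y : G, orderOf z = 2 → Commute z y → Odd (orderOf y) → (ξ : G → ℂ) (z * y) = Int.sign D) →
      5 ≤ D.natAbs := by
    intro ξ D hne hd hodd hv
    have h1 := h.degree_ne_one ξ hne
    have hD : D ≠ 0 := fun e => by subst e; simp at hodd
    have hs : D.sign = 1 ∨ D.sign = -1 := by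
      rcases lt_or_gt_of_ne hD with hl | hl
      · exact .inr (Int.sign_eq_neg_one_of_neg hl)
      · exact .inl (Int.sign_eq_one_of_pos hl)
    have h3 := h.degree_ne_three ξ hne hw hwS hwσ hfix hs hv
    rw [← hd] at h1 h3
    obtain ⟨k, hk⟩ := Int.natAbs_odd.2 hodd
    omega
  exact ⟨key _ _ P.ne_one₂ P.deg₂ P.odd₂ P.value₂, key _ _ P.ne_one₃ P.deg₃ P.odd₃ P.value₃⟩

theorem five_le (h : Hyp S σ τ n) (hfix : fixR (central σ n) τ ≠ ⊥ ∨ fixR (central σ n) (σ * τ) ≠ ⊥) :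
    5 ≤ P.A.natAbs ∧ 5 ≤ P.B.natAbs :=
  hfix.elim (P.five_le_of_reflection h h.orderτ h.hτ h.tau_notMem)
    (P.five_le_of_reflection h h.orderOf_sigma_tau (mul_mem h.hσ h.hτ) h.symm.tau_notMem)

/-- The relation in absolute values. -/
theorem ratio_abs :
    ((P.A - P.B) ^ 2 * ((idx σ τ n : ℤ) + idx σ (σ * τ) n) ^ 2 * P.x) =
      ((idx σ τ n : ℤ) - idx σ (σ * τ) n) ^ 2 * ((P.x : ℤ) - P.δ) ^ 2 * ((P.A.natAbs : ℤ) * P.B.natAbs) := by
  have e := P.ratio
  have h0 : (0 : ℤ) ≤ (P.A - P.B) ^ 2 * ((idx σ τ n : ℤ) + idx σ (σ * τ) n) ^ 2 * P.x := by positivity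
  rw [show (P.x : ℤ) = (charDegree (P.χ : G → ℂ) : ℤ) from rfl] at h0 ⊢
  conv_lhs => rw [← abs_of_nonneg h0]
  rw [e, abs_mul, abs_mul, abs_mul, abs_mul, abs_of_nonneg (sq_nonneg _), abs_of_nonneg (sq_nonneg _),
    Int.natCast_natAbs, Int.natCast_natAbs, show |P.δ| = 1 by rcases P.delta with hd | hd <;> rw [hd] <;> rfl,
    mul_one]

/-- The inequality between `a`, `a₁` and the degrees. -/
theorem index_inequality (h : Hyp S σ τ n) :
    ((idx σ τ n : ℤ) - idx σ (σ * τ) n) ^ 2 * ((P.x : ℤ) - P.δ) ^ 2 * (min P.A.natAbs P.B.natAbs : ℕ) ≤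
      ((idx σ τ n : ℤ) + idx σ (σ * τ) n) ^ 2 * P.x *
        (4 * (min P.A.natAbs P.B.natAbs : ℕ) + ((P.x : ℤ) + P.δ)) := by
  have hpos : (0 : ℤ) < (P.A.natAbs : ℤ) * P.B.natAbs := by
    have := P.natAbs_pos
    exact mul_pos (by exact_mod_cast this.1) (by exact_mod_cast this.2)
  have key : ∀ u v : ℤ, (u - v) ^ 2 * (min |u| |v|) ≤ |u| * |v| * (4 * min |u| |v| + |u + v|) := by
    intro u v
    rcases le_total 0 u with hu | hu <;> rcases le_total 0 v with hv | hv
    · rw [abs_of_nonneg hu, abs_of_nonneg hv, abs_of_nonneg (add_nonneg hu hv)]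
      rcases le_total u v with hl | hl
      · rw [min_eq_left hl]; nlinarith [mul_nonneg (mul_nonneg hu hv) hu, mul_nonneg (mul_nonneg hu hv) hv,
          mul_nonneg hu (mul_nonneg hu hu), mul_nonneg hu (sub_nonneg.2 hl)]
      · rw [min_eq_right hl]; nlinarith [mul_nonneg (mul_nonneg hu hv) hu, mul_nonneg (mul_nonneg hu hv) hv,
          mul_nonneg hv (mul_nonneg hv hv), mul_nonneg hv (sub_nonneg.2 hl)]
    · rw [abs_of_nonneg hu, abs_of_nonpos hv]
      rcases le_total u (-v) with hl | hl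
      · rw [min_eq_left hl, abs_of_nonpos (by linarith)]
        nlinarith [mul_nonneg hu (sub_nonneg.2 hl), mul_nonneg (mul_nonneg hu hu) (sub_nonneg.2 hl)]
      · rw [min_eq_right hl, abs_of_nonneg (by linarith)]
        nlinarith [mul_nonneg (neg_nonneg.2 hv) (sub_nonneg.2 hl),
          mul_nonneg (mul_nonneg (neg_nonneg.2 hv) (neg_nonneg.2 hv)) (sub_nonneg.2 hl)]
    · rw [abs_of_nonpos hu, abs_of_nonneg hv]
      rcases le_total (-u) v with hl | hl
      · rw [min_eq_left hl, abs_of_nonneg (by linarith)]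
        nlinarith [mul_nonneg (neg_nonneg.2 hu) (sub_nonneg.2 hl),
          mul_nonneg (mul_nonneg (neg_nonneg.2 hu) (neg_nonneg.2 hu)) (sub_nonneg.2 hl)]
      · rw [min_eq_right hl, abs_of_nonpos (by linarith)]
        nlinarith [mul_nonneg hv (sub_nonneg.2 hl), mul_nonneg (mul_nonneg hv hv) (sub_nonneg.2 hl)]
    · have hu' := neg_nonneg.2 hu
      have hv' := neg_nonneg.2 hv
      rw [abs_of_nonpos hu, abs_of_nonpos hv, abs_of_nonpos (add_nonpos hu hv)]
      rcases le_total (-u) (-v) with hl | hl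
      · rw [min_eq_left hl]; nlinarith [mul_nonneg (mul_nonneg hu' hv') hu', mul_nonneg (mul_nonneg hu' hv') hv',
          mul_nonneg hu' (mul_nonneg hu' hu'), mul_nonneg hu' (sub_nonneg.2 hl)]
      · rw [min_eq_right hl]; nlinarith [mul_nonneg (mul_nonneg hu' hv') hu', mul_nonneg (mul_nonneg hu' hv') hv',
          mul_nonneg hv' (mul_nonneg hv' hv'), mul_nonneg hv' (sub_nonneg.2 hl)]
  have hk := key P.A P.B
  have hD : |P.A + P.B| = (P.x : ℤ) + P.δ := by rw [← Int.natCast_natAbs, P.natAbs_sum h]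
  rw [hD, ← Int.natCast_natAbs, ← Int.natCast_natAbs, ← Nat.cast_min] at hk
  refine le_of_mul_le_mul_left ?_ hpos
  calc (P.A.natAbs : ℤ) * P.B.natAbs * (((idx σ τ n : ℤ) - idx σ (σ * τ) n) ^ 2 * ((P.x : ℤ) - P.δ) ^ 2 *
        (min P.A.natAbs P.B.natAbs : ℕ))
      = ((P.A - P.B) ^ 2 * (min P.A.natAbs P.B.natAbs : ℕ)) *
          (((idx σ τ n : ℤ) + idx σ (σ * τ) n) ^ 2 * P.x) := by
        linear_combination -((min P.A.natAbs P.B.natAbs : ℕ) : ℤ) * P.ratio_abs
    _ ≤ _ := by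
        refine (mul_le_mul_of_nonneg_right hk (by positivity)).trans_eq ?_
        ring

/-- If the two indices differ then `|A| |B| x` is a square. -/
theorem isSquare_of_ne (hne : idx σ τ n ≠ idx σ (σ * τ) n) (h : Hyp S σ τ n) :
    IsSquare (P.A.natAbs * P.B.natAbs * P.x) := by
  set N := P.A.natAbs * P.B.natAbs * P.x
  have e := P.ratio_abs
  set k : ℕ := ((P.A - P.B) * ((idx σ τ n : ℤ) + idx σ (σ * τ) n)).natAbs with hk
  set l : ℕ := (((idx σ τ n : ℤ) - idx σ (σ * τ) n) * ((P.x : ℤ) - P.δ) *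
    ((P.A.natAbs : ℤ) * P.B.natAbs)).natAbs with hl
  have hkl : k ^ 2 * N = l ^ 2 := by
    apply Int.natCast_inj.1
    simp only [N, hk, hl, Nat.cast_mul, Nat.cast_pow, Int.natCast_natAbs, sq_abs]
    rw [Int.natCast_natAbs, Int.natCast_natAbs] at e
    linear_combination (|P.A| * |P.B|) * e
  have hk0 : k ≠ 0 := fun e0 => by
    rw [e0, zero_pow two_ne_zero, zero_mul] at hkl
    have hl0 := pow_eq_zero_iff two_ne_zero |>.1 hkl.symm
    rw [hl, Int.natAbs_eq_zero] at hl0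
    have hp := P.natAbs_pos
    rcases mul_eq_zero.1 hl0 with h1 | h1
    · rcases mul_eq_zero.1 h1 with h2 | h2
      · exact hne (by exact_mod_cast sub_eq_zero.1 h2)
      · exact (P.sub_pos.ne') h2
    · rcases mul_eq_zero.1 h1 with h2 | h2 <;> omega
  obtain ⟨j, hj⟩ : k ∣ l := (Nat.pow_dvd_pow_iff two_ne_zero).1 ⟨N, hkl.symm⟩
  refine ⟨j, Nat.eq_of_mul_eq_mul_left (pow_pos (Nat.pos_of_ne_zero hk0) 2) ?_⟩
  rw [hkl, hj]
  ring

end Principal

end Cfsg.Agent.Invol.GW.Dihedral
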