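import Cfsg.Agent.Lib.Invol.GW.Dihedral.Line
import Cfsg.Agent.Lib.Invol.GW.Dihedral.Blocks
import Cfsg.Agent.Lib.Invol.GW.Klein.Weights
import Cfsg.Agent.Lib.Invol.GW.Klein.LinearRep
import Cfsg.Agent.Lib.Char.Galois
import Cfsg.Agent.Lib.Char.FieldAut

/-!
# Gorenstein–Walter, dihedral: the bounds at a line `z` of a good prime

With `E = E(z) ≅ PSL₂(l)`: the eigenspaces of `z` for the `q - 1` nontrivial eigenvalues have degree at least
`(l - 1) / 2` in `χ`, and when `R` normalises `⟨z⟩` the order of `E R` divides `|G|`.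
-/

set_option autoImplicit false
set_option linter.unusedSectionVars false
set_option linter.style.haveILetI false

namespace Cfsg.Agent.Invol.GW.Dihedral

open Subgroup Klein Block

universe u

variable {G : Type u} [Group G]

theorem trace_mul_eigProj {W : Type*} [AddCommGroup W] [Module ℂ W] (ρ : Representation ℂ G W) (a z : G) (q : ℕ)
    (s : ℂ) : LinearMap.trace ℂ W (ρ a * eigProj (ρ z) q s) =
      (q : ℂ)⁻¹ * ∑ i ∈ Finset.range q, (s⁻¹) ^ i * LinearMap.trace ℂ W (ρ (a * z ^ i)) := by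
  simp only [eigProj, Algebra.mul_smul_comm, Finset.mul_sum, map_smul, map_sum, smul_eq_mul, map_mul, map_pow]

/-- With constant traces on `t * z ^ i` and constant traces other than the degree on `z ^ i`, `i ≠ 0`, a
representation has `q - 1` moved eigenspaces. -/
theorem eigen_bound {n q : ℕ} (hq : q.Prime) (ρ : Representation ℂ G (Fin n → ℂ)) {E : Subgroup G} {z t : G}
    (hzq : z ^ q = 1) (htE : t ∈ E) (hEz : ∀ e ∈ E, Commute e z) {δ : ℂ} {c : ℂ}
    (ht : ∀ i : ℕ, LinearMap.trace ℂ _ (ρ (t * z ^ i)) = δ)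
    (hz : ∀ i : ℕ, 0 < i → i < q → LinearMap.trace ℂ _ (ρ (z ^ i)) = c) (hc : c ≠ (n : ℂ)) {k : ℕ}
    (hmin : ∀ (M : Submodule ℂ (Fin n → ℂ)) (σ : Representation ℂ ↥E M), σ ⟨t, htE⟩ ≠ 1 →
      k ≤ Module.finrank ℂ M) :
    (q - 1) * k ≤ n := by
  classical
  have hq0 : 0 < q := hq.pos
  have hqC : (q : ℂ) ≠ 0 := Nat.cast_ne_zero.2 hq.ne_zero
  obtain ⟨ζ, hζ⟩ : ∃ ζ : ℂ, IsPrimitiveRoot ζ q := ⟨_, Complex.isPrimitiveRoot_exp q hq0.ne'⟩
  have hζl : ∀ j : ℕ, (ζ ^ j) ^ q = 1 := fun j => by rw [← pow_mul, mul_comm, pow_mul, hζ.pow_eq_one, one_pow]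
  have hT : (ρ z) ^ q = 1 := by rw [← map_pow, hzq, map_one]
  set P : ℕ → Module.End ℂ (Fin n → ℂ) := fun j => eigProj (ρ z) q (ζ ^ j) with hP
  have hproj : ∀ j, LinearMap.IsProj (LinearMap.range (P j)) (P j) := fun j =>
    ⟨fun x => ⟨x, rfl⟩, fun x ⟨w, hw⟩ => by rw [← hw, ← Module.End.mul_apply, eigProj_mul_self hq0 hT (hζl j)]⟩
  have hgeom : ∀ j, j ≠ 0 → j < q → ∑ i ∈ Finset.range q, ((ζ ^ j)⁻¹) ^ i = 0 := fun j hj0 hjq => by
    have hne : (ζ ^ j)⁻¹ ≠ 1 := fun e => hj0 (Nat.eq_zero_of_dvd_of_lt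
      ((hζ.pow_eq_one_iff_dvd j).1 (inv_eq_one.1 e)) hjq)
    have h2 := mul_geom_sum ((ζ ^ j)⁻¹) q
    rw [inv_pow, hζl, inv_one, sub_self] at h2
    exact (mul_eq_zero.1 h2).resolve_left (sub_ne_zero.2 hne)
  have htP : ∀ j, j ≠ 0 → j < q → LinearMap.trace ℂ _ (ρ t * P j) = 0 := fun j hj0 hjq => by
    rw [hP, trace_mul_eigProj]
    simp only [ht]
    rw [← Finset.sum_mul, hgeom j hj0 hjq, zero_mul, mul_zero]
  have hrank : ∀ j, j ≠ 0 → j < q → Module.finrank ℂ (LinearMap.range (P j)) ≠ 0 := fun j hj0 hjq e => by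
    have h1 := (hproj j).trace
    have h2 := trace_mul_eigProj ρ 1 z q (ζ ^ j)
    rw [map_one, one_mul] at h2
    simp only [one_mul] at h2
    rw [h2, e, Nat.cast_zero, mul_eq_zero] at h1
    have h3 := h1.resolve_left (inv_ne_zero hqC)
    have hsum := hgeom j hj0 hjq
    rw [Finset.range_eq_Ico, Finset.sum_eq_sum_Ico_succ_bot hq0] at h3 hsum
    rw [pow_zero, one_mul, pow_zero, map_one, LinearMap.trace_one, Module.finrank_pi, Fintype.card_fin,
      Finset.sum_congr rfl (g := fun i => ((ζ ^ j)⁻¹) ^ i * c) fun i hi => by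
        rw [hz i (Finset.mem_Ico.1 hi).1 (Finset.mem_Ico.1 hi).2], ← Finset.sum_mul] at h3
    rw [pow_zero] at hsum
    exact hc (by linear_combination c * hsum - h3)
  have hk : ∀ j, j ≠ 0 → j < q → k ≤ Module.finrank ℂ (LinearMap.range (P j)) := by
    intro j hj0 hjq
    have hinv : ∀ (e : ↥E) (x : Fin n → ℂ), x ∈ LinearMap.range (P j) → ρ e x ∈ LinearMap.range (P j) := by
      rintro e x ⟨v, rfl⟩
      refine ⟨ρ e v, ?_⟩
      rw [← Module.End.mul_apply, ← Module.End.mul_apply, (commute_eigProj ((hEz e e.2).map ρ) q _).eq]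
    let σ : Representation ℂ ↥E ↥(LinearMap.range (P j)) :=
      { toFun := fun e => (ρ e).restrict (hinv e)
        map_one' := LinearMap.ext fun x => Subtype.ext (by simp)
        map_mul' := fun e e' => LinearMap.ext fun x => Subtype.ext (by simp) }
    refine hmin _ σ fun e => hrank j hj0 hjq ?_
    -- `t` fixes the whole eigenspace, so its trace there is the dimension
    have heq : ρ t * P j = P j := LinearMap.ext fun v => by
      have := congrArg Subtype.val (LinearMap.congr_fun e ⟨P j v, v, rfl⟩)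
      exact this
    have h1 := (hproj j).trace
    rw [← heq, htP j hj0 hjq] at h1
    have h2 : ((Module.finrank ℂ (LinearMap.range (ρ t * P j)) : ℕ) : ℂ) = ((0 : ℕ) : ℂ) := by
      rw [Nat.cast_zero]; exact h1.symm
    rw [heq] at h2
    exact Nat.cast_injective h2
  have hsum : ∑ j ∈ Finset.range q, Module.finrank ℂ (LinearMap.range (P j)) = n := by
    have h1 := congrArg (LinearMap.trace ℂ _) (sum_eigProj (T := ρ z) hζ hq.one_lt)
    rw [map_sum, LinearMap.trace_one, Module.finrank_pi, Fintype.card_fin,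
      Finset.sum_congr rfl fun j _ => (hproj j).trace] at h1
    exact_mod_cast h1
  rw [← hsum, Finset.range_eq_Ico, Finset.sum_eq_sum_Ico_succ_bot hq0]
  refine le_add_left (le_of_eq_of_le ?_ (Finset.card_nsmul_le_sum (Finset.Ico (0 + 1) q) _ k fun j hj => ?_))
  · rw [Nat.card_Ico, smul_eq_mul]
  · exact hk j (by have := (Finset.mem_Ico.1 hj).1; omega) (Finset.mem_Ico.1 hj).2

variable [Finite G] {S : Sylow 2 G} {σ τ : G} {n : ℕ}

namespace Hyp

variable (h : Hyp S σ τ n) (hC : IsCoatom (centralizer ({central σ n} : Set G))) {q : ℕ} [Fact q.Prime]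
  (hg : Good S σ n q) (P : Principal S σ τ n)
include h hC hg

/-- The congruence of a good prime. -/
theorem line_congr : (q : ℤ) ∣ (P.m : ℤ) ^ 2 * P.x * ((P.x : ℤ) + P.δ) - 2 := by
  have h1 : (q : ℤ) ∣ ((centralizer ({central σ n} : Set G)).index : ℤ) - 1 :=
    Nat.modEq_iff_dvd.1 (h.good_modEq hC hg).symm
  have h2 : (q : ℤ) ∣ 2 * (((centralizer ({central σ n} : Set G)).index : ℤ) - 1) := h1.mul_left 2
  rwa [mul_sub, mul_one, P.index_eq] at h2

variable {z : G} (hzY : z ∈ opOf q (coreCent (central σ n))) (hzR : z ∈ fixR (central σ n) τ) (hz1 : z ≠ 1)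
  (hzq : z ^ q = 1)
include hzY hzR hz1 hzq

/-- A reflection centralises the inverted part, or the bounds for `E ≅ PSL₂(l)` hold. -/
theorem line_bounds :
    (∃ ρ ∈ centralizer ({z} : Set G), orderOf ρ = 2 ∧ ρ ≠ central σ n ∧ Commute ρ (central σ n) ∧
      ∀ d ∈ locD σ τ n (centralizer ({z} : Set G)), Commute ρ d) ∨
    ∃ l k hh : ℕ, IsPrimePow l ∧ Odd l ∧ 5 ≤ l ∧ 2 ≤ k ∧
      (Nat.card ↥(centralizer ({z} : Set G) ⊓ centralizer ({central σ n} : Set G))).factorization 2 = k ∧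
      Odd hh ∧ ((l + 1 = 2 ^ k * Nat.card ↥(locD σ τ n (centralizer ({z} : Set G))) ∧ 2 * hh + 1 = l) ∨
        (l = 2 ^ k * Nat.card ↥(locD σ τ n (centralizer ({z} : Set G))) + 1 ∧ 2 * hh = l + 1)) ∧
      (q - 1) * (l - 1) ≤ 2 * P.x ∧ l - 1 ≤ 2 * P.A.natAbs ∧ l - 1 ≤ 2 * P.B.natAbs ∧
      (fixR (central σ n) τ ≤ normalizer (zpowers z : Set G) →
        ∀ κ : ℕ, idx σ τ n = κ * Nat.card ↥(locD σ τ n (centralizer ({z} : Set G))) →
          ((l * hh : ℕ) : ℤ) ∣ (κ : ℤ) * (P.m : ℤ) ^ 2 * P.x * ((P.x : ℤ) + P.δ)) := by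
  have hd := h.lineData hC hg hzY hzR hz1
  rcases hd.arith with hA | ⟨F, _, _, k, hodd, h5, ⟨e⟩, h4E, hER, -, hk, hkfac, hl⟩
  · exact Or.inl hA
  right
  set t := central σ n with ht
  set H := centralizer ({z} : Set G) with hH
  set d := Nat.card ↥(locD σ τ n H) with hddef
  set l := Fintype.card F with hldef
  have hdodd : Odd d := odd_of_le (hd.le_E.trans inf_le_left) h.odd_coreCent
  obtain ⟨d₀, hd₀⟩ := hdodd
  obtain ⟨j, hj⟩ : ∃ j, 2 ^ k = 4 * j := ⟨2 ^ (k - 2), by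
    rw [show (4 : ℕ) = 2 ^ 2 from rfl, ← pow_add, show 2 + (k - 2) = k by omega]⟩
  have hkd : 2 ^ k * d = 4 * (j * d) := by rw [hj, mul_assoc]
  obtain ⟨hh, hhodd, hcase, hprod⟩ : ∃ hh : ℕ, Odd hh ∧
      ((l + 1 = 2 ^ k * d ∧ 2 * hh + 1 = l) ∨ (l = 2 ^ k * d + 1 ∧ 2 * hh = l + 1)) ∧
      (l - 1) * (l + 1) = 2 * (hh * (2 ^ k * d)) := by
    rcases hl with h1 | h1
    · refine ⟨2 * (j * d) - 1, ⟨j * d - 1, by omega⟩, Or.inl ⟨h1, by omega⟩, ?_⟩
      rw [h1, show l - 1 = 2 * (2 * (j * d) - 1) by omega]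
      ring
    · refine ⟨2 * (j * d) + 1, ⟨j * d, rfl⟩, Or.inr ⟨h1, by omega⟩, ?_⟩
      rw [show l - 1 = 2 ^ k * d by omega, show l + 1 = 2 * (2 * (j * d) + 1) by omega]
      ring
  have hdeg : ∀ ξ : IrrCharacter G, (ξ : G → ℂ) ≠ (fun _ => 1) → l - 1 ≤ 2 * charDegree (ξ : G → ℂ) := by
    intro ξ hξ
    obtain ⟨N, ρ, -, hχ⟩ := ξ.2
    have hN : charDegree (ξ : G → ℂ) = N := by
      rw [charDegree, ← hχ, Representation.char_one, Module.finrank_pi, Fintype.card_fin, Complex.natCast_re,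
        Nat.floor_natCast]
    have hne : (ρ.comp (locE H).subtype) ⟨t, h4E (left_mem_four _ _)⟩ ≠ 1 := fun e' => h.central_ne_one
      (h.faithful ξ hξ (by
        rw [← hχ, Representation.character, Representation.character,
          show ρ t = ρ 1 from e'.trans (map_one ρ).symm]))
    have := PSL.finrank_ge h5 e (M := Fin N → ℂ) (ρ.comp (locE H).subtype) hne
    rw [Module.finrank_pi, Fintype.card_fin] at this
    omega
  refine ⟨l, k, hh, FiniteField.isPrimePow_card F, hodd, h5, hk, hkfac, hhodd, hcase, ?_,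
    P.deg₂ ▸ hdeg _ P.ne_one₂, P.deg₃ ▸ hdeg _ P.ne_one₃, fun hR κ hκ => ?_⟩
  · -- the eigenspaces
    obtain ⟨N, ρ, -, hχ⟩ := P.χ.2
    have hN : P.x = N := by
      show charDegree (P.χ : G → ℂ) = N
      rw [charDegree, ← hχ, Representation.char_one, Module.finrank_pi, Fintype.card_fin, Complex.natCast_re,
        Nat.floor_natCast]
    obtain ⟨c, hc⟩ := P.int_value z
    have hzo : orderOf z = q := orderOf_eq_prime hzq hz1
    have hEz : ∀ x ∈ locE H, Commute x z := fun x hx => mem_centralizer_singleton_iff.1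
      (((iInf_le (fun i : ℕ => (derivedSeries ↥H i).map H.subtype) 0).trans (map_subtype_le _)) hx)
    have hzt : Commute t z := (h.commute_central (h.mem_fixR.1 hzR).1).symm
    have hqodd : Odd q := hzo ▸ h.odd_of_mem (h.mem_fixR.1 hzR).1
    have hb := eigen_bound (E := locE H) (Fact.out : q.Prime) ρ hzq (h4E (left_mem_four _ _)) hEz (δ := (P.δ : ℂ))
      (c := (c : ℂ)) (k := l / 2) (fun i => ?_) (fun i hi hiq => ?_) ?_ fun M π hπ => ?_
    · obtain ⟨i₀, hi₀⟩ := hodd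
      rw [hN, show l - 1 = 2 * (l / 2) by omega, show (q - 1) * (2 * (l / 2)) = 2 * ((q - 1) * (l / 2)) by ring]
      omega
    · rw [show LinearMap.trace ℂ _ (ρ (t * z ^ i)) = (P.χ : G → ℂ) (t * z ^ i) by rw [← hχ]; rfl]
      refine P.value _ ?_
      rw [(hzt.pow_right i).orderOf_mul_eq_mul_orderOf_of_coprime, h.orderOf_central]
      · exact even_two.mul_right _
      · rw [h.orderOf_central]
        exact Nat.coprime_two_left.2 (Odd.of_dvd_nat (hzo ▸ hqodd) (orderOf_pow_dvd i))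
    · rw [show LinearMap.trace ℂ _ (ρ (z ^ i)) = (P.χ : G → ℂ) (z ^ i) by rw [← hχ]; rfl]
      obtain ⟨θ, hθ⟩ := Char.exists_ringAut_pow q i (Fact.out : q.Prime).pos
        ((Fact.out : q.Prime).coprime_iff_not_dvd.2 fun hdvd => absurd (Nat.le_of_dvd hi hdvd) (not_le.2 hiq)).symm
      rw [← Char.ringAut_character_eq_pow (irr_isChar P.χ) θ hθ (g := z) hzo.dvd, hc, map_intCast]
    · intro e'
      refine hz1 (P.faithful h ?_)
      rw [hc, e', ← hN, charDeg_spec' P.χ]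
      rfl
    · have := PSL.finrank_ge h5 e π hπ
      omega
  · -- the order of `E R`
    have hRN : fixR t τ ≤ normalizer (locE H : Set G) := fun g hgR => by
      refine hd.normalizer_le (mem_normalizer_fintype fun x hx => ?_)
      obtain ⟨i, hi⟩ : ∃ i : ℤ, z ^ i = g⁻¹ * z * g⁻¹⁻¹ :=
        Subgroup.mem_zpowers_iff.1 ((mem_normalizer_iff.1 (hR (inv_mem hgR)) z).1 (mem_zpowers z))
      have h1 := ((show Commute x z from mem_centralizer_singleton_iff.1 hx).zpow_right i).conj g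
      rw [hi, show g * (g⁻¹ * z * g⁻¹⁻¹) * g⁻¹ = z by group] at h1
      exact mem_centralizer_singleton_iff.2 h1.eq
    have h1 : Nat.card ↥(locE H) * Nat.card ↥(fixR t τ) ∣ Nat.card G := by
      refine dvd_trans (dvd_of_eq ?_) (Subgroup.card_subgroup_dvd_card (fixR t τ ⊔ locE H))
      have h2 := Grp.card_sup_mul_card_inf hRN
      rw [inf_comm, hER, Subgroup.card_bot, mul_one] at h2
      rw [h2, mul_comm]
    have hE : Nat.card ↥(locE H) = l * hh * (2 ^ k * d) := by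
      have h2 := PSL.card_mul (F := F) hodd
      rw [← Nat.card_congr e.toEquiv, hprod] at h2
      refine Nat.eq_of_mul_eq_mul_left two_pos ?_
      rw [h2]
      ring
    have hU : Nat.card ↥(coreCent t) = κ * d * Nat.card ↥(fixR t τ) := by rw [← hκ, h.idx_mul]
    have h3 : ((l * hh * (2 ^ k * d) * Nat.card ↥(fixR t τ) : ℕ) : ℤ) ∣
        2 ^ (n - 1) * ((κ * d * Nat.card ↥(fixR t τ) : ℕ) : ℤ) * (P.m : ℤ) ^ 2 * P.x * ((P.x : ℤ) + P.δ) := by
      rw [← hE, ← hU, ← P.card_eq h]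
      exact_mod_cast h1
    have hdR : ((d : ℤ) * Nat.card ↥(fixR t τ)) ≠ 0 :=
      mul_ne_zero (by exact_mod_cast (show d ≠ 0 by omega)) (by exact_mod_cast Nat.card_pos.ne')
    have h4 : ((l * hh : ℕ) : ℤ) * 2 ^ k ∣
        2 ^ (n - 1) * ((κ : ℤ) * (P.m : ℤ) ^ 2 * P.x * ((P.x : ℤ) + P.δ)) := by
      refine (mul_dvd_mul_iff_right hdR).1 (Eq.mp ?_ h3)
      push_cast
      congr 1 <;> ring
    refine IsCoprime.dvd_of_dvd_mul_left ?_ (dvd_trans (dvd_mul_right _ _) h4)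
    have hcop : (l * hh).Coprime (2 ^ (n - 1)) :=
      (Nat.coprime_two_right.2 (hodd.mul hhodd)).pow_right _
    have := Int.isCoprime_iff_gcd_eq_one.2 (show Int.gcd ((l * hh : ℕ) : ℤ) ((2 ^ (n - 1) : ℕ) : ℤ) = 1 by
      rw [Int.gcd_natCast_natCast]; exact hcop)
    simpa using this

end Hyp

end Cfsg.Agent.Invol.GW.Dihedral
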