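import Cfsg.Agent.Lib.Invol.GW.Dihedral.BadCount
import Cfsg.Agent.Lib.Invol.GW.Dihedral.CaseBounds
import Cfsg.Agent.Lib.Invol.GW.Dihedral.ArithD

/-!
# Gorenstein–Walter, dihedral, maximal centraliser: every prime of the core is good

If three were bad for `τ`, a fixed element `z` of order `q ≠ 3` of `σ * τ` in `[U, τ]` has a linear centraliser
whose parameters satisfy the hypotheses of the last arithmetic leaf, which is contradictory.
-/

set_option autoImplicit false
set_option linter.unusedSectionVars false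
set_option linter.style.haveILetI false

namespace Cfsg.Agent.Invol.GW.Dihedral

open Subgroup Klein
open scoped Pointwise commutatorElement

universe u

variable {G : Type u} [Group G] [Finite G] {S : Sylow 2 G} {σ τ : G} {n : ℕ}

namespace Hyp

variable (h : Hyp S σ τ n)
include h

/-- With `n = 3` the two classes of reflections come back to `τ` after two turns. -/
theorem idx_symm_symm (hn : n = 3) : idx σ (σ * (σ * τ)) n = idx σ τ n := by
  have e : σ * (σ * τ) = central σ n * τ := by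
    rw [← mul_assoc, ← pow_two, central, hn]; norm_num
  have hR : fixR (central σ n) (σ * (σ * τ)) = fixR (central σ n) τ := by
    ext x
    rw [e, h.mem_fixR, fixR, Subgroup.mem_inf, mem_centralizer_singleton_iff]
    refine and_congr_right fun hxU => ⟨fun hc => ?_, fun hc => ((h.commute_central hxU).mul_right hc).eq⟩
    have h1 := (h.commute_central hxU).mul_right (show Commute x (central σ n * τ) from hc)
    rwa [← mul_assoc, h.central_mul_self, one_mul] at h1
  rw [idx, idx, hR]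

variable (hC : IsCoatom (centralizer ({central σ n} : Set G)))
include hC

/-- Three is not bad. -/
theorem not_bad (hbad : Bad S σ τ n 3) (hY3 : opOf 3 (coreCent (central σ n)) ≠ ⊥) : False := by
  obtain ⟨hn, -⟩ := id hbad
  subst hn
  obtain ⟨q, hqp, hq, hne⟩ := h.exists_prime_fixed hC hbad hY3
  haveI : Fact q.Prime := ⟨hqp⟩
  obtain ⟨⟨z, hzE⟩, hz'⟩ : ∃ z : ↥(opOf q (coreCent (central σ 3)) ⊓ fixR (central σ 3) (σ * τ) : Subgroup G),
      orderOf z = q := by
    obtain ⟨k, hk⟩ := IsPGroup.iff_card.1 ((isPGroup_opOf q (coreCent (central σ 3))).to_le inf_le_left :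
      IsPGroup q ↥(opOf q (coreCent (central σ 3)) ⊓ fixR (central σ 3) (σ * τ) : Subgroup G))
    refine exists_prime_orderOf_dvd_card' q (hk ▸ dvd_pow_self q ?_)
    rintro rfl
    exact hne (Subgroup.card_eq_one.1 (by rw [hk, pow_zero]))
  rw [Subgroup.orderOf_mk] at hz'
  obtain ⟨hzY, hzR⟩ := Subgroup.mem_inf.1 hzE
  have hzq : z ^ q = 1 := hz' ▸ pow_orderOf_eq_one z
  have hz1 : z ≠ 1 := fun e => hqp.ne_one (by rw [← hz', e, orderOf_one])
  have hg := h.good_of_fixed hC hbad hY3 hq hzY hz1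
  obtain ⟨P⟩ := h.symm.exists_principal
  rcases h.symm.line_bounds hC hg P hzY hzR hz1 hzq with ⟨ρ, hρz, hρ, hρne, hρt, hρc⟩ |
      ⟨l, k, hh, hl, -, -, -, hkfac, -, hcase, hE, hA, hB, hdiv⟩
  · exact h.no_invol hC hbad hY3 hq hzY hzR hz1 hρz hρ hρne hρt hρc
  rw [h.bad_factorization_centralizer hC hbad hY3 hq hzY hzR hz1] at hkfac
  subst hkfac
  obtain ⟨he, he3, he'⟩ := h.fixed_index hC hbad hY3 hq hzY hzR hz1 hzq
  -- the order of the inverted part
  have hdm := h.card_locD hC hbad hY3 hq hzY hzR hz1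
  obtain ⟨i, hi⟩ := IsPGroup.iff_card.1 (h.isPGroup_locD_fixR hC hbad hY3 hq hzY hzR hz1)
  have hi1 : 1 ≤ i := by
    rcases Nat.eq_zero_or_pos i with rfl | hi1
    · exact absurd (Subgroup.card_eq_one.1 (by rw [hi, pow_zero]))
        (h.locD_fixR_ne_bot hC hbad hY3 hq hzY hzR hz1)
    · exact hi1
  rw [hi] at hdm
  have ha := h.idx_tau_eq hC hbad hY3 hq hzY hzR hz1
  have ha1 := h.idx_symm_eq hC hbad hY3 hq hzY hzR hz1
  have hzN := h.opOf_le_coreCommutator hC hbad hY3 hq hzY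
  -- divisibilities
  have h3dm : ¬ 3 ∣ Nat.card ↥(⁅coreCent (central σ 3), zpowers τ⁆ ⊓
      locD σ (σ * τ) 3 (centralizer ({z} : Set G)) : Subgroup G) := fun h3 =>
    h.coreCommutator_coprime hC hbad hY3 (h3.trans (Subgroup.card_dvd_of_le inf_le_left))
  have hqdm : q ∣ Nat.card ↥(⁅coreCent (central σ 3), zpowers τ⁆ ⊓
      locD σ (σ * τ) 3 (centralizer ({z} : Set G)) : Subgroup G) := by
    obtain ⟨y, hyY, hy1, hyq, hyi⟩ := h.exists_moved hC hbad hY3 hq hzY hzR hz1 hzq
    have hyN := h.opOf_le_coreCommutator hC hbad hY3 hq hyY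
    rw [← orderOf_eq_prime hyq hy1]
    exact orderOf_dvd_natCard _ (Subgroup.mem_inf.2 ⟨hyN, (h.mem_locD_iff hC hbad hY3 hq hzY hzR hz1).2
      ⟨opOf_le q _ hyY, h.coreCommutator_comm hC hbad hY3 hyN hzN, hyi⟩⟩)
  have hqG : q ∣ Nat.card ↥(⁅coreCent (central σ 3), zpowers τ⁆ ⊓ fixR (central σ 3) (σ * τ) : Subgroup G) := by
    rw [← hz']
    exact orderOf_dvd_natCard _ (Subgroup.mem_inf.2 ⟨hzN, hzR⟩)
  have hGdm := h.card_fixed_dvd hC hbad hY3 hq hzY hzR hz1
  have hGodd : Odd (Nat.card ↥(⁅coreCent (central σ 3), zpowers τ⁆ ⊓ fixR (central σ 3) (σ * τ) : Subgroup G)) :=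
    odd_of_le (inf_le_left.trans h.coreCommutator_le) h.odd_coreCent
  have hdU : Odd (Nat.card ↥(locD σ (σ * τ) 3 (centralizer ({z} : Set G)))) :=
    odd_of_le (fun x hx => ((h.mem_locD_iff hC hbad hY3 hq hzY hzR hz1).1 hx).1) h.odd_coreCent
  -- `R₁` normalises the line
  have hR : fixR (central σ 3) (σ * τ) ≤ normalizer (zpowers z : Set G) := fun r hr => by
    have hrU := (h.symm.mem_fixR.1 hr).1
    refine mem_normalizer_fintype fun x hx => ?_
    obtain ⟨j, rfl⟩ := mem_zpowers_iff.1 hx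
    rw [← conj_zpow]
    refine zpow_mem (h.fixed_line hC hbad hY3 hq hzY hzR hz1 hzq (conj_mem_opOf q hrU hzY)
      (mul_mem (mul_mem hr hzR) (inv_mem hr)) ?_) j
    rw [conj_pow, hzq, mul_one, mul_inv_cancel]
  specialize hdiv hR _ ha1
  have hadd := P.idx_add
  rw [h.idx_symm_symm rfl] at hadd
  have hsp := P.index_inequality h.symm
  rw [h.idx_symm_symm rfl] at hsp
  have hcong := h.symm.line_congr hC hg P
  have hra : ¬ (3 * idx σ τ 3 ≤ idx σ (σ * τ) 3 ∨ 3 * idx σ (σ * τ) 3 ≤ idx σ τ 3) :=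
    h.false_of_ratio hC rfl (h.fixR_ne_bot hC hbad hY3)
  rw [← hdm] at hdU hcase ha1
  rw [ha, ha1] at hra hadd hsp
  generalize hGdef : Nat.card ↥(⁅coreCent (central σ 3), zpowers τ⁆ ⊓ fixR (central σ 3) (σ * τ) : Subgroup G) = γ
    at hGdm hGodd hqG hra hadd hsp
  generalize Nat.card ↥(⁅coreCent (central σ 3), zpowers τ⁆ ⊓
    locD σ (σ * τ) 3 (centralizer ({z} : Set G)) : Subgroup G) = dm at h3dm hqdm hGdm hdU hcase hra hadd hsp
  generalize (normalizer ((opOf q (coreCent (central σ 3)) ⊓ fixR (central σ 3) (σ * τ) : Subgroup G) :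
    Set G)).relIndex (coreCent (central σ 3)) = e at he he3 he' hdiv hra hadd hsp
  -- the leaf
  obtain ⟨D, hD⟩ : ∃ D : ℕ, (D : ℤ) = (P.x : ℤ) + P.δ := ⟨_, Int.toNat_of_nonneg (P.add_pos h.symm).le⟩
  rw [← hD] at hsp hdiv hcong
  have hX := P.two_pow_theta
  have hleaf : Arith.Leaf q 2 (dm * 3 ^ i) l 3 P.m P.Θ (2 ^ 3 * P.Θ) P.x D :=
    { q_prime := hqp
      q_odd := h.odd_prime hC hg.1
      two_le_k := le_rfl
      d_odd := hdU
      q_dvd := hqdm.mul_right _
      l_pow := hl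
      hl := hcase.imp And.left And.left
      three_le_n := le_rfl
      m_odd := P.m_odd
      hX := rfl
      hx := by rcases P.delta with hd | hd <;> rw [hd] at hD hX <;> omega
      hcong := (Nat.modEq_iff_dvd.2 (by push_cast; exact hcong)).symm
      hE := hE }
  refine hleaf.false_LD (i := i) (dm := dm) (e := e) (G := γ) (h.five_le_prime hC hbad hY3 hq hzY hzR hz1 hzq)
    hi1 (mul_comm _ _) h3dm hqdm hGodd hqG hGdm he ?_ rfl rfl ?_ ?_ ?_ ?_ ?_
  · exact he'.imp id fun hd => ⟨he3, hd.imp (dvd_of_mul_left_dvd) (dvd_of_mul_left_dvd)⟩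
  · linarith
  · by_contra hlt
    push Not at hlt
    exact hra (Or.inr (by nlinarith))
  · by_contra hlt
    push Not at hlt
    exact hra (Or.inl (by nlinarith))
  · have hb : (l : ℤ) - 1 ≤ 2 * ((min P.A.natAbs P.B.natAbs : ℕ) : ℤ) := by omega
    have hS : (0 : ℤ) ≤ (((γ * dm : ℕ) : ℤ) + ((e * (dm * 3 ^ i) : ℕ) : ℤ)) ^ 2 * P.x := by positivity
    have hX' : (((2 ^ 3 * P.Θ : ℕ) : ℤ)) = (P.x : ℤ) - P.δ := by rw [hX]; push_cast; ring
    have hl1 : (0 : ℤ) ≤ (l : ℤ) - 1 := by have := hl.two_le; omega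
    rw [hX']
    generalize ((min P.A.natAbs P.B.natAbs : ℕ) : ℤ) = b at hb hsp
    generalize (P.x : ℤ) - P.δ = X' at hsp ⊢
    generalize ((γ * dm : ℕ) : ℤ) = u at hsp hS ⊢
    generalize ((e * (dm * 3 ^ i) : ℕ) : ℤ) = v at hsp hS ⊢
    rcases le_total ((v - u) ^ 2 * X' ^ 2) (4 * ((u + v) ^ 2 * P.x)) with hc | hc
    · have h1 := mul_le_mul_of_nonneg_right hc hl1
      have h2 := mul_nonneg hS (show (0 : ℤ) ≤ D from Int.natCast_nonneg D)
      linarith
    · have h1 := mul_le_mul_of_nonneg_left hb (sub_nonneg.2 hc)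
      linarith
  · have h1 : ((l : ℕ) : ℤ) ∣ ((e * P.m ^ 2 * P.x * D : ℕ) : ℤ) := by
      push_cast
      exact (Int.natCast_dvd_natCast.2 (dvd_mul_right l hh)).trans hdiv
    exact Int.natCast_dvd_natCast.1 h1

/-- With a maximal centraliser every prime of the core of it is good. -/
theorem good_of_opOf_ne_bot {q : ℕ} [Fact q.Prime] (hY : opOf q (coreCent (central σ n)) ≠ ⊥) : Good S σ n q := by
  by_cases hq : q = 3
  · subst hq
    rcases h.good_or_bad hC hY with hg | hb | hb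
    · exact hg
    · exact (h.not_bad hC hb hY).elim
    · exact (h.symm.not_bad hC hb hY).elim
  · exact h.good_of_ne_three hC hY hq

end Hyp

theorem goodDone_holds {G : Type u} [Group G] [Finite G] (S : Sylow 2 G) (σ τ : G) (n : ℕ) (h : Hyp S σ τ n)
    (hC : IsCoatom (centralizer ({central σ n} : Set G))) (q : ℕ) (hq : q.Prime)
    (hY : opOf q (coreCent (central σ n)) ≠ ⊥) : Good S σ n q :=
  haveI : Fact q.Prime := ⟨hq⟩
  h.good_of_opOf_ne_bot hC hY

end Cfsg.Agent.Invol.GW.Dihedral
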