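import Cfsg.Agent.Lib.Invol.GW.Dihedral.Leaf

/-!
# Gorenstein–Walter, dihedral: the core of a fusing centraliser of an element of `O_l(U) ⊓ R`

With a maximal centraliser of `t`, the core of `C(z)`, `z ∈ O_l(U) ⊓ R`, is centralised by `⟨t, τ⟩` as soon as
`C(z)` fuses this four group.
-/

set_option autoImplicit false
set_option linter.unusedSectionVars false
set_option linter.style.haveILetI false

namespace Cfsg.Agent.Invol.GW.Dihedral

open Subgroup Klein
open scoped Pointwise

universe u

variable {G : Type u} [Group G] [Finite G]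

namespace Hyp

variable {S : Sylow 2 G} {σ τ : G} {n : ℕ} (h : Hyp S σ τ n)
include h

theorem oddOf_centralizer_le (hC : IsCoatom (centralizer ({central σ n} : Set G))) {l : ℕ} [Fact l.Prime]
    {z : G} (hzY : z ∈ opOf l (coreCent (central σ n))) (hzR : z ∈ fixR (central σ n) τ) (hz1 : z ≠ 1)
    (hfuse : Fuses (centralizer ({z} : Set G)) (central σ n) τ) :
    oddOf (centralizer ({z} : Set G)) ≤ fixR (central σ n) τ := by
  set t := central σ n with ht
  set V := four t τ
  set H := centralizer ({z} : Set G) with hH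
  set O := oddOf H with hO
  have hVH : V ≤ H := fun v hv =>
    mem_centralizer_singleton_iff.2 (h.commute_of_mem_fixR hzR hv).symm.eq
  obtain ⟨g, hnH, hnt, hnu⟩ : ∃ g ∈ H, g * t * g⁻¹ = τ ∧ g * τ * g⁻¹ = t * τ := hfuse
  have hVO : V ≤ normalizer (O : Set G) := hVH.trans (le_normalizer_oddOf H)
  have hOodd : Odd (Nat.card ↥O) := odd_card_oddOf H
  haveI := isSolvable_of_odd hOodd
  haveI := h.isSolvable_coreCent
  have hYl : opOf l (coreCent t) ≠ ⊥ := fun e => hz1 (by rwa [e, mem_bot] at hzY)
  suffices hc : ∀ p : ℕ, p.Prime → ∀ w ∈ opOf p O, Commute w t by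
    refine h.le_fixR hOodd fun x hx v hv => ?_
    have hkey := le_centralizer_of_cores hVO (h.coprime_four hOodd) fun p hp w hw v hv => by
      have hwu : Commute w τ := by
        have hw' : g⁻¹ * w * g ∈ opOf p O := by
          simpa using (mem_normalizer_iff.1 (inv_mem ((le_normalizer_oddOf H).trans
            (normalizer_le_normalizer_opOf p O) hnH)) w).1 hw
        have := (hc p hp _ hw').conj g
        rwa [hnt, show g * (g⁻¹ * w * g) * g⁻¹ = w by group] at this
      rcases h.mem_four_tau.1 hv with rfl | rfl | rfl | rfl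
      exacts [Commute.one_left _, (hc p hp w hw).symm, hwu.symm, ((hc p hp w hw).mul_right hwu).symm]
    exact (mem_centralizer_iff.1 (hkey hv) x hx)
  intro p hp
  haveI : Fact p.Prime := ⟨hp⟩
  set W := opOf p O
  have hWn : H ≤ normalizer (W : Set G) :=
    (le_normalizer_oddOf H).trans (normalizer_le_normalizer_opOf p O)
  have hcom : ∀ q : ℕ, q.Prime → q ≠ l → opOf q (coreCent t) ≤ H := fun q hq hql y hy => by
    haveI : Fact q.Prime := ⟨hq⟩
    exact mem_centralizer_singleton_iff.2 (commute_of_disjoint
      (inf_eq_bot_of_primes hql (isPGroup_opOf q _) (isPGroup_opOf l _)) hy hzY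
      (le_normalizer_opOf l _ (opOf_le q _ hy)) (le_normalizer_opOf q _ (opOf_le l _ hzY))).eq
  by_cases hYp : opOf p (coreCent t) = ⊥
  · -- then `t`, `τ` and `t * τ` act without fixed points
    have hpl : p ≠ l := fun e => hYl (e ▸ hYp)
    have hfix : ∀ w ∈ W, Commute w t → w = 1 := by
      intro w hw hwt
      have hwp : ∃ k, w ^ p ^ k = 1 := by
        obtain ⟨k, hk⟩ := isPGroup_opOf p O ⟨w, hw⟩
        exact ⟨k, congrArg Subtype.val hk⟩
      have hwO : w ∈ O := opOf_le p O hw
      have hwU : w ∈ coreCent t := h.mem_coreCent_of_odd hwt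
        (Odd.of_dvd_nat hOodd (O.orderOf_dvd_natCard hwO))
      have hwY : ∀ q : ℕ, q.Prime → ∀ y ∈ opOf q (coreCent t), y ∈ H → Commute w y := by
        intro q hq y hy hyH
        haveI : Fact q.Prime := ⟨hq⟩
        by_cases hqp : q = p
        · subst hqp
          rw [hYp, mem_bot] at hy
          exact hy ▸ Commute.one_right w
        · exact commute_of_disjoint (inf_eq_bot_of_primes (Ne.symm hqp) (isPGroup_opOf p O) (isPGroup_opOf q _))
            hw hy (le_normalizer_opOf q _ hwU) (hWn hyH)
      have hall : ∀ q : ℕ, q.Prime → ∀ y ∈ opOf q (coreCent t), Commute w y := by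
        intro q hq y hy
        by_cases hql : q = l
        · subst hql
          have hPQ := Grp.thompson_PQ (p := q) (zpowers z) (zpowers w) ?_ ?_ ?_ (opOf q (coreCent t))
            (isPGroup_opOf q _) (zpowers_le.2 (le_normalizer_opOf q _ (opOf_le q _ hzY)))
            (zpowers_le.2 (le_normalizer_opOf q _ hwU)) ?_
          · exact ((mem_centralizer_iff.1 (hPQ (mem_zpowers w))) y hy).symm
          · exact (isPGroup_opOf q _).to_le (zpowers_le.2 hzY)
          · obtain ⟨k, hk⟩ := hwp
            rw [Nat.card_zpowers]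
            exact (((Nat.coprime_primes hp hq).2 hpl).pow_left k).coprime_dvd_left
              (orderOf_dvd_of_pow_eq_one hk)
          · rw [zpowers_le, ← Grp.centralizer_singleton_eq_zpowers]
            exact mem_centralizer_singleton_iff.2
              (mem_centralizer_singleton_iff.1 (oddOf_le H hwO)).symm
          · rintro x ⟨hx1, hx2⟩
            rw [← Grp.centralizer_singleton_eq_zpowers] at hx2 ⊢
            exact mem_centralizer_singleton_iff.2 (hwY q hq x hx1 hx2).symm.eq
        · exact hwY q hq y hy (hcom q hq hql hy)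
      obtain ⟨k, hk⟩ := hwp
      have := mem_opOf_of_mem_fitting (mem_fitting_of_commute hwU hall) hk
      rwa [hYp, mem_bot] at this
    have hmove : ∀ v : G, (∀ w ∈ W, Commute w v → w = 1) → ∀ w ∈ W, Commute w (g * v * g⁻¹) → w = 1 := by
      intro v hv w hw hwv
      have hw' : g⁻¹ * w * g⁻¹⁻¹ ∈ W := (mem_normalizer_iff.1 (inv_mem (hWn hnH)) w).1 hw
      have h1 := hwv.conj g⁻¹
      rw [show g⁻¹ * (g * v * g⁻¹) * g⁻¹⁻¹ = v by group] at h1
      exact conj_eq_one_iff.1 (hv _ hw' h1)
    have hfu := hmove t hfix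
    rw [hnt] at hfu
    have hftu := hmove τ hfu
    rw [hnu] at hftu
    have hbot : W = ⊥ := by
      haveI hV4 : IsKleinFour V := h.isKleinFour_four
      haveI : IsMulCommutative V := ⟨⟨mul_comm_of_exponent_two hV4.exponent_two⟩⟩
      have hgen := Grp.generated_by_centralizers V W IsKleinFour.not_isCyclic
        (hVH.trans hWn) (h.coprime_four (odd_of_le (opOf_le p O) hOodd))
      rw [← hgen, eq_bot_iff]
      refine iSup₂_le fun v hv x hx => ?_
      have hxv : Commute x v := mem_centralizer_singleton_iff.1 hx.2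
      rw [mem_bot]
      rcases h.mem_four_tau.1 hv.1 with rfl | rfl | rfl | rfl
      exacts [absurd rfl hv.2, hfix x hx.1 hxv, hfu x hx.1 hxv, hftu x hx.1 hxv]
    intro w hw
    rw [hbot, mem_bot] at hw
    exact hw ▸ Commute.one_left t
  · -- the trick
    intro w hw
    refine mem_centralizer_singleton_iff.1 (h.trick hC hYp (isPGroup_opOf p O) (hWn (hVH (left_mem_four _ _)))
      (fun x hx => hWn (mem_centralizer_singleton_iff.2 ?_)) hw)
    by_cases hpl : p = l
    · subst hpl
      exact ((mem_omZ.1 hx).2.1 z hzY).eq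
    · exact mem_centralizer_singleton_iff.1 (hcom p hp hpl (omZ_le _ _ hx))

end Hyp

end Cfsg.Agent.Invol.GW.Dihedral
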