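import Cfsg.Agent.Lib.Invol.GW.Dihedral.Tools
import Cfsg.Agent.Lib.Invol.GW.Dihedral.Local
import Cfsg.Agent.Lib.Invol.GW.Klein.CoreCentral
import Cfsg.Agent.Lib.Invol.GW.Klein.Invert
import Cfsg.Agent.Lib.Invol.GW.Endgame
import Mathlib.RingTheory.RootsOfUnity.EnoughRootsOfUnity

/-!
# Gorenstein–Walter, dihedral, the end: the core is an inverted part extended by `R`

When `σ` centralises every `O_p(U)` it centralises `U`.  When moreover the fixed elements of `N = [U, τ]` centralise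
every `O_p(U)` and no nontrivial central element of an `O_p(U)` is fixed, `N` meets `R` trivially, is inverted, and
`U = N R`.
-/

set_option autoImplicit false
set_option linter.unusedSectionVars false
set_option linter.style.haveILetI false

namespace Cfsg.Agent.Invol.GW.Dihedral

open Subgroup Klein
open scoped commutatorElement

universe u

variable {G : Type u} [Group G] [Finite G] {S : Sylow 2 G} {σ τ : G} {n : ℕ}

namespace Hyp

variable (h : Hyp S σ τ n)
include h

theorem tau_mem_normalizer_coreCent : τ ∈ normalizer (coreCent (central σ n) : Set G) :=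
  h.four_le_normalizer_coreCent (right_mem_four _ _)

theorem sigma_mem_centralizer : σ ∈ centralizer ({central σ n} : Set G) := h.le_centralizer h.hσ

/-- A rotation centralising every `O_p(U)` centralises `U`. -/
theorem commute_sigma_of_opOf
    (hσY : ∀ p : ℕ, p.Prime → ∀ y ∈ opOf p (coreCent (central σ n)), Commute σ y) :
    ∀ x ∈ coreCent (central σ n), Commute σ x := by
  intro x hx
  haveI : Group.IsSolvable ↥(coreCent (central σ n)) := h.isSolvable_coreCent
  set c := x⁻¹ * (σ * x * σ⁻¹) with hc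
  have hcU : c ∈ coreCent (central σ n) := mul_mem (inv_mem hx) (h.conj_core h.sigma_mem_centralizer hx)
  have hcF : c ∈ (Cfsg.fittingSubgroup ↥(coreCent (central σ n))).map (coreCent (central σ n)).subtype := by
    refine mem_fitting_of_commute hcU fun p hp y hy => ?_
    have hy' : x * y * x⁻¹ ∈ opOf p (coreCent (central σ n)) := conj_mem_opOf p hx hy
    have e1 : σ * (x * y * x⁻¹) * σ⁻¹ = x * y * x⁻¹ := by rw [(hσY p hp _ hy').eq, mul_inv_cancel_right]
    have e2 : σ * y * σ⁻¹ = y := by rw [(hσY p hp _ hy).eq, mul_inv_cancel_right]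
    have e3 : (σ * x * σ⁻¹) * y * (σ * x * σ⁻¹)⁻¹ = x * y * x⁻¹ := by
      calc (σ * x * σ⁻¹) * y * (σ * x * σ⁻¹)⁻¹
          = (σ * x * σ⁻¹) * (σ * y * σ⁻¹) * (σ * x * σ⁻¹)⁻¹ := by rw [e2]
        _ = σ * (x * y * x⁻¹) * σ⁻¹ := by group
        _ = _ := e1
    show c * y = y * c
    calc c * y = x⁻¹ * ((σ * x * σ⁻¹) * y * (σ * x * σ⁻¹)⁻¹) * (σ * x * σ⁻¹) := by rw [hc]; group
      _ = y * c := by rw [e3, hc]; group
  have hσc : Commute σ c := by
    have hle : (Cfsg.fittingSubgroup ↥(coreCent (central σ n))).map (coreCent (central σ n)).subtype ≤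
        centralizer ({σ} : Set G) := by
      rw [fittingSubgroup_map_eq_iSup]
      exact iSup_le fun p y hy => mem_centralizer_singleton_iff.2 (hσY p p.2 y hy).eq.symm
    exact (show c * σ = σ * c from mem_centralizer_singleton_iff.1 (hle hcF)).symm
  -- the powers of `σ` translate `x`
  have hk : ∀ k : ℕ, σ ^ k * x * (σ ^ k)⁻¹ = x * c ^ k := by
    intro k
    induction k with
    | zero => simp
    | succ k ih =>
      rw [pow_succ', mul_inv_rev, show σ * σ ^ k * x * ((σ ^ k)⁻¹ * σ⁻¹) = σ * (σ ^ k * x * (σ ^ k)⁻¹) * σ⁻¹ by group,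
        ih, show σ * (x * c ^ k) * σ⁻¹ = (σ * x * σ⁻¹) * (σ * c ^ k * σ⁻¹) by group,
        (hσc.pow_right k).eq, mul_inv_cancel_right, pow_succ', ← mul_assoc x c, hc, mul_inv_cancel_left]
  have h1 := hk (2 ^ (n - 1))
  rw [← h.orderσ, pow_orderOf_eq_one, one_mul, inv_one, mul_one, h.orderσ, left_eq_mul] at h1
  have hc1 : c = 1 := by
    refine orderOf_eq_one_iff.1 (Nat.eq_one_of_dvd_coprimes (k := orderOf c)
      (Nat.Coprime.pow_left (n - 1) (Nat.coprime_two_left.2 (h.odd_of_mem hcU)))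
      (orderOf_dvd_of_pow_eq_one h1) dvd_rfl)
  have h2 := hk 1
  rw [pow_one, pow_one, hc1, mul_one] at h2
  exact mul_inv_eq_iff_eq_mul.1 h2

/-- Conjugation by a power of `τ` is trivial or conjugation by `τ`. -/
theorem eq_one_or_tau {w : G} (hw : w ∈ zpowers τ) : w = 1 ∨ w = τ := by
  obtain ⟨i, rfl⟩ := Subgroup.mem_zpowers_iff.1 hw
  rcases Int.even_or_odd i with ⟨j, rfl⟩ | ⟨j, rfl⟩
  · left
    rw [zpow_add, ← (Commute.refl τ).mul_zpow, h.tau_mul_self, one_zpow]
  · right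
    rw [zpow_add_one, two_mul, zpow_add, ← (Commute.refl τ).mul_zpow, h.tau_mul_self, one_zpow, one_mul]

theorem coreCommutator_le : ⁅coreCent (central σ n), zpowers τ⁆ ≤ coreCent (central σ n) := by
  refine commutator_le.2 fun k hk w hw => ?_
  rw [commutatorElement_def, show k * w * k⁻¹ * w⁻¹ = k * (w * k⁻¹ * w⁻¹) by group]
  refine mul_mem hk ((mem_normalizer_iff.1 ?_ _).1 (inv_mem hk))
  exact zpowers_le.2 h.tau_mem_normalizer_coreCent hw

theorem tau_mem_normalizer_coreCommutator :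
    τ ∈ normalizer ((⁅coreCent (central σ n), zpowers τ⁆ : Subgroup G) : Set G) :=
  normalizer_commutator_ge_right _ _ (mem_zpowers τ)

/-- The core is `[U, τ]` times `R`. -/
theorem exists_commutator_mul {x : G} (hx : x ∈ coreCent (central σ n)) :
    ∃ a ∈ ⁅coreCent (central σ n), zpowers τ⁆, ∃ r ∈ fixR (central σ n) τ, x = a * r := by
  obtain ⟨a, -, r, hr, -, hc, e, ha⟩ :=
    exists_inverted_mul h.odd_coreCent h.tau_mul_self h.tau_mem_normalizer_coreCent hx
  refine ⟨a, zpowers_le.2 ?_ ha, r, h.mem_fixR.2 ⟨hr, hc⟩, e⟩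
  have h1 := commutator_mem_commutator (H₁ := coreCent (central σ n)) (H₂ := zpowers τ) hx (mem_zpowers τ)
  rwa [commutatorElement_def, h.tau_inv] at h1

variable (hNY : ∀ p : ℕ, p.Prime → ∀ g ∈ fixR (central σ n) τ ⊓ ⁅coreCent (central σ n), zpowers τ⁆,
    ∀ y ∈ opOf p (coreCent (central σ n)), Commute g y)
  (hZR : ∀ p : ℕ, p.Prime → ∀ z ∈ opOf p (coreCent (central σ n)) ⊓ fixR (central σ n) τ,
    (∀ y ∈ opOf p (coreCent (central σ n)), Commute z y) → z = 1)
include hNY hZR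

theorem commutator_inf_fixR : ⁅coreCent (central σ n), zpowers τ⁆ ⊓ fixR (central σ n) τ = ⊥ := by
  haveI : Group.IsSolvable ↥(coreCent (central σ n)) := h.isSolvable_coreCent
  rw [eq_bot_iff]
  intro g hg
  obtain ⟨hgN, hgR⟩ := Subgroup.mem_inf.1 hg
  rw [mem_bot]
  by_contra hg1
  have hne : orderOf g ≠ 1 := fun e => hg1 (orderOf_eq_one_iff.1 e)
  obtain ⟨p, hp, m, hm⟩ := Nat.exists_prime_and_dvd hne
  haveI : Fact p.Prime := ⟨hp⟩
  set z := g ^ m with hz
  have hzp : z ^ p ^ 1 = 1 := by rw [pow_one, hz, ← pow_mul, mul_comm, ← hm, pow_orderOf_eq_one]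
  have hz1 : z ≠ 1 := fun e => by
    have h1 := Nat.le_of_dvd (Nat.pos_of_ne_zero fun e0 => by
      rw [e0, mul_zero] at hm
      exact (orderOf_pos g).ne' hm) (orderOf_dvd_of_pow_eq_one e)
    rw [hm] at h1
    have := hp.two_le
    rcases Nat.eq_zero_or_pos m with rfl | hm0
    · rw [mul_zero] at hm
      exact (orderOf_pos g).ne' hm
    · nlinarith
  have hzR : z ∈ fixR (central σ n) τ := pow_mem hgR m
  have hzN : z ∈ ⁅coreCent (central σ n), zpowers τ⁆ := pow_mem hgN m
  have hzU : z ∈ coreCent (central σ n) := (h.mem_fixR.1 hzR).1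
  have hzY : ∀ q : ℕ, q.Prime → ∀ y ∈ opOf q (coreCent (central σ n)), Commute z y :=
    fun q hq => hNY q hq z (Subgroup.mem_inf.2 ⟨hzR, hzN⟩)
  have hzl : z ∈ opOf p (coreCent (central σ n)) :=
    mem_opOf_of_mem_fitting (mem_fitting_of_commute hzU hzY) hzp
  exact hz1 (hZR p hp z (Subgroup.mem_inf.2 ⟨hzl, hzR⟩) (hzY p hp))

theorem commutator_inverted {x : G} (hx : x ∈ ⁅coreCent (central σ n), zpowers τ⁆) : τ * x * τ⁻¹ = x⁻¹ := by
  obtain ⟨a, -, e, he, hinv, hc, rfl, -⟩ := exists_inverted_mul (odd_of_le h.coreCommutator_le h.odd_coreCent)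
    h.tau_mul_self h.tau_mem_normalizer_coreCommutator hx
  have he1 : e = 1 := mem_bot.1 (h.commutator_inf_fixR hNY hZR ▸
    Subgroup.mem_inf.2 ⟨he, h.mem_fixR.2 ⟨h.coreCommutator_le he, hc⟩⟩)
  rw [he1, mul_one]
  exact hinv

omit hNY hZR

/-- With `R` nontrivial and meeting `[U, τ]` trivially, `U` has a nontrivial linear character trivial on `[U, τ]`
and fixed by `τ`; it is nontrivial on `R`. -/
theorem exists_linear_of_inf (hI : ⁅coreCent (central σ n), zpowers τ⁆ ⊓ fixR (central σ n) τ = ⊥)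
    (hR : fixR (central σ n) τ ≠ ⊥) :
    ∃ φ : ↥(coreCent (central σ n)) →* ℂˣ,
      (∀ v : ↥(coreCent (central σ n)), (v : G) ∈ ⁅coreCent (central σ n), zpowers τ⁆ → φ v = 1) ∧
      ∃ r : ↥(coreCent (central σ n)), (r : G) ∈ fixR (central σ n) τ ∧ φ r ≠ 1 := by
  haveI : Group.IsSolvable ↥(coreCent (central σ n)) := h.isSolvable_coreCent
  haveI : (⁅coreCent (central σ n), zpowers τ⁆.subgroupOf (coreCent (central σ n))).Normal := by
    exact normal_subgroupOf_of_le_normalizer (normalizer_commutator_ge_left _ _)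
  set M := ⁅coreCent (central σ n), zpowers τ⁆.subgroupOf (coreCent (central σ n)) with hM
  obtain ⟨r, hr, hr1⟩ := (Subgroup.bot_or_exists_ne_one _).resolve_left hR
  set ru : ↥(coreCent (central σ n)) := ⟨r, (h.mem_fixR.1 hr).1⟩ with hru
  haveI : Nontrivial (↥(coreCent (central σ n)) ⧸ M) := ⟨⟨QuotientGroup.mk ru, 1, fun e => hr1 (mem_bot.1 (hI ▸
    Subgroup.mem_inf.2 ⟨mem_subgroupOf.1 ((QuotientGroup.eq_one_iff ru).1 e), hr⟩))⟩⟩
  haveI : Group.IsSolvable (↥(coreCent (central σ n)) ⧸ M) :=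
    solvable_of_surjective (f := QuotientGroup.mk' M) (QuotientGroup.mk'_surjective M)
  obtain ⟨a, -, ha⟩ := SetLike.exists_of_lt
    (Group.IsSolvable.commutator_lt_top_of_nontrivial (↥(coreCent (central σ n)) ⧸ M))
  have hne : Abelianization.of a ≠ 1 := fun e => ha (by rwa [← Abelianization.ker_of, MonoidHom.mem_ker])
  haveI : Finite (Abelianization (↥(coreCent (central σ n)) ⧸ M)) :=
    inferInstanceAs (Finite ((↥(coreCent (central σ n)) ⧸ M) ⧸ commutator _))
  obtain ⟨χ, hχ⟩ := CommGroup.exists_apply_ne_one_of_hasEnoughRootsOfUnity _ ℂ hne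
  refine ⟨χ.comp (Abelianization.of.comp (QuotientGroup.mk' M)), fun v hv => ?_, ?_⟩
  · show χ (Abelianization.of (QuotientGroup.mk' M v)) = 1
    rw [show QuotientGroup.mk' M v = 1 from (QuotientGroup.eq_one_iff v).2 (mem_subgroupOf.2 hv), map_one, map_one]
  · obtain ⟨x, rfl⟩ := QuotientGroup.mk'_surjective M a
    obtain ⟨c, hc, s, hs, e⟩ := h.exists_commutator_mul x.2
    refine ⟨⟨s, (h.mem_fixR.1 hs).1⟩, hs, fun e1 => hχ ?_⟩
    have hx : x = ⟨c, h.coreCommutator_le hc⟩ * ⟨s, (h.mem_fixR.1 hs).1⟩ := Subtype.ext e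
    rw [hx, map_mul, show QuotientGroup.mk' M ⟨c, h.coreCommutator_le hc⟩ = 1 from
      (QuotientGroup.eq_one_iff _).2 (mem_subgroupOf.2 hc), one_mul]
    exact e1

/-- A linear character trivial on `[U, τ]` is fixed by `τ`. -/
theorem linear_fixed {φ : ↥(coreCent (central σ n)) →* ℂˣ}
    (hφ : ∀ v : ↥(coreCent (central σ n)), (v : G) ∈ ⁅coreCent (central σ n), zpowers τ⁆ → φ v = 1)
    (v w : ↥(coreCent (central σ n))) (hw : (w : G) = τ * v * τ⁻¹) : φ w = φ v := by
  have h1 := hφ (v * w⁻¹) (by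
    rw [Subgroup.coe_mul, Subgroup.coe_inv, hw, show (v : G) * (τ * v * τ⁻¹)⁻¹ = ⁅(v : G), τ⁆ by
      rw [commutatorElement_def]; group]
    exact commutator_mem_commutator v.2 (mem_zpowers τ))
  rw [map_mul, map_inv, mul_inv_eq_one] at h1
  exact h1.symm

end Hyp

end Cfsg.Agent.Invol.GW.Dihedral
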