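import Cfsg.Agent.Lib.Invol.GW.Dihedral.BadPrime
import Cfsg.Agent.Lib.Invol.GW.Dihedral.Core
import Cfsg.Agent.Lib.Invol.GW.Dihedral.CoreSplit
import Cfsg.Agent.Lib.Invol.GW.Dihedral.LocalsPSL
import Cfsg.Agent.Lib.Invol.GW.Dihedral.Blocks
import Cfsg.Agent.Lib.Invol.GW.Dihedral.SPArith

/-!
# Gorenstein–Walter, dihedral, maximal centraliser: the bad prime three

Three is bad for `τ`.  Every other prime is good and `O_q(U)` meets `R` trivially, so `[U, τ]` is abelian, inverted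
by `τ`, of order prime to three and `U = [U, τ] R`.  The indices of `R` and `R₁` are not in a ratio three or more:
otherwise `U` would be abelian and `R` normal in the centraliser of `t`.
-/

set_option autoImplicit false
set_option linter.unusedSectionVars false
set_option linter.style.haveILetI false

namespace Cfsg.Agent.Invol.GW.Dihedral

open Subgroup Klein
open scoped Pointwise commutatorElement

universe u

variable {G : Type u} [Group G] [Finite G]

/-- An involution fixing only the identity of a finite subgroup inverts it. -/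
theorem inverted_of_fixed_eq_one {X : Subgroup G} {v : G} (hv : v * v = 1) (hn : v ∈ normalizer (X : Set G))
    (hfix : ∀ y ∈ X, Commute y v → y = 1) : ∀ y ∈ X, v * y * v⁻¹ = y⁻¹ := by
  let f : ↥X → ↥X := fun y => ⟨(y : G)⁻¹ * (v * y * v⁻¹), mul_mem (inv_mem y.2) (conj_mem_of_normalizer hn y.2)⟩
  have hf : Function.Injective f := fun a b e => by
    have e1 : (a : G)⁻¹ * (v * a * v⁻¹) = (b : G)⁻¹ * (v * b * v⁻¹) := congrArg Subtype.val e
    have e2 : (b : G) * (a : G)⁻¹ = v * ((b : G) * (a : G)⁻¹) * v⁻¹ := by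
      calc (b : G) * (a : G)⁻¹ = (b : G) * ((a : G)⁻¹ * (v * a * v⁻¹)) * (v * a * v⁻¹)⁻¹ := by group
        _ = _ := by rw [e1]; group
    exact Subtype.ext (mul_inv_eq_one.1 (hfix _ (mul_mem b.2 (inv_mem a.2))
      (mul_inv_eq_iff_eq_mul.1 e2.symm).symm)).symm
  intro y hy
  obtain ⟨z, hz⟩ := Finite.injective_iff_surjective.1 hf ⟨y, hy⟩
  have hz' : (z : G)⁻¹ * (v * z * v⁻¹) = y := congrArg Subtype.val hz
  rw [← hz', show v * ((z : G)⁻¹ * (v * z * v⁻¹)) * v⁻¹ = (v * z * v⁻¹)⁻¹ * (v * v * z * (v * v)⁻¹) by group, hv]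
  group

namespace Hyp

variable {S : Sylow 2 G} {σ τ : G} {n : ℕ} (h : Hyp S σ τ n)
include h

/-- The elements of `[U, τ]` centralise what `τ` fixes or inverts and `U` normalises. -/
theorem coreCommutator_centralizes {X : Subgroup G} (hX : coreCent (central σ n) ≤ normalizer (X : Set G))
    (hf : (∀ y ∈ X, τ * y * τ⁻¹ = y) ∨ ∀ y ∈ X, τ * y * τ⁻¹ = y⁻¹) :
    ⁅coreCent (central σ n), zpowers τ⁆ ≤ centralizer (X : Set G) := by
  refine commutator_le.2 fun k hk w hw => mem_centralizer_iff.2 fun x hx => ?_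
  rcases h.eq_one_or_tau hw with rfl | rfl
  · simp
  · rcases hf with hf | hf
    · exact (commute_commutator_of_fixed (hX hk) hf hx).eq.symm
    · exact (commute_commutator_of_inverted (hX hk) hf hx).eq.symm

theorem conj_sigma_tau (hn : n = 3) : σ * τ * σ⁻¹ = central σ n * τ := by
  rw [← h.conj_tau_of_three hn]; group

/-- `S` normalises `R`. -/
theorem sylow_le_normalizer_fixR (hn : n = 3) :
    (S : Subgroup G) ≤ normalizer (fixR (central σ n) τ : Set G) := by
  have hσ : σ ∈ normalizer (fixR (central σ n) τ : Set G) := by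
    refine h.normalizer_four_le_normalizer_fixR (mem_normalizer_four ?_ ?_)
    · rw [← (h.central_commute h.hσ).eq, mul_inv_cancel_right]
      exact left_mem_four _ _
    · rw [h.conj_sigma_tau hn]
      exact mul_mem (left_mem_four _ _) (right_mem_four _ _)
  have hτ : τ ∈ normalizer (fixR (central σ n) τ : Set G) :=
    h.normalizer_four_le_normalizer_fixR (le_normalizer (right_mem_four _ _))
  intro s hs
  by_cases hsσ : s ∈ zpowers σ
  · exact zpowers_le.2 hσ hsσ
  · obtain ⟨i, rfl⟩ := h.exists_rotation_mul_tau hs hsσ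
    exact mul_mem (zpow_mem hσ i) hτ

variable (hC : IsCoatom (centralizer ({central σ n} : Set G)))
include hC

/-- An abelian core contradicts a nontrivial `R`. -/
theorem false_of_isMulCommutative (hn : n = 3) (hR : fixR (central σ n) τ ≠ ⊥)
    (hab : ∀ a ∈ coreCent (central σ n), ∀ b ∈ coreCent (central σ n), a * b = b * a) : False := by
  set R := fixR (central σ n) τ
  have hCR : centralizer ({central σ n} : Set G) ≤ normalizer (R : Set G) := by
    intro x hx
    obtain ⟨a, ha, b, hb, rfl⟩ := h.exists_mul hx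
    refine mul_mem (centralizer_le_normalizer _ (mem_centralizer_iff.2 fun r hr => ?_))
      (h.sylow_le_normalizer_fixR hn hb)
    exact hab r (h.mem_fixR.1 hr).1 a ha
  have heq := h.normalizer_eq hC (inf_le_left.trans h.coreCent_le) hR hCR
  obtain ⟨g, -, hgt, hgu⟩ := h.exists_fuse
  exact h.not_fuses_of_le heq.le
    ⟨g, h.normalizer_four_le_normalizer_fixR (h.fuse_mem_normalizer hgt hgu), hgt, hgu⟩

/-- The two indices are not in a ratio three or more. -/
theorem false_of_ratio (hn : n = 3) (hR : fixR (central σ n) τ ≠ ⊥)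
    (hra : 3 * idx σ τ n ≤ idx σ (σ * τ) n ∨ 3 * idx σ (σ * τ) n ≤ idx σ τ n) : False := by
  obtain ⟨P⟩ := h.exists_principal
  obtain ⟨hA5, hB5⟩ := P.five_le h (Or.inl hR)
  have ha := h.idx_pos
  have key := sp3 h.three (x := (P.x : ℤ)) (T := (P.Θ : ℤ)) (δ := P.δ) (A := P.A) (B := P.B)
    (c := (idx σ τ n : ℤ) - idx σ (σ * τ) n) (e := (idx σ τ n : ℤ) + idx σ (σ * τ) n)
    (by exact_mod_cast P.theta_pos) P.delta P.two_pow_theta P.odd₂ P.odd₃
    (by rw [← Int.natCast_natAbs]; exact_mod_cast hA5) (by rw [← Int.natCast_natAbs]; exact_mod_cast hB5)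
    (by rw [← Int.natCast_natAbs, P.natAbs_sum h]) (by omega)
    (by
      rcases hra with hle | hle
      · rw [abs_of_nonpos (by omega)]; omega
      · rw [abs_of_nonneg (by omega)]; omega)
    (by
      have hr := P.ratio
      rw [show (charDegree (P.χ : G → ℂ) : ℤ) = (P.x : ℤ) from rfl] at hr
      rcases P.delta with hd | hd <;> rw [hd] at hr ⊢
      · linear_combination -hr
      · linear_combination hr)
  rcases key with ⟨hδ, hT⟩ | ⟨-, -, hT, -, -⟩
  · refine hR (eq_bot_iff.2 ?_)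
    rw [← P.coreCent_eq_bot h (by exact_mod_cast hT) hδ]
    exact inf_le_left
  · exact h.false_of_isMulCommutative hC hn hR fun a ha b hb =>
      P.commute_of_le_two h (by omega) ha hb

/-! ## The other primes -/

omit hC in
/-- A good prime core does not lie in `R`. -/
theorem opOf_not_le_fixR (hC : IsCoatom (centralizer ({central σ n} : Set G))) {q : ℕ} [Fact q.Prime]
    (hg : Good S σ n q) : ¬ opOf q (coreCent (central σ n)) ≤ fixR (central σ n) τ := fun hle => by
  obtain ⟨P, hP, hYP⟩ := Grp.HomDPi.exists_isSylowIn_ge hle (isPGroup_opOf q _)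
  have hP1 : P ≠ ⊥ := fun e => hg.1 (eq_bot_iff.2 (e ▸ hYP))
  exact hg.1 (h.eq_bot_of_fuses hC hYP (hP.1.trans (inf_le_left.trans h.coreCent_le))
    (h.le_normalizer_coreCent.trans (normalizer_le_normalizer_opOf q _))
    (h.fuses_centralizer_sylow hC hg h.normalFusion hP hP1))

/-- Primes other than three are good. -/
theorem good_of_ne_three {q : ℕ} [Fact q.Prime] (hY : opOf q (coreCent (central σ n)) ≠ ⊥) (hq : q ≠ 3) :
    Good S σ n q := by
  rcases h.good_or_bad hC hY with hg | ⟨hn, Q, hQ, hQS, hc, hnc⟩ | ⟨hn, Q, hQ, hQS, hc, hnc⟩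
  · exact hg
  · exact absurd (h.eq_three hQ hC hY hQS hc hn hnc) hq
  · exact absurd (h.symm.eq_three hQ hC hY hQS hc hn hnc) hq

variable (hbad : Bad S σ τ n 3) (hY3 : opOf 3 (coreCent (central σ n)) ≠ ⊥)
include hbad

theorem opOf_three_le_fixR : opOf 3 (coreCent (central σ n)) ≤ fixR (central σ n) τ := by
  haveI : Fact (Nat.Prime 3) := ⟨Nat.prime_three⟩
  obtain ⟨-, Q, hQ, -, hc, -⟩ := hbad
  exact (opOf_le_isSylowIn hQ).trans (h.le_fixR_of_centralizes hQ hc)

include hY3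

theorem fixR_ne_bot : fixR (central σ n) τ ≠ ⊥ := fun e =>
  hY3 (eq_bot_iff.2 (e ▸ h.opOf_three_le_fixR hC hbad))

/-- No other prime core meets `R`. -/
theorem opOf_inf_fixR_eq_bot {q : ℕ} [Fact q.Prime] (hq : q ≠ 3) :
    opOf q (coreCent (central σ n)) ⊓ fixR (central σ n) τ = ⊥ := by
  haveI : Fact (Nat.Prime 3) := ⟨Nat.prime_three⟩
  refine (eq_bot_iff_forall _).2 fun z hz => ?_
  obtain ⟨hzY, hzR⟩ := Subgroup.mem_inf.1 hz
  by_contra hz1
  have hY : opOf q (coreCent (central σ n)) ≠ ⊥ := fun e => hz1 (by rwa [e, mem_bot] at hzY)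
  have hg := h.good_of_ne_three hC hY hq
  have hzl : IsPGroup q (zpowers z) := (isPGroup_opOf q _).to_le (zpowers_le.2 hzY)
  set t := central σ n
  set H := centralizer ({z} : Set G)
  set Yq := opOf q (coreCent t)
  have hfus := h.fuses_of_mem hC hg h.normalFusion hzR hzl hz1
  have hVH : four t τ ≤ H := fun v hv =>
    mem_centralizer_singleton_iff.2 (h.commute_of_mem_fixR hzR hv).symm.eq
  have hH : H ≠ ⊤ := fun e => h.normalizer_ne_top (X := zpowers z) (fun e' => hz1 (zpowers_eq_bot.1 e'))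
    (zpowers_le.2 (h.coreCent_le (h.mem_fixR.1 hzR).1))
    (top_le_iff.1 (e ▸ (Grp.centralizer_singleton_eq_zpowers z).trans_le (centralizer_le_normalizer _)))
  have hzU := (h.mem_fixR.1 hzR).1
  have hone : ∀ s ∈ H, orderOf s = 2 → ∃ k ∈ H, k * s * k⁻¹ = t := fun s hs hso =>
    h.one_class hC hg h.normalFusion h.symm.normalFusion hzR hzl hz1 hso (mem_centralizer_singleton_iff.1 hs)
  have hmov : ¬ coreCent t ⊓ H ≤ centralizer ({τ} : Set G) := by
    intro hle
    refine h.opOf_not_le_fixR hC hg ?_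
    have h1 := Grp.thompson_PQ (p := q) (zpowers z) (zpowers τ) hzl (by
        rw [Nat.card_zpowers, h.orderτ]; exact Nat.coprime_two_left.2 (h.odd_prime hC hY))
      (zpowers_le.2 (by
        rw [← Grp.centralizer_singleton_eq_zpowers]
        exact mem_centralizer_singleton_iff.2 (h.mem_fixR.1 hzR).2.eq))
      Yq (isPGroup_opOf q _) (zpowers_le.2 (le_normalizer_opOf q _ hzU))
      (zpowers_le.2 ((h.sylow_le_normalizer_coreCent.trans (normalizer_le_normalizer_opOf q _)) h.hτ))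
      (fun y hy => by
        rw [← Grp.centralizer_singleton_eq_zpowers]
        refine hle ⟨opOf_le q _ hy.1, ?_⟩
        have h2 := hy.2
        rwa [← Grp.centralizer_singleton_eq_zpowers] at h2)
    exact fun y hy => h.mem_fixR.2 ⟨opOf_le q _ hy, (mem_centralizer_iff.1 (h1 (mem_zpowers τ)) y hy)⟩
  have hd := h.localStatement H hH hVH hfus hone (h.oddOf_centralizer_le hC hzY hzR hz1 hfus) hmov
  set B := omZ 3 (opOf 3 (coreCent t))
  refine hd.not_le fun e he => ?_
  have hE : ∀ x ∈ B, Commute x e := by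
    intro x hx
    have hx3 : x ∈ opOf 3 (coreCent t) := omZ_le _ _ hx
    have hxR := h.opOf_three_le_fixR hC hbad hx3
    have hxH : x ∈ H := mem_centralizer_singleton_iff.2 (commute_of_disjoint
      (inf_eq_bot_of_primes (Ne.symm hq) (isPGroup_opOf 3 _) (isPGroup_opOf q _)) hx3 hzY
      (le_normalizer_opOf q _ (opOf_le 3 _ hx3)) (le_normalizer_opOf 3 _ hzU)).eq
    refine hd.field 3 Nat.prime_three x ⟨hxR, hxH⟩ ((isPGroup_opOf 3 _).to_le (zpowers_le.2 hx3)) ?_ e he
    rw [show ⁅locD σ τ n H, zpowers x⁆ = ⊥ from (commutator_eq_bot_iff_le_centralizer).2 ((commutator_mono (H₁ := coreCent t ⊓ H) inf_le_left le_rfl).trans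
      ((h.coreCommutator_centralizes (le_normalizer_opOf 3 _) (Or.inl fun y hy => by
        rw [← (h.mem_fixR.1 (h.opOf_three_le_fixR hC hbad hy)).2.eq, mul_inv_cancel_right])).trans
        (centralizer_le (SetLike.coe_subset_coe.2 (zpowers_le.2 hx3)))))]
    exact IsPGroup.of_bot
  rw [← h.normalizer_omZ hC hY3]
  exact centralizer_le_normalizer _ (mem_centralizer_iff.2 fun x hx => (hE x hx).eq)

theorem opOf_inverted {q : ℕ} [Fact q.Prime] (hq : q ≠ 3) :
    ∀ y ∈ opOf q (coreCent (central σ n)), τ * y * τ⁻¹ = y⁻¹ :=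
  inverted_of_fixed_eq_one h.tau_mul_self
    ((h.sylow_le_normalizer_coreCent.trans (normalizer_le_normalizer_opOf q _)) h.hτ) fun y hy hyc =>
    mem_bot.1 (h.opOf_inf_fixR_eq_bot hC hbad hY3 hq ▸
      Subgroup.mem_inf.2 ⟨hy, h.mem_fixR.2 ⟨opOf_le q _ hy, hyc⟩⟩)

theorem coreCommutator_commute_opOf {x : G} (hx : x ∈ ⁅coreCent (central σ n), zpowers τ⁆) :
    ∀ p : ℕ, p.Prime → ∀ y ∈ opOf p (coreCent (central σ n)), Commute x y := by
  intro p hp y hy
  haveI : Fact p.Prime := ⟨hp⟩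
  refine (mem_centralizer_iff.1 (h.coreCommutator_centralizes (le_normalizer_opOf p _) ?_ hx) y hy).symm
  by_cases hp3 : p = 3
  · subst hp3
    exact Or.inl fun z hz => by
      rw [← (h.mem_fixR.1 (h.opOf_three_le_fixR hC hbad hz)).2.eq, mul_inv_cancel_right]
  · exact Or.inr (h.opOf_inverted hC hbad hY3 hp3)

/-- `[U, τ]` is abelian. -/
theorem coreCommutator_comm {x y : G} (hx : x ∈ ⁅coreCent (central σ n), zpowers τ⁆)
    (hy : y ∈ ⁅coreCent (central σ n), zpowers τ⁆) : x * y = y * x := by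
  haveI : Group.IsSolvable ↥(coreCent (central σ n)) := h.isSolvable_coreCent
  have hle : (Cfsg.fittingSubgroup ↥(coreCent (central σ n))).map (coreCent (central σ n)).subtype ≤
      centralizer ({x} : Set G) := by
    rw [fittingSubgroup_map_eq_iSup]
    exact iSup_le fun p z hz =>
      mem_centralizer_singleton_iff.2 (h.coreCommutator_commute_opOf hC hbad hY3 hx p p.2 z hz).eq.symm
  exact (mem_centralizer_singleton_iff.1 (hle (mem_fitting_of_commute (h.coreCommutator_le hy)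
    (h.coreCommutator_commute_opOf hC hbad hY3 hy)))).symm

/-- `[U, τ]` meets `R` trivially. -/
theorem coreCommutator_fixed {x : G} (hx : x ∈ ⁅coreCent (central σ n), zpowers τ⁆) (hc : Commute x τ) :
    x = 1 := by
  set U := coreCent (central σ n)
  set N := ⁅U, zpowers τ⁆ with hN
  have hτN := h.tau_mem_normalizer_coreCommutator
  have hNN : ⁅N, zpowers τ⁆ = N := by
    refine Grp.commutator_commutator_eq (zpowers τ) U (zpowers_le.2 h.tau_mem_normalizer_coreCent) ?_
      (Or.inr h.isSolvable_coreCent)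
    rw [Nat.card_zpowers, h.orderτ]
    exact Nat.coprime_two_left.2 h.odd_coreCent
  let f : ↥N →* ↥N :=
    { toFun := fun y => ⟨(y : G)⁻¹ * (τ * y * τ⁻¹), mul_mem (inv_mem y.2) (conj_mem_of_normalizer hτN y.2)⟩
      map_one' := Subtype.ext (by simp)
      map_mul' := fun a b => Subtype.ext (by
        show ((a : G) * b)⁻¹ * (τ * (a * b) * τ⁻¹) = ((a : G)⁻¹ * (τ * a * τ⁻¹)) * ((b : G)⁻¹ * (τ * b * τ⁻¹))
        have h1 := h.coreCommutator_comm hC hbad hY3 (mul_mem (inv_mem a.2) (conj_mem_of_normalizer hτN a.2))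
          (inv_mem b.2)
        calc ((a : G) * b)⁻¹ * (τ * (a * b) * τ⁻¹)
            = (b : G)⁻¹ * ((a : G)⁻¹ * (τ * a * τ⁻¹)) * (τ * b * τ⁻¹) := by group
          _ = _ := by rw [← h1]; group) }
  have hsur : Function.Surjective f := by
    have hle : ⁅N, zpowers τ⁆ ≤ f.range.map N.subtype := by
      refine commutator_le.2 fun k hk w hw => ?_
      rcases h.eq_one_or_tau hw with rfl | rfl
      · simp
      · exact ⟨f ⟨k⁻¹, inv_mem hk⟩, ⟨_, rfl⟩, by
          show (k⁻¹)⁻¹ * (w * k⁻¹ * w⁻¹) = ⁅k, w⁆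
          rw [commutatorElement_def]; group⟩
    intro y
    have hy : (y : G) ∈ ⁅N, zpowers τ⁆ := by rw [hNN]; exact y.2
    obtain ⟨y', ⟨z, rfl⟩, hy'⟩ := hle hy
    exact ⟨z, Subtype.ext hy'⟩
  have hinj := Finite.injective_iff_surjective.2 hsur
  have h1 : f ⟨x, hx⟩ = f 1 := by
    rw [map_one]
    refine Subtype.ext ?_
    show x⁻¹ * (τ * x * τ⁻¹) = 1
    rw [← hc.eq, mul_inv_cancel_right, inv_mul_cancel]
  exact congrArg Subtype.val (hinj h1)

theorem coreCommutator_inverted {x : G} (hx : x ∈ ⁅coreCent (central σ n), zpowers τ⁆) : τ * x * τ⁻¹ = x⁻¹ :=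
  inverted_of_fixed_eq_one h.tau_mul_self h.tau_mem_normalizer_coreCommutator
    (fun _ hy hc => h.coreCommutator_fixed hC hbad hY3 hy hc) x hx

/-- The other prime cores lie in `[U, τ]`. -/
theorem opOf_le_coreCommutator {q : ℕ} [Fact q.Prime] (hq : q ≠ 3) :
    opOf q (coreCent (central σ n)) ≤ ⁅coreCent (central σ n), zpowers τ⁆ := by
  intro y hy
  have h1 : y ^ 2 ∈ ⁅coreCent (central σ n), zpowers τ⁆ := by
    have := commutator_mem_commutator (H₁ := coreCent (central σ n)) (H₂ := zpowers τ) (opOf_le q _ hy)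
      (mem_zpowers τ)
    rwa [commutatorElement_def, show y * τ * y⁻¹ * τ⁻¹ = y * (τ * y⁻¹ * τ⁻¹) by group,
      h.opOf_inverted hC hbad hY3 hq _ (inv_mem hy), inv_inv, ← pow_two] at this
  obtain ⟨k, hk⟩ := exists_pow_eq_self_of_coprime (x := y)
    (Nat.coprime_two_left.2 (h.odd_of_mem (opOf_le q _ hy)))
  exact hk ▸ pow_mem h1 k

/-- The order of `[U, τ]` is prime to three. -/
theorem coreCommutator_coprime : ¬ 3 ∣ Nat.card ↥⁅coreCent (central σ n), zpowers τ⁆ := by
  haveI : Fact (Nat.Prime 3) := ⟨Nat.prime_three⟩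
  haveI : Group.IsSolvable ↥(coreCent (central σ n)) := h.isSolvable_coreCent
  intro hd
  obtain ⟨x, hx⟩ := exists_prime_orderOf_dvd_card' 3 hd
  rw [← orderOf_coe] at hx
  have hx3 : (x : G) ∈ opOf 3 (coreCent (central σ n)) := mem_opOf_of_mem_fitting
    (mem_fitting_of_commute (h.coreCommutator_le x.2) (h.coreCommutator_commute_opOf hC hbad hY3 x.2))
    (k := 1) (by rw [pow_one, ← hx, pow_orderOf_eq_one])
  have h1 := h.coreCommutator_fixed hC hbad hY3 x.2 (h.mem_fixR.1 (h.opOf_three_le_fixR hC hbad hx3)).2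
  rw [h1, orderOf_one] at hx
  omega

theorem coreCommutator_eq_of_mul_eq {a a' r r' : G} (ha : a ∈ ⁅coreCent (central σ n), zpowers τ⁆)
    (ha' : a' ∈ ⁅coreCent (central σ n), zpowers τ⁆) (hr : r ∈ fixR (central σ n) τ)
    (hr' : r' ∈ fixR (central σ n) τ) (e : a * r = a' * r') : a = a' ∧ r = r' := by
  have h1 : a'⁻¹ * a = r' * r⁻¹ := by
    calc a'⁻¹ * a = a'⁻¹ * (a * r) * r⁻¹ := by group
      _ = r' * r⁻¹ := by rw [e]; group
  have h2 := h.coreCommutator_fixed hC hbad hY3 (mul_mem (inv_mem ha') ha)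
    (h1 ▸ (h.mem_fixR.1 (mul_mem hr' (inv_mem hr))).2)
  have h3 : a = a' := (inv_mul_eq_one.1 h2).symm
  exact ⟨h3, mul_left_cancel (h3 ▸ e)⟩

/-- The index of `R` is the order of `[U, τ]`. -/
theorem idx_eq_card : idx σ τ n = Nat.card ↥⁅coreCent (central σ n), zpowers τ⁆ := by
  set U := coreCent (central σ n)
  set N := ⁅U, zpowers τ⁆
  set R := fixR (central σ n) τ
  have hcard : Nat.card ↥N * Nat.card ↥R = Nat.card ↥U := by
    rw [← Nat.card_prod]
    refine Nat.card_eq_of_bijective (fun p => (⟨(p.1 : G) * p.2,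
      mul_mem (h.coreCommutator_le p.1.2) (h.mem_fixR.1 p.2.2).1⟩ : ↥U)) ⟨?_, ?_⟩
    · rintro ⟨a, r⟩ ⟨a', r'⟩ e
      obtain ⟨e1, e2⟩ := h.coreCommutator_eq_of_mul_eq hC hbad hY3 a.2 a'.2 r.2 r'.2 (congrArg Subtype.val e)
      exact Prod.ext (Subtype.ext e1) (Subtype.ext e2)
    · intro x
      obtain ⟨a, ha, r, hr, e⟩ := h.exists_commutator_mul x.2
      exact ⟨(⟨a, ha⟩, ⟨r, hr⟩), Subtype.ext e.symm⟩
  exact Nat.eq_of_mul_eq_mul_right Nat.card_pos (h.idx_mul.trans hcard.symm)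

/-- `σ * τ` normalises `[U, τ]`. -/
theorem symm_mem_normalizer_coreCommutator :
    σ * τ ∈ normalizer ((⁅coreCent (central σ n), zpowers τ⁆ : Subgroup G) : Set G) := by
  obtain ⟨hn, -⟩ := hbad
  set U := coreCent (central σ n)
  refine mem_normalizer_fintype fun d hd => ?_
  have hwU : σ * τ ∈ normalizer (U : Set G) := h.sylow_le_normalizer_coreCent h.symm.hτ
  let N : Subgroup G := ⁅U, zpowers τ⁆
  refine (show N ≤ N.comap (MulAut.conj (σ * τ)).toMonoidHom from commutator_le.2 fun k hk w hw => ?_) hd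
  rcases h.eq_one_or_tau hw with rfl | rfl
  · simp
  · show σ * w * ⁅k, w⁆ * (σ * w)⁻¹ ∈ N
    have hk' : σ * w * k * (σ * w)⁻¹ ∈ U := conj_mem_of_normalizer hwU hk
    have e : σ * w * ⁅k, w⁆ * (σ * w)⁻¹ = ⁅σ * w * k * (σ * w)⁻¹, w⁆ := by
      set k' := σ * w * k * (σ * w)⁻¹ with hk''
      rw [commutatorElement_def, commutatorElement_def]
      calc σ * w * (k * w * k⁻¹ * w⁻¹) * (σ * w)⁻¹
          = k' * (σ * w * w * (σ * w)⁻¹) * k'⁻¹ * (σ * w * w * (σ * w)⁻¹)⁻¹ := by rw [hk'']; group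
        _ = k' * central σ n * (w * k'⁻¹ * w⁻¹) * (central σ n)⁻¹ := by rw [h.conj_tau_of_three hn]; group
        _ = k' * (central σ n * (w * k'⁻¹ * w⁻¹)) * (central σ n)⁻¹ := by group
        _ = k' * w * k'⁻¹ * w⁻¹ := by
          rw [(h.commute_central (conj_mem_of_normalizer h.tau_mem_normalizer_coreCent (inv_mem hk'))).symm.eq]
          group
    rw [e]
    exact commutator_mem_commutator hk' (mem_zpowers _)

/-- `σ * τ` fixes a nontrivial element of `[U, τ]`. -/
theorem exists_fixed_in_coreCommutator :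
    ∃ x ∈ ⁅coreCent (central σ n), zpowers τ⁆, x ≠ 1 ∧ Commute x (σ * τ) := by
  haveI : Fact (Nat.Prime 3) := ⟨Nat.prime_three⟩
  by_contra hno
  push Not at hno
  have hfix : ∀ x ∈ ⁅coreCent (central σ n), zpowers τ⁆, Commute x (σ * τ) → x = 1 := fun x hx hc => by
    by_contra hx1
    exact hno x hx hx1 hc
  obtain ⟨hn, Q, hQ, hQS, hc, hnc⟩ := id hbad
  set R := fixR (central σ n) τ
  set R₁ := fixR (central σ n) (σ * τ)
  have hwN := h.symm_mem_normalizer_coreCommutator hC hbad hY3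
  have hwR := h.sylow_le_normalizer_fixR hn h.symm.hτ
  -- `R₁ ≤ R`
  have hle : R₁ ≤ R := fun x hx => by
    obtain ⟨hxU, hxw⟩ := h.symm.mem_fixR.1 hx
    obtain ⟨d, hd, r, hr, rfl⟩ := h.exists_commutator_mul hxU
    have e : (σ * τ * d * (σ * τ)⁻¹) * (σ * τ * r * (σ * τ)⁻¹) = d * r := by
      rw [show (σ * τ * d * (σ * τ)⁻¹) * (σ * τ * r * (σ * τ)⁻¹) = σ * τ * (d * r) * (σ * τ)⁻¹ by group,
        ← hxw.eq, mul_inv_cancel_right]
    obtain ⟨e1, -⟩ := h.coreCommutator_eq_of_mul_eq hC hbad hY3 (conj_mem_of_normalizer hwN hd) hd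
      (conj_mem_of_normalizer hwR hr) hr e
    rw [hfix d hd (mul_inv_eq_iff_eq_mul.1 e1).symm, one_mul]
    exact hr
  refine h.false_of_ratio hC hn (h.fixR_ne_bot hC hbad hY3) (Or.inl ?_)
  have hidx : idx σ (σ * τ) n = R₁.relIndex R * idx σ τ n :=
    (relIndex_mul_relIndex R₁ R (coreCent (central σ n)) hle inf_le_left).symm
  have hodd : Odd (R₁.relIndex R) := Odd.of_dvd_nat h.symm.idx_odd ⟨_, hidx⟩
  have hne1 : R₁.relIndex R ≠ 1 := fun e => hnc fun y hy =>
    (h.symm.mem_fixR.1 (relIndex_eq_one.1 e (h.le_fixR_of_centralizes hQ hc hy))).2.symm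
  have h3 : 3 ≤ R₁.relIndex R := by obtain ⟨k, hk⟩ := hodd; omega
  rw [hidx]
  exact Nat.mul_le_mul_right _ h3

/-- A prime other than three has fixed elements of `σ * τ` in its core. -/
theorem exists_prime_fixed :
    ∃ q : ℕ, q.Prime ∧ q ≠ 3 ∧ opOf q (coreCent (central σ n)) ⊓ fixR (central σ n) (σ * τ) ≠ ⊥ := by
  haveI : Group.IsSolvable ↥(coreCent (central σ n)) := h.isSolvable_coreCent
  obtain ⟨x, hx, hx1, hxw⟩ := h.exists_fixed_in_coreCommutator hC hbad hY3
  obtain ⟨q, hq, m, hm⟩ := Nat.exists_prime_and_dvd (fun e => hx1 (orderOf_eq_one_iff.1 e) : orderOf x ≠ 1)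
  haveI : Fact q.Prime := ⟨hq⟩
  have hxN : x ^ m ∈ ⁅coreCent (central σ n), zpowers τ⁆ := pow_mem hx m
  have hzq : (x ^ m) ^ q ^ 1 = 1 := by rw [pow_one, ← pow_mul, mul_comm, ← hm, pow_orderOf_eq_one]
  have hzY : x ^ m ∈ opOf q (coreCent (central σ n)) := mem_opOf_of_mem_fitting
    (mem_fitting_of_commute (h.coreCommutator_le hxN) (h.coreCommutator_commute_opOf hC hbad hY3 hxN)) hzq
  have hne : x ^ m ≠ 1 := fun e => by
    have h0 : m ≠ 0 := fun e0 => (orderOf_pos x).ne' (by rw [hm, e0, mul_zero])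
    have h1 := Nat.le_of_dvd (Nat.pos_of_ne_zero h0) (orderOf_dvd_of_pow_eq_one e)
    rw [hm] at h1
    nlinarith [hq.two_le, Nat.pos_of_ne_zero h0]
  have h3 : q ≠ 3 := fun e => by
    subst e
    exact hne (h.coreCommutator_fixed hC hbad hY3 hxN (h.mem_fixR.1 (h.opOf_three_le_fixR hC hbad hzY)).2)
  exact ⟨q, hq, h3, fun e => hne (mem_bot.1 (e ▸ Subgroup.mem_inf.2
    ⟨hzY, h.symm.mem_fixR.2 ⟨h.coreCommutator_le hxN, hxw.pow_left m⟩⟩))⟩

end Hyp

end Cfsg.Agent.Invol.GW.Dihedral
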