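import Cfsg.Agent.Lib.Invol.GW.Dihedral.ExtraspecialRotation
import Cfsg.Agent.Lib.Invol.GW.Dihedral.CaseBounds
import Cfsg.Agent.Lib.Invol.GW.Dihedral.ArithA
import Cfsg.Agent.Lib.Invol.GW.Dihedral.ArithB
import Cfsg.Agent.Lib.Invol.GW.Dihedral.SPArith

/-!
# Gorenstein–Walter, dihedral, section 4: the shape (iii) does not occur

With `W` extraspecial, `r` the image of the rotation on `W / ⟨y⟩` and `e` the index of the fixed points of the
reflection in the image of `U`, the index of `R` is `e q |D|`.  A trivial `r` gives equal indices and a full Sylow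
2-subgroup fixing `z`; a rotation of order `2 ^ i` gives either the same with `2 ^ i e ≤ q + 1`, or a ratio three or
more of the indices.  All three contradict the arithmetic of the principal block.
-/

set_option autoImplicit false
set_option linter.unusedSectionVars false
set_option linter.style.haveILetI false

namespace Cfsg.Agent.Invol.GW.Dihedral

open Subgroup Klein
open scoped Pointwise

universe u

variable {G : Type u} [Group G] [Finite G] {S : Sylow 2 G} {σ τ : G} {n : ℕ} {q : ℕ} [Fact q.Prime]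
  {h : Hyp S σ τ n} {W : Subgroup G} {z x y : G}

namespace XSpec

variable (e : XSpec h q W z x y) (hC : IsCoatom (centralizer ({central σ n} : Set G))) (hg : Good S σ n q)
include e hC hg

/-- No reflection centralises the inverted part of `C(z)`. -/
theorem no_reflection {ρ : G} (hρ : orderOf ρ = 2) (hne : ρ ≠ central σ n) (hρt : Commute ρ (central σ n))
    (hρD : ∀ d ∈ locD σ τ n (centralizer ({z} : Set G)), Commute ρ d) : False := by
  have hyY : zpowers y ≤ opOf q (coreCent (central σ n)) := zpowers_le.2 (e.wle e.yW)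
  refine e.y_ne (zpowers_eq_bot.1 (h.eq_bot_of_centralized hC hg ((isPGroup_opOf q _).to_le hyY)
    (hyY.trans (opOf_le q _)) e.zpowers_normalized hρ hρt hne fun v hv => ?_))
  obtain ⟨i, rfl⟩ := mem_zpowers_iff.1 hv
  exact (hρD y (e.y_mem_locD hC hg)).zpow_right i

/-- The inverted part of `C(z)` is `U ⊓ E(z)`. -/
theorem locD_eq : locD σ τ n (centralizer ({z} : Set G)) =
    coreCent (central σ n) ⊓ locE (centralizer ({z} : Set G)) := by
  rcases (e.lineData hC hg).arith with ⟨ρ, -, hρ, hne, hρt, hρD⟩ | ⟨F, _, _, k, -, -, -, -, -, e3, -⟩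
  · exact (e.no_reflection hC hg hρ hne hρt hρD).elim
  · exact e3

/-- The common hypotheses of the arithmetic leaves. -/
theorem exists_leaf (P : Principal S σ τ n) : ∃ l k hh D : ℕ,
    (Nat.card ↥(centralizer ({z} : Set G) ⊓ centralizer ({central σ n} : Set G) : Subgroup G)).factorization 2
      = k ∧
    Arith.Leaf q k (Nat.card ↥(locD σ τ n (centralizer ({z} : Set G)))) l n P.m P.Θ (2 ^ n * P.Θ) P.x D ∧
    P.m ^ 2 * P.x * D ≡ 2 [MOD q ^ 2] ∧
    ((l = 2 ^ k * Nat.card ↥(locD σ τ n (centralizer ({z} : Set G))) + 1 ∧ 2 * hh = l + 1) ∨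
      (l + 1 = 2 ^ k * Nat.card ↥(locD σ τ n (centralizer ({z} : Set G))) ∧ 2 * hh + 1 = l)) ∧
    ∀ κ : ℕ, idx σ τ n = κ * Nat.card ↥(locD σ τ n (centralizer ({z} : Set G))) →
      l * hh ∣ κ * P.m ^ 2 * P.x * D := by
  rcases h.line_bounds hC hg P (e.wle e.zmem) e.zR e.z_ne e.zq with
    ⟨ρ, -, hρ, hne, hρt, hρD⟩ | ⟨l, k, hh, hpow, -, -, hk2, hk, -, hcase, hE, -, -, hdiv⟩
  · exact (e.no_reflection hC hg hρ hne hρt hρD).elim
  obtain ⟨D, hD⟩ := Int.eq_ofNat_of_zero_le (P.add_pos h).le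
  have hxd := P.deg'
  have hcast : ((2 ^ n * P.Θ : ℕ) : ℤ) = 2 ^ n * (P.Θ : ℤ) := by push_cast; ring
  have hidx : P.m ^ 2 * P.x * D = 2 * (centralizer ({central σ n} : Set G)).index := by
    have h1 : 2 * ((centralizer ({central σ n} : Set G)).index : ℤ) = (P.m : ℤ) ^ 2 * P.x * D := by
      rw [← hD]; exact P.index_eq
    exact_mod_cast h1.symm
  have hcong : P.m ^ 2 * P.x * D ≡ 2 [MOD q ^ 2] := by
    rw [hidx]
    simpa using (e.index_modEq_sq hC).mul_left 2
  refine ⟨l, k, hh, D, hk, ⟨Fact.out, ((Fact.out : q.Prime).eq_two_or_odd').resolve_left e.ne_two, hk2,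
    odd_of_le ((e.lineData hC hg).le_E.trans inf_le_left) h.odd_coreCent, e.dvd_card_locD hC hg, hpow,
    hcase.imp And.left And.left, h.three, P.m_odd, rfl, ?_, hcong.of_dvd (dvd_pow_self q two_ne_zero), hE⟩,
    hcong, hcase.symm, fun κ hκ => ?_⟩
  · rcases P.delta with hd | hd <;> rw [hd] at hD hxd <;> [left; right] <;> constructor <;> omega
  · have h1 := hdiv e.fixR_le_normalizer κ hκ
    rw [hD] at h1
    exact_mod_cast h1

omit hg in
/-- The indices are not in a ratio three or more. -/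
theorem false_of_ratio
    (hra : 3 * idx σ τ n ≤ idx σ (σ * τ) n ∨ 3 * idx σ (σ * τ) n ≤ idx σ τ n) : False := by
  have hR : fixR (central σ n) τ ≠ ⊥ := fun e0 => e.z_ne (mem_bot.1 (e0 ▸ e.zR))
  obtain ⟨P⟩ := h.exists_principal
  obtain ⟨hA5, hB5⟩ := P.five_le h (Or.inl hR)
  have ha := h.idx_pos
  have key := sp3 h.three (x := (P.x : ℤ)) (T := (P.Θ : ℤ)) (δ := P.δ) (A := P.A) (B := P.B)
    (c := (idx σ τ n : ℤ) - idx σ (σ * τ) n) (e := (idx σ τ n : ℤ) + idx σ (σ * τ) n)
    (by exact_mod_cast P.theta_pos) P.delta P.two_pow_theta P.odd₂ P.odd₃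
    (by rw [← Int.natCast_natAbs]; exact_mod_cast hA5) (by rw [← Int.natCast_natAbs]; exact_mod_cast hB5)
    (by rw [← Int.natCast_natAbs, P.natAbs_sum h]) (by omega)
    (by
      rcases hra with hle | hle
      · rw [abs_of_nonpos (by omega)]; omega
      · rw [abs_of_nonneg (by omega)]; omega)
    (by
      have hr := P.ratio
      rw [show (charDegree (P.χ : G → ℂ) : ℤ) = (P.x : ℤ) from rfl] at hr
      rcases P.delta with hd | hd <;> rw [hd] at hr ⊢
      · linear_combination -hr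
      · linear_combination hr)
  rcases key with ⟨hδ, hT⟩ | ⟨-, -, hT, -, -⟩
  · refine hR (eq_bot_iff.2 ?_)
    rw [← P.coreCent_eq_bot h (by exact_mod_cast hT) hδ]
    exact inf_le_left
  · exact e.not_commute (P.commute_of_le_two h (by omega) (e.W_le_core e.zmem) (e.W_le_core e.xmem))

end XSpec

/-- Section 4: the elements of order `q` of the second centre of `O_q(U)` commute. -/
theorem Hyp.second_centre_commute {σ τ : G} (h : Hyp S σ τ n)
    (hC : IsCoatom (centralizer ({central σ n} : Set G)))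
    (hgood : ∀ q : ℕ, q.Prime → opOf q (coreCent (central σ n)) ≠ ⊥ → Good S σ n q)
    (hI : ∀ q : ℕ, q.Prime → ∀ B : Subgroup G, B ≤ opOf q (coreCent (central σ n)) →
      centralizer ({central σ n} : Set G) ≤ normalizer (B : Set G) → IsMulCommutative ↥B →
      (∀ b ∈ B, b ^ q = 1) → B ⊓ fixR (central σ n) τ = ⊥)
    (hI1 : ∀ q : ℕ, q.Prime → ∀ B : Subgroup G, B ≤ opOf q (coreCent (central σ n)) →
      centralizer ({central σ n} : Set G) ≤ normalizer (B : Set G) → IsMulCommutative ↥B →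
      (∀ b ∈ B, b ^ q = 1) → B ⊓ fixR (central σ n) (σ * τ) = ⊥) :
    ∀ q : ℕ, q.Prime → ∀ a b : G, a ∈ opOf q (coreCent (central σ n)) →
      b ∈ opOf q (coreCent (central σ n)) → a ^ q = 1 → b ^ q = 1 →
      (∀ y ∈ opOf q (coreCent (central σ n)), ∀ w ∈ opOf q (coreCent (central σ n)),
        Commute (a * y * a⁻¹ * y⁻¹) w) →
      (∀ y ∈ opOf q (coreCent (central σ n)), ∀ w ∈ opOf q (coreCent (central σ n)),
        Commute (b * y * b⁻¹ * y⁻¹) w) → Commute a b := by
  intro q hq a b haY hbY haq hbq hac hbc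
  by_contra hab
  haveI : Fact q.Prime := ⟨hq⟩
  have hYne : opOf q (coreCent (central σ n)) ≠ ⊥ := fun e0 => hab (by
    rw [e0, mem_bot] at haY
    exact haY ▸ Commute.one_left b)
  have hg := hgood q hq hYne
  obtain ⟨hqo, z, x, y, e⟩ := Hyp.exists_xspec hC (hI q hq) (hI1 q hq) h hg ⟨haY, haq, hac⟩ ⟨hbY, hbq, hbc⟩ hab
  set U := coreCent (central σ n) with hU
  set H := e.frame.image U with hH
  set d := Nat.card ↥(locD σ τ n (centralizer ({z} : Set G))) with hd
  have hq3 : 3 ≤ q := by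
    obtain ⟨j, hj⟩ := hqo
    have := hq.two_le
    omega
  have hσC := h.le_centralizer h.hσ
  have hρC := h.le_centralizer (mul_mem h.hσ h.hτ)
  have hρR : Plane.fixIdx (e.act hρC) H *
      (e.frame.kerOn U ⊓ centralizer ({σ * τ} : Set G)).relIndex (e.frame.kerOn U) = idx σ (σ * τ) n :=
    (e.frame.relIndex_fixed e.core_le_frameDom h.odd_coreCent (u := ⟨σ * τ, e.le_frameDom hρC⟩)
      h.symm.tau_mul_self (h.le_normalizer_coreCent hρC)).symm
  rw [e.act_sigma_tau] at hρR
  obtain ⟨hrr, hrN⟩ := e.act_rotation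
  obtain ⟨hr1, hr2⟩ := e.rotation_ne_refl
  rcases Plane.rotation_cases e.ne_two hrr hrN with hr | hr | hr | ⟨i, hi, hin, hri⟩
  · -- the rotation is trivial
    have hcW : ∀ w ∈ secondZSub q hqo (opOf q U), Commute σ w := fun w hw =>
      e.commute_of_act_one hσC e.sigma_commute_y (N := n - 1) (by rw [← h.orderσ, pow_orderOf_eq_one]) hr hw
    have hconj : ∀ w ∈ secondZSub q hqo (opOf q U), σ * τ * w * (σ * τ)⁻¹ = τ * w * τ⁻¹ := fun w hw => by
      rw [show σ * τ * w * (σ * τ)⁻¹ = σ * (τ * w * τ⁻¹) * σ⁻¹ by group,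
        (hcW _ (conj_mem_of_normalizer (e.wnorm (h.le_centralizer h.hτ)) hw)).eq, mul_inv_cancel_right]
    have e' : XSpec h.symm q (secondZSub q hqo (opOf q U)) z x y := by
      refine ⟨e.wle, e.wnorm, e.zmem, h.symm.mem_fixR.2 ⟨(h.mem_fixR.1 e.zR).1,
        (hcW z e.zmem).symm.mul_right (h.mem_fixR.1 e.zR).2⟩, e.zq, e.xmem, e.xq, (hconj x e.xmem).trans e.xinv,
        e.comm, e.y_ne, e.omZ_eq, e.yinv', ?_, e.omZ_le, fun w hw hwR => e.fix w hw (h.mem_fixR.2 ?_),
        fun w hw hwi => e.inv_part w hw ((hconj w hw).symm.trans hwi), e.cube⟩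
      · rw [show σ * (σ * τ) * y * (σ * (σ * τ))⁻¹ = σ * (σ * τ * y * (σ * τ)⁻¹) * σ⁻¹ by group, e.yinv',
          e.sigma_commute_y.inv_right.eq, mul_inv_cancel_right]
      · obtain ⟨hwU, hwc⟩ := h.symm.mem_fixR.1 hwR
        refine ⟨hwU, ?_⟩
        have h1 := (hcW w hw).symm.inv_right.mul_right hwc
        rwa [inv_mul_cancel_left] at h1
    rcases e.cfg.fixed_cases with hlow | hcs
    · exact e.not_low (hI q hq) (by rw [hr]; simp [Plane.ent_one]) hlow
    have hup : ¬ q ∣ Nat.card ↥H ∨ ∀ a ∈ H, Plane.ent a 0 1 = 0 := hcs.symm.imp (fun hc => hc.1) (fun hc => hc.1)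
    have he : 3 ≤ Plane.fixIdx Plane.refl H ∧ Plane.fixIdx Plane.refl H ≤ q := by
      rcases hcs with ⟨-, he⟩ | ⟨-, -, h3, hle, -⟩
      · exact ⟨hq3.trans he.ge, he.le⟩
      · exact ⟨h3, hle⟩
    have hD : locD σ τ n (centralizer ({z} : Set G)) ≤ e.frame.kerOn U := fun v hv => by
      obtain ⟨h1, h2, h3⟩ := e.mem_locD hC hg hv
      exact e.mem_kerOn_of_inverted hup h1 h2 h3
    have hDD : locD σ (σ * τ) n (centralizer ({z} : Set G)) = locD σ τ n (centralizer ({z} : Set G)) := by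
      rw [e'.locD_eq hC hg, e.locD_eq hC hg]
    have hD' : locD σ (σ * τ) n (centralizer ({z} : Set G)) ≤ e'.frame.kerOn U := hDD.trans_le hD
    have ha := e.idx_eq_mul hC hg hD
    have ha1 : idx σ (σ * τ) n = Plane.fixIdx Plane.refl H * (q * d) := by
      rw [e'.idx_eq_mul hC hg hD', hDD]
    obtain ⟨P⟩ := h.exists_principal
    obtain ⟨l, k, hh, D, hk, hL, hcong, -, hdiv⟩ := e.exists_leaf hC hg P
    have hkn : k = n := by
      rw [← hk]
      exact h.factorization_stab_full (hcW z e.zmem) (h.mem_fixR.1 e.zR).2.symm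
    rw [hkn] at hL
    have hκ : idx σ τ n = q * Plane.fixIdx Plane.refl H * d := by rw [ha]; ring
    have hsum : P.Θ * P.m = q * Plane.fixIdx Plane.refl H * d := by
      have h1 := P.idx_add
      rw [ha1, hκ] at h1
      linarith
    exact hL.false_LA (hqo.mul (e.cfg.odd_fixIdx _)) hsum
      (Or.inr ⟨_, e.cfg.odd_fixIdx _, he.2, rfl, hcong⟩)
      (Or.inl (fun e1 => by have := Nat.eq_one_of_mul_eq_one_right e1; omega))
      ((dvd_mul_right l hh).trans (hdiv _ hκ))
  · exact hr1 hr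
  · exact hr2 hr
  · -- a rotation of order `2 ^ i`
    rcases e.cfg.rot_cases (e.conj_image hσC) hrr hi hri with ⟨h10, hlow⟩ | ⟨h01, hupp⟩ | ⟨hnd, halt⟩
    · exact e.not_low (hI q hq) h10 hlow
    · rcases Nat.lt_or_ge i 2 with hi2 | hi2
      · exact e.not_upp_neg (hI1 q hq) (by rwa [show i - 1 = 0 by omega, pow_zero, pow_one] at hri) hupp
      · exact (Plane.rotation_moves e.ne_two hrr hi hri hi2).2 h01
    obtain ⟨hqo', z', x', y', e'⟩ := Hyp.exists_xspec hC (hI1 q hq)
      (fun B h1 h2 h3 h4 => h.avoid_conj h2 (hI q hq B h1 h2 h3 h4)) h.symm hg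
      ⟨haY, haq, hac⟩ ⟨hbY, hbq, hbc⟩ hab
    have hD : locD σ τ n (centralizer ({z} : Set G)) ≤ e.frame.kerOn U := fun v hv => by
      obtain ⟨h1, h2, h3⟩ := e.mem_locD hC hg hv
      exact e.mem_kerOn_of_inverted (Or.inl hnd) h1 h2 h3
    have hnd' : ¬ q ∣ Nat.card ↥(e'.frame.image U) := by
      rw [e.card_image_symm rfl e']
      exact hnd
    have hD' : locD σ (σ * τ) n (centralizer ({z'} : Set G)) ≤ e'.frame.kerOn U := fun v hv => by
      obtain ⟨h1, h2, h3⟩ := e'.mem_locD hC hg hv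
      exact e'.mem_kerOn_of_inverted (Or.inl hnd') h1 h2 h3
    have hDD : locD σ (σ * τ) n (centralizer ({z'} : Set G)) = locD σ τ n (centralizer ({z} : Set G)) :=
      le_antisymm (e'.locD_le_symm e hC hg hgood hD') (e.locD_le_symm e' hC hg hgood hD)
    have ha := e.idx_eq_mul hC hg hD
    have hker := e'.ker_relIndex hC hg hD'
    rw [e.kerOn_symm rfl e', hDD] at hker
    rw [hker] at hρR
    have hmul : 0 < q * d := Nat.mul_pos hq.pos Nat.card_pos
    rcases halt with ⟨he, hle, hge, hres⟩ | ⟨he, he'⟩ | ⟨he', he⟩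
    · obtain ⟨P⟩ := h.exists_principal
      obtain ⟨l, k, hh, D, hk, hL, hcong, hcase, hdiv⟩ := e.exists_leaf hC hg P
      have hkn : k + i = n := by
        rw [← hk, e.factorization_rot hi hin hri]
        omega
      have hκ : idx σ τ n = q * Plane.fixIdx Plane.refl H * d := by rw [ha]; ring
      have hsum : P.Θ * P.m = q * Plane.fixIdx Plane.refl H * d := by
        have h1 := P.idx_add
        rw [← hρR, he, hκ] at h1
        linarith
      exact hL.false_LB hkn hi (e.cfg.odd_fixIdx _) hge hle hsum (Or.inr ⟨rfl, hcong⟩) hres hcase (hdiv _ hκ)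
    · refine e.false_of_ratio hC (Or.inl ?_)
      rw [← hρR, ha, he, one_mul]
      exact Nat.mul_le_mul_right _ he'
    · refine e.false_of_ratio hC (Or.inr ?_)
      rw [← hρR, ha, he', one_mul]
      exact Nat.mul_le_mul_right _ he

end Cfsg.Agent.Invol.GW.Dihedral
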