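import Cfsg.Agent.Lib.Invol.GW.Dihedral.CaseNeg
import Cfsg.Agent.Lib.Invol.GW.Dihedral.CaseShapeThree
import Cfsg.Agent.Lib.Invol.GW.Dihedral.Assembly

/-!
# Gorenstein–Walter, dihedral: the case of good primes

No elementary abelian subgroup of a core of `U` normalised by `C(t)` meets `R`: such a plane is excluded by the
position of the rotation.  So every prime has shape (i), and the group is linear or `A₇`.
-/

set_option autoImplicit false
set_option linter.unusedSectionVars false
set_option linter.style.haveILetI false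

namespace Cfsg.Agent.Invol.GW.Dihedral

open Subgroup Klein

universe u

variable {G : Type u} [Group G] [Finite G] {S : Sylow 2 G} {σ τ : G} {n : ℕ}

/-- Elementary abelian subgroups of the cores normalised by `C(t)` avoid `R`. -/
theorem Hyp.inf_fixR_eq_bot (h : Hyp S σ τ n) (hC : IsCoatom (centralizer ({central σ n} : Set G)))
    (hgood : ∀ q : ℕ, q.Prime → opOf q (coreCent (central σ n)) ≠ ⊥ → Good S σ n q) {q : ℕ} (hq : q.Prime)
    {B : Subgroup G} (hB : B ≤ opOf q (coreCent (central σ n)))
    (hn : centralizer ({central σ n} : Set G) ≤ normalizer (B : Set G)) (hab : IsMulCommutative ↥B)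
    (hexp : ∀ b ∈ B, b ^ q = 1) : B ⊓ fixR (central σ n) τ = ⊥ := by
  by_contra hne
  haveI : Fact q.Prime := ⟨hq⟩
  have hg : Good S σ n q := hgood q hq fun e => hne (le_bot_iff.1 (inf_le_left.trans (e ▸ hB)))
  obtain ⟨z, y, b⟩ := h.exists_plane hC hg hB hn
    (fun u hu v hv => congrArg Subtype.val (hab.is_comm.comm (⟨u, hu⟩ : ↥B) ⟨v, hv⟩)) hexp hne
  obtain ⟨hrr, hN⟩ := b.act_rotation h
  rcases Plane.rotation_cases (b.ne_two h) hrr hN with e | e | e | ⟨i, hi, -, hri⟩
  · exact b.false_of_trivial h hC hg e
  · -- the other reflection centralises the plane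
    have h1 : b.act h (h.le_centralizer (mul_mem h.hσ h.hτ)) = 1 := by
      rw [b.act_sigma_tau h, e, Plane.refl_mul_self]
    refine b.z_ne (mem_bot.1 (h.eq_bot_of_centralized hC hg ((isPGroup_opOf q _).to_le b.le) (b.le_coreCent h)
      b.normal h.symm.orderτ h.symm.commute_central_tau.symm h.symm.central_ne_tau.symm
      ((b.act_eq_one_iff h _).1 h1) ▸ b.zmem))
  · exact b.false_of_neg h hC hg hgood e
  · exact b.false_of_rot h hC hg hgood hi hri

/-- Section 4: with good primes only, the group is linear or `A₇`. -/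
theorem Hyp.psl_or_seven_of_good (h : Hyp S σ τ n) (hC : IsCoatom (centralizer ({central σ n} : Set G)))
    (hgood : ∀ q : ℕ, q.Prime → opOf q (coreCent (central σ n)) ≠ ⊥ → Good S σ n q) : IsPSLTwoOrSeven G := by
  have hI := fun q (hq : q.Prime) (B : Subgroup G) (hB : B ≤ opOf q (coreCent (central σ n))) hn hab hexp =>
    h.inf_fixR_eq_bot hC hgood hq hB hn hab hexp
  have hI1 := fun q (hq : q.Prime) (B : Subgroup G) (hB : B ≤ opOf q (coreCent (central σ n))) hn hab hexp =>
    h.symm.inf_fixR_eq_bot hC hgood hq hB hn hab hexp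
  exact h.psl_or_seven_of_shapes hC hgood hI hI1 (h.second_centre_commute hC hgood hI hI1)

/-- The case of good primes, as used by the assembly. -/
theorem caseDone : CaseDone.{u} := fun _ _ _ _ h hC hgood => h.psl_or_seven_of_good hC hgood

end Cfsg.Agent.Invol.GW.Dihedral
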