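import Cfsg.Agent.Lib.Invol.GW.Dihedral.CaseStab
import Cfsg.Agent.Lib.Invol.GW.Dihedral.CaseBounds
import Cfsg.Agent.Lib.Invol.GW.Dihedral.ArithA

/-!
# Gorenstein–Walter, dihedral: the arithmetic hypotheses of a plane, and the plane fixed by the rotation

The local data of `C(z)` and the principal block give the common hypotheses of the arithmetic leaves.  A plane on
which the rotation is trivial has equal indices `e |D|`, `3 ≤ e ≤ q`, against the arithmetic.
-/

set_option autoImplicit false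
set_option linter.unusedSectionVars false
set_option linter.style.haveILetI false

namespace Cfsg.Agent.Invol.GW.Dihedral

open Subgroup Klein

universe u

variable {G : Type u} [Group G] [Finite G] {S : Sylow 2 G} {σ τ : G} {n : ℕ}

namespace PlaneData

variable {q : ℕ} [Fact q.Prime] {B : Subgroup G} {z y : G} (b : PlaneData σ τ n q B z y) (h : Hyp S σ τ n)
  (hC : IsCoatom (centralizer ({central σ n} : Set G))) (hg : Good S σ n q)
include b h hC hg

/-- The common arithmetic hypotheses. -/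
theorem exists_leaf (P : Principal S σ τ n) : ∃ l k hh D : ℕ,
    (Nat.card ↥(centralizer ({z} : Set G) ⊓ centralizer ({central σ n} : Set G) : Subgroup G)).factorization 2
      = k ∧
    Arith.Leaf q k (Nat.card ↥(locD σ τ n (centralizer ({z} : Set G)))) l n P.m P.Θ (2 ^ n * P.Θ) P.x D ∧
    (D : ℤ) = P.x + P.δ ∧
    ((l = 2 ^ k * Nat.card ↥(locD σ τ n (centralizer ({z} : Set G))) + 1 ∧ 2 * hh = l + 1) ∨
      (l + 1 = 2 ^ k * Nat.card ↥(locD σ τ n (centralizer ({z} : Set G))) ∧ 2 * hh + 1 = l)) ∧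
    l - 1 ≤ 2 * P.A.natAbs ∧ l - 1 ≤ 2 * P.B.natAbs ∧
    ∀ κ : ℕ, idx σ τ n = κ * Nat.card ↥(locD σ τ n (centralizer ({z} : Set G))) →
      l * hh ∣ κ * P.m ^ 2 * P.x * D := by
  rcases h.line_bounds hC hg P (b.le b.zmem) b.zfix b.z_ne (b.exp z b.zmem) with
    ⟨ρ, hρH, hρ, hne, hρt, hρD⟩ | ⟨l, k, hh, hpow, hlo, hl5, hk2, hk, hho, hcase, hE, hA, hB, hdiv⟩
  · refine absurd (h.eq_bot_of_centralized hC hg ((isPGroup_opOf q _).to_le b.le) (b.le_coreCent h) b.normal hρ hρt
      hne fun x hx => ?_) fun e => b.z_ne (mem_bot.1 (e ▸ b.zmem))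
    obtain ⟨a, c, rfl⟩ := b.exists_decomp h hx
    exact (Commute.pow_right (mem_centralizer_singleton_iff.1 hρH) a).mul_right
      ((hρD y (b.mem_locD h hC hg)).pow_right c)
  obtain ⟨D, hD⟩ := Int.eq_ofNat_of_zero_le (P.add_pos h).le
  have hxd := P.deg'
  have hcast : ((2 ^ n * P.Θ : ℕ) : ℤ) = 2 ^ n * (P.Θ : ℤ) := by push_cast; ring
  refine ⟨l, k, hh, D, hk, ⟨Fact.out, ((Fact.out : q.Prime).eq_two_or_odd').resolve_left (b.ne_two h), hk2,
    odd_of_le ((b.lineData h hC hg).le_E.trans inf_le_left) h.odd_coreCent, b.dvd_card_locD h hC hg, hpow,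
    hcase.imp And.left And.left, h.three, P.m_odd, rfl, ?_, ?_, hE⟩, hD.symm, hcase.symm, hA, hB,
    fun κ hκ => ?_⟩
  · rcases P.delta with hd | hd <;> rw [hd] at hD hxd <;> [left; right] <;> constructor <;> omega
  · refine (Nat.modEq_iff_dvd.2 ?_).symm
    have h1 := h.line_congr hC hg P
    rw [hD] at h1
    exact_mod_cast h1
  · have h1 := hdiv (b.fixR_le_normalizer h) κ hκ
    rw [hD] at h1
    exact_mod_cast h1

/-- Trivial rotation: the same data for the other reflection. -/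
theorem swap (hr : b.act h (h.le_centralizer h.hσ) = 1) : PlaneData σ (σ * τ) n q B z y := by
  have hc := (b.act_eq_one_iff h (h.le_centralizer h.hσ)).1 hr
  have hconj : ∀ v ∈ B, σ * τ * v * (σ * τ)⁻¹ = τ * v * τ⁻¹ := fun v hv => by
    rw [show σ * τ * v * (σ * τ)⁻¹ = σ * (τ * v * τ⁻¹) * σ⁻¹ by group,
      (hc _ (conj_mem_of_normalizer (b.normal (h.le_centralizer h.hτ)) hv)).eq, mul_inv_cancel_right]
  have hiff : ∀ v ∈ B, v ∈ fixR (central σ n) (σ * τ) ↔ v ∈ fixR (central σ n) τ := fun v hv => by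
    rw [h.symm.mem_fixR, h.mem_fixR]
    exact and_congr_right fun _ =>
      ⟨fun e => by simpa [inv_mul_cancel_left] using (hc v hv).symm.inv_right.mul_right e,
       fun e => (hc v hv).symm.mul_right e⟩
  exact ⟨b.le, b.normal, b.comm, b.exp, b.zmem, b.ymem, (hiff z b.zmem).2 b.zfix, b.z_ne, b.y_ne,
    (hconj y b.ymem).trans b.yinv,
    (Subgroup.ext fun v => by
      rw [← b.fixed, Subgroup.mem_inf, Subgroup.mem_inf]; exact and_congr_right fun hv => hiff v hv),
    fun v hv e => b.inverted v hv ((hconj v hv).symm.trans e)⟩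

/-- No plane on which the rotation is trivial. -/
theorem false_of_trivial (hr : b.act h (h.le_centralizer h.hσ) = 1) : False := by
  obtain ⟨P⟩ := h.exists_principal
  obtain ⟨l, k, hh, D, hk, hL, -, hcase, -, -, hdiv⟩ := b.exists_leaf h hC hg P
  have b' := b.swap h hC hg hr
  set d := Nat.card ↥(locD σ τ n (centralizer ({z} : Set G)))
  set e := Plane.fixIdx Plane.refl (b.img h)
  have ha : idx σ τ n = e * d := b.idx_eq_mul h hC hg
  have ha1 : idx σ (σ * τ) n = e * d := by
    refine (b'.idx_eq_mul h.symm hC hg).trans ?_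
    congr 2
    rw [(b'.psl_branch h.symm hC hg).2.2, ← (b.psl_branch h hC hg).2.2]
  have hkn : k = n := by
    rw [← hk]
    exact h.factorization_stab_full ((b.act_eq_one_iff h (h.le_centralizer h.hσ)).1 hr z b.zmem)
      (h.mem_fixR.1 b.zfix).2.symm
  rw [hkn] at hL
  have hsum : P.Θ * P.m = e * d := by
    have h1 := P.idx_add
    rw [ha, ha1] at h1
    linarith
  have he : 3 ≤ e ∧ e ≤ q := by
    rcases (b.cfg h).fixed_cases with hlow | ⟨-, he⟩ | ⟨-, -, h3, hle, -⟩
    · exact absurd ⟨by rw [hr]; simp [Plane.ent_one], hlow⟩ (b.not_low h hC hg)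
    · exact ⟨le_trans hL.q_ge he.ge, he.le⟩
    · exact ⟨h3, hle⟩
  exact hL.false_LA ((b.cfg h).odd_fixIdx _) hsum (Or.inl he.2) (Or.inl (by omega))
    ((dvd_mul_right l hh).trans (hdiv e ha))

end PlaneData

end Cfsg.Agent.Invol.GW.Dihedral
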