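import Cfsg.Agent.Lib.Invol.GW.Dihedral.End
import Cfsg.Agent.Lib.Invol.GW.Dihedral.Core
import Cfsg.Agent.Lib.Invol.GW.Dihedral.LocalsPSL
import Cfsg.Agent.Lib.Invol.GW.Dihedral.LocalsNormal
import Cfsg.Agent.Lib.Transfer.OmegaMetacyclic
import Cfsg.Agent.Lib.Grp.Frattini
import Cfsg.Agent.Lib.Grp.PGroupSmall

/-!
# Gorenstein–Walter, dihedral, section 4: every prime of shape (i)

Assume for every prime `q` that elementary abelian subgroups of `Y = O_q(U)` normalised by `C(t)` avoid `R` and `R₁`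
and that the elements of order `q` of the second centre of `Y` commute.  These elements then form a noncyclic
elementary abelian `W` inverted by both reflections, `A = C_Y(W)` is inverted by both, and the rotations, as well as
the fixed elements of `[U, τ]`, centralise `Y`.  So the end applies.
-/

set_option autoImplicit false
set_option linter.unusedSectionVars false
set_option linter.style.haveILetI false

namespace Cfsg.Agent.Invol.GW.Dihedral

open Subgroup Klein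
open scoped commutatorElement

universe u

variable {G : Type u} [Group G]

/-- Conjugation fixing or inverting all of a normal abelian `W` commutes with the action on `W`. -/
theorem commute_twist {W : Subgroup G} {s y w : G} (hy : y ∈ normalizer (W : Set G))
    (hs : (∀ v ∈ W, s * v * s⁻¹ = v) ∨ ∀ v ∈ W, s * v * s⁻¹ = v⁻¹) (hw : w ∈ W) :
    Commute (y⁻¹ * (s * y * s⁻¹)) w := by
  have hyw : y * w * y⁻¹ ∈ W := (mem_normalizer_iff.1 hy w).1 hw
  have key : (s * y * s⁻¹) * w * (s * y * s⁻¹)⁻¹ = y * w * y⁻¹ := by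
    rcases hs with hs | hs
    · calc (s * y * s⁻¹) * w * (s * y * s⁻¹)⁻¹ = (s * y * s⁻¹) * (s * w * s⁻¹) * (s * y * s⁻¹)⁻¹ := by rw [hs w hw]
        _ = s * (y * w * y⁻¹) * s⁻¹ := by group
        _ = y * w * y⁻¹ := hs _ hyw
    · calc (s * y * s⁻¹) * w * (s * y * s⁻¹)⁻¹
          = (s * y * s⁻¹) * (s * w⁻¹ * s⁻¹) * (s * y * s⁻¹)⁻¹ := by rw [hs _ (inv_mem hw), inv_inv]
        _ = s * (y * w * y⁻¹)⁻¹ * s⁻¹ := by group
        _ = y * w * y⁻¹ := by rw [hs _ (inv_mem hyw), inv_inv]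
  show y⁻¹ * (s * y * s⁻¹) * w = w * (y⁻¹ * (s * y * s⁻¹))
  calc y⁻¹ * (s * y * s⁻¹) * w = y⁻¹ * ((s * y * s⁻¹) * w * (s * y * s⁻¹)⁻¹) * (s * y * s⁻¹) := by group
    _ = w * (y⁻¹ * (s * y * s⁻¹)) := by rw [key]; group

/-- An element of exponent `q` and the cyclic groups: at most `q` elements. -/
theorem card_le_of_isCyclic {W : Subgroup G} [IsCyclic ↥W] {q : ℕ} (hq : 0 < q) (hW : ∀ w ∈ W, w ^ q = 1) :
    Nat.card ↥W ≤ q := by
  obtain ⟨g, hg⟩ := IsCyclic.exists_generator (α := ↥W)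
  rw [← orderOf_eq_card_of_forall_mem_zpowers hg, ← Subgroup.orderOf_coe]
  exact Nat.le_of_dvd hq (orderOf_dvd_of_pow_eq_one (hW _ g.2))

variable [Finite G]

/-- A noncyclic group of odd prime power order has a normal elementary abelian subgroup of order `q²` in its second
centre. -/
theorem exists_second_centre {q : ℕ} [Fact q.Prime] (hq2 : q ≠ 2) {Y : Subgroup G} (hY : IsPGroup q ↥Y)
    (hnc : ¬ IsCyclic ↥Y) :
    ∃ A : Subgroup G, A ≤ Y ∧ Nat.card ↥A = q ^ 2 ∧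
      ∀ a ∈ A, a ^ q = 1 ∧ ∀ y ∈ Y, ∀ w ∈ Y, Commute (a * y * a⁻¹ * y⁻¹) w := by
  haveI : Finite ↥Y := inferInstance
  obtain ⟨A, -, hAn, hAe, hAc⟩ := Transfer.exists_normal_elementary hq2 hY ⊤ fun hc => hnc (by
    haveI := hc
    exact (Subgroup.topEquiv (G := ↥Y)).isCyclic.1 hc)
  haveI := hAn
  haveI := hY.isNilpotent
  set Z := A ⊓ center ↥Y with hZ
  have hZ1 : Z ≠ ⊥ := Grp.inf_center_ne_bot A fun e => by
    rw [e, Subgroup.card_bot] at hAc
    exact (Nat.one_lt_pow (two_ne_zero) (Fact.out : q.Prime).one_lt).ne hAc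
  haveI : Z.Normal := Subgroup.normal_inf_normal _ _
  haveI : (A.map (QuotientGroup.mk' Z)).Normal := hAn.map _ (QuotientGroup.mk'_surjective Z)
  have hcen : A.map (QuotientGroup.mk' Z) ≤ center (↥Y ⧸ Z) := by
    obtain ⟨j, hj⟩ := IsPGroup.iff_card.1 ((hY.to_quotient Z).to_subgroup (A.map (QuotientGroup.mk' Z)))
    obtain ⟨i, hi⟩ := IsPGroup.iff_card.1 (hY.to_subgroup Z)
    have hidx : Nat.card ↥(A.map (QuotientGroup.mk' Z)) * Nat.card ↥Z = Nat.card ↥A := by
      set f := (QuotientGroup.mk' Z).comp A.subtype with hf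
      have hker : f.ker = Z.subgroupOf A := by
        ext x
        rw [MonoidHom.mem_ker, mem_subgroupOf, hf, MonoidHom.comp_apply, QuotientGroup.mk'_apply,
          QuotientGroup.eq_one_iff]
        rfl
      have hran : f.range = A.map (QuotientGroup.mk' Z) := by
        rw [hf, MonoidHom.range_comp, Subgroup.range_subtype]
      have h1 := Subgroup.card_eq_card_quotient_mul_card_subgroup f.ker
      rw [Nat.card_congr (QuotientGroup.quotientKerEquivRange f).toEquiv, hran, hker,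
        Nat.card_congr (subgroupOfEquivOfLe (inf_le_left : Z ≤ A)).toEquiv] at h1
      exact h1.symm
    rw [hj, hi, hAc, ← pow_add] at hidx
    have hij : j + i = 2 := Nat.pow_right_injective (Fact.out : q.Prime).two_le hidx
    have hi1 : i ≠ 0 := fun e => hZ1 (Subgroup.card_eq_one.1 (by rw [hi, e, pow_zero]))
    rcases Nat.eq_zero_or_pos j with rfl | hj0
    · rw [Subgroup.card_eq_one.1 (by rw [hj, pow_zero] : Nat.card ↥(A.map (QuotientGroup.mk' Z)) = 1)]
      exact bot_le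
    · refine Grp.PSmall.le_center_of_card (p := q) (hY.to_quotient Z) _ ?_
      rw [hj, show j = 1 by omega, pow_one]
  refine ⟨A.map Y.subtype, map_subtype_le _, by rw [card_map_of_injective Y.subtype_injective, hAc], ?_⟩
  rintro _ ⟨a, ha, rfl⟩
  refine ⟨congrArg Subtype.val (hAe.2 a ha), fun y hy w hw => ?_⟩
  have h1 : QuotientGroup.mk' Z (a * ⟨y, hy⟩ * a⁻¹ * ⟨y, hy⟩⁻¹) = 1 := by
    rw [map_mul, map_mul, map_mul, map_inv, map_inv,
      (mem_center_iff.1 (hcen (mem_map_of_mem _ ha)) (QuotientGroup.mk' Z ⟨y, hy⟩)).symm, mul_inv_cancel_right,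
      mul_inv_cancel]
  have h2 := mem_center_iff.1 ((QuotientGroup.eq_one_iff _).1 h1).2 ⟨w, hw⟩
  exact (congrArg Subtype.val h2).symm

namespace Hyp

variable {S : Sylow 2 G} {σ τ : G} {n : ℕ} (h : Hyp S σ τ n)
include h

/-- An inverted abelian subgroup of exponent `q` centralised by a nontrivial `q`-element of `R` is cyclic. -/
theorem card_le_of_commute (hC : IsCoatom (centralizer ({central σ n} : Set G))) {q : ℕ} [Fact q.Prime]
    (hg : Good S σ n q) {z : G} (hzY : z ∈ opOf q (coreCent (central σ n))) (hzR : z ∈ fixR (central σ n) τ)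
    (hz1 : z ≠ 1) (hzq : z ^ q = 1) {W : Subgroup G} (hWU : W ≤ coreCent (central σ n))
    (hWi : ∀ w ∈ W, τ * w * τ⁻¹ = w⁻¹) (hWe : ∀ w ∈ W, w ^ q = 1) (hWz : ∀ w ∈ W, Commute w z) :
    Nat.card ↥W ≤ q := by
  set H := centralizer ({z} : Set G) with hH
  have hWH : ∀ w ∈ W, w ∈ coreCent (central σ n) ⊓ H := fun w hw =>
    Subgroup.mem_inf.2 ⟨hWU hw, mem_centralizer_singleton_iff.2 (hWz w hw).eq⟩
  by_cases hmov : coreCent (central σ n) ⊓ H ≤ centralizer ({τ} : Set G)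
  · have hW1 : W = ⊥ := (eq_bot_iff_forall _).2 fun w hw => by
      have h1 := hWi w hw
      rw [← (mem_centralizer_singleton_iff.1 (hmov (hWH w hw))), mul_inv_cancel_right] at h1
      exact eq_one_of_odd h.odd_coreCent (hWU hw) (mul_eq_one_iff_eq_inv.2 h1)
    rw [hW1, Subgroup.card_bot]
    exact (Fact.out : q.Prime).one_lt.le
  have hzl : IsPGroup q (zpowers z) :=
    isPGroup_zpowers (n := 1) (by rw [pow_one]; exact orderOf_eq_prime hzq hz1)
  have hfuse := h.fuses_of_mem hC hg h.normalFusion hzR hzl hz1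
  have hne : H ≠ ⊤ := fun e => by
    refine h.normalizer_ne_top (X := zpowers z) (fun e' => hz1 (zpowers_eq_bot.1 e'))
      (zpowers_le.2 (h.coreCent_le (h.mem_fixR.1 hzR).1)) (top_le_iff.1 ?_)
    refine le_trans e.ge ?_
    rw [hH, Grp.centralizer_singleton_eq_zpowers]
    exact centralizer_le_normalizer _
  have hd := h.localStatement H hne
    (fun v hv => mem_centralizer_singleton_iff.2 (h.commute_of_mem_fixR hzR hv).symm.eq) hfuse
    (fun s hs hs2 => h.one_class hC hg h.normalFusion h.symm.normalFusion hzR hzl hz1 hs2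
      (mem_centralizer_singleton_iff.1 hs))
    (h.oddOf_centralizer_le hC hzY hzR hz1 hfuse) hmov
  haveI := hd.isCyclic
  have hWD : W ≤ locD σ τ n H := fun w hw => by
    have h1 := commutator_mem_commutator (H₁ := coreCent (central σ n) ⊓ H) (H₂ := zpowers τ)
      (hWH w hw) (mem_zpowers τ)
    rw [commutatorElement_def, show w * τ * w⁻¹ * τ⁻¹ = w * (τ * w⁻¹ * τ⁻¹) by group, hWi _ (inv_mem hw),
      inv_inv, ← pow_two] at h1
    obtain ⟨k, hk⟩ := h.odd_of_mem (hWU hw)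
    have h2 := pow_mem h1 (k + 1)
    rwa [← pow_mul, show 2 * (k + 1) = orderOf w + 1 by omega, pow_succ, pow_orderOf_eq_one, one_mul] at h2
  haveI : IsCyclic ↥W := isCyclic_of_le hWD
  exact card_le_of_isCyclic (Fact.out : q.Prime).pos hWe

omit h

variable (hC : IsCoatom (centralizer ({central σ n} : Set G))) {q : ℕ} [Fact q.Prime]
  (hI : ∀ B : Subgroup G, B ≤ opOf q (coreCent (central σ n)) →
    centralizer ({central σ n} : Set G) ≤ normalizer (B : Set G) → IsMulCommutative ↥B →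
    (∀ b ∈ B, b ^ q = 1) → B ⊓ fixR (central σ n) τ = ⊥)
include hI

theorem omZ_inf_eq_bot (h : Hyp S σ τ n) :
    omZ q (opOf q (coreCent (central σ n))) ⊓ fixR (central σ n) τ = ⊥ :=
  hI _ (omZ_le _ _)
    ((h.le_normalizer_coreCent.trans (normalizer_le_normalizer_opOf q _)).trans (normalizer_le_omZ q _))
    ⟨⟨fun a b => Subtype.ext (a.2.2.1 b b.2.1).eq⟩⟩ fun b hb => hb.2.2

/-- A fixed central element of `O_q(U)` is trivial. -/
theorem eq_one_of_central (h : Hyp S σ τ n) {z : G}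
    (hz : z ∈ opOf q (coreCent (central σ n)) ⊓ fixR (central σ n) τ)
    (hzc : ∀ y ∈ opOf q (coreCent (central σ n)), Commute z y) : z = 1 := by
  by_contra hz1
  obtain ⟨hzY, hzR⟩ := Subgroup.mem_inf.1 hz
  obtain ⟨k, hk⟩ := isPGroup_opOf q (coreCent (central σ n)) ⟨z, hzY⟩
  have hk' : z ^ q ^ k = 1 := congrArg Subtype.val hk
  clear hk
  induction k with
  | zero => exact hz1 (by rwa [pow_zero, pow_one] at hk')
  | succ k ih =>
    refine ih (by
      have h1 : z ^ q ^ k ∈ omZ q (opOf q (coreCent (central σ n))) :=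
        ⟨pow_mem hzY _, fun y hy => (hzc y hy).pow_left _, by rw [← pow_mul, ← pow_succ]; exact hk'⟩
      exact mem_bot.1 (omZ_inf_eq_bot hI h ▸ Subgroup.mem_inf.2 ⟨h1, pow_mem hzR _⟩))

omit hI

/-- A nontrivial `q`-subgroup meeting `R` contains a fixed element of order `q`. -/
theorem exists_fixed_order {A : Subgroup G} (hA : IsPGroup q ↥A) (h1 : A ⊓ fixR (central σ n) τ ≠ ⊥) :
    ∃ z ∈ A, z ∈ fixR (central σ n) τ ∧ z ≠ 1 ∧ z ^ q = 1 := by
  obtain ⟨z, hz, hz1⟩ := (Subgroup.bot_or_exists_ne_one _).resolve_left h1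
  obtain ⟨k, hk⟩ := hA ⟨z, (Subgroup.mem_inf.1 hz).1⟩
  have hk' : z ^ q ^ k = 1 := congrArg Subtype.val hk
  clear hk
  induction k with
  | zero => exact absurd (by rwa [pow_zero, pow_one] at hk') hz1
  | succ k ih =>
    by_cases hc : z ^ q ^ k = 1
    · exact ih hc
    · exact ⟨z ^ q ^ k, pow_mem (Subgroup.mem_inf.1 hz).1 _, pow_mem (Subgroup.mem_inf.1 hz).2 _, hc,
        by rw [← pow_mul, ← pow_succ]; exact hk'⟩

/-- A subgroup of `U` avoiding `R` is inverted by `τ`. -/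
theorem inverted_of_avoid (h : Hyp S σ τ n) {K : Subgroup G} (hK : K ≤ coreCent (central σ n))
    (hn : τ ∈ normalizer (K : Set G)) (hR : K ⊓ fixR (central σ n) τ = ⊥) {x : G} (hx : x ∈ K) :
    τ * x * τ⁻¹ = x⁻¹ := by
  obtain ⟨a, -, e, he, hinv, hc, rfl, -⟩ :=
    Klein.exists_inverted_mul (odd_of_le hK h.odd_coreCent) h.tau_mul_self hn hx
  have he1 : e = 1 := mem_bot.1 (hR ▸ Subgroup.mem_inf.2 ⟨he, h.mem_fixR.2 ⟨hK he, hc⟩⟩)
  rw [he1, mul_one]
  exact hinv

variable (hI1 : ∀ B : Subgroup G, B ≤ opOf q (coreCent (central σ n)) →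
    centralizer ({central σ n} : Set G) ≤ normalizer (B : Set G) → IsMulCommutative ↥B →
    (∀ b ∈ B, b ^ q = 1) → B ⊓ fixR (central σ n) (σ * τ) = ⊥)
include hC hI hI1

/-- The rotation and the fixed part of `[U, τ]` centralise `O_q(U)`. -/
theorem centralizes_opOf (h : Hyp S σ τ n) (hg : opOf q (coreCent (central σ n)) ≠ ⊥ → Good S σ n q)
    (hIII : ∀ a b : G, a ∈ opOf q (coreCent (central σ n)) → b ∈ opOf q (coreCent (central σ n)) →
      a ^ q = 1 → b ^ q = 1 →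
      (∀ y ∈ opOf q (coreCent (central σ n)), ∀ w ∈ opOf q (coreCent (central σ n)),
        Commute (a * y * a⁻¹ * y⁻¹) w) →
      (∀ y ∈ opOf q (coreCent (central σ n)), ∀ w ∈ opOf q (coreCent (central σ n)),
        Commute (b * y * b⁻¹ * y⁻¹) w) → Commute a b) :
    (∀ y ∈ opOf q (coreCent (central σ n)), Commute σ y) ∧
      ∀ g ∈ fixR (central σ n) τ ⊓ ⁅coreCent (central σ n), zpowers τ⁆,
        ∀ y ∈ opOf q (coreCent (central σ n)), Commute g y := by
  have hστ := h.symm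
  set t := central σ n with ht
  set U := coreCent t with hU
  set Y := opOf q U with hY
  have hYU : Y ≤ U := opOf_le q U
  have hYp : IsPGroup q ↥Y := isPGroup_opOf q U
  have hCY : centralizer ({t} : Set G) ≤ normalizer (Y : Set G) :=
    h.le_normalizer_coreCent.trans (normalizer_le_normalizer_opOf q U)
  have hSY : (S : Subgroup G) ≤ normalizer (Y : Set G) := h.le_centralizer.trans hCY
  -- a reflection inverting a normal subgroup: `[U, τ]` centralises it
  have hcomm : ∀ K : Subgroup G, U ≤ normalizer (K : Set G) → (∀ x ∈ K, τ * x * τ⁻¹ = x⁻¹) →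
      ∀ g ∈ fixR t τ ⊓ ⁅U, zpowers τ⁆, ∀ x ∈ K, Commute g x := by
    intro K hUK hinv g hg x hx
    have hle : ⁅U, zpowers τ⁆ ≤ centralizer ({x} : Set G) := commutator_le.2 fun k hk w hw => by
      rcases h.eq_one_or_tau hw with rfl | rfl
      · rw [commutatorElement_one_right]; exact one_mem _
      · exact mem_centralizer_singleton_iff.2 (commute_commutator_of_inverted (hUK hk) hinv hx).eq
    exact mem_centralizer_singleton_iff.1 (hle (Subgroup.mem_inf.1 hg).2)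
  by_cases hYR : Y ⊓ fixR t τ = ⊥
  · have hinv : ∀ y ∈ Y, τ * y * τ⁻¹ = y⁻¹ := fun y hy => inverted_of_avoid h hYU (hSY h.hτ) hYR hy
    have hab : ∀ a ∈ Y, ∀ b ∈ Y, Commute a b := fun a ha b hb => commute_of_inverted hinv ha hb
    have hYR1 : Y ⊓ fixR t (σ * τ) = ⊥ := (eq_bot_iff_forall _).2 fun z hz =>
      eq_one_of_central hI1 hστ hz fun y hy => hab z (Subgroup.mem_inf.1 hz).1 y hy
    refine ⟨fun y hy => ?_, hcomm Y (le_normalizer_opOf q U) hinv⟩
    have h1 := inverted_of_avoid hστ hYU (hSY hστ.hτ) hYR1 hy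
    rw [show σ * τ * y * (σ * τ)⁻¹ = σ * (τ * y * τ⁻¹) * σ⁻¹ by group, hinv y hy] at h1
    exact Commute.inv_right_iff.1 (mul_inv_eq_iff_eq_mul.1 h1)
  obtain ⟨z, hzY, hzR, hz1, hzq⟩ := exists_fixed_order hYp hYR
  have hYne : Y ≠ ⊥ := fun e => hz1 (by rwa [e, mem_bot] at hzY)
  have hgood := hg hYne
  have hqodd : Odd q := h.odd_prime hC hYne
  have hq2 : q ≠ 2 := fun e => by rw [e] at hqodd; exact absurd hqodd (by decide)
  have hnc : ¬ IsCyclic ↥Y := fun hc => by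
    haveI := hc
    refine hz1 (eq_one_of_central hI h (Subgroup.mem_inf.2 ⟨hzY, hzR⟩) fun y hy => ?_)
    exact congrArg Subtype.val (IsCyclic.isMulCommutative.is_comm.comm (⟨z, hzY⟩ : ↥Y) ⟨y, hy⟩)
  -- the elements of order `q` of the second centre
  let W : Subgroup G :=
    { carrier := {a | a ∈ Y ∧ a ^ q = 1 ∧ ∀ y ∈ Y, ∀ w ∈ Y, Commute (a * y * a⁻¹ * y⁻¹) w}
      one_mem' := ⟨one_mem _, one_pow _, fun y _ w _ => by
        rw [show (1 : G) * y * 1⁻¹ * y⁻¹ = 1 by group]; exact Commute.one_left w⟩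
      mul_mem' := fun {a b} ha hb => ⟨mul_mem ha.1 hb.1,
        by rw [(hIII a b ha.1 hb.1 ha.2.1 hb.2.1 ha.2.2 hb.2.2).mul_pow, ha.2.1, hb.2.1, one_mul],
        fun y hy w hw => by
          have h1 : Commute a (b * y * b⁻¹ * y⁻¹) := (hb.2.2 y hy a ha.1).symm
          rw [show a * b * y * (a * b)⁻¹ * y⁻¹ = a * (b * y * b⁻¹ * y⁻¹) * a⁻¹ * (a * y * a⁻¹ * y⁻¹) by group,
            h1.eq, mul_inv_cancel_right]
          exact (hb.2.2 y hy w hw).mul_left (ha.2.2 y hy w hw)⟩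
      inv_mem' := fun {a} ha => ⟨inv_mem ha.1, by rw [inv_pow, ha.2.1, inv_one], fun y hy w hw => by
        have h1 : Commute (a * y * a⁻¹ * y⁻¹) a := ha.2.2 y hy a ha.1
        rw [show a⁻¹ * y * a⁻¹⁻¹ * y⁻¹ = a⁻¹ * (a * y * a⁻¹ * y⁻¹)⁻¹ * a by group, mul_assoc a⁻¹,
          h1.inv_left.eq, inv_mul_cancel_left]
        exact (ha.2.2 y hy w hw).inv_left⟩ }
  have hWY : W ≤ Y := fun a ha => ha.1
  have hWU : W ≤ U := hWY.trans hYU
  have hWn : normalizer (Y : Set G) ≤ normalizer (W : Set G) := fun c hc => by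
    refine mem_normalizer_fintype fun a ha => ?_
    refine ⟨(mem_normalizer_iff.1 hc a).1 ha.1, by rw [conj_pow, ha.2.1, mul_one, mul_inv_cancel],
      fun y hy w hw => ?_⟩
    have hy' : c⁻¹ * y * c⁻¹⁻¹ ∈ Y := (mem_normalizer_iff.1 (inv_mem hc) y).1 hy
    have hw' : c⁻¹ * w * c⁻¹⁻¹ ∈ Y := (mem_normalizer_iff.1 (inv_mem hc) w).1 hw
    have h1 := (ha.2.2 _ hy' _ hw').conj c
    rwa [show c * (a * (c⁻¹ * y * c⁻¹⁻¹) * a⁻¹ * (c⁻¹ * y * c⁻¹⁻¹)⁻¹) * c⁻¹ =
        c * a * c⁻¹ * y * (c * a * c⁻¹)⁻¹ * y⁻¹ by group,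
      show c * (c⁻¹ * w * c⁻¹⁻¹) * c⁻¹ = w by group] at h1
  have hWab : ∀ a ∈ W, ∀ b ∈ W, Commute a b := fun a ha b hb =>
    hIII a b ha.1 hb.1 ha.2.1 hb.2.1 ha.2.2 hb.2.2
  have hWc : IsMulCommutative ↥W := ⟨⟨fun a b => Subtype.ext (hWab a a.2 b b.2).eq⟩⟩
  have hWR := hI W hWY (hCY.trans hWn) hWc fun a ha => ha.2.1
  have hWR1 := hI1 W hWY (hCY.trans hWn) hWc fun a ha => ha.2.1
  have hWτ : ∀ w ∈ W, τ * w * τ⁻¹ = w⁻¹ := fun w hw => inverted_of_avoid h hWU (hWn (hSY h.hτ)) hWR hw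
  have hWστ : ∀ w ∈ W, σ * τ * w * (σ * τ)⁻¹ = w⁻¹ := fun w hw =>
    inverted_of_avoid hστ hWU (hWn (hSY hστ.hτ)) hWR1 hw
  have hWσ : ∀ w ∈ W, σ * w * σ⁻¹ = w := fun w hw => by
    have h1 := hWστ _ (inv_mem hw)
    rwa [show σ * τ * w⁻¹ * (σ * τ)⁻¹ = σ * (τ * w⁻¹ * τ⁻¹) * σ⁻¹ by group, hWτ _ (inv_mem hw), inv_inv] at h1
  have hW2 : q < Nat.card ↥W := by
    obtain ⟨A, hAY, hAc, hA⟩ := exists_second_centre hq2 hYp hnc
    have h1 := Subgroup.card_le_of_le (show A ≤ W from fun a ha => ⟨hAY ha, hA a ha⟩)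
    rw [hAc, pow_two] at h1
    have := (Fact.out : q.Prime).two_le
    nlinarith
  -- its centraliser in `Y`
  set A := Y ⊓ centralizer (W : Set G) with hA
  have hAY : A ≤ Y := inf_le_left
  have hmemA : ∀ {y : G}, y ∈ Y → (∀ w ∈ W, Commute y w) → y ∈ A := fun hy hc =>
    Subgroup.mem_inf.2 ⟨hy, mem_centralizer_iff.2 fun w hw => (hc w hw).eq.symm⟩
  have hcA : ∀ {y : G}, y ∈ A → ∀ w ∈ W, Commute y w := fun hy w hw =>
    (mem_centralizer_iff.1 (Subgroup.mem_inf.1 hy).2 w hw).symm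
  have hAn : normalizer (Y : Set G) ≤ normalizer (A : Set G) := fun c hc => by
    refine mem_normalizer_fintype fun y hy => hmemA ((mem_normalizer_iff.1 hc y).1 (hAY hy)) fun w hw => ?_
    have h1 := (hcA hy _ ((mem_normalizer_iff.1 (inv_mem (hWn hc)) w).1 hw)).conj c
    rwa [show c * (c⁻¹ * w * c⁻¹⁻¹) * c⁻¹ = w by group] at h1
  have hfix : ∀ (σ' τ' : G) (h' : Hyp S σ' τ' n), central σ' n = t → Good S σ' n q →
      (∀ w ∈ W, τ' * w * τ'⁻¹ = w⁻¹) → A ⊓ fixR t τ' = ⊥ := by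
    intro σ' τ' h' e hg' hi
    by_contra hne
    obtain ⟨x, hxA, hxR, hx1, hxq⟩ := exists_fixed_order (σ := σ') (τ := τ') (n := n)
      (hYp.to_le hAY) (e.symm ▸ hne)
    refine absurd (h'.card_le_of_commute (e.symm ▸ hC) hg' (e.symm ▸ hAY hxA) hxR hx1 hxq
      (e.symm ▸ hWU) hi (fun w hw => hw.2.1) fun w hw => (hcA hxA w hw).symm) (not_le.2 hW2)
  have hAτ : ∀ a ∈ A, τ * a * τ⁻¹ = a⁻¹ := fun a ha =>
    inverted_of_avoid h (hAY.trans hYU) (hAn (hSY h.hτ)) (hfix σ τ h rfl hgood hWτ) ha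
  have hAσ : ∀ a ∈ A, Commute σ a := fun a ha => by
    have h1 := inverted_of_avoid hστ (hAY.trans hYU) (hAn (hSY hστ.hτ))
      (hfix σ (σ * τ) hστ rfl hgood hWστ) ha
    rw [show σ * τ * a * (σ * τ)⁻¹ = σ * (τ * a * τ⁻¹) * σ⁻¹ by group, hAτ a ha] at h1
    exact Commute.inv_right_iff.1 (mul_inv_eq_iff_eq_mul.1 h1)
  have hYW : ∀ {y : G}, y ∈ Y → y ∈ normalizer (W : Set G) := fun hy => hWn (le_normalizer hy)
  refine ⟨fun y hy => ?_, fun g hg y hy => ?_⟩
  · -- the powers of `σ` translate `y` by an element of `A`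
    set c := y⁻¹ * (σ * y * σ⁻¹) with hc
    have hcA' : c ∈ A := hmemA (mul_mem (inv_mem hy) ((mem_normalizer_iff.1 (hSY h.hσ) y).1 hy)) fun w hw =>
      commute_twist (hYW hy) (Or.inl hWσ) hw
    have hk : ∀ k : ℕ, σ ^ k * y * (σ ^ k)⁻¹ = y * c ^ k := by
      intro k
      induction k with
      | zero => simp
      | succ k ih =>
        rw [pow_succ', mul_inv_rev, show σ * σ ^ k * y * ((σ ^ k)⁻¹ * σ⁻¹) = σ * (σ ^ k * y * (σ ^ k)⁻¹) * σ⁻¹ by
          group, ih, show σ * (y * c ^ k) * σ⁻¹ = (σ * y * σ⁻¹) * (σ * c ^ k * σ⁻¹) by group,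
          ((hAσ c hcA').pow_right k).eq, mul_inv_cancel_right, pow_succ', ← mul_assoc y c, hc, mul_inv_cancel_left]
    have h1 := hk (2 ^ (n - 1))
    rw [← h.orderσ, pow_orderOf_eq_one, one_mul, inv_one, mul_one, h.orderσ, left_eq_mul] at h1
    have hc1 : c = 1 := orderOf_eq_one_iff.1 (Nat.eq_one_of_dvd_coprimes (k := orderOf c)
      (Nat.Coprime.pow_left (n - 1) (Nat.coprime_two_left.2 (h.odd_of_mem (hYU (hAY hcA')))))
      (orderOf_dvd_of_pow_eq_one h1) dvd_rfl)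
    have h2 := hk 1
    rw [pow_one, pow_one, hc1, mul_one] at h2
    exact mul_inv_eq_iff_eq_mul.1 h2
  · -- `Y` is `A` times its fixed points
    have hgA : ∀ a ∈ A, Commute g a := hcomm A ((le_normalizer_opOf q U).trans hAn) hAτ g hg
    have hgW : ∀ w ∈ W, g * w * g⁻¹ = w := fun w hw => by
      rw [(hcomm W ((le_normalizer_opOf q U).trans hWn) hWτ g hg w hw).eq, mul_inv_cancel_right]
    obtain ⟨hgR, -⟩ := Subgroup.mem_inf.1 hg
    have hgY : g ∈ normalizer (Y : Set G) := le_normalizer_opOf q U (h.mem_fixR.1 hgR).1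
    obtain ⟨a, ha, e, he, hinv, hec, rfl, -⟩ :=
      Klein.exists_inverted_mul (odd_of_le hYU h.odd_coreCent) h.tau_mul_self (hSY h.hτ) hy
    have haA : a ∈ A := hmemA ha fun w hw => by
      have h1 := commute_twist (hYW ha) (Or.inr hWτ) hw
      rw [hinv, ← mul_inv_rev] at h1
      obtain ⟨k, hk⟩ := h.odd_of_mem (hYU ha)
      have h2 := (h1.inv_left.pow_left (k + 1))
      rwa [inv_inv, ← pow_two, ← pow_mul, show 2 * (k + 1) = orderOf a + 1 by omega, pow_succ,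
        pow_orderOf_eq_one, one_mul] at h2
    refine (hgA a haA).mul_right ?_
    -- the commutator with the fixed element is fixed and lies in `A`
    set c := e⁻¹ * (g * e * g⁻¹) with hc
    have hcA' : c ∈ A := hmemA (mul_mem (inv_mem he) ((mem_normalizer_iff.1 hgY e).1 he)) fun w hw =>
      commute_twist (hYW he) (Or.inl hgW) hw
    have hcR : c ∈ fixR t τ := by
      have h1 := (h.mem_fixR.2 ⟨hYU he, hec⟩ : e ∈ fixR t τ)
      exact mul_mem (inv_mem h1) (mul_mem (mul_mem hgR h1) (inv_mem hgR))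
    have hc1 : c = 1 := mem_bot.1 (hfix σ τ h rfl hgood hWτ ▸ Subgroup.mem_inf.2 ⟨hcA', hcR⟩)
    rw [hc, inv_mul_eq_one] at hc1
    exact mul_inv_eq_iff_eq_mul.1 hc1.symm

end Hyp

/-- Section 4 when every prime has shape (i). -/
theorem Hyp.psl_or_seven_of_shapes {S : Sylow 2 G} {σ τ : G} {n : ℕ} (h : Hyp S σ τ n)
    (hC : IsCoatom (centralizer ({central σ n} : Set G)))
    (hgood : ∀ q : ℕ, q.Prime → opOf q (coreCent (central σ n)) ≠ ⊥ → Good S σ n q)
    (hI : ∀ q : ℕ, q.Prime → ∀ B : Subgroup G, B ≤ opOf q (coreCent (central σ n)) →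
      centralizer ({central σ n} : Set G) ≤ normalizer (B : Set G) → IsMulCommutative ↥B →
      (∀ b ∈ B, b ^ q = 1) → B ⊓ fixR (central σ n) τ = ⊥)
    (hI1 : ∀ q : ℕ, q.Prime → ∀ B : Subgroup G, B ≤ opOf q (coreCent (central σ n)) →
      centralizer ({central σ n} : Set G) ≤ normalizer (B : Set G) → IsMulCommutative ↥B →
      (∀ b ∈ B, b ^ q = 1) → B ⊓ fixR (central σ n) (σ * τ) = ⊥)
    (hIII : ∀ q : ℕ, q.Prime → ∀ a b : G, a ∈ opOf q (coreCent (central σ n)) →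
      b ∈ opOf q (coreCent (central σ n)) → a ^ q = 1 → b ^ q = 1 →
      (∀ y ∈ opOf q (coreCent (central σ n)), ∀ w ∈ opOf q (coreCent (central σ n)),
        Commute (a * y * a⁻¹ * y⁻¹) w) →
      (∀ y ∈ opOf q (coreCent (central σ n)), ∀ w ∈ opOf q (coreCent (central σ n)),
        Commute (b * y * b⁻¹ * y⁻¹) w) → Commute a b) : IsPSLTwoOrSeven G := by
  refine h.psl_or_seven_of_end hC (fun q hq => ?_) (fun q hq => ?_) fun q hq z hz hzc => ?_
  all_goals haveI : Fact q.Prime := ⟨hq⟩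
  · exact (Hyp.centralizes_opOf hC (hI q hq) (hI1 q hq) h (hgood q hq) (hIII q hq)).1
  · exact (Hyp.centralizes_opOf hC (hI q hq) (hI1 q hq) h (hgood q hq) (hIII q hq)).2
  · exact Hyp.eq_one_of_central (hI q hq) h hz hzc

end Cfsg.Agent.Invol.GW.Dihedral
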