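import Cfsg.Agent.Lib.Invol.GW.Dihedral.CaseRot
import Cfsg.Agent.Lib.Invol.GW.Dihedral.CaseShapeOne
import Cfsg.Agent.Lib.Invol.GW.Dihedral.ArithC
import Cfsg.Agent.Lib.Grp.Solvable

/-!
# Gorenstein–Walter, dihedral: a plane inverted by the other reflection

The rotation acts as `-1` times the reflection.  The elements of the kernel on the plane centralising the parts of
the cores there form a nilpotent normal subgroup `M` with no fixed point of the other reflection, so the second index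
is `|M| = |M ⊓ R| |D|`, against the arithmetic.
-/

set_option autoImplicit false
set_option linter.unusedSectionVars false
set_option linter.style.haveILetI false

namespace Cfsg.Agent.Invol.GW.Dihedral

open Subgroup Klein
open scoped commutatorElement

universe u

variable {G : Type u} [Group G] [Finite G] {S : Sylow 2 G} {σ τ : G} {n : ℕ}

theorem relIndex_eq_card_of_factor {K D F : Subgroup G} (hDK : D ≤ K) (hd : D ⊓ F = ⊥)
    (hfac : ∀ x ∈ K, ∃ d ∈ D, d⁻¹ * x ∈ F) : F.relIndex K = Nat.card ↥D := by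
  rw [relIndex, index]
  refine (Nat.card_congr (Equiv.ofBijective
    (fun v : ↥D => ((⟨v, hDK v.2⟩ : ↥K) : ↥K ⧸ F.subgroupOf K)) ⟨fun v w e => ?_, fun Q => ?_⟩)).symm
  · have h2 := mem_subgroupOf.1 (QuotientGroup.eq.1 e)
    have h4 : (v : G)⁻¹ * w ∈ D := mul_mem (inv_mem v.2) w.2
    have h3 : (v : G)⁻¹ * w ∈ D ⊓ F := Subgroup.mem_inf.2 ⟨h4, h2⟩
    rw [hd, mem_bot, inv_mul_eq_one] at h3
    exact Subtype.ext h3
  · induction Q using QuotientGroup.induction_on with
    | H v =>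
      obtain ⟨d, hd', hf⟩ := hfac v v.2
      exact ⟨⟨d, hd'⟩, QuotientGroup.eq.2 (mem_subgroupOf.2 hf)⟩

/-- An element of the Fitting subgroup lies where its powers in the cores lie. -/
theorem mem_of_opOf_parts {K L : Subgroup G} {g : G}
    (hg : g ∈ (Cfsg.fittingSubgroup ↥K).map K.subtype)
    (hp : ∀ s : ℕ, s.Prime → ∀ i : ℕ, g ^ i ∈ opOf s K → g ^ i ∈ L) : g ∈ L := by
  suffices key : ∀ N : ℕ, ∀ i : ℕ, (g ^ i) ^ N = 1 → 0 < N → g ^ i ∈ L by
    have h1 := key (orderOf g) 1 (by rw [pow_one, pow_orderOf_eq_one]) (orderOf_pos g)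
    rwa [pow_one] at h1
  refine fun N => Nat.recOnPrimeCoprime (motive := fun N => ∀ i : ℕ, (g ^ i) ^ N = 1 → 0 < N → g ^ i ∈ L)
    (fun i _ h0 => absurd h0 (lt_irrefl 0)) (fun p k hp' i h1 _ => ?_) (fun a b ha hb hab iha ihb i h1 _ => ?_) N
  · haveI : Fact p.Prime := ⟨hp'⟩
    exact hp p hp' i (mem_opOf_of_mem_fitting (pow_mem hg i) h1)
  · have h2 : g ^ (i * a) ∈ L := ihb (i * a) (by rw [← pow_mul, mul_assoc, pow_mul, h1]) (by omega)
    have h3 : g ^ (i * b) ∈ L := iha (i * b) (by rw [← pow_mul, mul_assoc, mul_comm b a, pow_mul, h1]) (by omega)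
    have h4 : g ^ i = (g ^ (i * a)) ^ Nat.gcdA a b * (g ^ (i * b)) ^ Nat.gcdB a b := by
      rw [← zpow_natCast g (i * a), ← zpow_natCast g (i * b), ← zpow_mul, ← zpow_mul, ← zpow_add, ← zpow_natCast]
      congr 1
      have e := Nat.gcd_eq_gcd_ab a b
      rw [hab.gcd_eq_one] at e
      push_cast at e ⊢
      linear_combination (i : ℤ) * e
    rw [h4]
    exact mul_mem (zpow_mem h2 _) (zpow_mem h3 _)

/-- The elements of the kernel centralising the parts of the cores there. -/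
def negCore (σ : G) (n : ℕ) (B : Subgroup G) : Subgroup G :=
  coreCent (central σ n) ⊓ centralizer (B : Set G) ⊓
    ⨅ s : Nat.Primes, centralizer ((opOf (s : ℕ) (coreCent (central σ n)) ⊓ centralizer (B : Set G) :
      Subgroup G) : Set G)

theorem mem_negCore {σ : G} {n : ℕ} {B : Subgroup G} {x : G} : x ∈ negCore σ n B ↔
    x ∈ coreCent (central σ n) ∧ (∀ v ∈ B, Commute x v) ∧
      ∀ s : ℕ, s.Prime → ∀ w ∈ opOf s (coreCent (central σ n)), (∀ v ∈ B, Commute w v) → Commute x w := by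
  simp only [negCore, Subgroup.mem_inf, Subgroup.mem_iInf, mem_centralizer_iff, SetLike.mem_coe]
  constructor
  · rintro ⟨⟨h1, h2⟩, h3⟩
    exact ⟨h1, fun v hv => (h2 v hv).symm, fun s hs w hw hwB =>
      (h3 ⟨s, hs⟩ w ⟨hw, fun v hv => (hwB v hv).eq.symm⟩).symm⟩
  · rintro ⟨h1, h2, h3⟩
    exact ⟨⟨h1, fun v hv => (h2 v hv).eq.symm⟩, fun s w hw =>
      (h3 s s.2 w hw.1 fun v hv => (hw.2 v hv).symm).eq.symm⟩

namespace PlaneData

variable {q : ℕ} [Fact q.Prime] {B : Subgroup G} {z y : G} (b : PlaneData σ τ n q B z y) (h : Hyp S σ τ n)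
  (hC : IsCoatom (centralizer ({central σ n} : Set G))) (hg : Good S σ n q)
  (hgood : ∀ s : ℕ, s.Prime → opOf s (coreCent (central σ n)) ≠ ⊥ → Good S σ n s)
  (hr : b.act h (h.le_centralizer h.hσ) = -Plane.refl)
include b h hC hg hgood hr

theorem symm_inverts {v : G} (hv : v ∈ B) : σ * τ * v * (σ * τ)⁻¹ = v⁻¹ :=
  b.inverts_of_neg_one h (h.le_centralizer (mul_mem h.hσ h.hτ))
    (by rw [b.act_sigma_tau h, hr, neg_mul, Plane.refl_mul_self]) hv

/-- The other reflection fixes nothing in a core centralising the plane. -/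
theorem neg_free {s : ℕ} [Fact s.Prime] {x : G} (hx : x ∈ opOf s (coreCent (central σ n)))
    (hB : ∀ v ∈ B, Commute x v) (hc : Commute x (σ * τ)) : x = 1 := by
  by_contra hx1
  have hxU := opOf_le s _ hx
  have hd := h.symm.lineData hC (hgood s Fact.out fun e => hx1 (by rwa [e, mem_bot] at hx)) hx
    (h.symm.mem_fixR.2 ⟨hxU, hc⟩) hx1
  haveI := hd.isCyclic
  have hmem : ∀ v ∈ B, v ∈ locD σ (σ * τ) n (centralizer ({x} : Set G)) := fun v hv =>
    h.symm.mem_locD_of_inverted (b.le_coreCent h hv) (mem_centralizer_singleton_iff.2 (hB v hv).eq.symm)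
      (b.symm_inverts h hC hg hgood hr hv)
  have hzy : z ∈ zpowers y :=
    mem_zpowers_of_isCyclic (hmem y b.ymem) (hmem z b.zmem) (b.exp y b.ymem) b.y_ne (b.exp z b.zmem)
  obtain ⟨i, hi⟩ := mem_zpowers_iff.1 hzy
  have h1 : τ * z * τ⁻¹ = z⁻¹ := by rw [← hi, ← conj_zpow, b.yinv, inv_zpow]
  rw [(h.mem_fixR.1 b.zfix).2.symm.eq, mul_inv_cancel_right, eq_inv_iff_mul_eq_one] at h1
  exact b.z_ne (eq_one_of_odd h.odd_coreCent (b.le_coreCent h b.zmem) h1)

theorem core_inverted {s : ℕ} [Fact s.Prime] {x : G} (hx : x ∈ opOf s (coreCent (central σ n)))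
    (hB : ∀ v ∈ B, Commute x v) : σ * τ * x * (σ * τ)⁻¹ = x⁻¹ := by
  have hn : σ * τ ∈ normalizer ((opOf s (coreCent (central σ n)) ⊓ centralizer (B : Set G) : Subgroup G) : Set G) := by
    refine mem_normalizer_fintype fun v hv => ?_
    obtain ⟨hv1, hv2⟩ := Subgroup.mem_inf.1 hv
    refine Subgroup.mem_inf.2 ⟨conj_mem_of_normalizer
      (h.le_normalizer_opOf_coreCent s (h.le_centralizer (mul_mem h.hσ h.hτ))) hv1, mem_centralizer_iff.2 fun w hw => ?_⟩
    exact (commute_conj_of (fun u hu => (mem_centralizer_iff.1 hv2 u hu).symm)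
      (b.normal (h.le_centralizer (mul_mem h.hσ h.hτ))) w hw).eq.symm
  refine Hyp.inverted_of_avoid h.symm (inf_le_left.trans (opOf_le s _)) hn ((eq_bot_iff_forall _).2 fun v hv => ?_)
    (Subgroup.mem_inf.2 ⟨hx, mem_centralizer_iff.2 fun v hv => (hB v hv).eq.symm⟩)
  obtain ⟨hv1, hv2⟩ := Subgroup.mem_inf.1 hv
  exact b.neg_free h hC hg hgood hr (Subgroup.mem_inf.1 hv1).1
    (fun w hw => (mem_centralizer_iff.1 (Subgroup.mem_inf.1 hv1).2 w hw).symm) (h.symm.mem_fixR.1 hv2).2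

/-- A core at another prime centralises the plane. -/
theorem core_commute {s : ℕ} [Fact s.Prime] (hs : s ≠ q) {w : G} (hw : w ∈ opOf s (coreCent (central σ n))) :
    ∀ v ∈ B, Commute w v := fun v hv =>
  commute_of_disjoint (inf_eq_bot_of_primes hs (isPGroup_opOf s _) (isPGroup_opOf q _)) hw (b.le hv)
    (le_normalizer_opOf q _ (opOf_le s _ hw)) (le_normalizer_opOf s _ (b.le_coreCent h hv))

theorem negCore_normal : centralizer ({central σ n} : Set G) ≤ normalizer (negCore σ n B : Set G) := by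
  intro c hc
  refine mem_normalizer_fintype fun x hx => ?_
  obtain ⟨hxU, hxB, hxX⟩ := mem_negCore.1 hx
  refine mem_negCore.2
    ⟨conj_mem_of_normalizer (h.le_normalizer_coreCent hc) hxU, fun v hv => commute_conj_of hxB (b.normal hc) v hv,
      fun s hs w hw hwB => ?_⟩
  have hw' := conj_mem_of_normalizer (inv_mem (h.le_normalizer_opOf_coreCent s hc)) hw
  have h1 := (hxX s hs _ hw' fun v hv => commute_conj_of hwB (inv_mem (b.normal hc)) v hv).conj c
  rwa [show c * (c⁻¹ * w * c⁻¹⁻¹) * c⁻¹ = w by group] at h1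

/-- `M` lies in the Fitting subgroup. -/
theorem negCore_le_fitting : negCore σ n B ≤
    (Cfsg.fittingSubgroup ↥(coreCent (central σ n))).map (coreCent (central σ n)).subtype := by
  haveI := h.isSolvable_coreCent
  set U := coreCent (central σ n)
  set M := negCore σ n B
  have hMU : M ≤ U := fun x hx => (mem_negCore.1 hx).1
  -- the commutators centralise the cores
  have hkey : ∀ u ∈ M, ∀ v ∈ M, ∀ s : ℕ, s.Prime → ∀ w ∈ opOf s U,
      u * v * w * (u * v)⁻¹ = v * u * w * (v * u)⁻¹ := by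
    intro u hu v hv s hs w hw
    haveI : Fact s.Prime := ⟨hs⟩
    obtain ⟨huU, huB, huX⟩ := mem_negCore.1 hu
    obtain ⟨hvU, hvB, hvX⟩ := mem_negCore.1 hv
    have hwn : w ∈ normalizer (B : Set G) := b.normal (h.coreCent_le (opOf_le s _ hw))
    have hA : ∀ g ∈ M, g * w * g⁻¹ * w⁻¹ ∈ opOf s U ∧ ∀ x ∈ B, Commute (g * w * g⁻¹ * w⁻¹) x := by
      intro g hg'
      obtain ⟨hgU, hgB, -⟩ := mem_negCore.1 hg'
      refine ⟨mul_mem (conj_mem_of_normalizer (le_normalizer_opOf s _ hgU) hw) (inv_mem hw), fun x hx => ?_⟩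
      have h1 := commute_conj_of (v := g⁻¹) (fun x hx => (hgB x hx).inv_left) hwn x hx
      rw [show g * w * g⁻¹ * w⁻¹ = g * (w * g⁻¹ * w⁻¹) by group]
      exact (hgB x hx).mul_left h1
    obtain ⟨ha, haB⟩ := hA u hu
    obtain ⟨ha', ha'B⟩ := hA v hv
    set α := u * w * u⁻¹ * w⁻¹ with hα
    set β := v * w * v⁻¹ * w⁻¹ with hβ
    have hab : Commute α β := by
      refine commute_of_inverted (K := opOf s U ⊓ centralizer (B : Set G)) (u := σ * τ) (fun x hx => ?_)
        ⟨ha, mem_centralizer_iff.2 fun x hx => (haB x hx).eq.symm⟩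
        ⟨ha', mem_centralizer_iff.2 fun x hx => (ha'B x hx).eq.symm⟩
      exact b.core_inverted h hC hg hgood hr hx.1 fun v hv => (mem_centralizer_iff.1 hx.2 v hv).symm
    have huβ := huX s hs β ha' ha'B
    have hvα := hvX s hs α ha haB
    have e1 : u * v * w * (u * v)⁻¹ = β * α * w := by
      calc u * v * w * (u * v)⁻¹ = (u * β * u⁻¹) * (u * w * u⁻¹ * w⁻¹) * w := by rw [hβ]; group
        _ = β * α * w := by rw [huβ.eq, mul_inv_cancel_right]
    have e2 : v * u * w * (v * u)⁻¹ = α * β * w := by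
      calc v * u * w * (v * u)⁻¹ = (v * α * v⁻¹) * (v * w * v⁻¹ * w⁻¹) * w := by rw [hα]; group
        _ = α * β * w := by rw [hvα.eq, mul_inv_cancel_right]
    rw [hab.eq, ← e1] at e2
    exact e2.symm
  have hcomm : ∀ u ∈ M, ∀ v ∈ M, ∀ s : ℕ, s.Prime → ∀ w ∈ opOf s U, Commute ⁅u, v⁆ w := by
    intro u hu v hv s hs w hw
    refine mul_inv_eq_iff_eq_mul.1 ?_
    have h1 := hkey u hu v hv s hs _
      (conj_mem_of_normalizer (inv_mem (le_normalizer_opOf s U (hMU (mul_mem hv hu)))) hw)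
    rw [show v * u * ((v * u)⁻¹ * w * (v * u)⁻¹⁻¹) * (v * u)⁻¹ = w by group] at h1
    rw [commutatorElement_def, show u * v * u⁻¹ * v⁻¹ * w * (u * v * u⁻¹ * v⁻¹)⁻¹ =
      u * v * ((v * u)⁻¹ * w * (v * u)⁻¹⁻¹) * (u * v)⁻¹ by group, h1]
  haveI hnil : Group.IsNilpotent ↥M := Grp.isNilpotent_of_commutator_le_center (by
    refine commutator_le.2 fun u _ v _ => mem_center_iff.2 fun g => Subtype.ext ?_
    have hF : ((⁅u, v⁆ : ↥M) : G) ∈ (Cfsg.fittingSubgroup ↥U).map U.subtype :=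
      mem_fitting_of_commute (hMU (⁅u, v⁆ : ↥M).2) fun s hs w hw => by
        simpa [commutatorElement_def] using hcomm u u.2 v v.2 s hs w hw
    have hmem : ((⁅u, v⁆ : ↥M) : G) ∈ centralizer ({(g : G)} : Set G) := by
      refine mem_of_opOf_parts hF fun s hs i hi => ?_
      have hpB : ∀ x ∈ B, Commute (((⁅u, v⁆ : ↥M) : G) ^ i) x := fun x hx =>
        ((mem_negCore.1 (⁅u, v⁆ : ↥M).2).2.1 x hx).pow_left i
      exact mem_centralizer_singleton_iff.2 ((mem_negCore.1 g.2).2.2 s hs _ hi hpB).eq.symm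
    exact (mem_centralizer_singleton_iff.1 hmem).symm)
  haveI : (M.subgroupOf U).Normal := normal_subgroupOf_of_le_normalizer
    (h.coreCent_le.trans (b.negCore_normal h hC hg hgood hr))
  rw [← map_subgroupOf_eq_of_le hMU]
  exact map_mono (Grp.le_fittingSubgroup inferInstance
    (Group.nilpotent_of_mulEquiv (subgroupOfEquivOfLe hMU).symm))

/-- `M` has no fixed point of the other reflection and contains the inverted elements of the kernel. -/
theorem negCore_fixed : negCore σ n B ⊓ centralizer ({σ * τ} : Set G) = ⊥ := by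
  refine (eq_bot_iff_forall _).2 fun g hg' => mem_bot.1 ?_
  obtain ⟨hgU, hgB, -⟩ := mem_negCore.1 (Subgroup.mem_inf.1 hg').1
  refine mem_of_opOf_parts (b.negCore_le_fitting h hC hg hgood hr (Subgroup.mem_inf.1 hg').1) fun s hs i hi => ?_
  haveI : Fact s.Prime := ⟨hs⟩
  exact mem_bot.2 (b.neg_free h hC hg hgood hr hi (fun v hv => (hgB v hv).pow_left i)
    (Commute.pow_left (mem_centralizer_singleton_iff.1 (Subgroup.mem_inf.1 hg').2) i))

/-- The second index. -/
theorem idx_symm : idx σ (σ * τ) n = Nat.card ↥(negCore σ n B) := by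
  set M := negCore σ n B
  set K := (b.frame h).kerOn (coreCent (central σ n))
  have hρ : b.act h (h.le_centralizer (mul_mem h.hσ h.hτ)) = -1 := by
    rw [b.act_sigma_tau h, hr, neg_mul, Plane.refl_mul_self]
  have h1 := b.idx_of_act h hC hg (h.le_centralizer (mul_mem h.hσ h.hτ)) h.symm.tau_mul_self
  rw [hρ, (b.cfg h).fixIdx_eq_one fun a _ => (Plane.commute_of_mem_scal Plane.neg_one_mem_scal a).symm, one_mul] at h1
  refine h1.trans (relIndex_eq_card_of_factor (fun x hx => ?_) ?_ fun x hx => ?_)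
  · obtain ⟨hxU, hxB, -⟩ := mem_negCore.1 hx
    exact (b.mem_kerOn_iff h hC hg).2 ⟨hxU, hxB⟩
  · exact le_bot_iff.1 ((inf_le_inf_left _ inf_le_right).trans (b.negCore_fixed h hC hg hgood hr).le)
  have hCn := h.le_centralizer (mul_mem h.hσ h.hτ)
  have hKn : σ * τ ∈ normalizer (K : Set G) := mem_normalizer_fintype fun v hv => by
    obtain ⟨hvU, hvB⟩ := (b.mem_kerOn_iff h hC hg).1 hv
    exact (b.mem_kerOn_iff h hC hg).2 ⟨conj_mem_of_normalizer (h.le_normalizer_coreCent hCn) hvU,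
      commute_conj_of hvB (b.normal hCn)⟩
  obtain ⟨a, ha, e, he, hinv, hec, rfl, -⟩ := Klein.exists_inverted_mul
    (odd_of_le ((b.frame h).kerOn_le _) h.odd_coreCent) h.symm.tau_mul_self hKn hx
  obtain ⟨haU, haB⟩ := (b.mem_kerOn_iff h hC hg).1 ha
  refine ⟨a, mem_negCore.2 ⟨haU, haB, fun s hs w hw hwB => ?_⟩, ?_⟩
  · haveI : Fact s.Prime := ⟨hs⟩
    set X := opOf s (coreCent (central σ n)) ⊓ centralizer (B : Set G)
    have hXn : a ∈ normalizer (X : Set G) := mem_normalizer_fintype fun v hv =>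
      Subgroup.mem_inf.2 ⟨conj_mem_of_normalizer (le_normalizer_opOf s _ haU) (Subgroup.mem_inf.1 hv).1,
        mem_centralizer_iff.2 fun v' hv' => (commute_conj_of (fun u hu =>
          (mem_centralizer_iff.1 (Subgroup.mem_inf.1 hv).2 u hu).symm) (b.normal (h.coreCent_le haU)) v' hv').eq.symm⟩
    have h2 := commute_commutator_of_inverted (A := X) (u := σ * τ) hXn (fun v hv => b.core_inverted h hC hg hgood hr
      (Subgroup.mem_inf.1 hv).1 fun v' hv' => (mem_centralizer_iff.1 (Subgroup.mem_inf.1 hv).2 v' hv').symm)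
      (Subgroup.mem_inf.2 ⟨hw, mem_centralizer_iff.2 fun v hv => (hwB v hv).eq.symm⟩)
    rw [commutatorElement_def, show a * (σ * τ) * a⁻¹ * (σ * τ)⁻¹ = a * (σ * τ * a * (σ * τ)⁻¹)⁻¹ by group, hinv,
      inv_inv] at h2
    obtain ⟨k, hk⟩ := h.odd_orderOf h.odd_coreCent haU
    have h3 := h2.pow_left (k + 1)
    rwa [← pow_two, ← pow_mul, show 2 * (k + 1) = orderOf a + 1 by omega, pow_succ, pow_orderOf_eq_one, one_mul] at h3
  · rw [inv_mul_cancel_left]
    exact ⟨he, mem_centralizer_singleton_iff.2 hec.eq⟩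

/-- `M` is `(M ⊓ R) D`. -/
theorem negCore_card : ∃ Gp : ℕ, Odd Gp ∧ q ∣ Gp ∧ Nat.card ↥(negCore σ n B) =
    Gp * Nat.card ↥(locD σ τ n (centralizer ({z} : Set G))) := by
  set M := negCore σ n B
  set D := locD σ τ n (centralizer ({z} : Set G))
  have hd := b.lineData h hC hg
  haveI := hd.isCyclic
  haveI : IsMulCommutative ↥D := IsCyclic.isMulCommutative
  have hMU : M ≤ coreCent (central σ n) := fun x hx => (mem_negCore.1 hx).1
  have hDM : D ≤ M := fun d hd' => mem_negCore.2 ⟨(hd.le_E hd').1,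
    fun v hv => b.locD_commute h hC hg hd' hv, fun s hs w hw hwB => by
      haveI : Fact s.Prime := ⟨hs⟩
      have hτn : τ ∈ normalizer ((opOf s (coreCent (central σ n)) ⊓ centralizer (B : Set G) : Subgroup G) : Set G) :=
        mem_normalizer_fintype fun v hv => Subgroup.mem_inf.2
          ⟨conj_mem_of_normalizer (h.le_normalizer_opOf_coreCent s (h.le_centralizer h.hτ)) (Subgroup.mem_inf.1 hv).1,
            mem_centralizer_iff.2 fun v' hv' => (commute_conj_of (fun u hu =>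
              (mem_centralizer_iff.1 (Subgroup.mem_inf.1 hv).2 u hu).symm) (b.normal (h.le_centralizer h.hτ)) v'
              hv').eq.symm⟩
      obtain ⟨a, ha, e, he, hinv, hec, rfl, -⟩ := Klein.exists_inverted_mul
        (odd_of_le (inf_le_left.trans (opOf_le s _)) h.odd_coreCent) h.tau_mul_self hτn
        (Subgroup.mem_inf.2 ⟨hw, mem_centralizer_iff.2 fun v hv => (hwB v hv).eq.symm⟩ :
          w ∈ opOf s (coreCent (central σ n)) ⊓ centralizer (B : Set G))
      obtain ⟨ha1, ha2⟩ := Subgroup.mem_inf.1 ha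
      obtain ⟨he1, he2⟩ := Subgroup.mem_inf.1 he
      have haD : a ∈ D := h.mem_locD_of_inverted (opOf_le s _ ha1)
        (mem_centralizer_singleton_iff.2 (mem_centralizer_iff.1 ha2 z b.zmem).symm) hinv
      refine Commute.mul_right (congrArg Subtype.val (mul_comm' (⟨d, hd'⟩ : ↥D) ⟨a, haD⟩)) ?_
      exact (h.commute_locE hC hg (b.le b.zmem) b.zfix b.z_ne he1 (h.mem_fixR.2 ⟨opOf_le s _ he1, hec⟩)
        (mem_centralizer_iff.1 he2 z b.zmem).symm d (hd.le_E hd').2).symm⟩
  refine ⟨Nat.card ↥(M ⊓ centralizer ({τ} : Set G) : Subgroup G),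
    odd_of_le (inf_le_left.trans hMU) h.odd_coreCent, ?_, ?_⟩
  · rw [← orderOf_eq_prime (b.exp z b.zmem) b.z_ne]
    refine Subgroup.orderOf_dvd_natCard _ (Subgroup.mem_inf.2
      ⟨mem_negCore.2 ⟨b.le_coreCent h b.zmem, fun v hv => b.comm z b.zmem v hv,
        fun s _ w _ hwB => (hwB z b.zmem).symm⟩, mem_centralizer_singleton_iff.2 (h.mem_fixR.1 b.zfix).2.eq⟩)
  have h1 : (M ⊓ centralizer ({τ} : Set G)).relIndex M = Nat.card ↥D := by
    refine relIndex_eq_card_of_factor hDM ((eq_bot_iff_forall _).2 fun x hx => ?_) fun x hx => ?_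
    · have hi := hd.inverted x hx.1
      rw [← (mem_centralizer_singleton_iff.1 hx.2.2), mul_inv_cancel_right, eq_inv_iff_mul_eq_one] at hi
      exact eq_one_of_odd h.odd_coreCent (hd.le_E hx.1).1 hi
    obtain ⟨a, ha, e, he, hinv, hec, rfl, -⟩ := Klein.exists_inverted_mul (odd_of_le hMU h.odd_coreCent)
      h.tau_mul_self (b.negCore_normal h hC hg hgood hr (h.le_centralizer h.hτ)) hx
    obtain ⟨haU, haB, -⟩ := mem_negCore.1 ha
    exact ⟨a, h.mem_locD_of_inverted haU (mem_centralizer_singleton_iff.2 (haB z b.zmem).eq) hinv,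
      by rw [inv_mul_cancel_left]; exact ⟨he, mem_centralizer_singleton_iff.2 hec.eq⟩⟩
  have e := Subgroup.relIndex_mul_relIndex ⊥ (M ⊓ centralizer ({τ} : Set G)) M bot_le inf_le_left
  rw [relIndex_bot_left, relIndex_bot_left, h1] at e
  exact e.symm

/-- The 2-part for the inverting rotation. -/
theorem factorization_neg : (Nat.card ↥(centralizer ({z} : Set G) ⊓ centralizer ({central σ n} : Set G) :
    Subgroup G)).factorization 2 = n - 1 := by
  have h3 := h.three
  have hker : ∀ v ∈ B, Commute (σ ^ 2) v := (b.act_eq_one_iff h (pow_mem (h.le_centralizer h.hσ) 2)).1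
    (by rw [b.act_pow h (h.le_centralizer h.hσ), hr, neg_sq, pow_two, Plane.refl_mul_self])
  obtain ⟨P, hP, hPc⟩ := h.exists_dihedral_part (i := 1) (show 1 ≤ n - 1 by omega)
    (by simpa using hker z b.zmem) (h.mem_fixR.1 b.zfix).2.symm
  refine h.factorization_stab hP hPc fun c hc => ?_
  set w := c * z * c⁻¹
  have hwB : w ∈ B := conj_mem_of_normalizer (b.normal hc) b.zmem
  have hw1 : w ≠ 1 := fun e => b.z_ne (conj_eq_one_iff.1 e)
  by_cases hσw : Commute σ w
  · suffices hle : (S : Subgroup G) ⊓ centralizer ({w} : Set G) ≤ zpowers σ by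
      refine (card_le_of_le hle).trans ?_
      rw [Nat.card_zpowers, h.orderσ]
    intro s hs
    by_contra hsσ
    obtain ⟨j, rfl⟩ := h.exists_rotation_mul_tau hs.1 hsσ
    have h1 : Commute (σ * τ) w := by
      have h2 := (hσw.zpow_left (1 - j)).mul_left (mem_centralizer_singleton_iff.1 hs.2 : Commute (σ ^ j * τ) w)
      rwa [← mul_assoc, ← zpow_add, sub_add_cancel, zpow_one] at h2
    have h3 := b.symm_inverts h hC hg hgood hr hwB
    rw [h1.eq, mul_inv_cancel_right, eq_inv_iff_mul_eq_one] at h3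
    exact hw1 (eq_one_of_odd h.odd_coreCent (b.le_coreCent h hwB) h3)
  · refine (h.card_le_two_mul_rotations inf_le_left).trans ?_
    rw [show n - 1 = n - 1 - 1 + 1 by omega, pow_succ', ← h.card_zpowers_pow (show 1 ≤ n - 1 by omega)]
    refine Nat.mul_le_mul_left 2 (card_le_of_le fun x hx => ?_)
    obtain ⟨j, rfl⟩ := mem_zpowers_iff.1 hx.1
    rw [pow_one]
    rcases Int.even_or_odd j with ⟨i, rfl⟩ | ⟨i, rfl⟩
    · rw [← two_mul, zpow_mul, show σ ^ (2 : ℤ) = σ ^ 2 from zpow_natCast σ 2]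
      exact zpow_mem (mem_zpowers (σ ^ 2)) i
    · refine absurd ?_ hσw
      have h1 : Commute (σ ^ (2 * i + 1)) w := mem_centralizer_singleton_iff.1 hx.2.2
      have h2 := ((hker w hwB).zpow_left (-i)).mul_left h1
      rwa [← zpow_natCast σ 2, ← zpow_mul, ← zpow_add, show ((2 : ℕ) : ℤ) * -i + (2 * i + 1) = 1 by push_cast; ring,
        zpow_one] at h2

/-- No plane inverted by the other reflection. -/
theorem false_of_neg : False := by
  obtain ⟨P⟩ := h.exists_principal
  obtain ⟨Gp, hGo, hqG, hM⟩ := b.negCore_card h hC hg hgood hr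
  obtain ⟨l, k, hh, D, hk, hL, hD, -, hlA, hlB, hdiv⟩ := b.exists_leaf h hC hg P
  set d := Nat.card ↥(locD σ τ n (centralizer ({z} : Set G)))
  set e := Plane.fixIdx Plane.refl (b.img h) with he_def
  have ha : idx σ τ n = e * d := b.idx_eq_mul h hC hg
  have ha1 : idx σ (σ * τ) n = Gp * d := (b.idx_symm h hC hg hgood hr).trans hM
  have heq : e = q ∨ (3 ≤ e ∧ (e ∣ q - 1 ∨ e ∣ q + 1)) := by
    rcases (b.cfg h).fixed_cases with hlow | ⟨-, e1⟩ | ⟨-, -, e1, -, e2⟩
    · exact absurd ⟨by rw [hr, Plane.ent_neg, (Plane.ent_refl (q := q)).2.2.1, neg_zero], hlow⟩ (b.not_low h hC hg)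
    · exact Or.inl e1
    · exact Or.inr ⟨e1, e2⟩
  have he3 : 3 ≤ e := by
    rcases heq with e1 | ⟨e1, -⟩
    · exact le_trans hL.q_ge e1.ge
    · exact e1
  have hG3 : Gp < 3 * e := by
    by_contra hle
    haveI := h.isMulCommutative_of_ratio P (Or.inl fun e0 => b.z_ne (mem_bot.1 (e0 ▸ b.zfix)))
      (Or.inl (by rw [ha, ha1, ← mul_assoc]; exact Nat.mul_le_mul_right _ (by omega)))
    rw [he_def, b.fixIdx_eq_one_of_comm h] at he3
    omega
  have hkn : k + 1 = n := by
    rw [← hk, b.factorization_neg h hC hg hgood hr]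
    have := h.three
    omega
  refine hL.false_LC hkn ((b.cfg h).odd_fixIdx _) hGo hqG heq rfl rfl ?_ hG3 ?_
    ((dvd_mul_right l hh).trans (hdiv e ha))
  · rw [← ha, ← ha1]
    exact P.idx_add
  · have hXz : ((2 ^ n * P.Θ : ℕ) : ℤ) = (P.x : ℤ) - P.δ := by push_cast; rw [P.two_pow_theta]
    rw [hXz, hD]
    have hineq := P.index_inequality h
    rw [ha, ha1] at hineq
    set β : ℤ := ((min P.A.natAbs P.B.natAbs : ℕ) : ℤ)
    have hlβ : (l : ℤ) - 1 ≤ 2 * β := by
      have h1 := hL.l_pow.one_lt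
      have h2 : l - 1 ≤ 2 * min P.A.natAbs P.B.natAbs := by omega
      simp only [β]
      omega
    have hl0 : (0 : ℤ) ≤ (l : ℤ) - 1 := by
      have := hL.l_pow.one_lt
      omega
    have hDnn : (0 : ℤ) ≤ (P.x : ℤ) + P.δ := (P.add_pos h).le
    push_cast at hineq ⊢
    set u := (((Gp : ℤ) * d) - (e * d)) ^ 2 * ((P.x : ℤ) - P.δ) ^ 2 with hu
    set v := (((e : ℤ) * d) + (Gp * d)) ^ 2 * P.x with hv
    have hi : u * β ≤ v * (4 * β + ((P.x : ℤ) + P.δ)) := by
      rw [hu, hv]; linarith [hineq]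
    have hv0 : 0 ≤ v := by positivity
    by_cases huv : u ≤ 4 * v
    · nlinarith [mul_le_mul_of_nonneg_right huv hl0, mul_nonneg hv0 hDnn]
    · nlinarith [mul_le_mul_of_nonneg_left hlβ (show (0 : ℤ) ≤ u - 4 * v by omega)]

end PlaneData

end Cfsg.Agent.Invol.GW.Dihedral
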