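import Cfsg.Agent.Lib.Invol.GW.Dihedral.PlaneCases
import Cfsg.Agent.Lib.Invol.GW.Dihedral.Coord
import Cfsg.Agent.Lib.Invol.GW.Klein.Invert

/-!
# The image of a subgroup of odd order in the plane of a frame

An involution normalising the subgroup lifts its fixed points in the image, so the index of its fixed points is the
index in the image times the one in the kernel.
-/

set_option autoImplicit false
set_option linter.unusedSectionVars false

namespace Cfsg.Agent.Invol.GW.Dihedral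

open Subgroup Klein

universe u

variable {G : Type u} [Group G] {q : ℕ} [hq : Fact q.Prime] {M N₀ : Subgroup G} {z y : G}

namespace Frame

variable (f : Frame q M N₀ z y)

/-- The image of a subgroup in the plane. -/
noncomputable def image (U : Subgroup G) : Subgroup (Plane.GL2 q) := (U.subgroupOf (frameDom M N₀)).map f.hom

/-- The elements of a subgroup acting trivially on the plane. -/
noncomputable def kerOn (U : Subgroup G) : Subgroup G := U ⊓ f.hom.ker.map (frameDom M N₀).subtype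

theorem mem_kerOn {U : Subgroup G} {x : G} :
    x ∈ f.kerOn U ↔ x ∈ U ∧ ∃ hx : x ∈ frameDom M N₀, f.hom ⟨x, hx⟩ = 1 := by
  rw [kerOn, Subgroup.mem_inf, Subgroup.mem_map]
  refine and_congr_right fun _ => ⟨?_, fun ⟨hx, h1⟩ => ⟨⟨x, hx⟩, h1, rfl⟩⟩
  rintro ⟨g, hg, rfl⟩
  exact ⟨g.2, hg⟩

theorem kerOn_le (U : Subgroup G) : f.kerOn U ≤ U := inf_le_left

theorem hom_mem_image {U : Subgroup G} {g : ↥(frameDom M N₀)} (hg : (g : G) ∈ U) : f.hom g ∈ f.image U :=
  ⟨g, mem_subgroupOf.2 hg, rfl⟩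

theorem mem_image {U : Subgroup G} {a : Plane.GL2 q} (ha : a ∈ f.image U) :
    ∃ g : ↥(frameDom M N₀), (g : G) ∈ U ∧ f.hom g = a := by
  obtain ⟨g, hg, e⟩ := ha
  exact ⟨g, mem_subgroupOf.1 hg, e⟩

theorem conj_mem_image {U : Subgroup G} {g : ↥(frameDom M N₀)} (hg : (g : G) ∈ normalizer (U : Set G))
    {a : Plane.GL2 q} (ha : a ∈ f.image U) : f.hom g * a * (f.hom g)⁻¹ ∈ f.image U := by
  obtain ⟨x, hx, rfl⟩ := f.mem_image ha
  rw [← map_inv, ← map_mul, ← map_mul]
  exact f.hom_mem_image ((mem_normalizer_iff.1 hg (x : G)).1 hx)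

/-- The image of `z`. -/
theorem conj_first (g : ↥(frameDom M N₀)) :
    (f.vec ![Plane.ent (f.hom g) 0 0, Plane.ent (f.hom g) 1 0])⁻¹ * ((g : G) * z * (g : G)⁻¹) ∈ N₀ := by
  have h1 := f.coord_spec (f.conj_mem_M g.2 f.zmem)
  rwa [show f.coord ((g : G) * z * (g : G)⁻¹) = ![Plane.ent (f.hom g) 0 0, Plane.ent (f.hom g) 1 0] by
    funext i; fin_cases i <;> simp [f.ent_hom, f.vec_first]] at h1

/-- The image of `y`. -/
theorem conj_second (g : ↥(frameDom M N₀)) :
    (f.vec ![Plane.ent (f.hom g) 0 1, Plane.ent (f.hom g) 1 1])⁻¹ * ((g : G) * y * (g : G)⁻¹) ∈ N₀ := by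
  have h1 := f.coord_spec (f.conj_mem_M g.2 f.ymem)
  rwa [show f.coord ((g : G) * y * (g : G)⁻¹) = ![Plane.ent (f.hom g) 0 1, Plane.ent (f.hom g) 1 1] by
    funext i; fin_cases i <;> simp [f.ent_hom, f.vec_second]] at h1

include f in
theorem pow_val_neg_one {w : G} (hw : w ^ q ∈ N₀) : (w ^ (-1 : ZMod q).val) * w ∈ N₀ := by
  rw [← pow_succ]
  obtain ⟨k, hk⟩ : q ∣ (-1 : ZMod q).val + 1 := by
    rw [← ZMod.natCast_eq_zero_iff, Nat.cast_add, ZMod.natCast_zmod_val, Nat.cast_one, neg_add_cancel]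
  rw [hk, pow_mul]
  exact pow_mem hw k

theorem fix_first (g : ↥(frameDom M N₀)) (h0 : Plane.ent (f.hom g) 0 0 = 1) (h1 : Plane.ent (f.hom g) 1 0 = 0) :
    z⁻¹ * ((g : G) * z * (g : G)⁻¹) ∈ N₀ := by
  haveI : Fact (1 < q) := ⟨hq.out.one_lt⟩
  have h2 := f.conj_first g
  rwa [h0, h1, f.vec_zpow_first, ZMod.val_one, pow_one] at h2

theorem fix_second (g : ↥(frameDom M N₀)) (h0 : Plane.ent (f.hom g) 0 1 = 0) (h1 : Plane.ent (f.hom g) 1 1 = 1) :
    y⁻¹ * ((g : G) * y * (g : G)⁻¹) ∈ N₀ := by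
  haveI : Fact (1 < q) := ⟨hq.out.one_lt⟩
  have h2 := f.conj_second g
  rwa [h0, h1, f.vec_zpow_second, ZMod.val_one, pow_one] at h2

theorem inv_first (g : ↥(frameDom M N₀)) (h0 : Plane.ent (f.hom g) 0 0 = -1) (h1 : Plane.ent (f.hom g) 1 0 = 0) :
    z * ((g : G) * z * (g : G)⁻¹) ∈ N₀ := by
  have h2 := f.conj_first g
  rw [h0, h1, f.vec_zpow_first] at h2
  have h3 := mul_mem (f.pow_val_neg_one f.zpow) ((mem_normalizer_iff''.1 (f.normal f.zmem) _).1 h2)
  -- `z ^ v * z * (z⁻¹ * ((z ^ v)⁻¹ * x) * z) = x * z`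
  have h4 := (mem_normalizer_iff.1 (f.normal f.zmem) _).1 h3
  rwa [show z * (z ^ (-1 : ZMod q).val * z * (z⁻¹ * ((z ^ (-1 : ZMod q).val)⁻¹ * ((g : G) * z * (g : G)⁻¹)) * z)) *
    z⁻¹ = z * ((g : G) * z * (g : G)⁻¹) by group] at h4

theorem inv_second (g : ↥(frameDom M N₀)) (h0 : Plane.ent (f.hom g) 0 1 = 0) (h1 : Plane.ent (f.hom g) 1 1 = -1) :
    y * ((g : G) * y * (g : G)⁻¹) ∈ N₀ := by
  have h2 := f.conj_second g
  rw [h0, h1, f.vec_zpow_second] at h2
  have h3 := mul_mem (f.pow_val_neg_one f.ypow) ((mem_normalizer_iff''.1 (f.normal f.ymem) _).1 h2)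
  have h4 := (mem_normalizer_iff.1 (f.normal f.ymem) _).1 h3
  rwa [show y * (y ^ (-1 : ZMod q).val * y * (y⁻¹ * ((y ^ (-1 : ZMod q).val)⁻¹ * ((g : G) * y * (g : G)⁻¹)) * y)) *
    y⁻¹ = y * ((g : G) * y * (g : G)⁻¹) by group] at h4

variable [Finite G] {U : Subgroup G} (hU : U ≤ frameDom M N₀) (hodd : Odd (Nat.card ↥U))
include hU hodd

theorem odd_image : Odd (Nat.card ↥(f.image U)) := by
  refine Odd.of_dvd_nat hodd ?_
  rw [← Nat.card_congr (subgroupOfEquivOfLe hU).toEquiv]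
  exact card_map_dvd _ _

theorem card_image_mul : Nat.card ↥(f.image U) * Nat.card ↥(f.kerOn U) = Nat.card ↥U := by
  set φ := f.hom.comp (Subgroup.inclusion hU) with hφ
  have hker : φ.ker = (f.kerOn U).subgroupOf U := by
    ext x
    rw [MonoidHom.mem_ker, mem_subgroupOf, f.mem_kerOn]
    exact ⟨fun h1 => ⟨x.2, hU x.2, h1⟩, fun ⟨_, _, h1⟩ => h1⟩
  have hran : φ.range = f.image U := by
    ext a
    refine ⟨?_, fun ha => ?_⟩
    · rintro ⟨x, rfl⟩
      exact f.hom_mem_image x.2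
    · obtain ⟨g, hg, rfl⟩ := f.mem_image ha
      exact ⟨⟨g, hg⟩, rfl⟩
  have h1 := Subgroup.card_eq_card_quotient_mul_card_subgroup φ.ker
  rw [Nat.card_congr (QuotientGroup.quotientKerEquivRange φ).toEquiv, hran, hker,
    Nat.card_congr (subgroupOfEquivOfLe (f.kerOn_le U)).toEquiv] at h1
  exact h1.symm

omit hU hodd in
theorem kerOn_inf (L : Subgroup G) : f.kerOn (U ⊓ L) = f.kerOn U ⊓ L := by
  rw [kerOn, kerOn, inf_right_comm]

/-- The fixed points of an involution lift. -/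
theorem image_fixed {u : ↥(frameDom M N₀)} (hu : (u : G) * u = 1) (hn : (u : G) ∈ normalizer (U : Set G)) :
    f.image (U ⊓ centralizer ({(u : G)} : Set G)) = centralizer ({f.hom u} : Set (Plane.GL2 q)) ⊓ f.image U := by
  refine le_antisymm (fun a ha => ?_) (fun a ha => ?_)
  · obtain ⟨g, hg, rfl⟩ := f.mem_image ha
    refine ⟨mem_centralizer_singleton_iff.2 ?_, f.hom_mem_image hg.1⟩
    rw [← map_mul, ← map_mul]
    exact congrArg f.hom (Subtype.ext (mem_centralizer_singleton_iff.1 hg.2))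
  · obtain ⟨g, hg, rfl⟩ := f.mem_image ha.2
    obtain ⟨x, hx, e, he, -, hec, hge, hmem⟩ := Klein.exists_inverted_mul hodd hu hn hg
    obtain ⟨k, hk⟩ := Subgroup.mem_zpowers_iff.1 hmem
    have hx1 : f.hom ⟨x, hU hx⟩ = 1 := by
      rw [show (⟨x, hU hx⟩ : ↥(frameDom M N₀)) = (g * u * g⁻¹ * u) ^ k from Subtype.ext (by simp [← hk]),
        map_zpow, map_mul, map_mul, map_mul, map_inv, mem_centralizer_singleton_iff.1 ha.1, mul_inv_cancel_right,
        ← map_mul, show u * u = 1 from Subtype.ext hu, map_one, one_zpow]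
    rw [show g = ⟨x, hU hx⟩ * ⟨e, hU he⟩ from Subtype.ext hge, map_mul, hx1, one_mul]
    exact f.hom_mem_image ⟨he, mem_centralizer_singleton_iff.2 hec.eq⟩

/-- The index of the fixed points of an involution. -/
theorem relIndex_fixed {u : ↥(frameDom M N₀)} (hu : (u : G) * u = 1) (hn : (u : G) ∈ normalizer (U : Set G)) :
    (U ⊓ centralizer ({(u : G)} : Set G)).relIndex U =
      Plane.fixIdx (f.hom u) (f.image U) *
        (f.kerOn U ⊓ centralizer ({(u : G)} : Set G)).relIndex (f.kerOn U) := by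
  set Ux := U ⊓ centralizer ({(u : G)} : Set G) with hUx
  have hle : Ux ≤ U := inf_le_left
  have h1 := f.card_image_mul hU hodd
  have h2 := f.card_image_mul (hle.trans hU) (odd_of_le hle hodd)
  rw [f.image_fixed hU hodd hu hn, hUx, f.kerOn_inf] at h2
  have mul_card : ∀ {H : Type u} [Group H] (A B : Subgroup H), A ≤ B →
      A.relIndex B * Nat.card ↥A = Nat.card ↥B := fun {H} _ A B hAB => by
    rw [← relIndex_bot_left, mul_comm, relIndex_mul_relIndex _ _ _ bot_le hAB, relIndex_bot_left]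
  have e1 := mul_card Ux U hle
  have e2 := mul_card (f.kerOn U ⊓ centralizer ({(u : G)} : Set G)) (f.kerOn U) inf_le_left
  have e3 : Plane.fixIdx (f.hom u) (f.image U) *
      Nat.card ↥(centralizer ({f.hom u} : Set (Plane.GL2 q)) ⊓ f.image U : Subgroup (Plane.GL2 q)) =
        Nat.card ↥(f.image U) := by
    rw [Plane.fixIdx, ← Subgroup.inf_relIndex_right, ← relIndex_bot_left, mul_comm,
      relIndex_mul_relIndex _ _ _ bot_le inf_le_right, relIndex_bot_left]
  refine Nat.eq_of_mul_eq_mul_right (Nat.card_pos (α := ↥Ux)) ?_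
  rw [e1, ← h1, ← e2, ← e3, ← h2]
  ring

end Frame

end Cfsg.Agent.Invol.GW.Dihedral
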