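import Cfsg.Agent.Lib.Invol.GW.Dihedral.Line
import Cfsg.Agent.Lib.Invol.GW.Dihedral.PlaneImage
import Cfsg.Agent.Lib.Invol.GW.Dihedral.Local

/-!
# Gorenstein–Walter, dihedral: a normal elementary abelian subgroup of `O_q(U)` meeting `R` is a plane

Let `B` be elementary abelian, normalised by `C(t)`, with `B ⊓ R ≠ 1`.  Then `B = ⟨z⟩ × ⟨y⟩` with `z` fixed and `y`
inverted by `τ`, the local data of `C(z)` are those of `PSL₂`, and the index of `R` is the one in the image in
`GL₂(q)` times `|D|`.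
-/

set_option autoImplicit false
set_option linter.unusedSectionVars false
set_option linter.style.haveILetI false

namespace Cfsg.Agent.Invol.GW.Dihedral

open Subgroup Klein
open scoped Pointwise commutatorElement

universe u

variable {G : Type u} [Group G]

/-- An element moving a generator into its cyclic group normalises it. -/
theorem mem_normalizer_zpowers_of_conj [Finite G] {g z : G} (hg : g * z * g⁻¹ ∈ zpowers z) :
    g ∈ normalizer (zpowers z : Set G) := by
  refine mem_normalizer_fintype fun x hx => ?_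
  obtain ⟨i, rfl⟩ := mem_zpowers_iff.1 hx
  rw [← conj_zpow]
  exact zpow_mem hg i

theorem map_derived_map {G' : Type*} [Group G'] (f : G →* G') (H : Subgroup G) (i : ℕ) :
    ((derivedSeries ↥H i).map H.subtype).map f = (derivedSeries ↥(H.map f) i).map (H.map f).subtype := by
  induction i with
  | zero => simp [derivedSeries_zero, ← MonoidHom.range_eq_map]
  | succ i ih => simp only [derivedSeries_succ, map_commutator, ih]

theorem map_locE_le (f : G →* G) (H : Subgroup G) : (locE H).map f ≤ locE (H.map f) :=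
  le_iInf fun i => (map_mono (iInf_le _ i)).trans (map_derived_map f H i).le

theorem locE_le_self (H : Subgroup G) : locE H ≤ H := (iInf_le _ 0).trans (map_subtype_le _)

/-- The last derived subgroup is perfect, so it lies in that of every subgroup over it. -/
theorem locE_le_locE [Finite G] {H K : Subgroup G} (hle : locE H ≤ K) : locE H ≤ locE K := by
  classical
  set D : ℕ → Subgroup G := fun i => (derivedSeries ↥H i).map H.subtype with hD
  have hanti : ∀ {i j}, i ≤ j → D j ≤ D i := fun hij => map_mono (derivedSeries_antitone ↥H hij)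
  obtain ⟨i, hi⟩ : ∃ i, D (i + 1) = D i := by
    by_contra hne
    push Not at hne
    have hlt : ∀ i, Nat.card ↥(D i) + i ≤ Nat.card ↥(D 0) := fun i => by
      induction i with
      | zero => simp
      | succ i ih =>
        have h1 : Nat.card ↥(D (i + 1)) < Nat.card ↥(D i) :=
          lt_of_le_of_ne (card_le_of_le (hanti i.le_succ))
            fun e => hne i (eq_of_le_of_card_ge (hanti i.le_succ) e.ge)
        omega
    have := hlt (Nat.card ↥(D 0) + 1)
    omega
  have hsucc : ∀ k, D (k + 1) = ⁅D k, D k⁆ := fun k => by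
    simp only [hD, derivedSeries_succ, map_commutator]
  have hconst : ∀ k, i ≤ k → D k = D i := fun k hk => by
    induction k, hk using Nat.le_induction with
    | base => rfl
    | succ k _ ih => rw [hsucc, ih, ← hsucc, hi]
  have hE : locE H = D i := by
    refine le_antisymm (iInf_le _ i) (le_iInf fun k => ?_)
    rcases le_total i k with hk | hk
    · exact (hconst k hk).ge
    · exact hanti hk
  have hperf : D i = ⁅D i, D i⁆ := hi.symm.trans (hsucc i)
  rw [hE] at hle ⊢
  refine le_iInf fun j => ?_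
  induction j with
  | zero => rwa [derivedSeries_zero, ← MonoidHom.range_eq_map, range_subtype]
  | succ j ih =>
    rw [derivedSeries_succ, map_commutator, hperf]
    exact commutator_mono ih ih

theorem zpowers_eq_of_prime [Finite G] {x y : G} {q : ℕ} [Fact q.Prime] (hy : orderOf y = q) (hx : x ∈ zpowers y)
    (hx1 : x ≠ 1) : zpowers x = zpowers y := by
  have hxo : orderOf x = q := by
    obtain ⟨i, rfl⟩ := mem_zpowers_iff.1 hx
    refine orderOf_eq_prime ?_ hx1
    rw [← hy, ← zpow_natCast, ← zpow_mul, mul_comm, zpow_mul, zpow_natCast, pow_orderOf_eq_one, one_zpow]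
  exact eq_of_le_of_card_ge (zpowers_le.2 hx) (by rw [Nat.card_zpowers, Nat.card_zpowers, hy, hxo])

/-- A plane: `B = ⟨z⟩ × ⟨y⟩`, normalised by `C(t)`, `z` fixed and `y` inverted by `τ`. -/
structure PlaneData (σ τ : G) (n q : ℕ) (B : Subgroup G) (z y : G) : Prop where
  le : B ≤ opOf q (coreCent (central σ n))
  normal : centralizer ({central σ n} : Set G) ≤ normalizer (B : Set G)
  comm : ∀ a ∈ B, ∀ b ∈ B, Commute a b
  exp : ∀ b ∈ B, b ^ q = 1
  zmem : z ∈ B
  ymem : y ∈ B
  zfix : z ∈ fixR (central σ n) τ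
  z_ne : z ≠ 1
  y_ne : y ≠ 1
  yinv : τ * y * τ⁻¹ = y⁻¹
  fixed : B ⊓ fixR (central σ n) τ = zpowers z
  inverted : ∀ b ∈ B, τ * b * τ⁻¹ = b⁻¹ → b ∈ zpowers y

variable [Finite G] {S : Sylow 2 G} {σ τ : G} {n : ℕ}

namespace Hyp

variable (h : Hyp S σ τ n) (hC : IsCoatom (centralizer ({central σ n} : Set G))) {q : ℕ} [Fact q.Prime]
  (hg : Good S σ n q)
include h hC hg

/-- An elementary abelian subgroup of `O_q(U)` normalised by `C(t)` and meeting `R` is a plane. -/
theorem exists_plane {B : Subgroup G} (hB : B ≤ opOf q (coreCent (central σ n)))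
    (hn : centralizer ({central σ n} : Set G) ≤ normalizer (B : Set G)) (hab : ∀ a ∈ B, ∀ b ∈ B, Commute a b)
    (hexp : ∀ b ∈ B, b ^ q = 1) (hR : B ⊓ fixR (central σ n) τ ≠ ⊥) :
    ∃ z y : G, PlaneData σ τ n q B z y := by
  classical
  set t := central σ n with ht
  set R := fixR t τ
  have hBU : B ≤ coreCent t := hB.trans (opOf_le q _)
  have hBp : IsPGroup q ↥B := (isPGroup_opOf q _).to_le hB
  have hτB : τ ∈ normalizer (B : Set G) := hn (h.le_centralizer h.hτ)
  have hne : B ≠ ⊥ := fun e => hR (by rw [e, bot_inf_eq])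
  have hsplit : ∀ b ∈ B, ∃ a ∈ B, τ * a * τ⁻¹ = a⁻¹ ∧ ∃ e ∈ B ⊓ R, b = a * e := fun b hb => by
    obtain ⟨a, ha, e, he, hinv, hc, rfl, -⟩ :=
      Klein.exists_inverted_mul (odd_of_le hBU h.odd_coreCent) h.tau_mul_self hτB hb
    exact ⟨a, ha, hinv, e, ⟨he, h.mem_fixR.2 ⟨hBU he, hc⟩⟩, rfl⟩
  obtain ⟨y, hy, hyi, hy1⟩ : ∃ y ∈ B, τ * y * τ⁻¹ = y⁻¹ ∧ y ≠ 1 := by
    by_contra hcon
    push Not at hcon
    refine hne (h.eq_bot_of_le_fixR hC hg hBp (fun b hb => ?_) hn)
    obtain ⟨a, ha, hai, e, he, rfl⟩ := hsplit b hb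
    rw [hcon a ha hai, one_mul]
    exact he.2
  obtain ⟨z, hz, hz1⟩ := (bot_or_exists_ne_one _).resolve_left hR
  have hinv : ∀ b ∈ B, τ * b * τ⁻¹ = b⁻¹ → b ∈ zpowers y := fun b hb hbi =>
    h.inverted_mem_zpowers hC hg (hB hz.1) hz.2 hz1 (hBU hy) (hab y hy z hz.1) hyi (hexp y hy) hy1
      (hBU hb) (hab b hb z hz.1) hbi (hexp b hb)
  refine ⟨z, y, hB, hn, hab, hexp, hz.1, hy, hz.2, hz1, hy1, hyi, ?_, hinv⟩
  refine le_antisymm ?_ (zpowers_le.2 hz)
  by_contra hbig
  set P := B ⊓ R with hP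
  set E0 := locE (centralizer ({z} : Set G)) with hE0
  have hPE : ∀ w ∈ P, w ≠ 1 → locE (centralizer ({w} : Set G)) ≤ centralizer (P : Set G) := fun w hw hw1 =>
    fun e he => mem_centralizer_iff.2 fun b hb =>
      (h.commute_locE hC hg (hB hw.1) hw.2 hw1 (hB hb.1) hb.2 (hab b hb.1 w hw.1) e he).eq
  have hall : ∀ w ∈ P, w ≠ 1 → locE (centralizer ({w} : Set G)) = locE (centralizer (P : Set G)) :=
    fun w hw hw1 => le_antisymm (locE_le_locE (hPE w hw hw1)) (locE_le_locE
      ((locE_le_self _).trans (centralizer_le (Set.singleton_subset_iff.2 hw))))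
  refine hz1 ?_
  by_contra
  by_cases hPn : centralizer ({t} : Set G) ≤ normalizer (P : Set G)
  · exact hR (h.eq_bot_of_le_fixR hC hg (hBp.to_le inf_le_left) inf_le_right hPn)
  obtain ⟨c, hc, hcP⟩ := SetLike.not_le_iff_exists.1 hPn
  have hcB := hn hc
  -- `B` is generated by `P` and `y`, and `P` is a hyperplane
  have hyo : orderOf y = q := orderOf_eq_prime (hexp y hy) hy1
  have hdec : ∀ b ∈ B, ∃ i : ℤ, ∃ e ∈ P, b = y ^ i * e := fun b hb => by
    obtain ⟨a, ha, hai, e, he, rfl⟩ := hsplit b hb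
    obtain ⟨i, rfl⟩ := mem_zpowers_iff.1 (hinv a ha hai)
    exact ⟨i, e, he, rfl⟩
  -- a common point of `P` and its conjugate
  obtain ⟨w, hw, hw1, hwc⟩ : ∃ w ∈ P, w ≠ 1 ∧ c * w * c⁻¹ ∈ P := by
    obtain ⟨w₀, hw₀, hw₀z⟩ := SetLike.not_le_iff_exists.1 hbig
    obtain ⟨i, e, he, hie⟩ := hdec _ (conj_mem_of_normalizer hcB hz.1)
    obtain ⟨j, e', he', hje⟩ := hdec _ (conj_mem_of_normalizer hcB hw₀.1)
    by_cases hi : y ^ i = 1
    · exact ⟨z, hz, hz1, by rw [hie, hi, one_mul]; exact he⟩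
    obtain ⟨k, hk⟩ : ∃ k : ℤ, y ^ j = (y ^ i) ^ k := by
      have : Fact q.Prime := inferInstance
      have hz' : zpowers (y ^ i) = zpowers y :=
        zpowers_eq_of_prime hyo (zpow_mem (mem_zpowers y) i) hi
      obtain ⟨k, hk⟩ := mem_zpowers_iff.1 (show y ^ j ∈ zpowers (y ^ i) by rw [hz']; exact zpow_mem (mem_zpowers y) j)
      exact ⟨k, hk.symm⟩
    have hzk : Commute (z ^ (-k)) w₀ := (hab z hz.1 w₀ hw₀.1).zpow_left _
    refine ⟨z ^ (-k) * w₀, mul_mem (zpow_mem hz _) hw₀, fun e1 => hw₀z ?_, ?_⟩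
    · rw [mul_eq_one_iff_inv_eq.1 e1 |>.symm]
      exact inv_mem (zpow_mem (mem_zpowers z) _)
    · have hyi' : Commute (y ^ i) e := hab _ (zpow_mem hy i) e he.1
      rw [show c * (z ^ (-k) * w₀) * c⁻¹ = (c * z * c⁻¹) ^ (-k) * (c * w₀ * c⁻¹) by rw [conj_zpow]; group,
        hie, hje, hk, hyi'.mul_zpow, show (y ^ i) ^ (-k) * e ^ (-k) * ((y ^ i) ^ k * e') = e ^ (-k) * e' by
          rw [(hyi'.zpow_zpow (-k) (-k)).eq, mul_assoc, ← mul_assoc ((y ^ i) ^ (-k)), ← zpow_add, neg_add_cancel,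
            zpow_zero, one_mul]]
      exact mul_mem (zpow_mem he _) he'
  have hwne : c * w * c⁻¹ ≠ 1 := fun e => hw1 (conj_eq_one_iff.1 e)
  have hEc : ∀ e ∈ E0, ∀ b ∈ P, Commute e (c * b * c⁻¹) := by
    intro e he b hb
    have hmap : (centralizer ({c * w * c⁻¹} : Set G)).map (MulAut.conj c⁻¹).toMonoidHom =
        centralizer ({w} : Set G) := by
      ext v
      rw [mem_map_equiv, mem_centralizer_singleton_iff, mem_centralizer_singleton_iff]
      simp only [MulAut.conj_symm_apply, inv_inv]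
      constructor
      · intro e1
        calc v * w = c⁻¹ * (c * v * c⁻¹ * (c * w * c⁻¹)) * c := by group
          _ = c⁻¹ * (c * w * c⁻¹ * (c * v * c⁻¹)) * c := by rw [e1]
          _ = w * v := by group
      · intro e1
        calc c * v * c⁻¹ * (c * w * c⁻¹) = c * (v * w) * c⁻¹ := by group
          _ = c * w * c⁻¹ * (c * v * c⁻¹) := by rw [e1]; group
    have h1 : c⁻¹ * e * c ∈ locE (centralizer ({w} : Set G)) := by
      rw [← hmap]
      refine map_locE_le _ _ ⟨e, ?_, by simp⟩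
      rw [hall _ hwc hwne, ← hall z hz hz1]
      exact he
    have h2 : Commute (c⁻¹ * e * c) b := (mem_centralizer_iff.1 (hPE w hw hw1 h1) b hb).symm
    have h3 := h2.conj c
    rwa [show c * (c⁻¹ * e * c) * c⁻¹ = e by group] at h3
  -- so `E(z)` centralises `B`
  obtain ⟨p, hp, hpP⟩ : ∃ p ∈ P, c * p * c⁻¹ ∉ P := by
    by_contra hcon
    push Not at hcon
    exact hcP (mem_normalizer_fintype hcon)
  obtain ⟨i, e', he', hpe⟩ := hdec _ (conj_mem_of_normalizer hcB hp.1)
  have hi : y ^ i ≠ 1 := fun e1 => hpP (by rw [hpe, e1, one_mul]; exact he')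
  have hyz : zpowers (y ^ i) = zpowers y :=
    zpowers_eq_of_prime hyo (zpow_mem (mem_zpowers y) i) hi
  refine (h.lineData hC hg (hB hz.1) hz.2 hz1).not_le fun e he => ?_
  rw [← h.normalizer_eq hC (hBU.trans h.coreCent_le) hne hn]
  have hPc : ∀ b ∈ P, Commute e b := fun b hb => (mem_centralizer_iff.1 (hPE z hz hz1 he) b hb).symm
  have hyc : Commute e (y ^ i) := by
    have h1 := (hEc e he p hp).mul_right (hPc _ he').inv_right
    rwa [hpe, mul_inv_cancel_right] at h1
  refine centralizer_le_normalizer _ (mem_centralizer_iff.2 fun b hb => ?_)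
  obtain ⟨j, e1, he1, rfl⟩ := hdec b hb
  obtain ⟨k, hk⟩ := mem_zpowers_iff.1 (show y ^ j ∈ zpowers (y ^ i) by rw [hyz]; exact zpow_mem (mem_zpowers y) j)
  rw [← hk]
  exact ((hyc.zpow_right k).mul_right (hPc e1 he1)).eq.symm

end Hyp

namespace PlaneData

variable {q : ℕ} [Fact q.Prime] {B : Subgroup G} {z y : G} (b : PlaneData σ τ n q B z y) (h : Hyp S σ τ n)
include b h

theorem le_coreCent : B ≤ coreCent (central σ n) := b.le.trans (opOf_le q _)

theorem exists_decomp {x : G} (hx : x ∈ B) : ∃ a c : ℕ, x = z ^ a * y ^ c := by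
  obtain ⟨a, ha, e, he, hinv, hc, rfl, -⟩ := Klein.exists_inverted_mul (odd_of_le (b.le_coreCent h) h.odd_coreCent)
    h.tau_mul_self (b.normal (h.le_centralizer h.hτ)) hx
  have hez : e ∈ zpowers z := b.fixed ▸ Subgroup.mem_inf.2 ⟨he, h.mem_fixR.2 ⟨b.le_coreCent h he, hc⟩⟩
  obtain ⟨i, rfl⟩ := mem_powers_iff_mem_zpowers.2 hez
  obtain ⟨j, rfl⟩ := mem_powers_iff_mem_zpowers.2 (b.inverted a ha hinv)
  exact ⟨i, j, (b.comm _ ha _ he).eq⟩

theorem frame : Frame q B ⊥ z y where
  le := bot_le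
  normal := fun x _ => mem_normalizer_iff.2 fun v => by simp
  zmem := b.zmem
  ymem := b.ymem
  zpow := mem_bot.2 (b.exp z b.zmem)
  ypow := mem_bot.2 (b.exp y b.ymem)
  comm := mem_bot.2 (by rw [(b.comm z b.zmem y b.ymem).eq, inv_mul_cancel])
  indep := fun a c he => by
    have hq := (Fact.out : q.Prime)
    rw [mem_bot] at he
    have h1 : τ * (z ^ a * y ^ c) * τ⁻¹ = z ^ a * (y ^ c)⁻¹ := by
      rw [show τ * (z ^ a * y ^ c) * τ⁻¹ = τ * z ^ a * τ⁻¹ * (τ * y ^ c * τ⁻¹) by group,
        ((h.mem_fixR.1 b.zfix).2.symm.pow_right a).eq, mul_inv_cancel_right, ← conj_pow, b.yinv, inv_pow]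
    rw [he, mul_one, mul_inv_cancel, eq_comm, mul_inv_eq_one] at h1
    have hz2 : z ^ (a + a) = 1 := by
      rw [pow_add]
      nth_rw 2 [h1]
      exact he
    have hza : q ∣ a := by
      have hd := orderOf_dvd_of_pow_eq_one hz2
      rw [orderOf_eq_prime (b.exp z b.zmem) b.z_ne, ← two_mul] at hd
      refine (hq.dvd_mul.1 hd).resolve_left fun e2 => ?_
      have ho := h.odd_orderOf h.odd_coreCent (b.le_coreCent h b.zmem)
      rw [orderOf_eq_prime (b.exp z b.zmem) b.z_ne, (Nat.prime_dvd_prime_iff_eq hq Nat.prime_two).1 e2] at ho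
      exact absurd ho (by decide)
    refine ⟨hza, ?_⟩
    obtain ⟨k, rfl⟩ := hza
    rw [pow_mul, b.exp z b.zmem, one_pow] at h1
    rw [← orderOf_eq_prime (b.exp y b.ymem) b.y_ne]
    exact orderOf_dvd_of_pow_eq_one h1.symm
  span := fun x hx => by
    obtain ⟨a, c, rfl⟩ := b.exists_decomp h hx
    exact ⟨a, c, by simp⟩

omit b h in
theorem mem_dom {g : G} (hg : g ∈ normalizer (B : Set G)) : g ∈ frameDom B (⊥ : Subgroup G) :=
  ⟨hg, mem_normalizer_iff.2 fun v => by simp⟩

omit b h in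
theorem le_dom (b : PlaneData σ τ n q B z y) (h : Hyp S σ τ n) :
    coreCent (central σ n) ≤ frameDom B (⊥ : Subgroup G) :=
  fun _ hg => mem_dom (b.normal (h.coreCent_le hg))

/-- The image of `U` in `GL₂(q)`. -/
noncomputable def img : Subgroup (Plane.GL2 q) := (b.frame h).image (coreCent (central σ n))

/-- The image of an element of `C(t)`. -/
noncomputable def act {g : G} (hg : g ∈ centralizer ({central σ n} : Set G)) : Plane.GL2 q :=
  (b.frame h).hom ⟨g, mem_dom (b.normal hg)⟩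

theorem act_tau : b.act h (h.le_centralizer h.hτ) = Plane.refl := by
  refine (b.frame h).hom_eq_refl ?_ ?_ <;> rw [mem_bot]
  · rw [show τ * z * τ⁻¹ = z from by rw [(h.mem_fixR.1 b.zfix).2.symm.eq, mul_inv_cancel_right], inv_mul_cancel]
  · rw [b.yinv, mul_inv_cancel]

theorem ne_two : q ≠ 2 := fun e => by
  have ho := h.odd_orderOf h.odd_coreCent (b.le_coreCent h b.zmem)
  rw [orderOf_eq_prime (b.exp z b.zmem) b.z_ne, e] at ho
  exact absurd ho (by decide)

theorem act_mem {g : G} (hg : g ∈ coreCent (central σ n)) : b.act h (h.coreCent_le hg) ∈ b.img h :=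
  (b.frame h).hom_mem_image hg

theorem conj_img {g : G} (hg : g ∈ centralizer ({central σ n} : Set G)) {a : Plane.GL2 q} (ha : a ∈ b.img h) :
    b.act h hg * a * (b.act h hg)⁻¹ ∈ b.img h :=
  (b.frame h).conj_mem_image (g := ⟨g, mem_dom (b.normal hg)⟩) (h.le_normalizer_coreCent hg) ha

theorem cfg : Plane.Cfg (b.img h) where
  ne_two := b.ne_two h
  odd := (b.frame h).odd_image (b.le_dom h) h.odd_coreCent
  conj := fun a ha => by
    have h1 := b.conj_img h (h.le_centralizer h.hτ) ha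
    rwa [b.act_tau h, show (Plane.refl : Plane.GL2 q)⁻¹ = Plane.refl from
      inv_eq_of_mul_eq_one_right Plane.refl_mul_self] at h1

theorem act_rotation : Plane.refl * b.act h (h.le_centralizer h.hσ) * Plane.refl =
    (b.act h (h.le_centralizer h.hσ))⁻¹ ∧ (b.act h (h.le_centralizer h.hσ)) ^ 2 ^ (n - 1) = 1 := by
  refine ⟨?_, ?_⟩
  · rw [← b.act_tau h, act, act, ← map_mul, ← map_mul, ← map_inv]
    refine congrArg _ (Subtype.ext ?_)
    show τ * σ * τ = σ⁻¹
    rw [← h.rel, h.tau_inv]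
  · rw [act, ← map_pow]
    convert map_one (b.frame h).hom using 2
    exact Subtype.ext (by simp [← h.orderσ, pow_orderOf_eq_one])

theorem act_sigma_tau : b.act h (h.le_centralizer (mul_mem h.hσ h.hτ)) =
    b.act h (h.le_centralizer h.hσ) * Plane.refl := by
  rw [← b.act_tau h, act, act, act, ← map_mul]
  rfl

/-- The group `R` normalises the fixed line. -/
theorem fixR_le_normalizer : fixR (central σ n) τ ≤ normalizer (zpowers z : Set G) := fun e he => by
  refine mem_normalizer_zpowers_of_conj (b.fixed ▸ Subgroup.mem_inf.2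
    ⟨conj_mem_of_normalizer (b.normal (h.coreCent_le (h.mem_fixR.1 he).1)) b.zmem, ?_⟩)
  exact mul_mem (mul_mem he b.zfix) (inv_mem he)

theorem normalizes_of_low {g : G} (hg : g ∈ centralizer ({central σ n} : Set G))
    (h10 : Plane.ent (b.act h hg) 1 0 = 0) : g ∈ normalizer (zpowers z : Set G) := by
  obtain ⟨a, ha⟩ := ((b.frame h).ent_low_iff _).1 h10
  refine mem_normalizer_zpowers_of_conj ?_
  rw [mem_bot, inv_mul_eq_one] at ha
  exact ha ▸ pow_mem (mem_zpowers z) a

variable (hC : IsCoatom (centralizer ({central σ n} : Set G))) (hg : Good S σ n q)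
include hC hg

theorem lineData : LocalData σ τ n (centralizer ({z} : Set G)) :=
  h.lineData hC hg (b.le b.zmem) b.zfix b.z_ne

/-- `U` and the rotation do not both fix the axis of `z`. -/
theorem not_low : ¬ (Plane.ent (b.act h (h.le_centralizer h.hσ)) 1 0 = 0 ∧
    ∀ a ∈ b.img h, Plane.ent a 1 0 = 0) := by
  rintro ⟨hσ10, hU⟩
  refine b.z_ne (zpowers_eq_bot.1 (h.eq_bot_of_le_fixR hC hg
    ((isPGroup_opOf q _).to_le (zpowers_le.2 (b.le b.zmem))) (zpowers_le.2 b.zfix) fun g hgC => ?_))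
  obtain ⟨u, hu, s, hs, rfl⟩ := h.exists_mul hgC
  have hτn : τ ∈ normalizer (zpowers z : Set G) := mem_normalizer_zpowers_of_conj (by
    rw [(h.mem_fixR.1 b.zfix).2.symm.eq, mul_inv_cancel_right]
    exact mem_zpowers z)
  have hσn := b.normalizes_of_low h (h.le_centralizer h.hσ) hσ10
  refine mul_mem (b.normalizes_of_low h (h.coreCent_le hu) (hU _ (b.act_mem h hu))) ?_
  by_cases hsσ : s ∈ zpowers σ
  · exact zpowers_le.2 hσn hsσ
  · obtain ⟨i, rfl⟩ := h.exists_rotation_mul_tau hs hsσ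
    exact mul_mem (zpow_mem hσn i) hτn

theorem mem_locD : y ∈ locD σ τ n (centralizer ({z} : Set G)) :=
  h.mem_locD_of_inverted (b.le_coreCent h b.ymem) (mem_centralizer_singleton_iff.2 (b.comm y b.ymem z b.zmem).eq)
    b.yinv

theorem dvd_card_locD : q ∣ Nat.card ↥(locD σ τ n (centralizer ({z} : Set G))) := by
  rw [← orderOf_eq_prime (b.exp y b.ymem) b.y_ne]
  exact Subgroup.orderOf_dvd_natCard _ (b.mem_locD h hC hg)

theorem locD_commute {d : G} (hd : d ∈ locD σ τ n (centralizer ({z} : Set G))) {x : G} (hx : x ∈ B) :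
    Commute d x := by
  have hcy : Commute d y := by
    haveI := (b.lineData h hC hg).isCyclic
    haveI : IsMulCommutative ↥(locD σ τ n (centralizer ({z} : Set G))) := IsCyclic.isMulCommutative
    exact congrArg Subtype.val (mul_comm' (⟨d, hd⟩ : ↥(locD σ τ n (centralizer ({z} : Set G))))
      ⟨y, b.mem_locD h hC hg⟩)
  have hdz : Commute d z :=
    mem_centralizer_singleton_iff.1 (locE_le_self _ ((b.lineData h hC hg).le_E hd).2)
  obtain ⟨a, c, rfl⟩ := b.exists_decomp h hx
  exact (hdz.pow_right a).mul_right (hcy.pow_right c)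

/-- The branch of `PSL₂` holds. -/
theorem psl_branch : four (central σ n) τ ≤ locE (centralizer ({z} : Set G)) ∧
    locE (centralizer ({z} : Set G)) ⊓ fixR (central σ n) τ = ⊥ ∧
    locD σ τ n (centralizer ({z} : Set G)) = coreCent (central σ n) ⊓ locE (centralizer ({z} : Set G)) := by
  rcases (b.lineData h hC hg).arith with ⟨ρ, hρH, hρ, hne, hρt, hρD⟩ | ⟨F, _, _, k, -, -, -, e1, e2, e3, -⟩
  · refine absurd (h.eq_bot_of_centralized hC hg ((isPGroup_opOf q _).to_le b.le) (b.le_coreCent h) b.normal hρ hρt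
      hne fun x hx => ?_) fun e => b.z_ne (mem_bot.1 (e ▸ b.zmem))
    obtain ⟨a, c, rfl⟩ := b.exists_decomp h hx
    exact (Commute.pow_right (mem_centralizer_singleton_iff.1 hρH) a).mul_right
      ((hρD y (b.mem_locD h hC hg)).pow_right c)
  · exact ⟨e1, e2, e3⟩

/-- The kernel on the plane is `C_R(B) D`. -/
theorem kerOn_eq : (b.frame h).kerOn (coreCent (central σ n)) =
    ((b.frame h).kerOn (coreCent (central σ n)) ⊓ centralizer ({τ} : Set G)) ⊔
      locD σ τ n (centralizer ({z} : Set G)) := by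
  set K := (b.frame h).kerOn (coreCent (central σ n))
  have hd := b.lineData h hC hg
  have hDK : locD σ τ n (centralizer ({z} : Set G)) ≤ K := fun d hd' =>
    (b.frame h).mem_kerOn.2 ⟨(hd.le_E hd').1, b.le_dom h (hd.le_E hd').1, (b.frame h).hom_eq_one_of
      (mem_bot.2 (by rw [(b.locD_commute h hC hg hd' b.zmem).eq, mul_inv_cancel_right, inv_mul_cancel]))
      (mem_bot.2 (by rw [(b.locD_commute h hC hg hd' b.ymem).eq, mul_inv_cancel_right, inv_mul_cancel]))⟩
  refine le_antisymm (fun x hx => ?_) (sup_le inf_le_left hDK)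
  obtain ⟨hxU, hxd, hx1⟩ := (b.frame h).mem_kerOn.1 hx
  have hxz : Commute x z := by
    have h1 := (b.frame h).mem_of_hom_eq_one hx1 b.zmem
    rw [mem_bot, inv_mul_eq_one] at h1
    exact mul_inv_eq_iff_eq_mul.1 h1.symm
  have h2 : x ∈ locD σ τ n (centralizer ({z} : Set G)) ⊔ (fixR (central σ n) τ ⊓ centralizer ({z} : Set G)) := by
    rw [sup_comm, hd.sup_eq]
    exact ⟨hxU, mem_centralizer_singleton_iff.2 hxz.eq⟩
  have hn : fixR (central σ n) τ ⊓ centralizer ({z} : Set G) ≤
      normalizer (locD σ τ n (centralizer ({z} : Set G)) : Set G) := fun e he => by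
    rw [(b.psl_branch h hC hg).2.2]
    refine mem_normalizer_fintype fun w hw => ?_
    exact ⟨conj_mem_of_normalizer (le_normalizer he.1.1) hw.1,
      conj_mem_of_normalizer (hd.normalizer_le (le_normalizer he.2)) hw.2⟩
  obtain ⟨d, hd', e, he, rfl⟩ := Klein.exists_mul_of_sup hn h2
  have h3 := mul_mem (inv_mem (hDK hd')) hx
  rw [inv_mul_cancel_left] at h3
  exact mul_mem (mem_sup_right hd') (mem_sup_left ⟨h3, he.1.2⟩)

/-- The kernel on the plane centralises it. -/
theorem mem_kerOn_iff {x : G} : x ∈ (b.frame h).kerOn (coreCent (central σ n)) ↔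
    x ∈ coreCent (central σ n) ∧ ∀ v ∈ B, Commute x v := by
  rw [(b.frame h).mem_kerOn]
  refine and_congr_right fun hxU => ⟨fun ⟨_, hx1⟩ v hv => ?_, fun hc => ⟨b.le_dom h hxU, ?_⟩⟩
  · have h1 := (b.frame h).mem_of_hom_eq_one hx1 hv
    rw [mem_bot, inv_mul_eq_one] at h1
    exact mul_inv_eq_iff_eq_mul.1 h1.symm
  · refine (b.frame h).hom_eq_one_of ?_ ?_ <;> rw [mem_bot]
    · rw [(hc z b.zmem).eq, mul_inv_cancel_right, inv_mul_cancel]
    · rw [(hc y b.ymem).eq, mul_inv_cancel_right, inv_mul_cancel]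

/-- The index of the fixed points in the kernel on the plane. -/
theorem relIndex_kerOn : ((b.frame h).kerOn (coreCent (central σ n)) ⊓ centralizer ({τ} : Set G)).relIndex
    ((b.frame h).kerOn (coreCent (central σ n))) = Nat.card ↥(locD σ τ n (centralizer ({z} : Set G))) := by
  set K := (b.frame h).kerOn (coreCent (central σ n))
  set D := locD σ τ n (centralizer ({z} : Set G))
  have hd := b.lineData h hC hg
  have hDK : D ≤ K := (le_sup_right : D ≤ _ ⊔ D).trans (b.kerOn_eq h hC hg).ge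
  have hinf : D ⊓ (K ⊓ centralizer ({τ} : Set G)) = ⊥ := (eq_bot_iff_forall _).2 fun x hx => by
    have hi := hd.inverted x hx.1
    rw [← (mem_centralizer_singleton_iff.1 hx.2.2), mul_inv_cancel_right, eq_inv_iff_mul_eq_one] at hi
    exact eq_one_of_odd h.odd_coreCent (hd.le_E hx.1).1 hi
  have hn : K ⊓ centralizer ({τ} : Set G) ≤ normalizer (D : Set G) := fun e he => by
    obtain ⟨heU, hed, he1⟩ := (b.frame h).mem_kerOn.1 he.1
    have hez : e * z = z * e := by
      have h2 := (b.frame h).mem_of_hom_eq_one he1 b.zmem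
      rw [mem_bot, inv_mul_eq_one] at h2
      exact mul_inv_eq_iff_eq_mul.1 h2.symm
    refine mem_normalizer_fintype fun w hw => ?_
    have hD' : D = coreCent (central σ n) ⊓ locE (centralizer ({z} : Set G)) := (b.psl_branch h hC hg).2.2
    rw [hD'] at hw ⊢
    exact ⟨conj_mem_of_normalizer (le_normalizer heU) hw.1,
      conj_mem_of_normalizer (hd.normalizer_le (le_normalizer (mem_centralizer_singleton_iff.2 hez))) hw.2⟩
  rw [relIndex, index, ← Nat.card_congr (Equiv.ofBijective (fun v : ↥D => (((⟨v, hDK v.2⟩ : ↥K)) :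
      ↥K ⧸ (K ⊓ centralizer ({τ} : Set G)).subgroupOf K)) ⟨fun v w e => ?_, fun Q => ?_⟩)]
  · have h2 := mem_subgroupOf.1 (QuotientGroup.eq.1 e)
    have h4 : (v : G)⁻¹ * w ∈ D := mul_mem (inv_mem v.2) w.2
    have h3 : (v : G)⁻¹ * w ∈ D ⊓ (K ⊓ centralizer ({τ} : Set G)) := Subgroup.mem_inf.2 ⟨h4, h2⟩
    rw [hinf, mem_bot, inv_mul_eq_one] at h3
    exact Subtype.ext h3
  · induction Q using QuotientGroup.induction_on with
    | H v =>
      have h2 : (v : G) ∈ D ⊔ (K ⊓ centralizer ({τ} : Set G)) := by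
        rw [sup_comm, ← b.kerOn_eq h hC hg]
        exact v.2
      obtain ⟨d, hd', e, he, hde⟩ := Klein.exists_mul_of_sup hn h2
      refine ⟨⟨d, hd'⟩, QuotientGroup.eq.2 (mem_subgroupOf.2 ?_)⟩
      show d⁻¹ * (v : G) ∈ _
      rw [← hde, inv_mul_cancel_left]
      exact he

/-- The index of the fixed points of an involution of `C(t)`. -/
theorem idx_of_act {ρ : G} (hρ : ρ ∈ centralizer ({central σ n} : Set G)) (hρ2 : ρ * ρ = 1) :
    (coreCent (central σ n) ⊓ centralizer ({ρ} : Set G)).relIndex (coreCent (central σ n)) =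
      Plane.fixIdx (b.act h hρ) (b.img h) *
        ((b.frame h).kerOn (coreCent (central σ n)) ⊓ centralizer ({ρ} : Set G)).relIndex
          ((b.frame h).kerOn (coreCent (central σ n))) :=
  (b.frame h).relIndex_fixed (b.le_dom h) h.odd_coreCent (u := ⟨ρ, mem_dom (b.normal hρ)⟩) hρ2
    (h.le_normalizer_coreCent hρ)

/-- The index of `R`. -/
theorem idx_eq_mul : idx σ τ n =
    Plane.fixIdx Plane.refl (b.img h) * Nat.card ↥(locD σ τ n (centralizer ({z} : Set G))) := by
  rw [← b.relIndex_kerOn h hC hg, ← b.act_tau h]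
  exact b.idx_of_act h hC hg (h.le_centralizer h.hτ) h.tau_mul_self

end PlaneData

end Cfsg.Agent.Invol.GW.Dihedral
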