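import Cfsg.Agent.Lib.Invol.GW.Dihedral.CaseLeaves
import Cfsg.Agent.Lib.Invol.GW.Dihedral.ArithB
import Cfsg.Agent.Lib.Invol.GW.Dihedral.SPArith

/-!
# Gorenstein–Walter, dihedral: a plane whose rotation has a power acting as `-1`

Neither axis is fixed by `U` and the rotation, so `O_q(U)` centralises the plane; then the cores of `U` are abelian
with fixed parts of exponent dividing `|D|`, so the two reflections have the same `|D|`.  The indices are `e |D|` and
`e' |D|`, equal against the arithmetic or in ratio at least three against the degree identity.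
-/

set_option autoImplicit false
set_option linter.unusedSectionVars false
set_option linter.style.haveILetI false

namespace Cfsg.Agent.Invol.GW.Dihedral

open Subgroup Klein
open scoped commutatorElement

universe u

variable {G : Type u} [Group G] [Finite G] {S : Sylow 2 G} {σ τ : G} {n : ℕ}

/-- Indices in ratio at least three force an abelian core. -/
theorem Hyp.isMulCommutative_of_ratio (h : Hyp S σ τ n) (P : Principal S σ τ n)
    (hfix : fixR (central σ n) τ ≠ ⊥ ∨ fixR (central σ n) (σ * τ) ≠ ⊥)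
    (hr : 3 * idx σ τ n ≤ idx σ (σ * τ) n ∨ 3 * idx σ (σ * τ) n ≤ idx σ τ n) :
    IsMulCommutative ↥(coreCent (central σ n)) := by
  refine P.isMulCommutative_of_le_two h ?_
  obtain ⟨hA5, hB5⟩ := P.five_le h hfix
  have hA5' : (5 : ℤ) ≤ |P.A| := by rw [← Int.natCast_natAbs]; exact_mod_cast hA5
  have hB5' : (5 : ℤ) ≤ |P.B| := by rw [← Int.natCast_natAbs]; exact_mod_cast hB5
  have ha := h.idx_pos
  have hratio : (P.A - P.B) ^ 2 * ((idx σ τ n : ℤ) + idx σ (σ * τ) n) ^ 2 * P.x =
      ((idx σ τ n : ℤ) - idx σ (σ * τ) n) ^ 2 * ((P.x : ℤ) - P.δ) ^ 2 * (P.A * P.B * P.δ) := P.ratio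
  have hd1 : P.δ * P.δ = 1 := by rcases P.delta with e | e <;> rw [e] <;> norm_num
  rcases sp3 (x := (P.x : ℤ)) (T := (P.Θ : ℤ)) (c := (idx σ τ n : ℤ) - idx σ (σ * τ) n)
    (e := (idx σ τ n : ℤ) + idx σ (σ * τ) n) h.three (by exact_mod_cast P.theta_pos) P.delta P.two_pow_theta
    P.odd₂ P.odd₃ hA5' hB5' (by rw [← Int.natCast_natAbs, P.natAbs_sum h]) (by omega)
    (by rcases hr with e | e <;> [rw [abs_sub_comm, abs_of_nonneg]; rw [abs_of_nonneg]] <;> omega)
    (by linear_combination -P.δ * hratio -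
      ((idx σ τ n : ℤ) - idx σ (σ * τ) n) ^ 2 * ((P.x : ℤ) - P.δ) ^ 2 * (P.A * P.B) * hd1)
    with ⟨-, e⟩ | ⟨-, -, e, -⟩ <;> omega

namespace PlaneData

variable {q : ℕ} [Fact q.Prime] {B : Subgroup G} {z y : G} (b : PlaneData σ τ n q B z y) (h : Hyp S σ τ n)
include b h

/-- An abelian core has a trivial image. -/
theorem fixIdx_eq_one_of_comm [IsMulCommutative ↥(coreCent (central σ n))] (x : Plane.GL2 q) :
    Plane.fixIdx x (b.img h) = 1 := by
  refine (b.cfg h).fixIdx_eq_one fun a ha => ?_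
  obtain ⟨g, hg, rfl⟩ := (b.frame h).mem_image ha
  rw [show (b.frame h).hom g = 1 from (b.act_eq_one_iff h (h.coreCent_le hg)).2 fun v hv =>
    congrArg Subtype.val (mul_comm' (⟨g, hg⟩ : ↥(coreCent (central σ n))) ⟨v, b.le_coreCent h hv⟩)]
  exact Commute.one_left x

/-- The cores of `U` centralise the plane when its image has order prime to `q`. -/
theorem opOf_commute (hd : ¬ q ∣ Nat.card ↥(b.img h)) {s : ℕ} (hs : s.Prime) {x : G}
    (hx : x ∈ opOf s (coreCent (central σ n))) {v : G} (hv : v ∈ B) : Commute x v := by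
  haveI : Fact s.Prime := ⟨hs⟩
  have hxU := opOf_le s _ hx
  by_cases hsq : s = q
  · subst hsq
    refine (b.act_eq_one_iff h (h.coreCent_le hxU)).1 ?_ v hv
    obtain ⟨k, hk⟩ := isPGroup_opOf s _ ⟨x, hx⟩
    have h1 : b.act h (h.coreCent_le hxU) ^ s ^ k = 1 := by
      rw [← b.act_pow h (h.coreCent_le hxU)]
      exact (b.act_eq_one_iff h _).2 fun w _ => by
        rw [show x ^ s ^ k = 1 from congrArg Subtype.val hk]; exact Commute.one_left w
    refine orderOf_eq_one_iff.1 ?_
    obtain ⟨j, -, hj⟩ := (Nat.dvd_prime_pow hs).1 (orderOf_dvd_of_pow_eq_one h1)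
    rcases Nat.eq_zero_or_pos j with rfl | hj0
    · simpa using hj
    · exact absurd ((dvd_pow_self s hj0.ne').trans (hj ▸ (b.img h).orderOf_dvd_natCard (b.act_mem h hxU))) hd
  · exact commute_of_disjoint (inf_eq_bot_of_primes hsq (isPGroup_opOf s _) (isPGroup_opOf q _)) hx (b.le hv)
      (le_normalizer_opOf q _ hxU) (le_normalizer_opOf s _ (b.le_coreCent h hv))

variable (hC : IsCoatom (centralizer ({central σ n} : Set G))) (hg : Good S σ n q)
  (hgood : ∀ s : ℕ, s.Prime → opOf s (coreCent (central σ n)) ≠ ⊥ → Good S σ n s)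
  (hc : ∀ s : ℕ, s.Prime → ∀ x ∈ opOf s (coreCent (central σ n)), ∀ v ∈ B, Commute x v)
include hC hg hgood hc

/-- An element of a core is one of `D` times one of `R`, commuting. -/
theorem opOf_split {s : ℕ} [Fact s.Prime] {x : G} (hx : x ∈ opOf s (coreCent (central σ n))) :
    ∃ a ∈ locD σ τ n (centralizer ({z} : Set G)), ∃ e ∈ fixR (central σ n) τ,
      e ∈ opOf s (coreCent (central σ n)) ∧ x = a * e ∧ Commute a e ∧
      ∀ d ∈ locD σ τ n (centralizer ({z} : Set G)), Commute e d := by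
  have hτn : τ ∈ normalizer (opOf s (coreCent (central σ n)) : Set G) :=
    h.le_normalizer_opOf_coreCent s (h.le_centralizer h.hτ)
  obtain ⟨a, ha, e, he, hinv, hec, hxe, -⟩ := Klein.exists_inverted_mul
    (odd_of_le (opOf_le s _) h.odd_coreCent) h.tau_mul_self hτn hx
  have heR : e ∈ fixR (central σ n) τ := h.mem_fixR.2 ⟨opOf_le s _ he, hec⟩
  have haD := h.mem_locD_of_inverted (H := centralizer ({z} : Set G)) (opOf_le s _ ha)
    (mem_centralizer_singleton_iff.2 (hc s Fact.out a ha z b.zmem).eq) hinv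
  have hed : ∀ d ∈ locD σ τ n (centralizer ({z} : Set G)), Commute e d := fun d hd =>
    h.commute_locE hC hg (b.le b.zmem) b.zfix b.z_ne he heR (hc s Fact.out e he z b.zmem) d
      ((b.lineData h hC hg).le_E hd).2
  exact ⟨a, haD, e, heR, he, hxe, (hed a haD).symm, hed⟩

/-- The cores are abelian and centralised by `D`; their powers of exponent `|D|` vanish. -/
theorem opOf_facts {s : ℕ} [Fact s.Prime] {x : G} (hx : x ∈ opOf s (coreCent (central σ n))) :
    (∀ w ∈ opOf s (coreCent (central σ n)), Commute x w) ∧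
      (∀ d ∈ locD σ τ n (centralizer ({z} : Set G)), Commute x d) ∧
      x ^ Nat.card ↥(locD σ τ n (centralizer ({z} : Set G))) = 1 := by
  set D := locD σ τ n (centralizer ({z} : Set G))
  set Fs := opOf s (coreCent (central σ n))
  have hCF : centralizer ({central σ n} : Set G) ≤ normalizer (Fs : Set G) := h.le_normalizer_opOf_coreCent s
  haveI := (b.lineData h hC hg).isCyclic
  haveI : IsMulCommutative ↥D := IsCyclic.isMulCommutative
  have hDD : ∀ a ∈ D, ∀ a' ∈ D, Commute a a' := fun a ha a' ha' =>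
    congrArg Subtype.val (mul_comm' (⟨a, ha⟩ : ↥D) ⟨a', ha'⟩)
  have hN1 : ∀ L : Subgroup G, L ≤ Fs → L ≤ fixR (central σ n) τ →
      centralizer ({central σ n} : Set G) ≤ normalizer (L : Set G) → L = ⊥ := fun L hL hLR hn => by
    by_contra hL1
    exact hL1 (h.eq_bot_of_le_fixR hC (hgood s Fact.out fun e => hL1 (le_bot_iff.1 (e ▸ hL)))
      ((isPGroup_opOf s _).to_le hL) hLR hn)
  -- commutators are fixed
  have hcomm : ⁅Fs, Fs⁆ = ⊥ := by
    refine hN1 _ ?_ ?_ fun c hc' => ?_
    · exact commutator_le.2 fun u hu v hv => by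
        rw [commutatorElement_def]
        exact mul_mem (mul_mem (mul_mem hu hv) (inv_mem hu)) (inv_mem hv)
    · refine commutator_le.2 fun u hu v hv => ?_
      obtain ⟨a, ha, e, he, -, rfl, -, hed⟩ := b.opOf_split h hC hg hgood hc hu
      obtain ⟨a', ha', e', he', -, rfl, -, hed'⟩ := b.opOf_split h hC hg hgood hc hv
      have h1 : Commute a (e * (a' * e') * e⁻¹) :=
        ((hed a ha).symm.mul_right ((hDD a ha a' ha').mul_right (hed' a ha).symm)).mul_right (hed a ha).symm.inv_right
      rw [commutatorElement_def, show a * e * (a' * e') * (a * e)⁻¹ = a * (e * (a' * e') * e⁻¹) * a⁻¹ by group,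
        h1.eq, mul_inv_cancel_right, show e * (a' * e') * e⁻¹ * (a' * e')⁻¹ =
          (e * a' * e⁻¹) * (e * e' * e⁻¹ * e'⁻¹) * a'⁻¹ by group, (hed a' ha').eq, mul_inv_cancel_right]
      have h2 : Commute a' (e * e' * e⁻¹ * e'⁻¹) := (((hed a' ha').symm.mul_right (hed' a' ha').symm).mul_right
        (hed a' ha').symm.inv_right).mul_right (hed' a' ha').symm.inv_right
      rw [h2.eq, mul_inv_cancel_right]
      exact mul_mem (mul_mem (mul_mem he he') (inv_mem he)) (inv_mem he')
    · rw [Grp.mem_normalizer_iff_smul, ← Grp.map_conj_eq_smul, Subgroup.map_commutator, Grp.map_conj_eq_smul,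
        Grp.mem_normalizer_iff_smul.1 (hCF hc')]
  have hab : ∀ u ∈ Fs, ∀ v ∈ Fs, Commute u v := fun u hu v hv => by
    have h1 := commutator_mem_commutator hu hv
    rwa [hcomm, mem_bot, commutatorElement_eq_one_iff_commute] at h1
  obtain ⟨a, ha, e, he, -, hxe, hae, hed⟩ := b.opOf_split h hC hg hgood hc hx
  refine ⟨hab x hx, fun d hd => hxe ▸ (hDD a ha d hd).mul_left (hed d hd), ?_⟩
  -- the powers lie in `R`
  let L : Subgroup G :=
    { carrier := {v | ∃ u ∈ Fs, u ^ Nat.card ↥D = v}
      one_mem' := ⟨1, one_mem _, one_pow _⟩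
      mul_mem' := by
        rintro _ _ ⟨u, hu, rfl⟩ ⟨v, hv, rfl⟩
        exact ⟨u * v, mul_mem hu hv, (hab u hu v hv).mul_pow _⟩
      inv_mem' := by
        rintro _ ⟨u, hu, rfl⟩
        exact ⟨u⁻¹, inv_mem hu, inv_pow u _⟩ }
  have hL : L = ⊥ := by
    refine hN1 L ?_ ?_ fun c hc' => mem_normalizer_fintype fun v hv => ?_
    · rintro _ ⟨u, hu, rfl⟩
      exact pow_mem hu _
    · rintro _ ⟨u, hu, rfl⟩
      obtain ⟨a', ha', e', he', -, rfl, hae', -⟩ := b.opOf_split h hC hg hgood hc hu
      rw [hae'.mul_pow, orderOf_dvd_iff_pow_eq_one.1 (D.orderOf_dvd_natCard ha'), one_mul]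
      exact pow_mem he' _
    · obtain ⟨u, hu, rfl⟩ := hv
      exact ⟨c * u * c⁻¹, conj_mem_of_normalizer (hCF hc') hu, conj_pow⟩
  exact mem_bot.1 (hL ▸ (show x ^ Nat.card ↥D ∈ L from ⟨x, hx, rfl⟩))

/-- The inverted part lies in the Fitting subgroup. -/
theorem locD_le_fitting : locD σ τ n (centralizer ({z} : Set G)) ≤
    (Cfsg.fittingSubgroup ↥(coreCent (central σ n))).map (coreCent (central σ n)).subtype := fun d hd => by
  haveI := h.isSolvable_coreCent
  refine mem_fitting_of_commute ((b.lineData h hC hg).le_E hd).1 fun s hs x hx => ?_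
  haveI : Fact s.Prime := ⟨hs⟩
  exact ((b.opOf_facts h hC hg hgood hc hx).2.1 d hd).symm

/-- The exponent of the Fitting subgroup divides `|D|`. -/
theorem pow_eq_one_of_fitting {g : G}
    (hgF : g ∈ (Cfsg.fittingSubgroup ↥(coreCent (central σ n))).map (coreCent (central σ n)).subtype) :
    g ^ Nat.card ↥(locD σ τ n (centralizer ({z} : Set G))) = 1 := by
  rw [fittingSubgroup_map_eq_iSup] at hgF
  set F' := ⨆ p : Nat.Primes, opOf (p : ℕ) (coreCent (central σ n))
  have hcen : ∀ p : Nat.Primes, ∀ x ∈ opOf (p : ℕ) (coreCent (central σ n)), ∀ w ∈ F', Commute x w := by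
    intro p x hx w hw
    have hle : F' ≤ centralizer ({x} : Set G) := iSup_le fun r v hv => by
      haveI : Fact (p : ℕ).Prime := ⟨p.2⟩
      haveI : Fact (r : ℕ).Prime := ⟨r.2⟩
      refine mem_centralizer_singleton_iff.2 (Eq.symm ?_)
      by_cases hpr : p = r
      · subst hpr
        exact ((b.opOf_facts h hC hg hgood hc hx).1 v hv).eq
      · exact (commute_of_disjoint (inf_eq_bot_of_primes (fun e => hpr (Subtype.ext e)) (isPGroup_opOf p _)
          (isPGroup_opOf r _)) hx hv (le_normalizer_opOf r _ (opOf_le p _ hx))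
          (le_normalizer_opOf p _ (opOf_le r _ hv))).eq
    exact (mem_centralizer_singleton_iff.1 (hle hw)).symm
  refine (Subgroup.iSup_induction' (fun p : Nat.Primes => opOf (p : ℕ) (coreCent (central σ n)))
    (C := fun w _ => w ^ Nat.card ↥(locD σ τ n (centralizer ({z} : Set G))) = 1 ∧ ∀ v ∈ F', Commute w v)
    (fun p x hx => ?_) ⟨one_pow _, fun v _ => Commute.one_left v⟩ (fun u v hu hv h1 h2 => ?_) hgF).1
  · haveI : Fact (p : ℕ).Prime := ⟨p.2⟩
    exact ⟨(b.opOf_facts h hC hg hgood hc hx).2.2, hcen p x hx⟩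
  · exact ⟨by rw [(h1.2 v hv).mul_pow, h1.1, h2.1, one_mul], fun w hw => (h1.2 w hw).mul_left (h2.2 w hw)⟩

theorem card_locD_dvd {σ' τ' : G} (hc' : central σ' n = central σ n) {B' : Subgroup G} {z' y' : G}
    (b' : PlaneData σ' τ' n q B' z' y') (hcyc : IsCyclic ↥(locD σ' τ' n (centralizer ({z'} : Set G))))
    (hle : locD σ' τ' n (centralizer ({z'} : Set G)) ≤
      (Cfsg.fittingSubgroup ↥(coreCent (central σ n))).map (coreCent (central σ n)).subtype) :
    Nat.card ↥(locD σ' τ' n (centralizer ({z'} : Set G))) ∣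
      Nat.card ↥(locD σ τ n (centralizer ({z} : Set G))) := by
  obtain ⟨g, hgen⟩ := IsCyclic.exists_generator (α := ↥(locD σ' τ' n (centralizer ({z'} : Set G))))
  rw [← orderOf_eq_card_of_forall_mem_zpowers hgen]
  refine orderOf_dvd_of_pow_eq_one (Subtype.ext ?_)
  rw [SubmonoidClass.coe_pow]
  exact b.pow_eq_one_of_fitting h hC hg hgood hc (hle g.2)

omit hc

/-- No plane whose rotation has a power acting as `-1`. -/
theorem false_of_rot {i : ℕ} (hi : 1 ≤ i)
    (hri : b.act h (h.le_centralizer h.hσ) ^ 2 ^ (i - 1) = -1) : False := by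
  set r := b.act h (h.le_centralizer h.hσ) with hr
  have hne := Plane.two_ne_zero' (q := q) (b.ne_two h)
  obtain ⟨hrr, -⟩ := b.act_rotation h
  rcases (b.cfg h).rot_cases (r := r) (fun a ha => b.conj_img h (h.le_centralizer h.hσ) ha) hrr hi hri with
    ⟨h10, hlow⟩ | ⟨h01, hup⟩ | ⟨hd, hcases⟩
  · exact b.not_low h hC hg ⟨h10, hlow⟩
  · -- `y` spans a line fixed by the other reflection
    obtain rfl : i = 1 := by
      by_contra hi1
      exact (Plane.rotation_moves (b.ne_two h) hrr hi hri (by omega)).2 h01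
    have hr1 : r = -1 := by simpa using hri
    have hyfix : Commute (σ * τ) y := by
      have h1 := (b.frame h).fix_second ⟨σ * τ, mem_dom (b.normal (h.le_centralizer (mul_mem h.hσ h.hτ)))⟩
        (by show Plane.ent (b.act h (h.le_centralizer (mul_mem h.hσ h.hτ))) 0 1 = 0
            rw [b.act_sigma_tau h, ← hr, hr1, Plane.ent_mul]
            simp [Plane.ent_neg, Plane.ent_one, (Plane.ent_refl (q := q)).2.1])
        (by show Plane.ent (b.act h (h.le_centralizer (mul_mem h.hσ h.hτ))) 1 1 = 1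
            rw [b.act_sigma_tau h, ← hr, hr1, Plane.ent_mul]
            simp [Plane.ent_neg, Plane.ent_one, (Plane.ent_refl (q := q)).2.2.2])
      rw [mem_bot, inv_mul_eq_one] at h1
      exact mul_inv_eq_iff_eq_mul.1 h1.symm
    refine b.y_ne (zpowers_eq_bot.1 (h.symm.eq_bot_of_le_fixR hC hg
      ((isPGroup_opOf q _).to_le (zpowers_le.2 (b.le b.ymem)))
      (zpowers_le.2 (h.symm.mem_fixR.2 ⟨b.le_coreCent h b.ymem, hyfix.symm⟩)) fun g hgC => ?_))
    have hn : ∀ g', ∀ hg' : g' ∈ centralizer ({central σ n} : Set G), Plane.ent (b.act h hg') 0 1 = 0 →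
        g' ∈ normalizer (zpowers y : Set G) := fun g' hg' he => by
      obtain ⟨a, ha⟩ := ((b.frame h).ent_upp_iff _).1 he
      rw [mem_bot, inv_mul_eq_one] at ha
      exact mem_normalizer_zpowers_of_conj (ha ▸ pow_mem (mem_zpowers y) a)
    obtain ⟨u, hu, s, hs, rfl⟩ := h.exists_mul hgC
    refine mul_mem (hn _ (h.coreCent_le hu) (hup _ (b.act_mem h hu))) ?_
    have hσn := hn _ (h.le_centralizer h.hσ) h01
    have hτn := hn _ (h.le_centralizer h.hτ) (by rw [b.act_tau h]; exact (Plane.ent_refl (q := q)).2.1)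
    by_cases hsσ : s ∈ zpowers σ
    · exact zpowers_le.2 hσn hsσ
    · obtain ⟨j, rfl⟩ := h.exists_rotation_mul_tau hs hsσ
      exact mul_mem (zpow_mem hσn j) hτn
  have hc : ∀ s : ℕ, s.Prime → ∀ x ∈ opOf s (coreCent (central σ n)), ∀ v ∈ B, Commute x v :=
    fun s hs x hx v hv => b.opOf_commute h hd hs hx hv
  -- the other reflection
  have hρ : b.act h (h.le_centralizer (mul_mem h.hσ h.hτ)) = r * Plane.refl := b.act_sigma_tau h
  obtain ⟨z', y', b'⟩ := h.symm.exists_plane hC hg b.le b.normal b.comm b.exp (b.exists_fixed_symm h fun e => by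
    rw [hρ] at e
    have e1 : r = -Plane.refl := by
      rw [← mul_one r, ← Plane.refl_mul_self, ← mul_assoc, e, neg_one_mul]
    rw [e1] at hri
    rcases Nat.eq_or_lt_of_le hi with e2 | e2
    · rw [← e2, Nat.sub_self, pow_zero, pow_one, neg_inj] at hri
      have h1 := congrArg (fun x : Plane.GL2 q => Plane.ent x 1 1) hri
      simp [(Plane.ent_refl (q := q)).2.2.2, Plane.ent_one] at h1
      exact hne (by linear_combination -h1)
    · rw [show 2 ^ (i - 1) = 2 * 2 ^ (i - 2) by rw [← pow_succ']; congr 1; omega, pow_mul, neg_pow, neg_one_sq,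
        one_mul, pow_two, Plane.refl_mul_self, one_pow] at hri
      have h1 := congrArg (fun x : Plane.GL2 q => Plane.ent x 0 0) hri
      simp [Plane.ent_neg, Plane.ent_one] at h1
      exact hne (by linear_combination h1))
  set d := Nat.card ↥(locD σ τ n (centralizer ({z} : Set G)))
  have hd' : Nat.card ↥(locD σ (σ * τ) n (centralizer ({z'} : Set G))) = d :=
    Nat.dvd_antisymm
      (b.card_locD_dvd h hC hg hgood hc rfl b' (b'.lineData h.symm hC hg).isCyclic
        (b'.locD_le_fitting h.symm hC hg hgood hc))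
      (b'.card_locD_dvd h.symm hC hg hgood hc rfl b (b.lineData h hC hg).isCyclic
        (b.locD_le_fitting h hC hg hgood hc))
  set e := Plane.fixIdx Plane.refl (b.img h)
  have ha : idx σ τ n = e * d := b.idx_eq_mul h hC hg
  have ha1 : idx σ (σ * τ) n = Plane.fixIdx (r * Plane.refl) (b.img h) * d := by
    have h1 := b.idx_of_act h hC hg (h.le_centralizer (mul_mem h.hσ h.hτ)) h.symm.tau_mul_self
    rw [hρ, show (b.frame h).kerOn (coreCent (central σ n)) = (b'.frame h.symm).kerOn (coreCent (central σ n)) by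
      ext v; rw [b.mem_kerOn_iff h hC hg, b'.mem_kerOn_iff h.symm hC hg], b'.relIndex_kerOn h.symm hC hg, hd'] at h1
    exact h1
  obtain ⟨P⟩ := h.exists_principal
  have hfix : fixR (central σ n) τ ≠ ⊥ := fun e0 => b.z_ne (mem_bot.1 (e0 ▸ b.zfix))
  rcases hcases with ⟨he', hle, h3, hres⟩ | ⟨he1, h3⟩ | ⟨he1, h3⟩
  · obtain ⟨l, k, hh, D, hk, hL, -, hcase, -, -, hdiv⟩ := b.exists_leaf h hC hg P
    obtain ⟨hin, -⟩ := b.rot_le h hi hri
    have hkn : k + i = n := by
      rw [← hk, b.factorization_rot h hi hri]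
      omega
    have hsum : P.Θ * P.m = e * d := by
      have h1 := P.idx_add
      rw [ha, ha1, he'] at h1
      linarith
    exact hL.false_LB hkn hi ((b.cfg h).odd_fixIdx _) h3 hle hsum (Or.inl rfl) hres hcase (hdiv e ha)
  all_goals
    have hdpos : 0 < d := Nat.card_pos
    haveI := h.isMulCommutative_of_ratio P (Or.inl hfix) (by
      rw [ha, ha1]
      first
        | exact Or.inl (by rw [← mul_assoc]; exact Nat.mul_le_mul_right _ (by rw [he1]; omega))
        | exact Or.inr (by rw [← mul_assoc]; exact Nat.mul_le_mul_right _ (by rw [he1]; omega)))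
    simp only [e, b.fixIdx_eq_one_of_comm h] at h3
    omega

end PlaneData

end Cfsg.Agent.Invol.GW.Dihedral
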