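import Cfsg.Agent.Lib.Invol.GW.Dihedral.CasePlane

/-!
# Gorenstein–Walter, dihedral: the 2-parts of the stabilisers in a plane

The image of the rotation, the points fixed by the other reflection, and the order of a Sylow 2-subgroup of
`C(z) ⊓ C(t)` for the fixed point `z`.
-/

set_option autoImplicit false
set_option linter.unusedSectionVars false
set_option linter.style.haveILetI false

namespace Cfsg.Agent.Invol.GW.Dihedral

open Subgroup Klein
open scoped Pointwise

universe u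

variable {G : Type u} [Group G] [Finite G] {S : Sylow 2 G} {σ τ : G} {n : ℕ}

namespace Hyp

variable (h : Hyp S σ τ n)
include h

theorem card_le_two_mul_rotations {X : Subgroup G} (hX : X ≤ (S : Subgroup G)) :
    Nat.card ↥X ≤ 2 * Nat.card ↥(zpowers σ ⊓ X : Subgroup G) := by
  have h1 : (zpowers σ).relIndex (S : Subgroup G) = 2 := by
    have e := Subgroup.relIndex_mul_relIndex ⊥ (zpowers σ) (S : Subgroup G) bot_le (zpowers_le.2 h.hσ)
    rw [relIndex_bot_left, relIndex_bot_left, Nat.card_zpowers, h.orderσ, h.card_sylow] at e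
    refine Nat.eq_of_mul_eq_mul_left (show 0 < 2 ^ (n - 1) by positivity) (e.trans ?_)
    rw [← pow_succ, show n - 1 + 1 = n by have := h.three; omega]
  have h2 : (zpowers σ).relIndex X ≤ 2 :=
    h1 ▸ Subgroup.relIndex_le_of_le_right hX (by rw [h1]; norm_num)
  have e := Subgroup.relIndex_mul_relIndex ⊥ (zpowers σ ⊓ X) X bot_le inf_le_right
  rw [relIndex_bot_left, relIndex_bot_left, Subgroup.inf_relIndex_right] at e
  rw [← e, mul_comm 2]
  exact Nat.mul_le_mul_left _ h2

/-- The 2-part of `C(z) ⊓ C(t)` from a subgroup of the Sylow group and a bound on all stabilisers in it. -/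
theorem factorization_stab {z : G} {j : ℕ} {P : Subgroup G}
    (hP : P ≤ centralizer ({z} : Set G) ⊓ centralizer ({central σ n} : Set G)) (hPc : 2 ^ j ∣ Nat.card ↥P)
    (hmax : ∀ c ∈ centralizer ({central σ n} : Set G),
      Nat.card ↥((S : Subgroup G) ⊓ centralizer ({c * z * c⁻¹} : Set G) : Subgroup G) ≤ 2 ^ j) :
    (Nat.card ↥(centralizer ({z} : Set G) ⊓ centralizer ({central σ n} : Set G) : Subgroup G)).factorization 2
      = j := by
  haveI : Fact (Nat.Prime 2) := ⟨Nat.prime_two⟩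
  set H := centralizer ({z} : Set G) ⊓ centralizer ({central σ n} : Set G)
  obtain ⟨Q⟩ : Nonempty (Sylow 2 ↥H) := inferInstance
  set Q' := (Q : Subgroup ↥H).map H.subtype
  have hQH : Q' ≤ H := map_subtype_le _
  obtain ⟨c, hc, hcQ⟩ := exists_conj_le_sylow S h.le_centralizer (hQH.trans inf_le_right) (Q.isPGroup'.map _)
  have h1 : MulAut.conj c • Q' ≤ (S : Subgroup G) ⊓ centralizer ({c * z * c⁻¹} : Set G) := by
    rintro _ ⟨x, hx, rfl⟩
    exact ⟨hcQ x hx, mem_centralizer_singleton_iff.2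
      (Commute.conj (mem_centralizer_singleton_iff.1 (hQH hx).1) c).eq⟩
  have h2 := (card_le_of_le h1).trans (hmax c hc)
  rw [Grp.card_conj_smul, card_map_of_injective H.subtype_injective, Q.card_eq_multiplicity] at h2
  refine le_antisymm ((Nat.pow_le_pow_iff_right one_lt_two).1 h2) ?_
  exact (Nat.prime_two.pow_dvd_iff_le_factorization Nat.card_pos.ne').1 (hPc.trans (card_dvd_of_le hP))

/-- A rotation fixing `z` gives the whole Sylow group. -/
theorem factorization_stab_full {z : G} (hzσ : Commute σ z) (hzτ : Commute τ z) :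
    (Nat.card ↥(centralizer ({z} : Set G) ⊓ centralizer ({central σ n} : Set G) : Subgroup G)).factorization 2
      = n := by
  refine h.factorization_stab (P := (S : Subgroup G)) (le_inf (fun s hs => ?_) h.le_centralizer)
    (dvd_of_eq h.card_sylow.symm)
    fun c _ => (card_le_of_le inf_le_left).trans h.card_sylow.le
  refine mem_centralizer_singleton_iff.2 ?_
  by_cases hsσ : s ∈ zpowers σ
  · obtain ⟨i, rfl⟩ := mem_zpowers_iff.1 hsσ
    exact (hzσ.zpow_left i).eq
  · obtain ⟨i, rfl⟩ := h.exists_rotation_mul_tau hs hsσ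
    exact ((hzσ.zpow_left i).mul_left hzτ).eq

theorem card_zpowers_pow {i : ℕ} (hi : i ≤ n - 1) : Nat.card ↥(zpowers (σ ^ 2 ^ i)) = 2 ^ (n - 1 - i) := by
  rw [Nat.card_zpowers, orderOf_pow_of_dvd (by positivity) (h.orderσ ▸ pow_dvd_pow 2 hi), h.orderσ,
    Nat.pow_div hi two_pos]

/-- The group `⟨σ ^ (2 ^ i), τ⟩`. -/
theorem exists_dihedral_part {i : ℕ} (hi : i ≤ n - 1) {z : G} (hzσ : Commute (σ ^ 2 ^ i) z) (hzτ : Commute τ z) :
    ∃ P : Subgroup G, P ≤ centralizer ({z} : Set G) ⊓ centralizer ({central σ n} : Set G) ∧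
      2 ^ (n - i) ∣ Nat.card ↥P := by
  set P := zpowers (σ ^ 2 ^ i) ⊔ zpowers τ with hP
  have hPS : P ≤ (S : Subgroup G) := sup_le (zpowers_le.2 (pow_mem h.hσ _)) (zpowers_le.2 h.hτ)
  refine ⟨P, le_inf (sup_le (zpowers_le.2 (mem_centralizer_singleton_iff.2 hzσ.eq))
    (zpowers_le.2 (mem_centralizer_singleton_iff.2 hzτ.eq))) (hPS.trans h.le_centralizer), ?_⟩
  haveI : Fact (Nat.Prime 2) := ⟨Nat.prime_two⟩
  obtain ⟨a, ha⟩ := IsPGroup.iff_card.1 (S.isPGroup'.to_le hPS)
  have hlt : zpowers (σ ^ 2 ^ i) < P := lt_of_le_of_ne le_sup_left fun e =>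
    h.tau_notMem (zpowers_le.2 (pow_mem (mem_zpowers σ) (2 ^ i)) (e.ge (mem_sup_right (mem_zpowers τ))))
  have h1 : 2 ^ (n - 1 - i) < 2 ^ a := by
    rw [← h.card_zpowers_pow hi, ← ha]
    exact lt_of_le_of_ne (card_le_of_le hlt.le) fun e => hlt.ne (eq_of_le_of_card_ge hlt.le e.ge)
  rw [ha]
  refine pow_dvd_pow 2 ?_
  have := (Nat.pow_lt_pow_iff_right (show 1 < 2 by norm_num)).1 h1
  omega

end Hyp

namespace PlaneData

variable {q : ℕ} [Fact q.Prime] {B : Subgroup G} {z y : G} (b : PlaneData σ τ n q B z y) (h : Hyp S σ τ n)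
include b h

theorem act_pow {g : G} (hg : g ∈ centralizer ({central σ n} : Set G)) (k : ℕ) :
    b.act h (pow_mem hg k) = b.act h hg ^ k := by
  rw [act, act, ← map_pow]
  rfl

theorem act_eq_one_iff {g : G} (hg : g ∈ centralizer ({central σ n} : Set G)) :
    b.act h hg = 1 ↔ ∀ v ∈ B, Commute g v := by
  refine ⟨fun h1 v hv => ?_, fun hc => ?_⟩
  · have h2 := (b.frame h).mem_of_hom_eq_one h1 hv
    rw [mem_bot, inv_mul_eq_one] at h2
    exact mul_inv_eq_iff_eq_mul.1 h2.symm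
  · refine (b.frame h).hom_eq_one_of ?_ ?_ <;> rw [mem_bot]
    · rw [(hc z b.zmem).eq, mul_inv_cancel_right, inv_mul_cancel]
    · rw [(hc y b.ymem).eq, mul_inv_cancel_right, inv_mul_cancel]

theorem act_central : b.act h (h.le_centralizer h.central_mem) = 1 :=
  (b.act_eq_one_iff h _).2 fun _ hv => (h.commute_central (b.le_coreCent h hv)).symm

/-- An element acting as `-1` inverts the plane. -/
theorem inverts_of_neg_one {g : G} (hg : g ∈ centralizer ({central σ n} : Set G)) (h1 : b.act h hg = -1)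
    {v : G} (hv : v ∈ B) : g * v * g⁻¹ = v⁻¹ := by
  have hz : g * z * g⁻¹ = z⁻¹ := eq_inv_of_mul_eq_one_right (mem_bot.1 ((b.frame h).inv_first ⟨g, mem_dom
    (b.normal hg)⟩ (by show Plane.ent (b.act h hg) 0 0 = -1; simp [h1, Plane.ent_neg, Plane.ent_one])
    (by show Plane.ent (b.act h hg) 1 0 = 0; simp [h1, Plane.ent_neg, Plane.ent_one])))
  have hy : g * y * g⁻¹ = y⁻¹ := eq_inv_of_mul_eq_one_right (mem_bot.1 ((b.frame h).inv_second ⟨g, mem_dom
    (b.normal hg)⟩ (by show Plane.ent (b.act h hg) 0 1 = 0; simp [h1, Plane.ent_neg, Plane.ent_one])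
    (by show Plane.ent (b.act h hg) 1 1 = -1; simp [h1, Plane.ent_neg, Plane.ent_one])))
  obtain ⟨a, c, rfl⟩ := b.exists_decomp h hv
  rw [show g * (z ^ a * y ^ c) * g⁻¹ = g * z ^ a * g⁻¹ * (g * y ^ c * g⁻¹) by group, ← conj_pow, ← conj_pow, hz,
    hy, mul_inv_rev, inv_pow, inv_pow, ((b.comm z b.zmem y b.ymem).pow_pow a c).inv_inv.eq]

/-- A point fixed by the other reflection, unless it inverts the plane. -/
theorem exists_fixed_symm (hne : b.act h (h.le_centralizer (mul_mem h.hσ h.hτ)) ≠ -1) :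
    B ⊓ fixR (central σ n) (σ * τ) ≠ ⊥ := by
  intro hbot
  have hinv : ∀ v ∈ B, σ * τ * v * (σ * τ)⁻¹ = v⁻¹ := fun v hv => by
    obtain ⟨a, ha, e, he, hinv, hc, rfl, -⟩ := Klein.exists_inverted_mul (odd_of_le (b.le_coreCent h) h.odd_coreCent)
      h.symm.tau_mul_self (b.normal (h.le_centralizer (mul_mem h.hσ h.hτ))) hv
    have he1 : e = 1 := mem_bot.1 (hbot ▸ Subgroup.mem_inf.2 ⟨he, h.symm.mem_fixR.2 ⟨b.le_coreCent h he, hc⟩⟩)
    rw [he1, mul_one]
    exact hinv
  have e1 := (b.frame h).coord_eq ((b.frame h).conj_mem_M (mem_dom (b.normal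
    (h.le_centralizer (mul_mem h.hσ h.hτ)))) b.zmem) (v := ![-1, 0]) (by
      rw [(b.frame h).vec_zpow_first, mem_bot, hinv z b.zmem, ← mul_inv_rev]
      exact inv_eq_one.2 (mem_bot.1 (by
        have := (b.frame h).pow_val_neg_one (w := z) (mem_bot.2 (b.exp z b.zmem))
        rw [mem_bot] at this ⊢
        rw [← this]
        exact (Commute.self_pow z _).eq)))
  have e2 := (b.frame h).coord_eq ((b.frame h).conj_mem_M (mem_dom (b.normal
    (h.le_centralizer (mul_mem h.hσ h.hτ)))) b.ymem) (v := ![0, -1]) (by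
      rw [(b.frame h).vec_zpow_second, mem_bot, hinv y b.ymem, ← mul_inv_rev]
      exact inv_eq_one.2 (mem_bot.1 (by
        have := (b.frame h).pow_val_neg_one (w := y) (mem_bot.2 (b.exp y b.ymem))
        rw [mem_bot] at this ⊢
        rw [← this]
        exact (Commute.self_pow y _).eq)))
  refine hne (Plane.ext_ent ?_ ?_ ?_ ?_) <;> rw [act, (b.frame h).ent_hom] <;>
    simp only [(b.frame h).vec_first, (b.frame h).vec_second] <;> (first | rw [e1] | rw [e2]) <;>
    simp [Plane.ent_neg, Plane.ent_one]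

variable {i : ℕ} (hi : 1 ≤ i) (hri : b.act h (h.le_centralizer h.hσ) ^ 2 ^ (i - 1) = -1)
include hi hri

/-- The rotation of order `2 ^ i` on the plane: the kernel is `⟨σ ^ (2 ^ i)⟩`. -/
theorem rot_le : i + 2 ≤ n ∧ ∀ v ∈ B, Commute (σ ^ 2 ^ i) v := by
  set r := b.act h (h.le_centralizer h.hσ)
  have hne := Plane.two_ne_zero' (q := q) (b.ne_two h)
  have h2i : r ^ 2 ^ i = 1 := by
    rw [show i = i - 1 + 1 by omega, pow_succ, pow_mul, hri, neg_one_sq]
  refine ⟨?_, (b.act_eq_one_iff h (pow_mem (h.le_centralizer h.hσ) _)).1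
    (by rw [b.act_pow h (h.le_centralizer h.hσ)]; exact h2i)⟩
  by_contra hlt
  obtain ⟨k, hk⟩ : ∃ k, i - 1 = n - 2 + k := ⟨i - 1 - (n - 2), by omega⟩
  have hc : r ^ 2 ^ (n - 2) = 1 := (b.act_pow h (h.le_centralizer h.hσ) _).symm.trans (b.act_central h)
  rw [hk, pow_add, pow_mul, hc, one_pow] at hri
  have h1 := congrArg (fun x : Plane.GL2 q => Plane.ent x 0 0) hri
  replace h1 : Plane.ent (1 : Plane.GL2 q) 0 0 = Plane.ent (-1 : Plane.GL2 q) 0 0 := h1
  rw [Plane.ent_neg, Plane.ent_one, if_pos rfl] at h1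
  exact hne (by linear_combination h1)

/-- A rotation fixing a point of the plane is trivial on it. -/
theorem mem_of_fixes {w : G} (hw : w ∈ B) (hw1 : w ≠ 1) {j : ℤ} (hj : Commute (σ ^ j) w) :
    σ ^ j ∈ zpowers (σ ^ 2 ^ i) := by
  obtain ⟨hin, -⟩ := b.rot_le h hi hri
  obtain ⟨k, hk⟩ := (mem_powers_iff_mem_zpowers (x := σ)).2 (zpow_mem (mem_zpowers σ) j)
  simp only at hk
  rw [← hk] at hj ⊢
  clear hk j
  -- the 2-part of `k`
  rcases Nat.eq_zero_or_pos k with rfl | hk0
  · simp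
  obtain ⟨a, c, hc, rfl⟩ := Nat.exists_eq_two_pow_mul_odd hk0.ne'
  by_cases hai : i ≤ a
  · obtain ⟨d, rfl⟩ : ∃ d, a = i + d := ⟨a - i, by omega⟩
    rw [pow_add, mul_assoc, pow_mul]
    exact pow_mem (mem_zpowers _) _
  exfalso
  have h1 : Commute (σ ^ (2 ^ (i - 1) * c)) w := by
    have := hj.pow_left (2 ^ (i - 1 - a))
    rwa [← pow_mul, show 2 ^ a * c * 2 ^ (i - 1 - a) = 2 ^ (i - 1) * c by
      rw [mul_right_comm, ← pow_add, show a + (i - 1 - a) = i - 1 by omega]] at this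
  have h2 := b.inverts_of_neg_one h (pow_mem (h.le_centralizer h.hσ) (2 ^ (i - 1) * c))
    (by rw [b.act_pow h (h.le_centralizer h.hσ), pow_mul, hri, hc.neg_one_pow]) hw
  rw [h1.eq, mul_inv_cancel_right, eq_inv_iff_mul_eq_one] at h2
  exact hw1 (eq_one_of_odd h.odd_coreCent (b.le_coreCent h hw) h2)

/-- The 2-part of `C(z) ⊓ C(t)` under a rotation of order `2 ^ i`. -/
theorem factorization_rot : (Nat.card ↥(centralizer ({z} : Set G) ⊓ centralizer ({central σ n} : Set G) :
    Subgroup G)).factorization 2 = n - i := by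
  obtain ⟨hin, hker⟩ := b.rot_le h hi hri
  obtain ⟨P, hP, hPc⟩ := h.exists_dihedral_part (show i ≤ n - 1 by omega) (hker z b.zmem)
    (h.mem_fixR.1 b.zfix).2.symm
  refine h.factorization_stab hP hPc fun c hc => ?_
  set w := c * z * c⁻¹
  have hwB : w ∈ B := conj_mem_of_normalizer (b.normal hc) b.zmem
  have hw1 : w ≠ 1 := fun e => b.z_ne (conj_eq_one_iff.1 e)
  refine (h.card_le_two_mul_rotations inf_le_left).trans ?_
  rw [show n - i = n - 1 - i + 1 by omega, pow_succ', ← h.card_zpowers_pow (show i ≤ n - 1 by omega)]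
  refine Nat.mul_le_mul_left 2 (card_le_of_le fun x hx => ?_)
  obtain ⟨j, rfl⟩ := mem_zpowers_iff.1 hx.1
  exact b.mem_of_fixes h hi hri hwB hw1 (mem_centralizer_singleton_iff.1 hx.2.2)

end PlaneData

end Cfsg.Agent.Invol.GW.Dihedral
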