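import Mathlib

/-!
# Gorenstein–Walter, dihedral: the arithmetic of a twisted block

Signed degrees `a, b ≡ 3` modulo 4, at least five, with sum not `± 2` give `5 (a - b)² ≤ 4 |a b (a + b)|`;
with the block relation this leaves `x = 9`, `δ = 1`.
-/

set_option autoImplicit false

namespace Cfsg.Agent.Invol.GW.Dihedral.TwistedArith

theorem key {a b : ℤ} (ha : a % 4 = 3) (hb : b % 4 = 3) (ha5 : 5 ≤ |a|) (hb5 : 5 ≤ |b|) (hs : 6 ≤ |a + b|) :
    5 * (a - b) ^ 2 ≤ 4 * (|a| * |b| * |a + b|) := by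
  have same : ∀ p q : ℤ, 5 ≤ p → 5 ≤ q → 5 * (p - q) ^ 2 ≤ 4 * (p * q * (p + q)) := fun p q hp hq => by
    nlinarith [mul_nonneg (sub_nonneg.2 hp) (sub_nonneg.2 hq), mul_nonneg (mul_nonneg (sub_nonneg.2 hp)
      (sub_nonneg.2 hq)) (add_nonneg (sub_nonneg.2 hp) (sub_nonneg.2 hq)), sq_nonneg (p - q)]
  have opp : ∀ p q : ℤ, 5 ≤ q → q + 6 ≤ p → 5 * (p + q) ^ 2 ≤ 4 * (p * q * (p - q)) := fun p q hq hp => by
    obtain ⟨s, hs', rfl⟩ : ∃ s, 0 ≤ s ∧ p = q + 6 + s := ⟨p - q - 6, by omega, by ring⟩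
    obtain ⟨r, hr, rfl⟩ : ∃ r, 0 ≤ r ∧ q = 5 + r := ⟨q - 5, by omega, by ring⟩
    nlinarith [mul_nonneg hr hr, mul_nonneg hr hs', mul_nonneg hs' hs', mul_nonneg (mul_nonneg hr hr) hs',
      mul_nonneg (mul_nonneg hr hs') hs']
  rcases le_or_gt 0 a with ha0 | ha0 <;> rcases le_or_gt 0 b with hb0 | hb0
  · rw [abs_of_nonneg ha0, abs_of_nonneg hb0, abs_of_nonneg (add_nonneg ha0 hb0)]
    rw [abs_of_nonneg ha0] at ha5
    rw [abs_of_nonneg hb0] at hb5
    exact same a b ha5 hb5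
  · rw [abs_of_nonneg ha0] at ha5
    rw [abs_of_neg hb0] at hb5
    rcases le_or_gt 0 (a + b) with h | h
    · rw [abs_of_nonneg h] at hs
      rw [abs_of_nonneg ha0, abs_of_neg hb0, abs_of_nonneg h]
      have := opp a (-b) hb5 (by linarith)
      linarith
    · rw [abs_of_neg h] at hs
      rw [abs_of_nonneg ha0, abs_of_neg hb0, abs_of_neg h]
      have := opp (-b) a ha5 (by linarith)
      linarith
  · rw [abs_of_neg ha0] at ha5
    rw [abs_of_nonneg hb0] at hb5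
    rcases le_or_gt 0 (a + b) with h | h
    · rw [abs_of_nonneg h] at hs
      rw [abs_of_neg ha0, abs_of_nonneg hb0, abs_of_nonneg h]
      have := opp b (-a) ha5 (by linarith)
      linarith
    · rw [abs_of_neg h] at hs
      rw [abs_of_neg ha0, abs_of_nonneg hb0, abs_of_neg h]
      have := opp (-a) b hb5 (by linarith)
      linarith
  · rw [abs_of_neg ha0, abs_of_neg hb0, abs_of_neg (add_neg ha0 hb0)]
    rw [abs_of_neg ha0] at ha5
    rw [abs_of_neg hb0] at hb5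
    have := same (-a) (-b) ha5 hb5
    linarith

/-- The block relation leaves `x = 9`. -/
theorem final {a b x δ : ℤ} {n Θ : ℕ} (hn : 3 ≤ n) (hΘ : 0 < Θ) (hδ : δ = 1 ∨ δ = -1)
    (hx : x - δ = 2 ^ n * Θ) (ha : a % 4 = 3) (hb : b % 4 = 3) (ha5 : 5 ≤ |a|) (hb5 : 5 ≤ |b|)
    (hs : 6 ≤ |a + b|) (e : (x - δ) ^ 2 * -(a * b * (a + b)) = (a - b) ^ 2 * (x * (x + δ))) :
    5 * (x - δ) ^ 2 ≤ 4 * (x * (x + δ)) ∧ x = 9 ∧ δ = 1 ∧ n = 3 ∧ Θ = 1 := by
  have h8 : (8 : ℤ) ≤ 2 ^ n := by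
    calc (8 : ℤ) = 2 ^ 3 := by norm_num
      _ ≤ _ := pow_le_pow_right₀ (by norm_num) hn
  have hX : 8 ≤ x - δ := by
    rw [hx]
    calc (8 : ℤ) = 8 * 1 := by norm_num
      _ ≤ _ := mul_le_mul h8 (by exact_mod_cast hΘ) (by norm_num) (by positivity)
  have hD : 0 < x * (x + δ) := by
    refine mul_pos ?_ ?_ <;> rcases hδ with rfl | rfl <;> omega
  have hP : 0 < |a| * |b| * |a + b| := by
    exact mul_pos (mul_pos (by linarith) (by linarith)) (by linarith)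
  have habs : (x - δ) ^ 2 * (|a| * |b| * |a + b|) = (a - b) ^ 2 * (x * (x + δ)) := by
    have h := congrArg (fun z : ℤ => |z|) e
    simpa [abs_mul, abs_of_pos hD] using h
  have h5 : 5 * (x - δ) ^ 2 ≤ 4 * (x * (x + δ)) := by
    refine le_of_mul_le_mul_right ?_ hP
    calc 5 * (x - δ) ^ 2 * (|a| * |b| * |a + b|) = 5 * (a - b) ^ 2 * (x * (x + δ)) := by
          rw [mul_assoc, habs, mul_assoc]
      _ ≤ 4 * (|a| * |b| * |a + b|) * (x * (x + δ)) := mul_le_mul_of_nonneg_right (key ha hb ha5 hb5 hs) hD.le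
      _ = _ := by ring
  refine ⟨h5, ?_⟩
  rcases hδ with rfl | rfl
  · have h12 : x - 1 ≤ 12 := by nlinarith
    have hn' : n = 3 := by
      by_contra hne
      have : (16 : ℤ) ≤ 2 ^ n := by
        calc (16 : ℤ) = 2 ^ 4 := by norm_num
          _ ≤ _ := pow_le_pow_right₀ (by norm_num) (by omega)
      have : (16 : ℤ) * 1 ≤ 2 ^ n * Θ := mul_le_mul this (by exact_mod_cast hΘ) (by norm_num) (by positivity)
      linarith
    subst hn'
    norm_num at hx
    refine ⟨by omega, rfl, rfl, by omega⟩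
  · exfalso
    nlinarith

end Cfsg.Agent.Invol.GW.Dihedral.TwistedArith
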