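import Cfsg.Agent.Lib.Invol.GW.Dihedral.TwistedConfig

/-!
# Gorenstein–Walter, dihedral: the combinatorics of a twisted block

`r` vectors of norm three with inner products two and one of norm four meeting each in two, all orthogonal to
positive weights `d`, and one linear relation between the cubes of the alternating sum: the `r` vectors have a
common pair `a`, `b`, and the alternating cubic sum is `-(a' - b')² / (a' b' (a' + b'))` in the signed weights.
-/

set_option autoImplicit false

namespace Cfsg.Agent.Invol.GW.Dihedral.TwistedCore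

variable {ι : Type*} [DecidableEq ι]

/-- Two vectors of units with product two on three points. -/
theorem two_of_three (T : Finset ι) (hT : T.card = 3) (u f : ι → ℤ) (hu : ∀ x ∈ T, u x = 1 ∨ u x = -1)
    (hf : ∀ x ∈ T, f x = 0 ∨ f x = 1 ∨ f x = -1) (h2 : ∑ x ∈ T, u x * f x = 2) :
    ∃ a b c, a ≠ b ∧ a ≠ c ∧ b ≠ c ∧ T = {a, b, c} ∧ f a = u a ∧ f b = u b ∧ f c = 0 := by
  obtain ⟨a, b, c, hab, hac, hbc, hT⟩ := Finset.card_eq_three.1 hT
  have key : ∀ x ∈ T, (u x * f x = 0 → f x = 0) ∧ (u x * f x = 1 → f x = u x) ∧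
      (u x * f x = 0 ∨ u x * f x = 1 ∨ u x * f x = -1) := fun x hx => by
    rcases hu x hx with e | e <;> rcases hf x hx with e' | e' | e' <;> rw [e, e'] <;> norm_num
  obtain ⟨za, oa, pa⟩ := key a (by rw [hT]; simp)
  obtain ⟨zb, ob, pb⟩ := key b (by rw [hT]; simp)
  obtain ⟨zc, oc, pc⟩ := key c (by rw [hT]; simp)
  rw [hT, Finset.sum_insert (by simp [hab, hac]), Finset.sum_pair hbc] at h2
  have hcases : (u a * f a = 1 ∧ u b * f b = 1 ∧ u c * f c = 0) ∨ (u a * f a = 1 ∧ u b * f b = 0 ∧ u c * f c = 1) ∨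
      (u a * f a = 0 ∧ u b * f b = 1 ∧ u c * f c = 1) := by
    generalize u a * f a = x at pa h2 ⊢
    generalize u b * f b = y at pb h2 ⊢
    generalize u c * f c = z at pc h2 ⊢
    omega
  rcases hcases with ⟨e1, e2, e3⟩ | ⟨e1, e2, e3⟩ | ⟨e1, e2, e3⟩
  · exact ⟨a, b, c, hab, hac, hbc, hT, oa e1, ob e2, zc e3⟩
  · exact ⟨a, c, b, hac, hab, hbc.symm, by rw [hT, Finset.pair_comm b c], oa e1, oc e3, zb e2⟩
  · exact ⟨b, c, a, hbc, hab.symm, hac.symm, hT.trans (by
      ext; simp only [Finset.mem_insert, Finset.mem_singleton]; constructor <;> rintro (h | h | h) <;> simp [h]),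
      ob e2, oc e3, za e1⟩

set_option maxHeartbeats 800000 in
/-- The core. -/
theorem core {r : ℕ} (hr : Odd r) (S : Finset ι) (A : Fin r → ι → ℤ) (E : ι → ℤ) (d : ι → ℕ)
    (hd : ∀ x, 0 < d x)
    (hgram : ∀ j k, ∑ x ∈ S, A j x * A k x = (if j = k then 1 else 0) + 2)
    (hAE : ∀ j, ∑ x ∈ S, A j x * E x = 2) (hEE : ∑ x ∈ S, E x * E x = 4)
    (hdeg : ∀ j, ∑ x ∈ S, (d x : ℤ) * A j x = 0) (hdegE : ∑ x ∈ S, (d x : ℤ) * E x = 0)
    (heq : ∑ x ∈ S, ((2 * alt A x + E x : ℤ) : ℚ) ^ 2 * ((alt A x + E x : ℤ) : ℚ) / (d x : ℚ) = 0) :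
    ∃ (a b c : ι) (a' b' : ℤ), a ∈ S ∧ b ∈ S ∧ c ∈ S ∧ a'.natAbs = d a ∧ b'.natAbs = d b ∧
      2 * alt A a + E a = -Int.sign a' ∧ 2 * alt A b + E b = -Int.sign b' ∧
      (a' + b').natAbs = d c ∧ (2 * alt A c + E c = 2 ∨ 2 * alt A c + E c = -2) ∧
      ∑ x ∈ S, ((2 * alt A x + E x : ℤ) : ℚ) ^ 2 * ((alt A x : ℤ) : ℚ) / (d x : ℚ) =
        -((a' : ℚ) - b') ^ 2 / ((a' : ℚ) * b' * ((a' : ℚ) + b')) := by
  classical
  choose T hTS hTc hTpm hTz using fun j => units S d hd (A j) (N := 3) (by norm_num)
    (by rw [hgram, if_pos rfl]; norm_num) (hdeg j)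
  obtain ⟨Te, hTeS, hTec, hTepm, hTez⟩ := units S d hd E (N := 4) le_rfl (by rw [hEE]; norm_num) hdegE
  have hdotA : ∀ j (f : ι → ℤ), ∑ x ∈ S, A j x * f x = ∑ x ∈ T j, A j x * f x :=
    fun j f => dot_support S (T j) (hTS j) (hTz j) f
  -- two points of `T j` with product one
  have hpair : ∀ j (f : ι → ℤ), (∀ x ∈ S, f x = 0 ∨ f x = 1 ∨ f x = -1) → ∑ x ∈ S, A j x * f x = 2 →
      ∃ a b c, a ≠ b ∧ a ≠ c ∧ b ≠ c ∧ T j = {a, b, c} ∧ f a = A j a ∧ f b = A j b ∧ f c = 0 := by
    intro j f hf h2
    rw [hdotA] at h2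
    exact two_of_three (T j) (hTc j) (A j) f (hTpm j) (fun x hx => hf x (hTS j hx)) h2
  have hApm : ∀ j, ∀ x ∈ S, A j x = 0 ∨ A j x = 1 ∨ A j x = -1 := fun j x hx => by
    by_cases hxT : x ∈ T j
    · exact Or.inr (hTpm j x hxT)
    · exact Or.inl (hTz j x hx hxT)
  have hEpm : ∀ x ∈ S, E x = 0 ∨ E x = 1 ∨ E x = -1 := fun x hx => by
    by_cases hxT : x ∈ Te
    · exact Or.inr (hTepm x hxT)
    · exact Or.inl (hTez x hx hxT)
  have hunit : ∀ j x, x ∈ T j → A j x * A j x = 1 := fun j x hx => by
    rcases hTpm j x hx with e | e <;> rw [e] <;> norm_num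
  by_cases hr1 : r = 1
  · subst hr1
    obtain ⟨a, b, c, hab, hac, hbc, hT, hEa, hEb, hEc⟩ := hpair 0 E hEpm (hAE 0)
    have hm : a ∈ T 0 ∧ b ∈ T 0 ∧ c ∈ T 0 := by rw [hT]; simp
    exact generic hr S A E d hd hdeg a b (A 0 a) (A 0 b) (fun _ => c) hab (hTS 0 hm.1) (hTS 0 hm.2.1)
      (fun _ => hTS 0 hm.2.2) (fun _ => ⟨hac.symm, hbc.symm⟩) (fun i j _ => Subsingleton.elim i j)
      (hTpm 0 a hm.1) (hTpm 0 b hm.2.1) (fun j => by rw [Subsingleton.elim j 0]; exact hTpm 0 c hm.2.2)
      (fun j => by rw [Subsingleton.elim j 0]) (fun j => by rw [Subsingleton.elim j 0])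
      (fun j x hx h1 h2 h3 => by
        rw [Subsingleton.elim j 0]
        exact hTz 0 x hx (by rw [hT]; simp [h1, h2, h3]))
      hEa hEb fun _ => hEc
  have hr3 : 3 ≤ r := by obtain ⟨k, hk⟩ := hr; omega
  -- two vectors share two points with the same values
  have hshare : ∀ j k, j ≠ k → ∃ a b c, a ≠ b ∧ a ≠ c ∧ b ≠ c ∧ T j = {a, b, c} ∧ a ∈ T k ∧ b ∈ T k ∧
      c ∉ T k ∧ A k a = A j a ∧ A k b = A j b := by
    intro j k hjk
    obtain ⟨a, b, c, hab, hac, hbc, hT, e1, e2, e3⟩ :=
      hpair j (A k) (hApm k) (by rw [hgram, if_neg hjk, zero_add])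
    have hm : a ∈ T j ∧ b ∈ T j ∧ c ∈ T j := by rw [hT]; simp
    have hin : ∀ x ∈ T j, A k x = A j x → x ∈ T k := fun x hx e => by
      by_contra hno
      have h0 := hTz k x (hTS j hx) hno
      have h1 := hunit j x hx
      rw [← e, h0] at h1
      norm_num at h1
    refine ⟨a, b, c, hab, hac, hbc, hT, hin a hm.1 e1, hin b hm.2.1 e2, fun hc => ?_, e1, e2⟩
    have h1 := hunit k c hc
    rw [e3] at h1
    norm_num at h1
  let j₀ : Fin r := ⟨0, by omega⟩
  let j₁ : Fin r := ⟨1, by omega⟩
  have h01 : j₀ ≠ j₁ := by simp [j₀, j₁, Fin.ext_iff]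
  obtain ⟨a, b, c₀, hab, hac, hbc, hT0, ha1, hb1, hc1, -, -⟩ := hshare j₀ j₁ h01
  have hmem0 : a ∈ T j₀ ∧ b ∈ T j₀ ∧ c₀ ∈ T j₀ := by rw [hT0]; simp
  by_cases hall : ∀ j, a ∈ T j ∧ b ∈ T j
  · -- a common pair
    have hη : ∀ j, ∃ c, c ≠ a ∧ c ≠ b ∧ T j = {a, b, c} := fun j => by
      have hsub : ({a, b} : Finset ι) ⊆ T j := by simp [Finset.insert_subset_iff, hall j]
      obtain ⟨c, hc, hcT⟩ := Finset.exists_eq_insert_iff.2 ⟨hsub, by rw [Finset.card_pair hab, hTc]⟩
      refine ⟨c, fun e => hc (by simp [e]), fun e => hc (by simp [e]), ?_⟩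
      rw [← hcT]; ext; simp; tauto
    choose η hηa hηb hTη using hη
    have hηS : ∀ j, η j ∈ S := fun j => hTS j (by rw [hTη]; simp)
    have hηinj : Function.Injective η := fun j k e => by
      by_contra hjk
      obtain ⟨p, q, c, -, -, -, hT, -, -, hc, -, -⟩ := hshare j k hjk
      exact hc (by rw [hTη k, ← e, ← hTη j, hT]; simp)
    have hsame : ∀ j, A j a = A j₀ a ∧ A j b = A j₀ b := fun j => by
      by_cases hj : j = j₀
      · rw [hj]; exact ⟨rfl, rfl⟩
      obtain ⟨p, q, c, hpq, hpc, hqc, hT, hp, hq, hc, e1, e2⟩ := hshare j j₀ hj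
      have hmem : ∀ x, x ∈ T j → x ∈ T j₀ → A j₀ x = A j x := fun x hx hx0 => by
        rw [hT] at hx
        simp only [Finset.mem_insert, Finset.mem_singleton] at hx
        rcases hx with rfl | rfl | rfl
        · exact e1
        · exact e2
        · exact absurd hx0 hc
      exact ⟨(hmem a (hall j).1 hmem0.1).symm, (hmem b (hall j).2 hmem0.2.1).symm⟩
    -- the fourth vector
    have hE : ∀ j, A j₀ a * E a + A j₀ b * E b + A j (η j) * E (η j) = 2 := fun j => by
      have e := hAE j
      rw [hdotA, hTη, Finset.sum_insert (by simp [hab, (hηa j).symm]), Finset.sum_pair (hηb j).symm,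
        (hsame j).1, (hsame j).2] at e
      linarith
    have hpm2 : ∀ x ∈ T j₀, A j₀ x * E x = 0 ∨ A j₀ x * E x = 1 ∨ A j₀ x * E x = -1 := fun x hx => by
      rcases hTpm j₀ x hx with e | e <;> rcases hEpm x (hTS j₀ hx) with e' | e' | e' <;> rw [e, e'] <;> norm_num
    by_cases hgen : A j₀ a * E a = 1 ∧ A j₀ b * E b = 1
    · refine generic hr S A E d hd hdeg a b (A j₀ a) (A j₀ b) η hab (hTS j₀ hmem0.1) (hTS j₀ hmem0.2.1) hηS
        (fun j => ⟨hηa j, hηb j⟩) hηinj (hTpm j₀ a hmem0.1) (hTpm j₀ b hmem0.2.1)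
        (fun j => hTpm j _ (by rw [hTη]; simp)) (fun j => (hsame j).1) (fun j => (hsame j).2)
        (fun j x hx h1 h2 h3 => hTz j x hx (by rw [hTη]; simp [h1, h2, h3])) ?_ ?_ fun j => ?_
      · calc E a = (A j₀ a * A j₀ a) * E a := by rw [hunit j₀ a hmem0.1, one_mul]
          _ = A j₀ a := by rw [mul_assoc, hgen.1, mul_one]
      · calc E b = (A j₀ b * A j₀ b) * E b := by rw [hunit j₀ b hmem0.2.1, one_mul]
          _ = A j₀ b := by rw [mul_assoc, hgen.2, mul_one]
      · have e := hE j
        rw [hgen.1, hgen.2] at e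
        exact (mul_eq_zero.1 (show A j (η j) * E (η j) = 0 by linarith)).resolve_left fun h0 => by
          have := hunit j (η j) (by rw [hTη]; simp)
          rw [h0] at this
          norm_num at this
    · -- the exotic configuration over the ends
      exfalso
      obtain ⟨p, q, hpq, hP, hAp, hAq, hEp, hEq⟩ : ∃ p q, p ≠ q ∧ ({p, q} : Finset ι) = {a, b} ∧
          (∀ j, A j p = A j₀ p) ∧ (∀ j, A j q = A j₀ q) ∧ A j₀ p * E p = 1 ∧ E q = 0 := by
        have h0 := hE j₀
        have hw : A j₀ (η j₀) * E (η j₀) ≤ 1 := by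
          rcases hTpm j₀ (η j₀) (by rw [hTη]; simp) with e | e <;>
            rcases hEpm (η j₀) (hηS j₀) with e' | e' | e' <;> rw [e, e'] <;> norm_num
        have hz : ∀ x ∈ T j₀, A j₀ x * E x = 0 → E x = 0 := fun x hx h => (mul_eq_zero.1 h).resolve_left
          fun h' => by have := hunit j₀ x hx; rw [h'] at this; norm_num at this
        have hcases : (A j₀ a * E a = 1 ∧ A j₀ b * E b = 0) ∨ (A j₀ a * E a = 0 ∧ A j₀ b * E b = 1) := by
          have b1 := hpm2 a hmem0.1
          have b2 := hpm2 b hmem0.2.1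
          generalize A j₀ a * E a = u at b1 h0 hgen ⊢
          generalize A j₀ b * E b = v at b2 h0 hgen ⊢
          omega
        rcases hcases with ⟨e1, e2⟩ | ⟨e1, e2⟩
        · exact ⟨a, b, hab, rfl, fun j => (hsame j).1, fun j => (hsame j).2, e1, hz b hmem0.2.1 e2⟩
        · exact ⟨b, a, hab.symm, Finset.pair_comm b a, fun j => (hsame j).2, fun j => (hsame j).1, e2,
            hz a hmem0.1 e1⟩
      have hpmem : ∀ j, p ∈ T j ∧ q ∈ T j := fun j => by
        have hsub : ({p, q} : Finset ι) ⊆ T j := hP ▸ by simp [Finset.insert_subset_iff, hall j]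
        exact ⟨hsub (by simp), hsub (by simp)⟩
      have hTpq : ∀ j, T j = {p, q, η j} := fun j => by
        rw [hTη]
        ext x
        have := Finset.ext_iff.1 hP x
        simp only [Finset.mem_insert, Finset.mem_singleton] at this ⊢
        tauto
      have hηp : ∀ j, η j ≠ p ∧ η j ≠ q := fun j => by
        have h1 := (hηa j); have h2 := (hηb j)
        have hp' := (Finset.ext_iff.1 hP p).1 (by simp)
        have hq' := (Finset.ext_iff.1 hP q).1 (by simp)
        simp only [Finset.mem_insert, Finset.mem_singleton] at hp' hq'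
        exact ⟨fun e => by rcases hp' with h | h <;> [exact h1 (e.trans h); exact h2 (e.trans h)],
          fun e => by rcases hq' with h | h <;> [exact h1 (e.trans h); exact h2 (e.trans h)]⟩
      have hEp' : E p = A j₀ p := by
        calc E p = (A j₀ p * A j₀ p) * E p := by rw [hunit j₀ p (hpmem j₀).1, one_mul]
          _ = A j₀ p := by rw [mul_assoc, hEp, mul_one]
      have hEη : ∀ j, E (η j) = A j (η j) := fun j => by
        have e := hAE j
        rw [hdotA, hTpq, Finset.sum_insert (by simp [hpq, (hηp j).1.symm]), Finset.sum_pair (hηp j).2.symm,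
          hAp, hAq, hEp, hEq] at e
        have h1 := hunit j (η j) (by rw [hTpq]; simp)
        calc E (η j) = (A j (η j) * A j (η j)) * E (η j) := by rw [h1, one_mul]
          _ = A j (η j) := by rw [mul_assoc, show A j (η j) * E (η j) = 1 by linarith, mul_one]
      set Q := insert p (Finset.univ.image η) with hQ
      have hQT : Q ⊆ Te := by
        intro x hx
        by_contra hno
        rcases Finset.mem_insert.1 hx with rfl | hx
        · rw [hTez x (hTS j₀ (hpmem j₀).1) hno, mul_zero] at hEp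
          norm_num at hEp
        · obtain ⟨j, -, rfl⟩ := Finset.mem_image.1 hx
          have h1 := hunit j (η j) (by rw [hTpq]; simp)
          rw [← hEη, hTez _ (hηS j) hno] at h1
          norm_num at h1
      have hQc : Q.card = r + 1 := by
        rw [Finset.card_insert_of_notMem (by simp [fun j => (hηp j).1]),
          Finset.card_image_of_injective _ hηinj, Finset.card_univ, Fintype.card_fin]
      have hr' : r = 3 := by
        have := Finset.card_le_card hQT
        rw [hQc, hTec] at this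
        omega
      subst hr'
      have hQe : Q = Te := Finset.eq_of_subset_of_card_le hQT (by rw [hQc, hTec])
      exact exotic_pair S A E d hd hdeg hdegE heq p q (A j₀ p) (A j₀ q) η hpq (hTS j₀ (hpmem j₀).1)
        (hTS j₀ (hpmem j₀).2) hηS hηp hηinj (hTpm j₀ p (hpmem j₀).1) (hTpm j₀ q (hpmem j₀).2)
        (fun j => hTpm j _ (by rw [hTpq]; simp)) hAp hAq
        (fun j x hx h1 h2 h3 => hTz j x hx (by rw [hTpq]; simp [h1, h2, h3])) hEp' hEη
        fun x hx h1 h2 => hTez x hx fun hh => by
          rw [← hQe, hQ] at hh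
          simp only [Finset.mem_insert, Finset.mem_image, Finset.mem_univ, true_and] at hh
          rcases hh with h | ⟨j, h⟩
          · exact h1 h
          · exact h2 j h.symm
  · -- all in four points
    exfalso
    push Not at hall
    obtain ⟨k, hk⟩ := hall
    have hk0 : k ≠ j₀ := fun e => hk (e ▸ hmem0.1) (e ▸ hmem0.2.1)
    have hk1 : k ≠ j₁ := fun e => hk (e ▸ ha1) (e ▸ hb1)
    obtain ⟨c₁, hc₁, hcT⟩ := Finset.exists_eq_insert_iff.2
      ⟨(by simp [Finset.insert_subset_iff, ha1, hb1] : ({a, b} : Finset ι) ⊆ T j₁),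
        by rw [Finset.card_pair hab, hTc]⟩
    simp only [Finset.mem_insert, Finset.mem_singleton, not_or] at hc₁
    have hT1 : T j₁ = {a, b, c₁} := by rw [← hcT]; ext; simp; tauto
    have hc01 : c₀ ≠ c₁ := fun e => hc1 (by rw [hT1, e]; simp)
    have hinter : ∀ j k, j ≠ k → 2 ≤ (T j ∩ T k).card := fun j k hjk => by
      obtain ⟨p, q, c, hpq, -, -, hT, hp, hq, -, -, -⟩ := hshare j k hjk
      exact le_trans (le_of_eq (Finset.card_pair hpq).symm) (Finset.card_le_card fun x hx => by
        simp only [Finset.mem_insert, Finset.mem_singleton] at hx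
        rcases hx with rfl | rfl
        · exact Finset.mem_inter.2 ⟨by rw [hT]; simp, hp⟩
        · exact Finset.mem_inter.2 ⟨by rw [hT]; simp, hq⟩)
    -- `T k` contains both ends
    have hend : ∀ {x : ι} {j : Fin r}, T j = {a, b, x} → k ≠ j → x ∈ T k := fun {x j} hT hkj => by
      by_contra hno
      have h2 := hinter k j hkj
      have hsub : T k ∩ T j ⊆ ({a, b} : Finset ι) := fun y hy => by
        obtain ⟨h1, h3⟩ := Finset.mem_inter.1 hy
        rw [hT] at h3
        simp only [Finset.mem_insert, Finset.mem_singleton] at h3 ⊢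
        rcases h3 with h | h | h
        · exact .inl h
        · exact .inr h
        · exact absurd (h ▸ h1) hno
      have he := Finset.eq_of_subset_of_card_le hsub (by rw [Finset.card_pair hab]; exact h2)
      refine hk ?_ ?_
      · exact (Finset.mem_inter.1 (by rw [he]; simp : a ∈ T k ∩ T j)).1
      · exact (Finset.mem_inter.1 (by rw [he]; simp : b ∈ T k ∩ T j)).1
    have hk0' := hend hT0 hk0
    have hk1' := hend hT1 hk1
    set W : Finset ι := {a, b, c₀, c₁} with hW
    have hWc : W.card = 4 := by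
      rw [hW, Finset.card_insert_of_notMem (by simp [hab, hac, Ne.symm hc₁.1]),
        Finset.card_insert_of_notMem (by simp [hbc, Ne.symm hc₁.2]), Finset.card_pair hc01]
    have hkW : T k ⊆ W := by
      intro x hx
      by_contra hno
      have hne : ∀ y ∈ T k, y ≠ x → y = c₀ ∨ y = c₁ := fun y hy hyx => by
        have hsub : ({c₀, c₁, x} : Finset ι) ⊆ T k := by simp [Finset.insert_subset_iff, hk0', hk1', hx]
        have hcard : ({c₀, c₁, x} : Finset ι).card = 3 := by
          rw [Finset.card_insert_of_notMem, Finset.card_pair]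
          · intro e; exact hno (e ▸ by simp [hW])
          · simp only [Finset.mem_insert, Finset.mem_singleton]
            rintro (e | e)
            · exact hc01 e
            · exact hno (e ▸ by simp [hW])
        rw [← Finset.eq_of_subset_of_card_le hsub (by rw [hcard, hTc])] at hy
        simp only [Finset.mem_insert, Finset.mem_singleton] at hy
        tauto
      have h2 := hinter k j₀ hk0
      have hsub : T k ∩ T j₀ ⊆ {c₀} := fun y hy => by
        obtain ⟨h1, h3⟩ := Finset.mem_inter.1 hy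
        rw [hT0] at h3
        simp only [Finset.mem_insert, Finset.mem_singleton] at h3 ⊢
        by_cases hyx : y = x
        · subst hyx
          exfalso
          apply hno
          simp only [hW, Finset.mem_insert, Finset.mem_singleton]
          tauto
        · rcases hne y h1 hyx with h | h
          · exact h
          · subst h
            rcases h3 with h' | h' | h'
            · exact absurd h' hc₁.1
            · exact absurd h' hc₁.2
            · exact h'
      have := Finset.card_le_card hsub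
      simp only [Finset.card_singleton] at this
      omega
    have hsubW : ∀ j, T j ⊆ W := by
      intro j x hx
      by_contra hno
      have h0 : T j₀ ⊆ W := by rw [hT0, hW]; simp [Finset.insert_subset_iff]
      have h1 : T j₁ ⊆ W := by rw [hT1, hW]; simp [Finset.insert_subset_iff]
      have key : ∀ l, T l ⊆ W → (T j).erase x ⊆ T l := fun l hl => by
        have hjl : j ≠ l := fun e => hno (hl (e ▸ hx))
        have hsub : T j ∩ T l ⊆ (T j).erase x := fun y hy => Finset.mem_erase.2
          ⟨fun e => hno (hl (e ▸ (Finset.mem_inter.1 hy).2)), (Finset.mem_inter.1 hy).1⟩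
        rw [← Finset.eq_of_subset_of_card_le hsub (by rw [Finset.card_erase_of_mem hx, hTc]; exact hinter j l hjl)]
        exact Finset.inter_subset_right
      have hcard : ((T j).erase x).card = 2 := by rw [Finset.card_erase_of_mem hx, hTc]
      have hab' : ((T j).erase x) = {a, b} := by
        refine Finset.eq_of_subset_of_card_le (fun y hy => ?_) (by rw [Finset.card_pair hab, hcard])
        have y0 := key j₀ h0 hy
        have y1 := key j₁ h1 hy
        rw [hT0] at y0
        simp only [Finset.mem_insert, Finset.mem_singleton] at y0 ⊢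
        rcases y0 with h | h | h
        · exact .inl h
        · exact .inr h
        · exact absurd (h ▸ y1) hc1
      have hk2 := key k hkW
      rw [hab'] at hk2
      exact hk (hk2 (by simp)) (hk2 (by simp))
    -- the missing points
    have hmiss : ∀ j, ∃ p ∈ W, T j = W.erase p := fun j => by
      obtain ⟨p, hp, hpT⟩ := Finset.exists_eq_insert_iff.2 ⟨hsubW j, by rw [hTc, hWc]⟩
      exact ⟨p, by rw [← hpT]; simp, by rw [← hpT, Finset.erase_insert hp]⟩
    choose p hpW hTp using hmiss
    have hpinj : Function.Injective p := fun i j e => by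
      by_contra hij
      obtain ⟨u, v, w, -, -, -, hT, -, -, hw, -, -⟩ := hshare i j hij
      exact hw (by rw [hTp j, ← e, ← hTp i, hT]; simp)
    have hr' : r = 3 := by
      have h4 := Finset.card_le_card (s := Finset.univ.image p) (t := W) fun x hx => by
        obtain ⟨j, -, rfl⟩ := Finset.mem_image.1 hx
        exact hpW j
      rw [Finset.card_image_of_injective _ hpinj, Finset.card_univ, Fintype.card_fin, hWc] at h4
      obtain ⟨i, hi⟩ := hr
      omega
    subst hr'
    have hpS : ∀ j, p j ∈ S := fun j => by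
      have : ∀ x ∈ W, x ∈ S := fun x hx => by
        simp only [hW, Finset.mem_insert, Finset.mem_singleton] at hx
        rcases hx with rfl | rfl | rfl | rfl
        exacts [hTS j₀ hmem0.1, hTS j₀ hmem0.2.1, hTS j₀ hmem0.2.2, hTS k hk1']
      exact this _ (hpW j)
    obtain ⟨p3, hp3, hWeq⟩ := Finset.exists_eq_insert_iff.2
      ⟨(fun x hx => by obtain ⟨j, -, rfl⟩ := Finset.mem_image.1 hx; exact hpW j :
          Finset.univ.image p ⊆ W),
        by rw [Finset.card_image_of_injective _ hpinj, Finset.card_univ, Fintype.card_fin, hWc]⟩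
    have hp3W : p3 ∈ W := by rw [← hWeq]; simp
    have hne3 : ∀ j, p j ≠ p3 := fun j e => hp3 (Finset.mem_image.2 ⟨j, Finset.mem_univ _, e⟩)
    have hWsum : ∀ f : ι → ℤ, ∑ x ∈ W, f x = f p3 + (f (p 0) + f (p 1) + f (p 2)) := fun f => by
      rw [← hWeq, Finset.sum_insert hp3, Finset.sum_image fun i _ j _ e => hpinj e, Fin.sum_univ_three]
    -- common values
    have hval : ∀ x ∈ W, ∃ s : ℤ, (s = 1 ∨ s = -1) ∧ ∀ j, x ∈ T j → A j x = s := by
      intro x hx
      have hex : ∃ j, x ∈ T j := by
        by_cases h : x = p 0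
        · exact ⟨1, by rw [hTp]; exact Finset.mem_erase.2 ⟨h ▸ hpinj.ne (by decide), hx⟩⟩
        · exact ⟨0, by rw [hTp]; exact Finset.mem_erase.2 ⟨h, hx⟩⟩
      obtain ⟨i, hi⟩ := hex
      refine ⟨A i x, hTpm i x hi, fun j hj => ?_⟩
      by_cases hij : j = i
      · rw [hij]
      obtain ⟨u, v, w, -, -, -, hT, -, -, hw, e1, e2⟩ := hshare j i hij
      rw [hT] at hj
      simp only [Finset.mem_insert, Finset.mem_singleton] at hj
      rcases hj with rfl | rfl | rfl
      · exact e1.symm
      · exact e2.symm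
      · exact absurd hi hw
    choose! s hs hsA using hval
    have hAval : ∀ j, ∀ x ∈ W, A j x = if x = p j then 0 else s x := fun j x hx => by
      by_cases h : x = p j
      · rw [if_pos h]
        exact hTz j x (h ▸ hpS j) (by rw [hTp, h]; simp)
      · rw [if_neg h]
        exact hsA x hx j (by rw [hTp]; exact Finset.mem_erase.2 ⟨h, hx⟩)
    have hsum3 : ∀ (f : ι → ℤ) j, ∑ x ∈ T j, A j x * f x =
        ∑ x ∈ W, s x * f x - s (p j) * f (p j) := fun f j => by
      rw [hTp, ← Finset.add_sum_erase W _ (hpW j), add_sub_cancel_left]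
      exact Finset.sum_congr rfl fun x hx => by
        rw [hAval j x (Finset.mem_erase.1 hx).2, if_neg (Finset.mem_erase.1 hx).1]
    set t : ι → ℤ := fun x => s x * E x with ht
    have htj : ∀ j, t (p 0) + t (p 1) + t (p 2) + t p3 - t (p j) = 2 := fun j => by
      have e := hAE j
      rw [hdotA, hsum3, hWsum] at e
      simp only [ht]
      linarith
    have hp3S : p3 ∈ S := by
      by_cases h : p3 ∈ T 0
      · exact hTS 0 h
      · exact absurd (by rw [hTp]; exact Finset.mem_erase.2 ⟨(hne3 0).symm, hp3W⟩) h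
    have htpm : ∀ x ∈ W, x ∈ S → t x = 0 ∨ t x = 1 ∨ t x = -1 := fun x hx hxS => by
      simp only [ht]
      rcases hs x hx with e | e <;> rcases hEpm x hxS with e' | e' | e' <;> rw [e, e'] <;> norm_num
    have ht3 : t p3 = 0 ∧ ∀ j, t (p j) = 1 := by
      have h0 := htj 0; have h1 := htj 1; have h2 := htj 2
      have b0 := htpm _ (hpW 0) (hpS 0); have b3 := htpm _ hp3W hp3S
      refine ⟨by omega, fun j => ?_⟩
      fin_cases j
      · show t (p 0) = 1
        omega
      · show t (p 1) = 1
        omega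
      · show t (p 2) = 1
        omega
    have hE3 : E p3 = 0 := (mul_eq_zero.1 ht3.1).resolve_left fun e => by
      rcases hs p3 hp3W with h | h <;> omega
    have hEj : ∀ j, E (p j) = s (p j) := fun j => by
      have e := ht3.2 j
      simp only [ht] at e
      rcases hs _ (hpW j) with h | h <;> rw [h] at e ⊢ <;> linarith
    -- the fifth point
    have hsubTe : Finset.univ.image p ⊆ Te := fun x hx => by
      obtain ⟨j, -, rfl⟩ := Finset.mem_image.1 hx
      by_contra hno
      have e := hEj j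
      rw [hTez _ (hpS j) hno] at e
      rcases hs _ (hpW j) with h | h <;> omega
    obtain ⟨p4, hp4, hTe⟩ := Finset.exists_eq_insert_iff.2 ⟨hsubTe, by
      rw [Finset.card_image_of_injective _ hpinj, Finset.card_univ, Fintype.card_fin, hTec]⟩
    have hp4Te : p4 ∈ Te := by rw [← hTe]; simp
    have hp4S : p4 ∈ S := hTeS hp4Te
    have hs4 : E p4 = 1 ∨ E p4 = -1 := hTepm p4 hp4Te
    have hp43 : p4 ≠ p3 := fun e => by rw [e] at hs4; omega
    refine exotic_four S A E d hd hdeg hdegE heq p p3 p4 hpS hp3S hp4S hpinj hne3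
      (fun j e => hp4 (e ▸ Finset.mem_image.2 ⟨j, Finset.mem_univ _, rfl⟩)) hp43 (fun j => s (p j)) (s p3) (E p4)
      (fun j => hs _ (hpW j)) (hs _ hp3W) hs4 (fun j i => ?_) (fun j => ?_) (fun j x hx h1 h2 => ?_) hEj rfl
      fun x hx h1 h2 => hTez x hx fun hh => ?_
    · rw [hAval j _ (hpW i)]
      exact if_congr hpinj.eq_iff rfl rfl
    · rw [hAval j _ hp3W, if_neg (hne3 j).symm]
    · refine hTz j x hx fun hh => ?_
      have h' := hsubW j hh
      rw [← hWeq] at h'
      simp only [Finset.mem_insert, Finset.mem_image, Finset.mem_univ, true_and] at h'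
      rcases h' with h | ⟨i, h⟩
      · exact h1 h
      · exact h2 i h.symm
    · rw [← hTe] at hh
      simp only [Finset.mem_insert, Finset.mem_image, Finset.mem_univ, true_and] at hh
      rcases hh with h | ⟨i, h⟩
      · exact h1 h
      · exact h2 i h.symm

end Cfsg.Agent.Invol.GW.Dihedral.TwistedCore
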