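import Cfsg.Agent.Lib.Invol.GW.Dihedral.Degree

/-!
# Gorenstein–Walter, dihedral case: values of a character constant on the involutions

A character taking the value `g` at all involutions has degree `≡ -3 g` modulo 4, a scalar value forces the
identity, and a character of degree three with value `-1` on a four group `V` takes the value `3 c` at a `y`
centralised by `V` when it takes `-c` on `V# y`.
-/

set_option autoImplicit false
set_option linter.unusedSectionVars false
set_option linter.style.haveILetI false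

open scoped ComplexConjugate

namespace Cfsg.Agent.Invol.GW.Dihedral

open Subgroup Klein Block

universe u

variable {G : Type u} [Group G] [Finite G] {S : Sylow 2 G} {σ τ : G} {n : ℕ}

namespace Hyp

variable (h : Hyp S σ τ n)
include h

/-- A value of the size of the degree is taken only at the identity. -/
theorem eq_one_of_norm (ξ : IrrCharacter G) (hξ : (ξ : G → ℂ) ≠ fun _ => 1) {x : G}
    (hx : ‖(ξ : G → ℂ) x‖ = (charDegree (ξ : G → ℂ) : ℝ)) : x = 1 := by
  haveI := h.simple
  obtain ⟨d, ρ, hρ⟩ := irr_isChar ξ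
  have hd := charDeg_spec' ξ
  rw [← hρ] at hd hx
  rw [Representation.char_one, Nat.cast_inj] at hd
  rw [← hd] at hx
  obtain ⟨ω, hω⟩ := (Char.norm_character_eq_iff ρ x).1 hx
  have hcen : x ∈ Subgroup.center G := mem_center_iff.2 fun g => by
    have e : g * x * g⁻¹ * x⁻¹ = 1 := h.faithful ξ hξ (by
      rw [← hρ]
      show LinearMap.trace ℂ _ (ρ (g * x * g⁻¹ * x⁻¹)) = LinearMap.trace ℂ _ (ρ 1)
      refine congrArg _ ?_
      have hz : ρ g * ρ x = ρ x * ρ g := by
        rw [hω, ← Module.End.one_eq_id, smul_mul_assoc, mul_smul_comm, one_mul, mul_one]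
      rw [map_mul, map_mul, map_mul, hz, mul_assoc (ρ x), ← map_mul, ← map_mul, mul_inv_cancel, mul_one,
        ← map_mul, mul_inv_cancel])
    rwa [mul_inv_eq_one, mul_inv_eq_iff_eq_mul] at e
  rcases (inferInstance : (Subgroup.center G).Normal).eq_bot_or_eq_top with hb | ht
  · rwa [hb, mem_bot] at hcen
  · exact absurd ⟨⟨fun a b => mem_center_iff.1 (ht ▸ mem_top b) a⟩⟩ h.not_isMulCommutative

/-- The degree modulo four of a character constant on the involutions. -/
theorem four_dvd_of_const (ξ : IrrCharacter G) {g : ℤ} (hg : ∀ z : G, orderOf z = 2 → (ξ : G → ℂ) z = g) :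
    (4 : ℤ) ∣ (charDegree (ξ : G → ℂ) : ℕ) + 3 * g := by
  classical
  cases nonempty_fintype ↥(four (central σ n) τ)
  obtain ⟨w, hw⟩ := Char.IsChar.classInner_nat (Char.IsChar.res (irr_isChar ξ) (four (central σ n) τ))
    Char.IsChar.one
  have hJ := h.orderOf_central
  have hJJ : central σ n * central σ n = 1 := by rw [← pow_two, ← hJ, pow_orderOf_eq_one]
  have hJ1 : central σ n ≠ 1 := fun e => by rw [e, orderOf_one] at hJ; omega
  have h3 : orderOf (central σ n * τ) = 2 := orderOf_eq_prime
    (by rw [pow_two, show central σ n * τ * (central σ n * τ) = central σ n * (τ * central σ n) * τ by group,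
      ← h.commute_central_tau.eq, ← mul_assoc, hJJ, one_mul, h.tau_mul_self])
    fun e => h.central_ne_tau (by rw [eq_inv_of_mul_eq_one_left e, inv_eq_of_mul_eq_one_left h.tau_mul_self])
  have hsum : ∑ v : four (central σ n) τ, (ξ : G → ℂ) v = (charDegree (ξ : G → ℂ) : ℕ) + 3 * (g : ℂ) := by
    rw [← Finset.sum_subtype ({1, central σ n, τ, central σ n * τ} : Finset G) (fun x => by
      simp [h.mem_four_tau]) (fun x => (ξ : G → ℂ) x)]
    rw [Finset.sum_insert (by
        simp only [Finset.mem_insert, Finset.mem_singleton, not_or]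
        exact ⟨hJ1.symm, fun e => h.tau_ne_one e.symm, fun e => by rw [← e, orderOf_one] at h3; omega⟩),
      Finset.sum_insert (by
        simp only [Finset.mem_insert, Finset.mem_singleton, not_or]
        exact ⟨h.central_ne_tau, fun e => h.tau_ne_one (mul_left_cancel (e.symm.trans (mul_one _).symm))⟩),
      Finset.sum_insert (by
        simp only [Finset.mem_singleton]
        exact fun e => hJ1 (mul_right_cancel (e.symm.trans (one_mul _).symm))),
      Finset.sum_singleton, hg _ hJ, hg _ h.orderτ, hg _ h3, charDeg_spec' ξ]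
    ring
  simp only [classInner, map_one, mul_one] at hw
  rw [hsum, h.isKleinFour_four.card_four] at hw
  refine ⟨w, Int.cast_injective (α := ℂ) ?_⟩
  push_cast at hw ⊢
  linear_combination 4 * hw

/-- Degree three: the four group has no fixed vector, so the value at `y` is three times the character. -/
theorem value_three (ξ : IrrCharacter G) (h3 : charDegree (ξ : G → ℂ) = 3)
    (hg : ∀ z : G, orderOf z = 2 → (ξ : G → ℂ) z = -1) {y : G} {c : ℂ}
    (hy : ∀ z ∈ four (central σ n) τ, z ≠ 1 → (ξ : G → ℂ) (z * y) = -c) : (ξ : G → ℂ) y = 3 * c := by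
  set J := central σ n with hJdef
  have hJ : orderOf J = 2 := h.orderOf_central
  have hJJ : J * J = 1 := by rw [← pow_two, ← hJ, pow_orderOf_eq_one]
  have hJ1 : J ≠ 1 := fun e => by rw [e, orderOf_one] at hJ; omega
  have hww : τ * τ = 1 := h.tau_mul_self
  have hJw : Commute J τ := h.commute_central_tau
  have hJw1 : J * τ ≠ 1 := fun e =>
    h.central_ne_tau (by rw [← hJdef, eq_inv_of_mul_eq_one_left e, inv_eq_of_mul_eq_one_left hww])
  have hJwo : orderOf (J * τ) = 2 := by
    refine orderOf_eq_prime ?_ hJw1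
    rw [pow_two, mul_assoc, ← mul_assoc τ J, ← hJw.eq, mul_assoc, hww, mul_one, hJJ]
  have hdeg := charDeg_spec' ξ
  rw [h3] at hdeg
  obtain ⟨d, ρ, hρ⟩ := irr_isChar ξ
  set E : (Fin d → ℂ) →ₗ[ℂ] (Fin d → ℂ) := ρ 1 + ρ J + ρ τ + ρ (J * τ) with hE
  have hEE : E * E = (4 : ℂ) • E := by
    have h1 : ρ J * E = E := by
      simp only [hE, mul_add, ← map_mul, mul_one, hJJ, ← mul_assoc, one_mul]
      abel
    have h2 : ρ τ * E = E := by
      simp only [hE, mul_add, ← map_mul, mul_one, hww, ← mul_assoc, one_mul, ← hJw.eq]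
      rw [mul_assoc, hww, mul_one]
      abel
    have hsplit : ∀ F, E * F = F + ρ J * F + ρ τ * F + ρ J * (ρ τ * F) := fun F => by
      rw [hE, add_mul, add_mul, add_mul, map_one, one_mul, map_mul, mul_assoc]
    calc E * E = E + ρ J * E + ρ τ * E + ρ J * (ρ τ * E) := hsplit E
      _ = (4 : ℂ) • E := by rw [h2, h1]; module
  have htr : ∀ g, LinearMap.trace ℂ _ (ρ g) = (ξ : G → ℂ) g := fun g => congrFun hρ g
  set Pr : (Fin d → ℂ) →ₗ[ℂ] (Fin d → ℂ) := (4 : ℂ)⁻¹ • E with hPr
  have hidem : IsIdempotentElem Pr := by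
    rw [IsIdempotentElem, hPr, smul_mul_smul_comm, hEE, smul_smul]
    norm_num
  have htrP := ((LinearMap.isProj_range_iff_isIdempotentElem Pr).2 hidem).trace
  have h4 : LinearMap.trace ℂ _ Pr = 0 := by
    simp only [hPr, hE, map_smul, map_add, htr, hg J hJ, hg τ h.orderτ, hg (J * τ) hJwo, hdeg, smul_eq_mul]
    norm_num
  rw [h4] at htrP
  have h0 : Module.finrank ℂ (LinearMap.range Pr) = 0 := by exact_mod_cast htrP.symm
  have hP0 : Pr = 0 := LinearMap.range_eq_bot.1 (Submodule.finrank_eq_zero.1 h0)
  rw [hPr] at hP0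
  have hE0 : E = 0 := (smul_eq_zero.1 hP0).resolve_left (by norm_num)
  have hm : LinearMap.trace ℂ _ (E * ρ y) = 0 := by rw [hE0, zero_mul, map_zero]
  rw [hE, add_mul, add_mul, add_mul, ← map_mul, ← map_mul, ← map_mul, ← map_mul, one_mul, map_add, map_add,
    map_add, htr, htr, htr, htr, hy J (left_mem_four _ _) hJ1, hy τ (right_mem_four _ _) h.tau_ne_one,
    hy (J * τ) (mul_mem (left_mem_four _ _) (right_mem_four _ _)) hJw1] at hm
  linear_combination hm

end Hyp

end Cfsg.Agent.Invol.GW.Dihedral
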