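import Cfsg.Agent.Lib.Invol.GW.Dihedral.TwistedSep
import Cfsg.Agent.Lib.Invol.GW.Dihedral.TwistedCore
import Cfsg.Agent.Lib.Invol.GW.Dihedral.TwistedDegree
import Cfsg.Agent.Lib.Invol.GW.Dihedral.TwistedArith

/-!
# Gorenstein–Walter, dihedral case: a twisted linear character forces `x = 9`

`σ` centralises the core; `φ` is a linear character of the core fixed by the reflection, nontrivial on `R` and
fixed by the fusion of the four group.  Then `5 (x - δ)² ≤ 4 x (x + δ)`, so `x = 9`, `δ = 1`, `n = 3`, `Θ(1) = 1`.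
-/

set_option autoImplicit false
set_option linter.unusedSectionVars false
set_option linter.style.haveILetI false

open scoped ComplexConjugate

namespace Cfsg.Agent.Invol.GW.Dihedral

open Subgroup Klein Block

universe u

variable {G : Type u} [Group G] [Finite G] {S : Sylow 2 G} {σ τ : G} {n : ℕ}

namespace Hyp

variable (h : Hyp S σ τ n) (hσU : ∀ u ∈ coreCent (central σ n), Commute σ u)
include h hσU

theorem sum_range_sym {r : ℕ} (f : ℕ → ℂ) (c : ℕ → ℂ) (hr : Odd r) (hc : c 0 = 0)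
    (hsym : ∀ j, 0 < j → j ≤ r → c (2 * (r + 1) - j) = c j) (hf : ∀ k, f k = c k * (-1 : ℂ) ^ k) :
    ∑ k ∈ Finset.range (2 * (r + 1)), f k =
      2 * ∑ j ∈ Finset.range r, (-1 : ℂ) ^ (j + 1) * c (j + 1) + c (r + 1) := by
  rw [two_mul (r + 1), Finset.sum_range_add, Finset.sum_range_succ', Finset.sum_range_succ']
  have he : Even (r + 1) := hr.add_one
  rw [← Finset.sum_range_reflect (fun k => f (r + 1 + (k + 1))) r,
    Finset.sum_congr rfl (s₁ := Finset.range r) (g := fun j => (-1 : ℂ) ^ (j + 1) * c (j + 1))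
      (f := fun k => f (k + 1)) fun j _ => by rw [hf]; ring,
    Finset.sum_congr rfl (g := fun j => (-1 : ℂ) ^ (j + 1) * c (j + 1))
      (f := fun k => f (r + 1 + (r - 1 - k + 1))) fun j hj => by
        have hj' := Finset.mem_range.1 hj
        rw [show r + 1 + (r - 1 - j + 1) = 2 * (r + 1) - (j + 1) by omega, hf,
          hsym (j + 1) (by omega) (by omega), mul_comm]
        congr 1
        refine mul_right_cancel₀ (pow_ne_zero (j + 1) (neg_ne_zero.2 (one_ne_zero (α := ℂ)))) ?_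
        rw [← pow_add, Nat.sub_add_cancel (by omega), (even_two_mul (r + 1)).neg_one_pow, ← pow_add,
          (Even.add_self (j + 1)).neg_one_pow]]
  rw [hf 0, hc, hf (r + 1 + 0), add_zero, he.neg_one_pow]
  ring

set_option maxHeartbeats 800000 in
/-- The twisted block. -/
theorem twisted (P : Principal S σ τ n) (φ : ↥(coreCent (central σ n)) →* ℂˣ)
    (hφ : ∀ v, φ (h.act v) = φ v)
    (hne : ∃ y : coreCent (central σ n), (y : G) ∈ fixR (central σ n) τ ∧ φ y ≠ 1)
    (hfus : ∀ w : G, (w = τ ∨ w = central σ n * τ) → ∃ g : G, g * w * g⁻¹ = central σ n ∧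
      ∀ y : coreCent (central σ n), (y : G) ∈ fixR (central σ n) τ →
        ∃ hm : g * (y : G) * g⁻¹ ∈ coreCent (central σ n), φ ⟨_, hm⟩ = φ y) :
    5 * ((P.x : ℤ) - P.δ) ^ 2 ≤ 4 * ((P.x : ℤ) * ((P.x : ℤ) + P.δ)) ∧
      P.x = 9 ∧ P.δ = 1 ∧ n = 3 ∧ P.Θ = 1 := by
  classical
  cases nonempty_fintype G
  cases nonempty_fintype ↥(coreCent (central σ n))
  obtain ⟨M, hM⟩ := Cfsg.Agent.Char.exists_isPModular 2 Nat.prime_two
  obtain ⟨hr0, -⟩ := h.half_pos
  obtain ⟨r, hr⟩ : ∃ r, r = 2 ^ (n - 2) - 1 := ⟨_, rfl⟩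
  have hq : 2 ^ (n - 2) = r + 1 := by rw [hr, h.exp_eq]
  have hmr : 2 ^ (n - 1) = 2 * (r + 1) := by rw [hr]; exact h.two_pow_eq
  have hrodd : Odd r := by
    have h2 : Even (2 ^ (n - 2)) := h.even_half
    rw [hq, Nat.even_add_one, Nat.not_even_iff_odd] at h2
    exact h2
  have hm4 := h.four_le
  have hζ : IsPrimitiveRoot (Complex.exp (2 * Real.pi * Complex.I / (2 ^ (n - 1) : ℕ))) (2 ^ (n - 1)) :=
    Complex.isPrimitiveRoot_exp _ (by omega)
  generalize Complex.exp (2 * Real.pi * Complex.I / (2 ^ (n - 1) : ℕ)) = ζ at hζ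
  set μ : IrrCharacter ↥(coreCent (central σ n)) := ⟨fun v => (φ v : ℂ), Char.isIrr_linear φ⟩ with hμ
  have hμv : (μ : coreCent (central σ n) → ℂ) = fun v => (φ v : ℂ) := rfl
  have hμfix : h.twist (μ : coreCent (central σ n) → ℂ) = μ := funext fun v => by
    show ((φ (h.act v) : ℂˣ) : ℂ) = _
    rw [hφ]
  set D : IrrCharacter G → ℕ → ℂ := fun ξ k =>
    coeff σ n ζ (μ : coreCent (central σ n) → ℂ) (ξ : G → ℂ) k with hD
  have hint : ∀ ξ k, k ≤ 2 ^ (n - 1) → ∃ z : ℤ, D ξ k = z := fun ξ k hk =>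
    h.coeff_int hσU hζ (Char.IsIrr.isCharacter μ.2) ξ hk
  choose Z hZ using hint
  have hgram : ∀ k k', 0 < k → k < 2 ^ (n - 1) → 0 < k' → k' < 2 ^ (n - 1) →
      ∑ ξ : IrrCharacter G, D ξ k * conj (D ξ k') =
        ((if k = k' then 1 else 0) + 1) + ((if k + k' = 2 ^ (n - 1) then 1 else 0) + 1) := fun k k' a b c d => by
    have e := h.coeff_gram hσU hζ μ μ a b c d
    simp only [hμfix, if_true, one_mul] at e
    exact e
  have hreal : ∀ ξ k, k ≤ 2 ^ (n - 1) → conj (D ξ k) = D ξ k := fun ξ k hk => by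
    rw [hZ ξ k hk, map_intCast]
  -- symmetry
  have hsym : ∀ ξ j, 0 < j → j ≤ r → D ξ (2 * (r + 1) - j) = D ξ j := by
    intro ξ j hj0 hjr
    set k := 2 * (r + 1) - j with hk
    have hk0 : 0 < k := by omega
    have hkm : k < 2 ^ (n - 1) := by omega
    have hjm : j < 2 ^ (n - 1) := by omega
    have e : ∑ η : IrrCharacter G, (Z η k hkm.le - Z η j hjm.le) * (Z η k hkm.le - Z η j hjm.le) = (0 : ℤ) := by
      apply Int.cast_injective (α := ℂ)
      push_cast
      simp only [← hZ]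
      rw [Finset.sum_congr rfl (g := fun η => D η k * conj (D η k) - D η k * conj (D η j) -
        D η j * conj (D η k) + D η j * conj (D η j)) fun η _ => by
          rw [hreal η k hkm.le, hreal η j hjm.le]; ring]
      rw [Finset.sum_add_distrib, Finset.sum_sub_distrib, Finset.sum_sub_distrib, hgram k k hk0 hkm hk0 hkm,
        hgram k j hk0 hkm hj0 hjm, hgram j k hj0 hjm hk0 hkm, hgram j j hj0 hjm hj0 hjm,
        if_pos rfl, if_pos rfl, if_neg (show k ≠ j by omega), if_neg (show j ≠ k by omega),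
        if_neg (show ¬ k + k = 2 ^ (n - 1) by omega), if_neg (show ¬ j + j = 2 ^ (n - 1) by omega),
        if_pos (show k + j = 2 ^ (n - 1) by omega), if_pos (show j + k = 2 ^ (n - 1) by omega)]
      ring
    have h0 := (Finset.sum_eq_zero_iff_of_nonneg fun η _ => mul_self_nonneg _).1 e ξ (Finset.mem_univ _)
    rw [hZ ξ k hkm.le, hZ ξ j hjm.le, sub_eq_zero.1 (mul_self_eq_zero.1 h0)]
  set A : Fin r → IrrCharacter G → ℤ := fun j ξ => Z ξ ((j : ℕ) + 1) (by omega) with hA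
  set E : IrrCharacter G → ℤ := fun ξ => Z ξ (r + 1) (by omega) with hE
  set gv : IrrCharacter G → ℤ := fun ξ => 2 * TwistedCore.alt A ξ + E ξ with hgv
  have hproj : ∀ ξ : IrrCharacter G,
      proj (coreCent (central σ n)) (fun v => (φ v : ℂ)) (ξ : G → ℂ) (central σ n) = (gv ξ : ℂ) := fun ξ => by
    rw [← h.proj_central hσU hζ, hmr,
      h.sum_range_sym hσU (fun k => D ξ k * (-1 : ℂ) ^ k) (D ξ) hrodd (Fourier.coef_zero hζ _) (hsym ξ)
        fun _ => rfl, ← Fin.sum_univ_eq_sum_range]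
    simp only [hgv, TwistedCore.alt, hA, hE]
    push_cast
    simp only [← hZ]
  have hodd : ∀ ξ : IrrCharacter G, ∑ i ∈ Finset.range (r + 1),
      proj (coreCent (central σ n)) (fun v => (φ v : ℂ)) (ξ : G → ℂ) (σ ^ (2 * i + 1)) =
        -((r + 1 : ℕ) : ℂ) * (E ξ : ℂ) := fun ξ => by
    rw [Fourier.odd_sum hζ hmr (by omega)
      (fun l => proj (coreCent (central σ n)) (fun v => (φ v : ℂ)) (ξ : G → ℂ) (σ ^ l))]
    simp only [hE, ← hZ]
    rfl
  -- the value at the central involution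
  have hcentral : ∀ (ξ : IrrCharacter G), (gv ξ ≠ 0 ∨ E ξ ≠ 0) → ∀ v : coreCent (central σ n),
      (ξ : G → ℂ) ((v : G) * central σ n) = (gv ξ : ℂ) * (φ v : ℂ) := by
    intro ξ hξ v
    rcases hξ with hξ | hξ
    · rw [← hproj ξ]
      refine h.separated hσU hM hφ ξ h.half_lt.1 h.half_lt.2 ?_ v
      show proj _ _ _ (central σ n) ≠ 0
      rw [hproj]
      exact_mod_cast hξ
    · obtain ⟨i, hi, hne'⟩ : ∃ i ∈ Finset.range (r + 1),
          proj (coreCent (central σ n)) (fun v => (φ v : ℂ)) (ξ : G → ℂ) (σ ^ (2 * i + 1)) ≠ 0 := by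
        by_contra hno
        push Not at hno
        have e := hodd ξ
        rw [Finset.sum_eq_zero hno, eq_comm, mul_eq_zero, neg_eq_zero, Nat.cast_eq_zero] at e
        rcases e with e | e
        · omega
        · exact hξ (by exact_mod_cast e)
      rw [← hproj ξ]
      exact h.separated hσU hM hφ ξ (l := 2 * i + 1) (by omega)
        (by have := Finset.mem_range.1 hi; omega) hne' v
  have hval1 : ∀ (ξ : IrrCharacter G), (gv ξ ≠ 0 ∨ E ξ ≠ 0) → (ξ : G → ℂ) (central σ n) = (gv ξ : ℂ) :=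
    fun ξ hξ => by simpa using hcentral ξ hξ 1
  set d : IrrCharacter G → ℕ := fun ξ => charDegree (ξ : G → ℂ) with hd
  -- the two identities
  set c₀ : ℚ := ((P.x : ℚ) - P.δ) ^ 2 / ((P.x : ℚ) * ((P.x : ℚ) + P.δ)) with hc₀
  have hc₀C : ((c₀ : ℚ) : ℂ) = ((P.x : ℂ) - P.δ) ^ 2 / ((P.x : ℂ) * ((P.x : ℂ) + P.δ)) := by
    simp [hc₀]
  have hid1 : ∑ ξ : IrrCharacter G, ((gv ξ : ℚ)) ^ 3 / (d ξ : ℚ) = c₀ := by
    apply Rat.cast_injective (α := ℂ)
    rw [hc₀C, ← h.pair_identity hσU P hM hφ (d := 2 ^ (n - 2)) (.inl rfl), Rat.cast_sum]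
    refine Finset.sum_congr rfl fun ξ _ => ?_
    rw [show σ ^ 2 ^ (n - 2) = central σ n from rfl, hproj, charDeg_spec' ξ]
    push_cast
    by_cases hg : gv ξ = 0
    · simp [hg]
    · rw [hval1 ξ (.inl hg)]
      ring
  have hid2 : ∑ ξ : IrrCharacter G, ((gv ξ : ℚ)) ^ 2 * (E ξ : ℚ) / (d ξ : ℚ) = -c₀ := by
    apply Rat.cast_injective (α := ℂ)
    rw [Rat.cast_neg, hc₀C, Rat.cast_sum]
    have e : ∑ i ∈ Finset.range (r + 1), ∑ ξ : IrrCharacter G,
        (ξ : G → ℂ) (central σ n) ^ 2 / (ξ : G → ℂ) 1 *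
          proj (coreCent (central σ n)) (fun v => (φ v : ℂ)) (ξ : G → ℂ) (σ ^ (2 * i + 1)) =
        ∑ i ∈ Finset.range (r + 1), ((P.x : ℂ) - P.δ) ^ 2 / ((P.x : ℂ) * ((P.x : ℂ) + P.δ)) :=
      Finset.sum_congr rfl fun i hi => h.pair_identity hσU P hM hφ
        (.inr ⟨odd_two_mul_add_one i, by have := Finset.mem_range.1 hi; omega⟩)
    rw [Finset.sum_comm, Finset.sum_const, Finset.card_range, nsmul_eq_mul] at e
    simp only [← Finset.mul_sum, hodd] at e
    have hr1 : ((r + 1 : ℕ) : ℂ) ≠ 0 := Nat.cast_ne_zero.2 (by omega)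
    refine mul_left_cancel₀ (neg_ne_zero.2 hr1) ?_
    rw [neg_mul_neg, ← e, Finset.mul_sum]
    refine Finset.sum_congr rfl fun ξ _ => ?_
    push_cast
    rw [charDeg_spec' ξ]
    by_cases hg : E ξ = 0
    · simp [hg]
    · rw [hval1 ξ (.inr hg)]
      ring
  have hH : ∑ ξ : IrrCharacter G,
      ((2 * TwistedCore.alt A ξ + E ξ : ℤ) : ℚ) ^ 2 * ((TwistedCore.alt A ξ : ℤ) : ℚ) / (d ξ : ℚ) = c₀ := by
    have e : ∑ ξ : IrrCharacter G, (((gv ξ : ℚ)) ^ 3 / (d ξ : ℚ) - (gv ξ : ℚ) ^ 2 * (E ξ : ℚ) / (d ξ : ℚ)) =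
        c₀ - -c₀ := by rw [Finset.sum_sub_distrib, hid1, hid2]
    rw [Finset.sum_congr rfl (g := fun ξ => 2 * (((2 * TwistedCore.alt A ξ + E ξ : ℤ) : ℚ) ^ 2 *
      ((TwistedCore.alt A ξ : ℤ) : ℚ) / (d ξ : ℚ))) fun ξ _ => by
        simp only [hgv]; push_cast; ring, ← Finset.mul_sum] at e
    linarith
  have heq : ∑ ξ : IrrCharacter G, ((2 * TwistedCore.alt A ξ + E ξ : ℤ) : ℚ) ^ 2 *
      ((TwistedCore.alt A ξ + E ξ : ℤ) : ℚ) / (d ξ : ℚ) = 0 := by
    rw [Finset.sum_congr rfl (g := fun ξ => ((2 * TwistedCore.alt A ξ + E ξ : ℤ) : ℚ) ^ 2 *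
      ((TwistedCore.alt A ξ : ℤ) : ℚ) / (d ξ : ℚ) + (gv ξ : ℚ) ^ 2 * (E ξ : ℚ) / (d ξ : ℚ)) fun ξ _ => by
        simp only [hgv]; push_cast; ring, Finset.sum_add_distrib, hH, hid2]
    ring
  -- the vectors
  have hgi : ∀ k k' (hk : k < 2 ^ (n - 1)) (hk' : k' < 2 ^ (n - 1)), 0 < k → 0 < k' →
      ∑ ξ : IrrCharacter G, Z ξ k hk.le * Z ξ k' hk'.le =
        (if k = k' then 1 else 0) + (if k + k' = 2 ^ (n - 1) then 1 else 0) + 2 := fun k k' hk hk' a b => by
    apply Int.cast_injective (α := ℂ)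
    push_cast
    simp only [← hZ]
    rw [Finset.sum_congr rfl (g := fun ξ => D ξ k * conj (D ξ k')) fun ξ _ => by rw [hreal ξ k' hk'.le],
      hgram k k' a hk b hk']
    ring
  have hdeg : ∀ k (hk : k < 2 ^ (n - 1)), ∑ ξ : IrrCharacter G, (d ξ : ℤ) * Z ξ k hk.le = 0 := fun k hk => by
    apply Int.cast_injective (α := ℂ)
    push_cast
    rw [← h.coeff_degree hσU ζ (μ : coreCent (central σ n) → ℂ) k]
    exact Finset.sum_congr rfl fun ξ _ => by rw [← hZ ξ k hk.le, charDeg_spec' ξ, mul_comm]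
  obtain ⟨a, b, c, a', b', -, -, -, hda, hdb, hga, hgb, hdc, hgc, hsum⟩ :=
    TwistedCore.core hrodd Finset.univ A E d (fun ξ => charDeg_pos ξ)
      (fun j k => by
        have e := hgi ((j : ℕ) + 1) ((k : ℕ) + 1) (by omega) (by omega) (by omega) (by omega)
        rw [if_neg (show ¬ (j : ℕ) + 1 + ((k : ℕ) + 1) = 2 ^ (n - 1) by omega), add_zero,
          if_congr (show (j : ℕ) + 1 = (k : ℕ) + 1 ↔ j = k by rw [Fin.ext_iff]; omega) rfl rfl] at e
        exact e)
      (fun j => by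
        have e := hgi ((j : ℕ) + 1) (r + 1) (by omega) (by omega) (by omega) (by omega)
        rw [if_neg (show ¬ (j : ℕ) + 1 = r + 1 by omega),
          if_neg (show ¬ (j : ℕ) + 1 + (r + 1) = 2 ^ (n - 1) by omega)] at e
        exact e)
      (by
        have e := hgi (r + 1) (r + 1) (by omega) (by omega) (by omega) (by omega)
        rw [if_pos rfl, if_pos (show r + 1 + (r + 1) = 2 ^ (n - 1) by omega)] at e
        exact e)
      (fun j => hdeg _ (by omega)) (hdeg _ (by omega)) heq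
  rw [hH] at hsum
  -- properties of the three characters
  have hJ := h.orderOf_central
  have hnt : ∀ ξ : IrrCharacter G, gv ξ ≠ 0 → (ξ : G → ℂ) ≠ fun _ => 1 := fun ξ hg e => by
    obtain ⟨y, -, hy⟩ := hne
    refine hg (Int.cast_injective (α := ℂ) ?_)
    rw [← hproj, proj, Int.cast_zero]
    simp only [e]
    exact Char.classInner_irr_ne Char.isIrr_one μ.2 fun e' => hy (Units.ext (congrFun e' y).symm)
  have hinv : ∀ ξ : IrrCharacter G, gv ξ ≠ 0 → ∀ z : G, orderOf z = 2 → (ξ : G → ℂ) z = (gv ξ : ℂ) :=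
    fun ξ hg z hz => by
      rw [← hval1 ξ (.inl hg)]
      exact (Char.IsClass.eq_of_isConj (irr_classFun ξ) (h.one_central z hz)).symm
  have hside : ∀ (ξ : IrrCharacter G) (s : ℤ), s.natAbs = d ξ → gv ξ = -Int.sign s → s % 4 = 3 ∧ 5 ≤ |s| := by
    intro ξ s hs hg
    have hpos : 0 < d ξ := charDeg_pos ξ
    have hs0 : s ≠ 0 := fun e => by rw [e, Int.natAbs_zero] at hs; omega
    obtain ⟨hsign, habs⟩ : (Int.sign s = 1 ∨ Int.sign s = -1) ∧ s = Int.sign s * (d ξ : ℤ) := by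
      refine ⟨?_, by rw [← hs]; exact (Int.sign_mul_natAbs s).symm⟩
      rcases lt_or_gt_of_ne hs0 with hl | hl
      · exact .inr (Int.sign_eq_neg_one_of_neg hl)
      · exact .inl (Int.sign_eq_one_of_pos hl)
    have hg0 : gv ξ ≠ 0 := by rw [hg]; rcases hsign with e | e <;> rw [e] <;> norm_num
    have h4 := h.four_dvd_of_const ξ (hinv ξ hg0)
    rw [hg, show charDegree (ξ : G → ℂ) = d ξ from rfl] at h4
    have hmod : s % 4 = 3 := by
      rcases hsign with e | e <;> rw [e] at h4 habs <;> omega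
    refine ⟨hmod, ?_⟩
    rw [← Int.natCast_natAbs, hs]
    have h1 : d ξ ≠ 1 := h.degree_ne_one ξ (hnt ξ hg0)
    have h3 : d ξ ≠ 3 := fun e3 => by
      have hneg : gv ξ = -1 := by
        rcases hsign with e | e <;> rw [e] at habs hg h4 <;> omega
      obtain ⟨y, hyR, hy⟩ := hne
      have hyc : (y : G) ∈ coreCent (central σ n) := y.2
      have hz : ∀ z ∈ four (central σ n) τ, z ≠ 1 → (ξ : G → ℂ) (z * y) = -((φ y : ℂˣ) : ℂ) := by
        intro z hz hz1
        have hcase : z = central σ n ∨ (z = τ ∨ z = central σ n * τ) :=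
          (h.mem_four_tau.1 hz).resolve_left hz1
        rcases hcase with e | e
        · rw [e, ← (h.commute_core hyc).eq, hcentral ξ (.inl hg0) y, hneg]
          push_cast
          ring
        · obtain ⟨g, hg1, hg2⟩ := hfus z e
          obtain ⟨hm, hm'⟩ := hg2 y hyR
          rw [← irr_classFun ξ (z * y) g, show g * (z * (y : G)) * g⁻¹ = (g * z * g⁻¹) * (g * y * g⁻¹) by group,
            hg1, ← (h.commute_core hm).eq]
          have := hcentral ξ (.inl hg0) ⟨_, hm⟩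
          rw [hm', hneg] at this
          rw [this]
          push_cast
          ring
      have h3v := h.value_three ξ e3 (fun z hz' => by rw [hinv ξ hg0 z hz', hneg]; norm_num) hz
      have hy1 := h.eq_one_of_norm ξ (hnt ξ hg0) (x := (y : G)) (by
        rw [h3v, norm_mul, show charDegree (ξ : G → ℂ) = 3 from e3,
          show ‖((φ y : ℂˣ) : ℂ)‖ = 1 from
            Complex.norm_eq_one_of_pow_eq_one (n := Nat.card ↥(coreCent (central σ n)))
              (by rw [← Units.val_pow_eq_pow_val, ← map_pow, pow_card_eq_one', map_one, Units.val_one])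
              Nat.card_pos.ne']
        norm_num)
      exact hy (by rw [show y = 1 from Subtype.ext hy1, map_one])
    have : (d ξ : ℤ) % 2 = 1 := by rcases hsign with e | e <;> rw [e] at habs <;> omega
    omega
  obtain ⟨ha4, ha5⟩ := hside a a' hda (by simp only [hgv]; exact hga)
  obtain ⟨hb4, hb5⟩ := hside b b' hdb (by simp only [hgv]; exact hgb)
  have hgc0 : gv c ≠ 0 := by simp only [hgv]; rcases hgc with e | e <;> rw [e] <;> norm_num
  have hc2 : d c ≠ 2 := fun e2 => by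
    have h1 := h.eq_one_of_norm c (hnt c hgc0) (x := central σ n) (by
      rw [hinv c hgc0 _ hJ, show charDegree (c : G → ℂ) = 2 from e2]
      simp only [hgv]
      rcases hgc with e | e <;> rw [e] <;> norm_num)
    rw [h1, orderOf_one] at hJ
    omega
  have hs6 : 6 ≤ |a' + b'| := by
    have hpos : 0 < d c := charDeg_pos c
    rw [← Int.natCast_natAbs, hdc]
    omega
  have hxd : (P.x : ℚ) * ((P.x : ℚ) + P.δ) ≠ 0 := by
    have h1 := P.add_pos h
    have h2 : (0 : ℚ) < ((P.x : ℚ) + P.δ) := by exact_mod_cast h1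
    have h3 : (0 : ℚ) < (P.x : ℚ) := by exact_mod_cast P.x_pos
    positivity
  have hprod : (a' : ℚ) * b' * ((a' : ℚ) + b') ≠ 0 := by
    refine mul_ne_zero (mul_ne_zero ?_ ?_) ?_
    · exact Int.cast_ne_zero.2 (by omega)
    · exact Int.cast_ne_zero.2 (by omega)
    · rw [← Int.cast_add]
      refine Int.cast_ne_zero.2 fun e => ?_
      rw [e] at hs6
      norm_num at hs6
  have e : ((P.x : ℤ) - P.δ) ^ 2 * -(a' * b' * (a' + b')) = (a' - b') ^ 2 * ((P.x : ℤ) * ((P.x : ℤ) + P.δ)) := by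
    apply Int.cast_injective (α := ℚ)
    rw [hc₀, div_eq_div_iff hxd hprod] at hsum
    push_cast
    linear_combination -hsum
  obtain ⟨h5, hx9, hδ, hn, hΘ⟩ := TwistedArith.final h.three P.theta_pos P.delta P.two_pow_theta ha4 hb4 ha5 hb5 hs6 e
  exact ⟨h5, by exact_mod_cast hx9, hδ, hn, hΘ⟩

end Hyp

end Cfsg.Agent.Invol.GW.Dihedral
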