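import Cfsg.Agent.Lib.Invol.GW.Dihedral.CoreSplit
import Cfsg.Agent.Lib.Invol.GW.Dihedral.Twisted
import Cfsg.Agent.Lib.Invol.GW.Dihedral.Leaf
import Cfsg.Agent.Lib.Invol.GW.Klein.End

/-!
# Gorenstein–Walter, dihedral, the end of the maximal centraliser case

The twisted block theorem kills `R`, so `U` is inverted by the reflections and centralised by `σ`; every subgroup
of `U` is then normal in `C(t)` and the group is `PSL₂(q)`.
-/

set_option autoImplicit false
set_option linter.unusedSectionVars false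
set_option linter.style.haveILetI false

namespace Cfsg.Agent.Invol.GW.Dihedral

open Subgroup Klein
open scoped commutatorElement

universe u

variable {G : Type u} [Group G] [Finite G] {S : Sylow 2 G} {σ τ : G} {n : ℕ}

namespace Hyp

variable (h : Hyp S σ τ n) (hσU : ∀ x ∈ coreCent (central σ n), Commute σ x)
include h hσU

theorem commute_sylow_fixR {s y : G} (hs : s ∈ (S : Subgroup G)) (hy : y ∈ fixR (central σ n) τ) :
    Commute s y := by
  by_cases hrot : s ∈ zpowers σ
  · exact h.commute_rotation hσU hrot (h.mem_fixR.1 hy).1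
  · obtain ⟨i, rfl⟩ := h.exists_rotation_mul_tau hs hrot
    exact (h.commute_rotation hσU (zpow_mem (mem_zpowers σ) i) (h.mem_fixR.1 hy).1).mul_left
      (h.mem_fixR.1 hy).2.symm

theorem exists_to_central (w : G) (hw : w = τ ∨ w = central σ n * τ) :
    ∃ g : G, g * w * g⁻¹ = central σ n ∧ ∀ y ∈ fixR (central σ n) τ, Commute g y := by
  obtain ⟨g, -, hgt, hgu⟩ := h.exists_fuse
  obtain ⟨q, hqS, -, hq⟩ := h.exists_quarter
  have hqτ : q * τ * q⁻¹ = central σ n * τ := hq τ h.hτ h.tau_notMem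
  have hqu : q * (central σ n * τ) * q⁻¹ = τ := by
    rw [show q * (central σ n * τ) * q⁻¹ = q * central σ n * q⁻¹ * (q * τ * q⁻¹) by group, hqτ,
      ← (h.central_commute hqS).eq, mul_inv_cancel_right, ← mul_assoc, h.central_mul_self, one_mul]
  have hgn := h.normalizer_four_le_normalizer_fixR (h.fuse_mem_normalizer hgt hgu)
  set q' := g * q * g⁻¹ with hq'def
  have hgb : g * (central σ n * τ) * g⁻¹ = central σ n := by
    rw [show g * (central σ n * τ) * g⁻¹ = g * central σ n * g⁻¹ * (g * τ * g⁻¹) by group, hgt, hgu,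
      ← mul_assoc, ← h.commute_central_tau.eq, mul_assoc, h.tau_mul_self, mul_one]
  have hq'u : q' * (central σ n * τ) * q'⁻¹ = central σ n := by
    have e1 : g⁻¹ * (central σ n * τ) * g = τ := by rw [← hgu]; group
    calc q' * (central σ n * τ) * q'⁻¹ = g * (q * (g⁻¹ * (central σ n * τ) * g) * q⁻¹) * g⁻¹ := by
          rw [hq'def]; group
      _ = central σ n := by rw [e1, hqτ, hgb]
  have hq'R : ∀ y ∈ fixR (central σ n) τ, Commute q' y := by
    intro y hy
    have hy' : g⁻¹ * y * g⁻¹⁻¹ ∈ fixR (central σ n) τ := (mem_normalizer_iff.1 (inv_mem hgn) y).1 hy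
    have := (h.commute_sylow_fixR hσU hqS hy').conj g
    rwa [← hq'def, show g * (g⁻¹ * y * g⁻¹⁻¹) * g⁻¹ = y by group] at this
  rcases hw with rfl | rfl
  · refine ⟨q' * q, ?_, fun y hy => (hq'R y hy).mul_left (h.commute_sylow_fixR hσU hqS hy)⟩
    rw [show q' * q * w * (q' * q)⁻¹ = q' * (q * w * q⁻¹) * q'⁻¹ by group, hqτ, hq'u]
  · exact ⟨q', hq'u, hq'R⟩

omit hσU

variable (hC : IsCoatom (centralizer ({central σ n} : Set G)))
  (hI : ⁅coreCent (central σ n), zpowers τ⁆ ⊓ fixR (central σ n) τ = ⊥)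
include hσU hC hI

theorem fixR_eq_bot_of_split : fixR (central σ n) τ = ⊥ := by
  by_contra hR
  obtain ⟨φ, hφN, r, hr, hr1⟩ := h.exists_linear_of_inf hI hR
  obtain ⟨P⟩ := h.exists_principal
  obtain ⟨-, -, -, -, hΘ⟩ := h.twisted hσU P φ (fun v => h.linear_fixed hφN v (h.act v) (h.act_val v))
    ⟨r, hr, hr1⟩ fun w hw => by
      obtain ⟨g, hg, hgc⟩ := h.exists_to_central hσU w hw
      refine ⟨g, hg, fun y hy => ?_⟩
      have e : g * (y : G) * g⁻¹ = y := by rw [(hgc _ hy).eq, mul_inv_cancel_right]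
      exact ⟨by rw [e]; exact y.2, congrArg φ (Subtype.ext e)⟩
  haveI := P.isMulCommutative_of_le_two h (by omega)
  have hn : centralizer ({central σ n} : Set G) ≤ normalizer (fixR (central σ n) τ : Set G) := by
    intro x hx
    obtain ⟨a, ha, b, hb, rfl⟩ := h.exists_mul hx
    refine mul_mem (mem_normalizer_fintype fun y hy => ?_) (mem_normalizer_fintype fun y hy => ?_)
    · have hc : Commute a y := congrArg Subtype.val
        (IsMulCommutative.is_comm.comm (⟨a, ha⟩ : ↥(coreCent (central σ n))) ⟨y, (h.mem_fixR.1 hy).1⟩)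
      rwa [hc.eq, mul_inv_cancel_right]
    · rwa [(h.commute_sylow_fixR hσU hb hy).eq, mul_inv_cancel_right]
  obtain ⟨g, -, hgt, hgu⟩ := h.exists_fuse
  have hgn := h.normalizer_four_le_normalizer_fixR (h.fuse_mem_normalizer hgt hgu)
  rw [h.normalizer_eq hC (X := fixR (central σ n) τ) (inf_le_left.trans h.coreCent_le) hR hn,
    mem_centralizer_singleton_iff] at hgn
  exact h.central_ne_tau (by rw [← hgt, hgn, mul_inv_cancel_right])

theorem psl_of_split : IsPSLTwoOrSeven G := by
  haveI := h.simple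
  have hR := h.fixR_eq_bot_of_split hσU hC hI
  have hinv : ∀ x ∈ coreCent (central σ n), τ * x * τ⁻¹ = x⁻¹ := by
    intro x hx
    obtain ⟨a, -, e, he, hia, hc, rfl, -⟩ :=
      exists_inverted_mul h.odd_coreCent h.tau_mul_self h.tau_mem_normalizer_coreCent hx
    have he1 : e = 1 := mem_bot.1 (hR ▸ h.mem_fixR.2 ⟨he, hc⟩)
    rw [he1, mul_one]
    exact hia
  refine isPSL_of_psl h.not_isMulCommutative (psl_of_inverted S (2 ^ (n - 1))
    (Nat.one_lt_two_pow (by have := h.three; omega)) h.equiv (central σ n) h.orderOf_central h.central_mem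
    (fun s hs => (h.central_commute hs).eq.symm) (coreCent (central σ n)) rfl
    (fun w hw hw2 hwt x hx hwx => ?_) fun Y hY hY1 => ?_)
  · have hwσ : w ∉ zpowers σ := fun hm => hwt (h.eq_central hm
      (by rw [← pow_two, ← hw2, pow_orderOf_eq_one]) fun e => by rw [e, orderOf_one] at hw2; omega)
    obtain ⟨i, rfl⟩ := h.exists_rotation_mul_tau hw hwσ
    have hz := h.commute_rotation hσU (zpow_mem (mem_zpowers σ) i) hx
    have hxτ : Commute τ x := by
      have h1 := hz.inv_left.mul_left (show Commute (σ ^ i * τ) x from hwx)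
      rwa [inv_mul_cancel_left] at h1
    have := h.mem_fixR.2 ⟨hx, hxτ.symm⟩
    rwa [hR, mem_bot] at this
  · refine (h.normalizer_eq hC (hY.trans h.coreCent_le) hY1 fun x hx => ?_).le
    obtain ⟨a, ha, b, hb, rfl⟩ := h.exists_mul hx
    refine mul_mem (mem_normalizer_fintype fun y hy => ?_) (mem_normalizer_fintype fun y hy => ?_)
    · rwa [(commute_of_inverted hinv ha (hY hy)).eq, mul_inv_cancel_right]
    · by_cases hrot : b ∈ zpowers σ
      · rwa [(h.commute_rotation hσU hrot (hY hy)).eq, mul_inv_cancel_right]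
      · obtain ⟨i, rfl⟩ := h.exists_rotation_mul_tau hb hrot
        have hz := h.commute_rotation hσU (zpow_mem (mem_zpowers σ) i) (inv_mem (hY hy))
        rw [show σ ^ i * τ * y * (σ ^ i * τ)⁻¹ = σ ^ i * (τ * y * τ⁻¹) * (σ ^ i)⁻¹ by group, hinv y (hY hy),
          hz.eq, mul_inv_cancel_right]
        exact inv_mem hy

end Hyp

/-- The end of the maximal centraliser case. -/
theorem Hyp.psl_or_seven_of_end (h : Hyp S σ τ n) (hC : IsCoatom (centralizer ({central σ n} : Set G)))
    (hσY : ∀ p : ℕ, p.Prime → ∀ y ∈ opOf p (coreCent (central σ n)), Commute σ y)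
    (hNY : ∀ p : ℕ, p.Prime → ∀ g ∈ fixR (central σ n) τ ⊓ ⁅coreCent (central σ n), zpowers τ⁆,
      ∀ y ∈ opOf p (coreCent (central σ n)), Commute g y)
    (hZR : ∀ p : ℕ, p.Prime → ∀ z ∈ opOf p (coreCent (central σ n)) ⊓ fixR (central σ n) τ,
      (∀ y ∈ opOf p (coreCent (central σ n)), Commute z y) → z = 1) : IsPSLTwoOrSeven G :=
  h.psl_of_split (h.commute_sigma_of_opOf hσY) hC (h.commutator_inf_fixR hNY hZR)

end Cfsg.Agent.Invol.GW.Dihedral
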