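import Mathlib.GroupTheory.PGroup
import Mathlib.GroupTheory.IndexNormal
import Mathlib.GroupTheory.Index
import Mathlib.GroupTheory.GroupAction.Quotient
import Mathlib.GroupTheory.SpecificGroups.Cyclic
import Mathlib.Data.Fintype.BigOperators

/-!
# Fixed points of a `q`-group without orbits of length `q`
-/

set_option autoImplicit false

namespace Cfsg.Agent.Invol.GW

open MulAction

universe u v

/-- A subgroup of index `q` in a `q`-group contains every commutator. -/
theorem commutator_mem_of_index_prime {P : Type u} [Group P] [Finite P] {q : ℕ} [hq : Fact q.Prime]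
    (hP : IsPGroup q P) {H : Subgroup P} (hH : H.index = q) (a b : P) : a * b * a⁻¹ * b⁻¹ ∈ H := by
  obtain ⟨k, hk⟩ := IsPGroup.iff_card.1 hP
  have hk0 : k ≠ 0 := fun e => by
    have h1 := H.index_dvd_card
    rw [hk, hH, e, pow_zero, Nat.dvd_one] at h1
    exact hq.out.ne_one h1
  haveI : H.Normal := Subgroup.normal_of_index_eq_minFac_card (by rw [hH, hk, Nat.pow_minFac hk0, hq.out.minFac_eq])
  haveI : IsCyclic (P ⧸ H) := isCyclic_of_prime_card (p := q) (by rw [← Subgroup.index_eq_card, hH])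
  rw [← QuotientGroup.eq_one_iff]
  show QuotientGroup.mk' H (a * b * a⁻¹ * b⁻¹) = 1
  rw [map_mul, map_mul, map_mul, map_inv, map_inv,
    IsCyclic.isMulCommutative.is_comm.comm (QuotientGroup.mk' H a) (QuotientGroup.mk' H b), mul_inv_cancel_right,
    mul_inv_cancel]

/-- Without orbits of length `q`, a `q`-group has as many fixed points as points modulo `q²`. -/
theorem modEq_sq_of_no_orbit {P : Type u} [Group P] [Finite P] {α : Type v} [Finite α] [MulAction P α] {q : ℕ}
    [hq : Fact q.Prime] (hP : IsPGroup q P) (a₀ : α) (h0 : ∀ g : P, g • a₀ = a₀)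
    (hno : ∀ a : α, a ≠ a₀ → (stabilizer P a).index ≠ 1 ∧ (stabilizer P a).index ≠ q) :
    Nat.card α ≡ 1 [MOD q ^ 2] := by
  classical
  cases nonempty_fintype α
  cases nonempty_fintype (Quotient (orbitRel P α))
  rw [Nat.card_congr (selfEquivSigmaOrbitsQuotientStabilizer P α), Nat.card_sigma]
  set ω₀ : Quotient (orbitRel P α) := Quotient.mk'' a₀ with hω₀
  have hout : ω₀.out = a₀ := by
    obtain ⟨g, hg⟩ := Quotient.exact' (Quotient.out_eq' ω₀)
    rw [← hg]
    exact h0 g
  rw [← Finset.add_sum_erase _ _ (Finset.mem_univ ω₀)]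
  have h1 : Nat.card (P ⧸ stabilizer P ω₀.out) = 1 := by
    rw [← Subgroup.index_eq_card, Subgroup.index_eq_one, eq_top_iff]
    intro g _
    rw [mem_stabilizer_iff, hout, h0 g]
  rw [h1]
  have h2 : q ^ 2 ∣ ∑ ω ∈ Finset.univ.erase ω₀, Nat.card (P ⧸ stabilizer P ω.out) := by
    refine Finset.dvd_sum fun ω hω => ?_
    rw [← Subgroup.index_eq_card]
    have hne : ω.out ≠ a₀ := fun e => (Finset.mem_erase.1 hω).1 (by rw [hω₀, ← e]; exact (Quotient.out_eq' ω).symm)
    obtain ⟨j, hj⟩ := hP.index (stabilizer P ω.out)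
    obtain ⟨hn1, hnq⟩ := hno _ hne
    rw [hj] at hn1 hnq ⊢
    refine pow_dvd_pow q ?_
    by_contra hlt
    rcases (by omega : j = 0 ∨ j = 1) with rfl | rfl
    · exact hn1 (pow_zero q)
    · exact hnq (pow_one q)
  have h3 := (Nat.modEq_zero_iff_dvd.2 h2).add_left 1
  rwa [Nat.add_zero] at h3

end Cfsg.Agent.Invol.GW
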