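import Cfsg.Agent.Lib.Invol.GW.Dihedral.CaseShapeOne
import Cfsg.Agent.Lib.Invol.GW.Dihedral.Line
import Cfsg.Agent.Lib.Invol.GW.Dihedral.Coord
import Cfsg.Agent.Lib.Invol.GW.Dihedral.OrbitSquare
import Cfsg.Agent.Lib.Invol.EssNormal.Tools

/-!
# Gorenstein–Walter, dihedral: the shape (iii)

When two elements of order `q` of the second centre of `Y = O_q(U)` do not commute, the group `W` of these elements
is extraspecial of order `q³`: a frame over `Ω₁Z(Y) = ⟨y⟩` with a fixed `z` and an inverted `x`.  Moreover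
`C(y) ≤ C(t)`, so the index of `C(t)` is `1` modulo `q²`.
-/

set_option autoImplicit false
set_option linter.unusedSectionVars false
set_option linter.style.haveILetI false

namespace Cfsg.Agent.Invol.GW.Dihedral

open Subgroup Klein
open scoped Pointwise commutatorElement

universe u

variable {G : Type u} [Group G]

/-- The elements of order dividing `q` whose commutators with `Y` are central in `Y`. -/
def secondZ (q : ℕ) (Y : Subgroup G) : Set G :=
  {a | a ∈ Y ∧ a ^ q = 1 ∧ ∀ y ∈ Y, ∀ w ∈ Y, Commute (a * y * a⁻¹ * y⁻¹) w}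

/-- A commutator of elements of order dividing `q` that commutes with both has order dividing `q`. -/
theorem comm_pow_eq_one {q : ℕ} {a b : G} (hcb : Commute (a * b * a⁻¹ * b⁻¹) b) (hb : b ^ q = 1) :
    (a * b * a⁻¹ * b⁻¹) ^ q = 1 := by
  have h1 : (a * b * a⁻¹) ^ q = (a * b * a⁻¹ * b⁻¹) ^ q * b ^ q := by
    rw [← hcb.mul_pow, inv_mul_cancel_right]
  rw [conj_pow, hb, mul_one, mul_one, mul_inv_cancel] at h1
  exact h1.symm

/-- For odd `q` the set is a subgroup. -/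
def secondZSub (q : ℕ) (hq : Odd q) (Y : Subgroup G) : Subgroup G where
  carrier := secondZ q Y
  one_mem' := ⟨one_mem _, one_pow _, fun y _ w _ => by
    rw [show (1 : G) * y * 1⁻¹ * y⁻¹ = 1 by group]; exact Commute.one_left w⟩
  mul_mem' := fun {a b} ha hb => by
    refine ⟨mul_mem ha.1 hb.1, ?_, fun y hy w hw => ?_⟩
    · have hc := hb.2.2 a ha.1
      have h1 := Invol.EssNormal.mul_pow_class_two (a := a) (b := b) (c := b * a * b⁻¹ * a⁻¹)
        (by group) (hc a ha.1) (hc b hb.1) q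
      obtain ⟨j, hj⟩ := hq
      rw [h1, ha.2.1, hb.2.1, mul_one, mul_one, show q.choose 2 = q * j by
        rw [Nat.choose_two_right, hj, Nat.add_sub_cancel, ← mul_assoc, Nat.mul_comm (2 * j + 1) 2, mul_assoc,
          Nat.mul_div_cancel_left _ two_pos], pow_mul, comm_pow_eq_one (hc a ha.1) ha.2.1, one_pow]
    · have h1 : Commute a (b * y * b⁻¹ * y⁻¹) := (hb.2.2 y hy a ha.1).symm
      rw [show a * b * y * (a * b)⁻¹ * y⁻¹ = a * (b * y * b⁻¹ * y⁻¹) * a⁻¹ * (a * y * a⁻¹ * y⁻¹) by group,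
        h1.eq, mul_inv_cancel_right]
      exact (hb.2.2 y hy w hw).mul_left (ha.2.2 y hy w hw)
  inv_mem' := fun {a} ha => ⟨inv_mem ha.1, by rw [inv_pow, ha.2.1, inv_one], fun y hy w hw => by
    have h1 : Commute (a * y * a⁻¹ * y⁻¹) a := ha.2.2 y hy a ha.1
    rw [show a⁻¹ * y * a⁻¹⁻¹ * y⁻¹ = a⁻¹ * (a * y * a⁻¹ * y⁻¹)⁻¹ * a by group, mul_assoc a⁻¹,
      h1.inv_left.eq, inv_mul_cancel_left]
    exact (ha.2.2 y hy w hw).inv_left⟩

theorem normalizer_le_secondZSub [Finite G] (q : ℕ) (hq : Odd q) (Y : Subgroup G) :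
    normalizer (Y : Set G) ≤ normalizer (secondZSub q hq Y : Set G) := fun c hc => by
  refine mem_normalizer_fintype fun a ha => ?_
  refine ⟨(mem_normalizer_iff.1 hc a).1 ha.1, by rw [conj_pow, ha.2.1, mul_one, mul_inv_cancel],
    fun y hy w hw => ?_⟩
  have hy' : c⁻¹ * y * c⁻¹⁻¹ ∈ Y := (mem_normalizer_iff.1 (inv_mem hc) y).1 hy
  have hw' : c⁻¹ * w * c⁻¹⁻¹ ∈ Y := (mem_normalizer_iff.1 (inv_mem hc) w).1 hw
  have h1 := (ha.2.2 _ hy' _ hw').conj c
  rwa [show c * (a * (c⁻¹ * y * c⁻¹⁻¹) * a⁻¹ * (c⁻¹ * y * c⁻¹⁻¹)⁻¹) * c⁻¹ =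
      c * a * c⁻¹ * y * (c * a * c⁻¹)⁻¹ * y⁻¹ by group,
    show c * (c⁻¹ * w * c⁻¹⁻¹) * c⁻¹ = w by group] at h1

/-- Two subgroup-valued commutators in a class-two situation multiply. -/
theorem comm_mul_right {a b c : G} (h : Commute b (a * c * a⁻¹ * c⁻¹)) :
    a * (b * c) * a⁻¹ * (b * c)⁻¹ = (a * b * a⁻¹ * b⁻¹) * (a * c * a⁻¹ * c⁻¹) := by
  calc a * (b * c) * a⁻¹ * (b * c)⁻¹ = a * b * a⁻¹ * ((a * c * a⁻¹ * c⁻¹) * b⁻¹) := by group
    _ = (a * b * a⁻¹ * b⁻¹) * (a * c * a⁻¹ * c⁻¹) := by rw [← h.inv_left.eq]; group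

variable [Finite G] {S : Sylow 2 G} {σ τ : G} {n : ℕ}

/-- The data of shape (iii). -/
structure XSpec (_ : Hyp S σ τ n) (q : ℕ) (W : Subgroup G) (z x y : G) : Prop where
  wle : W ≤ opOf q (coreCent (central σ n))
  wnorm : centralizer ({central σ n} : Set G) ≤ normalizer (W : Set G)
  zmem : z ∈ W
  zR : z ∈ fixR (central σ n) τ
  zq : z ^ q = 1
  xmem : x ∈ W
  xq : x ^ q = 1
  xinv : τ * x * τ⁻¹ = x⁻¹
  comm : z * x * z⁻¹ * x⁻¹ = y
  y_ne : y ≠ 1
  omZ_eq : omZ q (opOf q (coreCent (central σ n))) = zpowers y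
  yinv : τ * y * τ⁻¹ = y⁻¹
  yinv' : σ * τ * y * (σ * τ)⁻¹ = y⁻¹
  omZ_le : omZ q (opOf q (coreCent (central σ n))) ≤ W
  fix : ∀ w ∈ W, w ∈ fixR (central σ n) τ → w ∈ zpowers z
  inv_part : ∀ w ∈ W, τ * w * τ⁻¹ = w⁻¹ → w ∈ zpowers x ⊔ zpowers y
  cube : ∀ w ∈ W, w ^ q = 1

variable (hC : IsCoatom (centralizer ({central σ n} : Set G))) {q : ℕ} [Fact q.Prime]
  (hI : ∀ B : Subgroup G, B ≤ opOf q (coreCent (central σ n)) →
    centralizer ({central σ n} : Set G) ≤ normalizer (B : Set G) → IsMulCommutative ↥B →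
    (∀ b ∈ B, b ^ q = 1) → B ⊓ fixR (central σ n) τ = ⊥)
  (hI1 : ∀ B : Subgroup G, B ≤ opOf q (coreCent (central σ n)) →
    centralizer ({central σ n} : Set G) ≤ normalizer (B : Set G) → IsMulCommutative ↥B →
    (∀ b ∈ B, b ^ q = 1) → B ⊓ fixR (central σ n) (σ * τ) = ⊥)
include hC hI hI1

/-- Noncommuting elements of order `q` of the second centre give the shape (iii). -/
theorem Hyp.exists_xspec (h : Hyp S σ τ n) (hg : Good S σ n q) {a b : G}
    (ha : a ∈ secondZ q (opOf q (coreCent (central σ n))))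
    (hb : b ∈ secondZ q (opOf q (coreCent (central σ n)))) (hab : ¬ Commute a b) :
    ∃ (hq : Odd q) (z x y : G), XSpec h q (secondZSub q hq (opOf q (coreCent (central σ n)))) z x y := by
  set t := central σ n with ht
  set U := coreCent t with hU
  set Y := opOf q U with hY
  have hYU : Y ≤ U := opOf_le q U
  have hYne : Y ≠ ⊥ := fun e => hab (by
    have := ha.1
    rw [e, mem_bot] at this
    exact this ▸ Commute.one_left b)
  have hqodd : Odd q := h.odd_prime hC hYne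
  set W := secondZSub q hqodd Y with hW
  have hWY : W ≤ Y := fun w hw => hw.1
  have hCY : centralizer ({t} : Set G) ≤ normalizer (Y : Set G) :=
    h.le_normalizer_coreCent.trans (normalizer_le_normalizer_opOf q U)
  have hCW := hCY.trans (normalizer_le_secondZSub q hqodd Y)
  have hτW : τ ∈ normalizer (W : Set G) := hCW (h.le_centralizer h.hτ)
  set B := omZ q Y with hB
  have hBW : B ≤ W := fun w hw => ⟨hw.1, hw.2.2, fun y hy v hv => by
    rw [show w * y * w⁻¹ * y⁻¹ = 1 by rw [(hw.2.1 y hy).eq]; group]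
    exact Commute.one_left v⟩
  have hBR : B ⊓ fixR t τ = ⊥ := omZ_inf_eq_bot hI h
  have hBn : centralizer ({t} : Set G) ≤ normalizer (B : Set G) := hCY.trans (normalizer_le_omZ q Y)
  have hBτ : ∀ w ∈ B, τ * w * τ⁻¹ = w⁻¹ := fun w hw =>
    Hyp.inverted_of_avoid h ((omZ_le q Y).trans hYU) (hBn (h.le_centralizer h.hτ)) hBR hw
  have hBστ : ∀ w ∈ B, σ * τ * w * (σ * τ)⁻¹ = w⁻¹ := fun w hw =>
    Hyp.inverted_of_avoid h.symm ((omZ_le q Y).trans hYU) (hBn (h.le_centralizer h.symm.hτ))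
      (omZ_inf_eq_bot hI1 h.symm) hw
  have hcB : ∀ u ∈ W, ∀ v ∈ Y, v ^ q = 1 → u * v * u⁻¹ * v⁻¹ ∈ B := fun u hu v hv hvq =>
    ⟨mul_mem (mul_mem (mul_mem hu.1 hv) (inv_mem hu.1)) (inv_mem hv), fun w hw => hu.2.2 v hv w hw,
      comm_pow_eq_one (hu.2.2 v hv v hv) hvq⟩
  -- inverted elements commute, and so do fixed ones
  have hfixB : ∀ c ∈ B, τ * c * τ⁻¹ = c → c = 1 := fun c hc hct =>
    mem_bot.1 (hBR ▸ Subgroup.mem_inf.2 ⟨hc, h.mem_fixR.2 ⟨hYU hc.1, (mul_inv_eq_iff_eq_mul.1 hct).symm⟩⟩)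
  have hcomm1 : ∀ u v : G, u * v * u⁻¹ * v⁻¹ = 1 → Commute u v := fun u v e =>
    mul_inv_eq_iff_eq_mul.1 (mul_inv_eq_one.1 e)
  have hII : ∀ u ∈ W, ∀ v ∈ W, τ * u * τ⁻¹ = u⁻¹ → τ * v * τ⁻¹ = v⁻¹ → Commute u v := by
    intro u hu v hv hui hvi
    refine hcomm1 u v (hfixB _ (hcB u hu v hv.1 hv.2.1) ?_)
    have e : τ * (u * v * u⁻¹ * v⁻¹) * τ⁻¹ = u⁻¹ * v⁻¹ * u * v := by
      calc _ = (τ * u * τ⁻¹) * (τ * v * τ⁻¹) * (τ * u * τ⁻¹)⁻¹ * (τ * v * τ⁻¹)⁻¹ := by group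
        _ = _ := by rw [hui, hvi, inv_inv, inv_inv]
    rw [e]
    have hc := (hcB u hu v hv.1 hv.2.1).2.1
    have hvu : Commute (u * v * u⁻¹ * v⁻¹) (v * u) := (hc v hv.1).mul_right (hc u hu.1)
    calc u⁻¹ * v⁻¹ * u * v = (v * u)⁻¹ * ((u * v * u⁻¹ * v⁻¹) * (v * u)) := by group
      _ = _ := by rw [hvu.eq, inv_mul_cancel_left]
  have hFF : ∀ u ∈ W, ∀ v ∈ W, u ∈ fixR t τ → v ∈ fixR t τ → Commute u v := by
    intro u hu v hv hui hvi
    have hR : u * v * u⁻¹ * v⁻¹ ∈ fixR t τ := mul_mem (mul_mem (mul_mem hui hvi) (inv_mem hui)) (inv_mem hvi)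
    exact hcomm1 u v (mem_bot.1 (hBR ▸ Subgroup.mem_inf.2 ⟨hcB u hu v hv.1 hv.2.1, hR⟩))
  have hsplit : ∀ w ∈ W, ∃ p ∈ W, ∃ e ∈ W, τ * p * τ⁻¹ = p⁻¹ ∧ e ∈ fixR t τ ∧ w = p * e := fun w hw => by
    obtain ⟨p, hp, e, he, hpi, hec, hwe, -⟩ := Klein.exists_inverted_mul
      (odd_of_le (hWY.trans hYU) h.odd_coreCent) h.tau_mul_self hτW hw
    exact ⟨p, hp, e, he, hpi, h.mem_fixR.2 ⟨hYU (hWY he), hec⟩, hwe⟩
  -- a fixed and an inverted element that do not commute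
  obtain ⟨z, x, hz, hzR, hx, hxi, hzx⟩ : ∃ z x, z ∈ W ∧ z ∈ fixR t τ ∧ x ∈ W ∧ τ * x * τ⁻¹ = x⁻¹ ∧
      ¬ Commute z x := by
    by_contra hno
    push Not at hno
    obtain ⟨p, hp, e, he, hpi, heR, rfl⟩ := hsplit a ha
    obtain ⟨p', hp', e', he', hpi', heR', rfl⟩ := hsplit b hb
    refine hab ?_
    exact ((hII p hp p' hp' hpi hpi').mul_right (hno e' p he' heR' hp hpi).symm).mul_left
      ((hno e p' he heR hp' hpi').mul_right (hFF e he e' he' heR heR'))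
  set y := z * x * z⁻¹ * x⁻¹ with hy
  have hyB : y ∈ B := hcB z hz x hx.1 hx.2.1
  have hy1 : y ≠ 1 := fun e => hzx (hcomm1 z x e)
  have hz1 : z ≠ 1 := fun e => hzx (e ▸ Commute.one_left x)
  have hBy : B = zpowers y := by
    refine (Subgroup.eq_of_le_of_card_ge (zpowers_le.2 hyB) ?_).symm
    rw [Nat.card_zpowers, orderOf_eq_prime hyB.2.2 hy1]
    exact h.card_le_of_commute hC hg hz.1 hzR hz1 hz.2.1 ((omZ_le q Y).trans hYU) hBτ (fun w hw => hw.2.2)
      fun w hw => hw.2.1 z hz.1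
  -- an element moved by commutation to `y ^ i` is a product with a power of `x`, resp. `z`
  have hzxi : ∀ i : ℕ, z * x ^ i * z⁻¹ * (x ^ i)⁻¹ = y ^ i := by
    intro i
    induction i with
    | zero => simp
    | succ i ih => rw [pow_succ, comm_mul_right ((hyB.2.1 _ (pow_mem hx.1 i)).symm), ih, ← hy, ← pow_succ]
  have hzix : ∀ i : ℕ, z ^ i * x * (z ^ i)⁻¹ * x⁻¹ = y ^ i := by
    intro i
    induction i with
    | zero => simp
    | succ i ih =>
      rw [pow_succ', show z * z ^ i * x * (z * z ^ i)⁻¹ * x⁻¹ =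
        z * (z ^ i * x * (z ^ i)⁻¹ * x⁻¹) * z⁻¹ * (z * x * z⁻¹ * x⁻¹) by group, ih, ← hy,
        ((hyB.2.1 z hz.1).pow_left i).symm.eq, mul_inv_cancel_right, pow_succ]
  refine ⟨hqodd, z, x, y, ⟨hWY, hCW, hz, hzR, hz.2.1, hx, hx.2.1, hxi, rfl, hy1, hBy, hBτ y hyB, hBστ y hyB, hBW,
    fun w hw hwR => ?_, fun w hw hwi => ?_, fun w hw => hw.2.1⟩⟩
  · obtain ⟨i, hi⟩ := Submonoid.mem_powers_iff _ _ |>.1 ((isOfFinOrder_of_finite y).mem_powers_iff_mem_zpowers.2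
      (hBy ▸ hcB w hw x hx.1 hx.2.1))
    set e := w * (z ^ i)⁻¹ with he
    have heW : e ∈ W := mul_mem hw (inv_mem (pow_mem hz i))
    have heR : e ∈ fixR t τ := mul_mem hwR (inv_mem (pow_mem hzR i))
    have hex : Commute x e := by
      refine (hcomm1 e x ?_).symm
      have h0 : z ^ i * x * (z ^ i)⁻¹ * x⁻¹ = y ^ i := hzix i
      have hwy : Commute (y ^ i) w := (hyB.2.1 w hw.1).pow_left i
      calc e * x * e⁻¹ * x⁻¹ = w * ((z ^ i)⁻¹ * (x * z ^ i * x⁻¹ * (z ^ i)⁻¹) * z ^ i) * w⁻¹ * (w * x * w⁻¹ * x⁻¹) := by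
            rw [he]; group
        _ = 1 := by
          have hzy' : Commute (y ^ i)⁻¹ (z ^ i) := ((hyB.2.1 _ (pow_mem hz.1 i)).pow_left i).inv_left
          rw [show x * z ^ i * x⁻¹ * (z ^ i)⁻¹ = (z ^ i * x * (z ^ i)⁻¹ * x⁻¹)⁻¹ by group, h0, ← hi,
            mul_assoc (z ^ i)⁻¹, hzy'.eq, inv_mul_cancel_left, ← hwy.inv_left.eq, mul_inv_cancel_right,
            inv_mul_cancel]
    by_contra hwz
    have he1 : e ≠ 1 := fun e1 => hwz (mul_inv_eq_one.1 e1 ▸ pow_mem (mem_zpowers z) i)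
    have hxy := h.inverted_mem_zpowers hC hg heW.1 heR he1 (hYU hyB.1) (hyB.2.1 e heW.1) (hBτ y hyB) hyB.2.2 hy1
      (hYU hx.1) hex hxi hx.2.1
    exact hzx (hBy.ge hxy |>.2.1 z hz.1).symm
  · obtain ⟨i, hi⟩ := Submonoid.mem_powers_iff _ _ |>.1 ((isOfFinOrder_of_finite y).mem_powers_iff_mem_zpowers.2
      (hBy ▸ hcB z hz w hw.1 hw.2.1))
    set v := w * (x ^ i)⁻¹ with hv
    have hvW : v ∈ W := mul_mem hw (inv_mem (pow_mem hx i))
    have hxw : Commute (x ^ i) w := ((hII x hx w hw hxi hwi).pow_left i)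
    have hvi : τ * v * τ⁻¹ = v⁻¹ := by
      calc τ * v * τ⁻¹ = (τ * w * τ⁻¹) * ((τ * x * τ⁻¹) ^ i)⁻¹ := by rw [hv, conj_pow]; group
        _ = w⁻¹ * x ^ i := by rw [hwi, hxi, inv_pow, inv_inv]
        _ = v⁻¹ := by rw [hv, mul_inv_rev, inv_inv, hxw.inv_right.eq]
    have hzv : Commute v z := by
      refine (hcomm1 z v ?_).symm
      have hyw : Commute w (y ^ i)⁻¹ := (((hyB.2.1 w hw.1).pow_left i).inv_left).symm
      rw [hv, comm_mul_right (b := w) (by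
        rw [show z * (x ^ i)⁻¹ * z⁻¹ * (x ^ i)⁻¹⁻¹ = (x ^ i)⁻¹ * (z * x ^ i * z⁻¹ * (x ^ i)⁻¹)⁻¹ * x ^ i by group,
          hzxi, mul_assoc, ((hyB.2.1 _ (pow_mem hx.1 i)).pow_left i).inv_left.eq, inv_mul_cancel_left]
        exact hyw), ← hi,
        show z * (x ^ i)⁻¹ * z⁻¹ * (x ^ i)⁻¹⁻¹ = (x ^ i)⁻¹ * (z * x ^ i * z⁻¹ * (x ^ i)⁻¹)⁻¹ * x ^ i by group,
        hzxi, mul_assoc (x ^ i)⁻¹, ((hyB.2.1 _ (pow_mem hx.1 i)).pow_left i).inv_left.eq, inv_mul_cancel_left,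
        mul_inv_cancel]
    have hvy := h.inverted_mem_zpowers hC hg hz.1 hzR hz1 (hYU hyB.1) (hyB.2.1 z hz.1) (hBτ y hyB) hyB.2.2 hy1
      (hYU hvW.1) hzv hvi hvW.2.1
    rw [show w = v * x ^ i by rw [hv, inv_mul_cancel_right]]
    exact mul_mem (mem_sup_right hvy) (mem_sup_left (pow_mem (mem_zpowers x) i))

omit hC hI hI1

namespace XSpec

variable {h : Hyp S σ τ n} {W : Subgroup G} {z x y : G} (e : XSpec h q W z x y)
include e

theorem y_mem : y ∈ omZ q (opOf q (coreCent (central σ n))) := e.omZ_eq ▸ mem_zpowers y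

/-- The centraliser of `y` lies in `C(t)`. -/
theorem centralizer_le (hC : IsCoatom (centralizer ({central σ n} : Set G))) : centralizer ({y} : Set G) ≤ centralizer ({central σ n} : Set G) := by
  have hYne : opOf q (coreCent (central σ n)) ≠ ⊥ := fun e0 => e.y_ne (by
    have := e.y_mem.1
    rwa [e0, mem_bot] at this)
  rw [← h.normalizer_omZ hC hYne, e.omZ_eq, Grp.centralizer_singleton_eq_zpowers]
  exact centralizer_le_normalizer _

/-- The index of `C(t)` is one modulo `q²`. -/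
theorem index_modEq_sq (hC : IsCoatom (centralizer ({central σ n} : Set G))) : (centralizer ({central σ n} : Set G)).index ≡ 1 [MOD q ^ 2] := by
  haveI := h.isSolvable_coreCent
  set t := central σ n with ht
  set C := centralizer ({t} : Set G) with hCdef
  obtain ⟨Q, hQ, -⟩ := Grp.exists_invariant_sylow (S : Subgroup G) (coreCent t)
    h.sylow_le_normalizer_coreCent (by
      rw [h.card_sylow]; exact (Nat.coprime_two_left.2 h.odd_coreCent).pow_left n) (Or.inr inferInstance) q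
  have hQC : Q ≤ C := hQ.1.trans h.coreCent_le
  have hYQ : opOf q (coreCent t) ≤ Q := opOf_le_isSylowIn hQ
  have hzQ : z ∈ Q := hYQ (e.wle e.zmem)
  have hxQ : x ∈ Q := hYQ (e.wle e.xmem)
  have hone : ∀ g : ↥Q, g • ((1 : G) : G ⧸ C) = ((1 : G) : G ⧸ C) := fun g => by
    refine QuotientGroup.eq.2 ?_
    show ((g : G) * 1)⁻¹ * 1 ∈ C
    rw [mul_one, mul_one]
    exact inv_mem (hQC g.2)
  have hy_fix : ∀ g : G, g⁻¹ * y * g ∈ C → g ∈ C := fun g hg => by
    have hc : Commute y (g * t * g⁻¹) := by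
      have := (show Commute (g⁻¹ * y * g) t from mem_centralizer_singleton_iff.1 hg).conj g
      rwa [show g * (g⁻¹ * y * g) * g⁻¹ = y by group] at this
    have hsC : g * t * g⁻¹ ∈ C := e.centralizer_le hC (mem_centralizer_singleton_iff.2 hc.symm.eq)
    have hgt : g * t * g⁻¹ = t := by
      by_contra hne
      obtain ⟨c, hcC, hcρ⟩ := h.exists_conj_reflection ((orderOf_conj g t).trans h.orderOf_central)
        (mem_centralizer_singleton_iff.1 hsC) hne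
      have hy' : c * y * c⁻¹ ∈ omZ q (opOf q (coreCent t)) :=
        (mem_normalizer_iff.1 ((h.le_normalizer_coreCent.trans (normalizer_le_normalizer_opOf q _)).trans
          (normalizer_le_omZ q _) hcC) y).1 e.y_mem
      obtain ⟨i, hi⟩ := mem_zpowers_iff.1 (e.omZ_eq ▸ hy')
      have hc2 := hc.conj c
      have hfix : ∀ w : G, c * (g * t * g⁻¹) * c⁻¹ = w → w * y * w⁻¹ = y⁻¹ → False := fun w hw hwy => by
        rw [hw, ← hi] at hc2
        have h1 : w * y ^ i * w⁻¹ = y ^ i := by rw [← hc2.eq, mul_inv_cancel_right]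
        rw [← conj_zpow, hwy, inv_zpow] at h1
        have h2 := eq_one_of_odd h.odd_coreCent (opOf_le q _ (hy'.1))
          (hi ▸ (mul_eq_one_iff_eq_inv.2 h1.symm))
        exact e.y_ne (conj_eq_one_iff.1 h2)
      rcases hcρ with h1 | h1
      · exact hfix τ h1 e.yinv
      · exact hfix (σ * τ) h1 e.yinv'
    exact mem_centralizer_singleton_iff.2 (mul_inv_eq_iff_eq_mul.1 hgt)
  rw [Subgroup.index]
  refine modEq_sq_of_no_orbit (P := ↥Q) hQ.2.1 ((1 : G) : G ⧸ C) hone fun a ha => ?_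
  induction a using QuotientGroup.induction_on with
  | H g =>
    have hnot : (⟨y, hYQ e.y_mem.1⟩ : ↥Q) ∉ MulAction.stabilizer ↥Q ((g : G) : G ⧸ C) := fun hs => by
      have h1 : ((y * g : G) : G ⧸ C) = (g : G ⧸ C) := hs
      have h2 : g⁻¹ * y * g ∈ C := by
        have := inv_mem (QuotientGroup.eq.1 h1)
        rwa [show ((y * g)⁻¹ * g)⁻¹ = g⁻¹ * y * g by group] at this
      refine ha (QuotientGroup.eq.2 ?_)
      rw [mul_one]
      exact inv_mem (hy_fix g h2)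
    refine ⟨fun h1 => hnot ?_, fun hq' => hnot ?_⟩
    · rw [Subgroup.index_eq_one.1 h1]
      exact mem_top _
    · have h2 := commutator_mem_of_index_prime hQ.2.1 hq' (⟨z, hzQ⟩ : ↥Q) ⟨x, hxQ⟩
      convert h2 using 1
      exact Subtype.ext e.comm.symm

end XSpec

end Cfsg.Agent.Invol.GW.Dihedral
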