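import Cfsg.Agent.Lib.Invol.GW.Dihedral.Extraspecial
import Cfsg.Agent.Lib.Invol.GW.Dihedral.PlaneImage
import Cfsg.Agent.Lib.Invol.GW.Klein.CaseOne

/-!
# Gorenstein–Walter, dihedral, shape (iii): the plane `W / ⟨y⟩`

The kernel of `U` on the plane is the set of elements acting trivially modulo `⟨y⟩`; its inverted part is `⟨x⟩` times
the inverted part `D` of `C(z)` when `D` acts trivially, so the index of its fixed points is `q |D|`.
-/

set_option autoImplicit false
set_option linter.unusedSectionVars false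
set_option linter.style.haveILetI false

namespace Cfsg.Agent.Invol.GW.Dihedral

open Subgroup Klein
open scoped Pointwise commutatorElement

universe u

variable {G : Type u} [Group G] [Finite G] {S : Sylow 2 G} {σ τ : G} {n : ℕ} {q : ℕ} [Fact q.Prime]
  {h : Hyp S σ τ n} {W : Subgroup G} {z x y : G}

namespace XSpec

variable (e : XSpec h q W z x y)
include e

theorem yW : y ∈ W := e.omZ_le e.y_mem

theorem W_le_core : W ≤ coreCent (central σ n) := e.wle.trans (opOf_le q _)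

theorem commute_y {w : G} (hw : w ∈ opOf q (coreCent (central σ n))) : Commute y w := e.y_mem.2.1 w hw

theorem commute_y_W {w : G} (hw : w ∈ W) : Commute y w := e.commute_y (e.wle hw)

theorem y_pow : y ^ q = 1 := e.y_mem.2.2

theorem orderOf_y : orderOf y = q := orderOf_eq_prime e.y_pow e.y_ne

theorem not_commute : ¬ Commute z x := fun hc => e.y_ne (by
  rw [← e.comm, hc.eq, mul_inv_cancel_right, mul_inv_cancel])

theorem z_ne : z ≠ 1 := fun e1 => e.not_commute (e1 ▸ Commute.one_left x)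

theorem pow_x (i : ℕ) : z * x ^ i * z⁻¹ * (x ^ i)⁻¹ = y ^ i := by
  induction i with
  | zero => simp
  | succ i ih =>
    rw [pow_succ, comm_mul_right (by rw [e.comm]; exact (e.commute_y_W (pow_mem e.xmem i)).symm), ih, e.comm,
      ← pow_succ]

theorem pow_z (i : ℕ) : z ^ i * x * (z ^ i)⁻¹ * x⁻¹ = y ^ i := by
  induction i with
  | zero => simp
  | succ i ih =>
    rw [pow_succ', show z * z ^ i * x * (z * z ^ i)⁻¹ * x⁻¹ =
      z * (z ^ i * x * (z ^ i)⁻¹ * x⁻¹) * z⁻¹ * (z * x * z⁻¹ * x⁻¹) by group, ih, e.comm,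
      ((e.commute_y_W e.zmem).pow_left i).symm.eq, mul_inv_cancel_right, pow_succ]

theorem x_mem_powers {w : G} (hw : w ∈ zpowers x ⊔ zpowers y) : ∃ c j : ℕ, w = x ^ c * y ^ j := by
  rw [← zpowers_le] at hw
  have key : zpowers x ⊔ zpowers y ≤
      ({ carrier := {w | ∃ c j : ℤ, w = x ^ c * y ^ j}
         one_mem' := ⟨0, 0, by simp⟩
         mul_mem' := by
           rintro _ _ ⟨c, j, rfl⟩ ⟨c', j', rfl⟩
           have hc : Commute (y ^ j) (x ^ c') := ((e.commute_y_W e.xmem).zpow_left j).zpow_right c'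
           exact ⟨c + c', j + j', by rw [zpow_add, zpow_add, mul_assoc, ← mul_assoc (y ^ j), hc.eq]; group⟩
         inv_mem' := by
           rintro _ ⟨c, j, rfl⟩
           have hc : Commute (y ^ j) (x ^ c) := ((e.commute_y_W e.xmem).zpow_left j).zpow_right c
           exact ⟨-c, -j, by rw [← hc.eq, mul_inv_rev, zpow_neg, zpow_neg]⟩ } : Subgroup G) :=
    sup_le (zpowers_le.2 ⟨1, 0, by simp⟩) (zpowers_le.2 ⟨0, 1, by simp⟩)
  obtain ⟨c, j, rfl⟩ := key (zpowers_le.1 hw)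
  obtain ⟨c', hc'⟩ := Submonoid.mem_powers_iff _ _ |>.1 ((isOfFinOrder_of_finite x).mem_powers_iff_mem_zpowers.2
    (zpow_mem (mem_zpowers x) c))
  obtain ⟨j', hj'⟩ := Submonoid.mem_powers_iff _ _ |>.1 ((isOfFinOrder_of_finite y).mem_powers_iff_mem_zpowers.2
    (zpow_mem (mem_zpowers y) j))
  exact ⟨c', j', by rw [hc', hj']⟩

/-- Every element of `W` is a word `x ^ c * z ^ a * y ^ j`. -/
theorem exists_word {w : G} (hw : w ∈ W) : ∃ a c j : ℕ, w = x ^ c * z ^ a * y ^ j := by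
  obtain ⟨p, hp, f, hf, hpi, hfc, rfl, -⟩ := Klein.exists_inverted_mul (odd_of_le e.W_le_core h.odd_coreCent)
    h.tau_mul_self (e.wnorm (h.le_centralizer h.hτ)) hw
  obtain ⟨c, j, rfl⟩ := e.x_mem_powers (e.inv_part p hp hpi)
  obtain ⟨a, rfl⟩ := Submonoid.mem_powers_iff _ _ |>.1 ((isOfFinOrder_of_finite z).mem_powers_iff_mem_zpowers.2
    (e.fix f hf (h.mem_fixR.2 ⟨e.W_le_core hf, hfc⟩)))
  exact ⟨a, c, j, by rw [mul_assoc, ((e.commute_y_W e.zmem).pow_pow j a).eq, ← mul_assoc]⟩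

/-- What commutes with `z` and `x` commutes with `W`. -/
theorem commute_of_gen {g : G} (hgz : Commute g z) (hgx : Commute g x) {w : G} (hw : w ∈ W) : Commute g w := by
  obtain ⟨a, c, j, rfl⟩ := e.exists_word hw
  have hgy : Commute g y := by
    rw [← e.comm]
    exact (((hgz.mul_right hgx).mul_right hgz.inv_right).mul_right hgx.inv_right)
  exact ((hgx.pow_right c).mul_right (hgz.pow_right a)).mul_right (hgy.pow_right j)

/-- The frame. -/
theorem frame : Frame q W (zpowers y) z x where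
  le := zpowers_le.2 e.yW
  normal w hw := centralizer_le_normalizer _ (mem_centralizer_iff.2 fun v hv => by
    obtain ⟨i, rfl⟩ := mem_zpowers_iff.1 hv
    exact ((e.commute_y_W hw).zpow_left i).eq)
  zmem := e.zmem
  ymem := e.xmem
  zpow := by rw [e.zq]; exact one_mem _
  ypow := by rw [e.xq]; exact one_mem _
  comm := by
    have hc : Commute (z * x * z⁻¹ * x⁻¹) (x * z) := e.comm.symm ▸ e.commute_y_W (mul_mem e.xmem e.zmem)
    rw [show (x * z)⁻¹ * (z * x) = (x * z)⁻¹ * ((z * x * z⁻¹ * x⁻¹) * (x * z)) by group, hc.eq,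
      inv_mul_cancel_left, e.comm]
    exact mem_zpowers y
  indep a c hac := by
    obtain ⟨i, hi⟩ := mem_zpowers_iff.1 hac
    have hcx : Commute (z ^ a * x ^ c) x := hi ▸ (e.commute_y_W e.xmem).zpow_left i
    have hza : Commute (z ^ a) x := by
      have := hcx.mul_left ((Commute.refl x).pow_left c).inv_left
      rwa [mul_inv_cancel_right] at this
    have ha : y ^ a = 1 := by rw [← e.pow_z a, hza.eq, mul_inv_cancel_right, mul_inv_cancel]
    rw [← orderOf_dvd_iff_pow_eq_one, e.orderOf_y] at ha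
    obtain ⟨a', rfl⟩ := ha
    rw [pow_mul, e.zq, one_pow, one_mul] at hi
    have hzc : Commute z (x ^ c) := hi ▸ ((e.commute_y_W e.zmem).zpow_left i).symm
    have hc : y ^ c = 1 := by rw [← e.pow_x c, hzc.eq, mul_inv_cancel_right, mul_inv_cancel]
    exact ⟨dvd_mul_right _ _, e.orderOf_y ▸ orderOf_dvd_of_pow_eq_one hc⟩
  span w hw := by
    obtain ⟨a, c, j, rfl⟩ := e.exists_word hw
    refine ⟨a, c, ?_⟩
    have h1 : (z ^ a * x ^ c * (z ^ a)⁻¹ * (x ^ c)⁻¹) ∈ zpowers y := by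
      have : ∀ a : ℕ, ∃ i : ℕ, z ^ a * x ^ c * (z ^ a)⁻¹ * (x ^ c)⁻¹ = y ^ i := fun a => by
        induction a with
        | zero => exact ⟨0, by simp⟩
        | succ a ih =>
          obtain ⟨i, hi⟩ := ih
          refine ⟨i + c, ?_⟩
          rw [pow_succ', show z * z ^ a * x ^ c * (z * z ^ a)⁻¹ * (x ^ c)⁻¹ =
            z * (z ^ a * x ^ c * (z ^ a)⁻¹ * (x ^ c)⁻¹) * z⁻¹ * (z * x ^ c * z⁻¹ * (x ^ c)⁻¹) by group, hi,
            e.pow_x, ((e.commute_y_W e.zmem).pow_left i).symm.eq, mul_inv_cancel_right, pow_add]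
      obtain ⟨i, hi⟩ := this a
      exact hi ▸ pow_mem (mem_zpowers y) i
    obtain ⟨i, hi⟩ := mem_zpowers_iff.1 h1
    have hc : Commute (y ^ i) (x ^ c * z ^ a) :=
      (e.commute_y_W (mul_mem (pow_mem e.xmem c) (pow_mem e.zmem a))).zpow_left i
    rw [show (z ^ a * x ^ c)⁻¹ * (x ^ c * z ^ a * y ^ j) =
      (x ^ c * z ^ a)⁻¹ * ((z ^ a * x ^ c * (z ^ a)⁻¹ * (x ^ c)⁻¹)⁻¹ * (x ^ c * z ^ a)) * y ^ j by group, ← hi,
      hc.inv_left.eq, inv_mul_cancel_left]
    exact mul_mem (inv_mem (zpow_mem (mem_zpowers y) i)) (pow_mem (mem_zpowers y) j)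

theorem zpowers_normalized : centralizer ({central σ n} : Set G) ≤ normalizer (zpowers y : Set G) :=
  e.omZ_eq ▸ (h.le_normalizer_coreCent.trans (normalizer_le_normalizer_opOf q _)).trans (normalizer_le_omZ q _)

theorem le_frameDom : centralizer ({central σ n} : Set G) ≤ frameDom W (zpowers y) :=
  le_inf e.wnorm e.zpowers_normalized

theorem core_le_frameDom : coreCent (central σ n) ≤ frameDom W (zpowers y) :=
  h.coreCent_le.trans e.le_frameDom

/-- The kernel on the plane in any frame. -/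
theorem mem_kerOn {z₀ x₀ : G} (f : Frame q W (zpowers y) z₀ x₀) {g : G} :
    g ∈ f.kerOn (coreCent (central σ n)) ↔
      g ∈ coreCent (central σ n) ∧ ∀ w ∈ W, w⁻¹ * (g * w * g⁻¹) ∈ zpowers y := by
  rw [f.mem_kerOn]
  refine and_congr_right fun hg => ⟨fun ⟨hx, h1⟩ w hw => f.mem_of_hom_eq_one h1 hw,
    fun hw => ⟨e.core_le_frameDom hg, f.hom_eq_one_of (hw _ f.zmem) (hw _ f.ymem)⟩⟩

theorem kerOn_eq {z₀ x₀ z₁ x₁ : G} (f : Frame q W (zpowers y) z₀ x₀) (f' : Frame q W (zpowers y) z₁ x₁) :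
    f.kerOn (coreCent (central σ n)) = f'.kerOn (coreCent (central σ n)) := by
  ext g
  rw [e.mem_kerOn f, e.mem_kerOn f']

theorem W_le_kerOn : W ≤ e.frame.kerOn (coreCent (central σ n)) := fun w hw => by
  refine (e.mem_kerOn e.frame).2 ⟨e.W_le_core hw, fun v hv => ?_⟩
  have h1 : w * v * w⁻¹ * v⁻¹ ∈ zpowers y := by
    have hcomm : ∀ u ∈ W, ∀ v ∈ W, u * v * u⁻¹ * v⁻¹ ∈ zpowers y := by
      intro u hu v hv
      obtain ⟨a, c, j, rfl⟩ := e.exists_word hu
      obtain ⟨a', c', j', rfl⟩ := e.exists_word hv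
      haveI hn : ((zpowers y).subgroupOf W).Normal := normal_subgroupOf_of_le_normalizer e.frame.normal
      set π := QuotientGroup.mk' ((zpowers y).subgroupOf W)
      set Z : ↥W := ⟨z, e.zmem⟩
      set X : ↥W := ⟨x, e.xmem⟩
      set Y : ↥W := ⟨y, e.yW⟩
      have hY : π Y = 1 := (QuotientGroup.eq_one_iff _).2 (mem_subgroupOf.2 (mem_zpowers y))
      have hZX : Commute (π Z) (π X) := by
        have h2 : π (Z * X * Z⁻¹ * X⁻¹) = 1 := by
          rw [show Z * X * Z⁻¹ * X⁻¹ = Y from Subtype.ext e.comm, hY]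
        rw [map_mul, map_mul, map_mul, map_inv, map_inv, mul_inv_eq_one] at h2
        exact mul_inv_eq_iff_eq_mul.1 h2
      have h3 : π ((X ^ c * Z ^ a * Y ^ j) * (X ^ c' * Z ^ a' * Y ^ j') * (X ^ c * Z ^ a * Y ^ j)⁻¹ *
          (X ^ c' * Z ^ a' * Y ^ j')⁻¹) = 1 := by
        simp only [map_mul, map_inv, map_pow, hY, one_pow, mul_one]
        have h4 : Commute (π X ^ c * π Z ^ a) (π X ^ c' * π Z ^ a') :=
          (((Commute.refl _).pow_pow c c').mul_right (hZX.symm.pow_pow c a')).mul_left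
            ((hZX.pow_pow a c').mul_right ((Commute.refl _).pow_pow a a'))
        rw [h4.eq, mul_inv_cancel_right, mul_inv_cancel]
      exact mem_subgroupOf.1 ((QuotientGroup.eq_one_iff _).1 h3)
    exact hcomm w hw v hv
  have h5 := (mem_normalizer_iff''.1 (e.frame.normal hv) _).1 h1
  rwa [show v⁻¹ * (w * v * w⁻¹ * v⁻¹) * v = v⁻¹ * (w * v * w⁻¹) by group] at h5

/-- An inverted element of the kernel commutes with `x` and `y`. -/
theorem commute_of_inverted_ker {a : G} (ha : a ∈ e.frame.kerOn (coreCent (central σ n)))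
    (hai : τ * a * τ⁻¹ = a⁻¹) : Commute a x ∧ Commute a y ∧ ∃ i : ℕ, Commute (a * (x ^ i)⁻¹) z := by
  obtain ⟨haU, hw⟩ := (e.mem_kerOn e.frame).1 ha
  obtain ⟨i, hi⟩ := mem_zpowers_iff.1 (hw z e.zmem)
  obtain ⟨j, hj⟩ := mem_zpowers_iff.1 (hw x e.xmem)
  have ez : a * z * a⁻¹ = z * y ^ i := by rw [hi, mul_inv_cancel_left]
  have ex : a * x * a⁻¹ = x * y ^ j := by rw [hj, mul_inv_cancel_left]
  have hyz : Commute (y ^ i) x := (e.commute_y_W e.xmem).zpow_left i
  have hyx : Commute (y ^ j) z := (e.commute_y_W e.zmem).zpow_left j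
  have hay : Commute a y := by
    refine mul_inv_eq_iff_eq_mul.1 ?_
    conv_lhs => rw [← e.comm]
    have hp : Commute (y ^ i) (x * y ^ j) := hyz.mul_right ((Commute.refl y).zpow_zpow i j)
    rw [show a * (z * x * z⁻¹ * x⁻¹) * a⁻¹ = (a * z * a⁻¹) * (a * x * a⁻¹) * (a * z * a⁻¹)⁻¹ * (a * x * a⁻¹)⁻¹
      by group, ez, ex]
    calc z * y ^ i * (x * y ^ j) * (z * y ^ i)⁻¹ * (x * y ^ j)⁻¹
        = z * (y ^ i * (x * y ^ j) * (y ^ i)⁻¹) * z⁻¹ * (y ^ j)⁻¹ * x⁻¹ := by group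
      _ = z * x * (y ^ j * z⁻¹) * (y ^ j)⁻¹ * x⁻¹ := by rw [hp.eq]; group
      _ = z * x * z⁻¹ * x⁻¹ := by rw [hyx.inv_right.eq, mul_assoc (z * x), mul_inv_cancel_right]
      _ = y := e.comm
  have hax : Commute a x := by
    refine mul_inv_eq_iff_eq_mul.1 ?_
    have e1 : a⁻¹ * x⁻¹ * a = x⁻¹ * (y ^ j)⁻¹ := by
      calc a⁻¹ * x⁻¹ * a = (τ * a * τ⁻¹) * (τ * x * τ⁻¹) * (τ * a * τ⁻¹)⁻¹ := by rw [hai, e.xinv, inv_inv]
        _ = τ * (a * x * a⁻¹) * τ⁻¹ := by group
        _ = (τ * x * τ⁻¹) * (τ * y * τ⁻¹) ^ j := by rw [ex, conj_zpow]; group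
        _ = x⁻¹ * (y ^ j)⁻¹ := by rw [e.xinv, e.yinv, inv_zpow]
    have hyj : Commute (y ^ j) x := (e.commute_y_W e.xmem).zpow_left j
    have e2 : a⁻¹ * x * a = x * y ^ j := by
      rw [← hyj.eq, show a⁻¹ * x * a = (a⁻¹ * x⁻¹ * a)⁻¹ by group, e1, mul_inv_rev, inv_inv, inv_inv]
    have e3 : y ^ j * y ^ j = 1 := by
      have e4 : a * (a⁻¹ * x * a) * a⁻¹ = x := by group
      rw [e2, show a * (x * y ^ j) * a⁻¹ = (a * x * a⁻¹) * (a * y ^ j * a⁻¹) by group, ex, (hay.zpow_right j).eq,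
        mul_inv_cancel_right, mul_assoc, mul_eq_left] at e4
      exact e4
    rw [ex, eq_one_of_odd h.odd_coreCent (zpow_mem (e.W_le_core e.yW) j) e3, mul_one]
  obtain ⟨i', hi'⟩ := Submonoid.mem_powers_iff _ _ |>.1 ((isOfFinOrder_of_finite y).mem_powers_iff_mem_zpowers.2
    (zpow_mem (mem_zpowers y) i))
  refine ⟨hax, hay, ?_⟩
  -- `a` moves `z` as a power of `x` does
  obtain ⟨k, hk⟩ : ∃ k : ℕ, y ^ k * y ^ i' = 1 := by
    obtain ⟨k, hk⟩ := Submonoid.mem_powers_iff _ _ |>.1 ((isOfFinOrder_of_finite y).mem_powers_iff_mem_zpowers.2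
      (inv_mem (pow_mem (mem_zpowers y) i')))
    exact ⟨k, by rw [hk, inv_mul_cancel]⟩
  refine ⟨k, (mul_inv_eq_iff_eq_mul.1 ?_)⟩
  have hxz : (x ^ k)⁻¹ * z * x ^ k = z * y ^ k := by
    have hc : Commute (y ^ k) z := (e.commute_y_W e.zmem).pow_left k
    rw [show (x ^ k)⁻¹ * z * x ^ k = (x ^ k)⁻¹ * (z * x ^ k * z⁻¹ * (x ^ k)⁻¹) * x ^ k * z by group, e.pow_x,
      mul_assoc (x ^ k)⁻¹, ((e.commute_y_W (pow_mem e.xmem k)).pow_left k).eq, inv_mul_cancel_left, hc.eq]
  rw [show a * (x ^ k)⁻¹ * z * (a * (x ^ k)⁻¹)⁻¹ = a * ((x ^ k)⁻¹ * z * x ^ k) * a⁻¹ by group, hxz,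
    show a * (z * y ^ k) * a⁻¹ = (a * z * a⁻¹) * (a * y ^ k * a⁻¹) by group, ez, (hay.pow_right k).eq,
    mul_inv_cancel_right, ← hi', mul_assoc, ← (Commute.pow_pow (Commute.refl y) k i').eq, hk, mul_one]

theorem hom_tau (hτ : τ ∈ frameDom W (zpowers y)) : e.frame.hom ⟨τ, hτ⟩ = Plane.refl := by
  refine e.frame.hom_eq_refl ?_ ?_
  · show z⁻¹ * (τ * z * τ⁻¹) ∈ zpowers y
    rw [← (h.mem_fixR.1 e.zR).2.eq, mul_inv_cancel_right, inv_mul_cancel]
    exact one_mem _
  · show x * (τ * x * τ⁻¹) ∈ zpowers y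
    rw [e.xinv, mul_inv_cancel]
    exact one_mem _

/-- The inverted part of `C(z)` acts trivially on the plane. -/
theorem mem_kerOn_of_inverted
    (hup : ¬ q ∣ Nat.card ↥(e.frame.image (coreCent (central σ n))) ∨
      ∀ a ∈ e.frame.image (coreCent (central σ n)), Plane.ent a 0 1 = 0)
    {d : G} (hd : d ∈ coreCent (central σ n)) (hdz : Commute d z) (hdi : τ * d * τ⁻¹ = d⁻¹) :
    d ∈ e.frame.kerOn (coreCent (central σ n)) := by
  haveI : Fact (1 < q) := ⟨(Fact.out : q.Prime).one_lt⟩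
  refine e.frame.mem_kerOn.2 ⟨hd, e.core_le_frameDom hd, ?_⟩
  set D : ↥(frameDom W (zpowers y)) := ⟨d, e.core_le_frameDom hd⟩ with hD
  set T : ↥(frameDom W (zpowers y)) := ⟨τ, e.le_frameDom (h.le_centralizer h.hτ)⟩
  set a := e.frame.hom D with ha
  have haI : a ∈ e.frame.image (coreCent (central σ n)) := e.frame.hom_mem_image hd
  have hodd : Odd (orderOf a) := Odd.of_dvd_nat (e.frame.odd_image e.core_le_frameDom h.odd_coreCent)
    (Subgroup.orderOf_dvd_natCard _ haI)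
  obtain ⟨a10, a00⟩ : Plane.ent a 1 0 = 0 ∧ Plane.ent a 0 0 = 1 := by
    have e1 : e.frame.coord ((D : G) * z * (D : G)⁻¹) = Pi.single 0 1 := by
      refine e.frame.coord_eq (e.frame.conj_mem_M D.2 e.zmem) ?_
      rw [e.frame.vec_first, show (D : G) * z * (D : G)⁻¹ = z by rw [hdz.eq, mul_inv_cancel_right], inv_mul_cancel]
      exact one_mem _
    constructor <;> rw [ha, e.frame.ent_hom, e.frame.vec_first, e1] <;> simp
  have hinv : Plane.refl * a * Plane.refl = a⁻¹ := by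
    rw [ha, ← e.hom_tau T.2, ← map_mul, ← map_mul, ← map_inv]
    refine congrArg _ (Subtype.ext ?_)
    show τ * d * τ = d⁻¹
    rw [← hdi, h.tau_inv]
  obtain ⟨f00, f01, f10, f11⟩ := Plane.ent_conj_refl a
  rw [hinv] at f00 f01 f10 f11
  have p00 : Plane.ent (a * a⁻¹) 0 1 = 0 := by rw [mul_inv_cancel, Plane.ent_one, if_neg (by decide)]
  have p11 : Plane.ent (a * a⁻¹) 1 1 = 1 := by rw [mul_inv_cancel, Plane.ent_one, if_pos rfl]
  rw [Plane.ent_mul, f01, f11, a00, one_mul] at p00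
  rw [Plane.ent_mul, f01, f11, a10, zero_mul, zero_add] at p11
  have hpow : ∀ k : ℕ, Plane.ent (a ^ k) 1 1 = Plane.ent a 1 1 ^ k ∧ Plane.ent (a ^ k) 1 0 = 0 := fun k => by
    induction k with
    | zero => simp [Plane.ent_one]
    | succ k ih => rw [pow_succ, Plane.ent_mul, Plane.ent_mul, ih.1, ih.2, a10]; simp [pow_succ]
  have a11 : Plane.ent a 1 1 = 1 := by
    rcases mul_self_eq_one_iff.1 p11 with e1 | e1
    · exact e1
    · have h1 := (hpow (orderOf a)).1
      rw [pow_orderOf_eq_one, Plane.ent_one, if_pos rfl, e1, hodd.neg_one_pow] at h1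
      exact h1 ▸ e1
  have a01 : Plane.ent a 0 1 = 0 := by
    rcases hup with hq | hq
    · have hk : ∀ k : ℕ, Plane.ent (a ^ k) 0 1 = (k : ZMod q) * Plane.ent a 0 1 ∧ Plane.ent (a ^ k) 0 0 = 1 := by
        intro k
        induction k with
        | zero => simp [Plane.ent_one]
        | succ k ih =>
          rw [pow_succ, Plane.ent_mul, Plane.ent_mul, ih.1, ih.2, a10, a00, a11]
          push_cast
          exact ⟨by ring, by ring⟩
      have h1 := (hk (orderOf a)).1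
      rw [pow_orderOf_eq_one, Plane.ent_one, if_neg (by decide)] at h1
      refine (mul_eq_zero.1 h1.symm).resolve_left fun h0 => hq ?_
      exact ((ZMod.natCast_eq_zero_iff _ _).1 h0).trans (Subgroup.orderOf_dvd_natCard _ haI)
    · exact hq a haI
  exact Plane.ext_ent (by rw [a00, Plane.ent_one, if_pos rfl]) (by rw [a01, Plane.ent_one, if_neg (by decide)])
    (by rw [a10, Plane.ent_one, if_neg (by decide)]) (by rw [a11, Plane.ent_one, if_pos rfl])

variable (hC : IsCoatom (centralizer ({central σ n} : Set G))) (hg : Good S σ n q)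
include hC hg

theorem lineData : LocalData σ τ n (centralizer ({z} : Set G)) :=
  h.lineData hC hg (e.wle e.zmem) e.zR e.z_ne

theorem mem_locD {d : G} (hd : d ∈ locD σ τ n (centralizer ({z} : Set G))) :
    d ∈ coreCent (central σ n) ∧ Commute d z ∧ τ * d * τ⁻¹ = d⁻¹ := by
  have hld := e.lineData hC hg
  have h1 := hld.sup_eq.le (mem_sup_right hd)
  exact ⟨h1.1, mem_centralizer_singleton_iff.1 h1.2, hld.inverted d hd⟩

theorem y_mem_locD : y ∈ locD σ τ n (centralizer ({z} : Set G)) :=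
  h.mem_locD_of_inverted (e.W_le_core e.yW) (mem_centralizer_singleton_iff.2 (e.commute_y_W e.zmem).eq) e.yinv

theorem dvd_card_locD : q ∣ Nat.card ↥(locD σ τ n (centralizer ({z} : Set G))) :=
  e.orderOf_y ▸ Subgroup.orderOf_dvd_natCard _ (e.y_mem_locD hC hg)

/-- The inverted part of `C(z)` centralises `W` when it is in the kernel. -/
theorem locD_commute (hD : locD σ τ n (centralizer ({z} : Set G)) ≤ e.frame.kerOn (coreCent (central σ n)))
    {d : G} (hd : d ∈ locD σ τ n (centralizer ({z} : Set G))) {w : G} (hw : w ∈ W) : Commute d w := by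
  obtain ⟨-, hdz, hdi⟩ := e.mem_locD hC hg hd
  exact e.commute_of_gen hdz (e.commute_of_inverted_ker (hD hd) hdi).1 hw

/-- The index of the fixed points in the kernel is `q |D|`. -/
theorem ker_relIndex (hD : locD σ τ n (centralizer ({z} : Set G)) ≤ e.frame.kerOn (coreCent (central σ n))) :
    (e.frame.kerOn (coreCent (central σ n)) ⊓ centralizer ({τ} : Set G)).relIndex
      (e.frame.kerOn (coreCent (central σ n))) = q * Nat.card ↥(locD σ τ n (centralizer ({z} : Set G))) := by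
  set U := coreCent (central σ n) with hU
  set K := e.frame.kerOn U with hK
  set D := locD σ τ n (centralizer ({z} : Set G)) with hDdef
  have hKU : K ≤ U := e.frame.kerOn_le U
  have hxK : x ∈ K := e.W_le_kerOn e.xmem
  have hxD : zpowers x ⊓ D = ⊥ := (eq_bot_iff_forall _).2 fun g hg' => by
    obtain ⟨hgx, hgD⟩ := Subgroup.mem_inf.1 hg'
    obtain ⟨k, rfl⟩ := Submonoid.mem_powers_iff _ _ |>.1
      ((isOfFinOrder_of_finite x).mem_powers_iff_mem_zpowers.2 hgx)
    have hc : y ^ k = 1 := by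
      rw [← e.pow_x k, ((e.mem_locD hC hg hgD).2.1.symm).eq, mul_inv_cancel_right, mul_inv_cancel]
    rw [← orderOf_dvd_iff_pow_eq_one, e.orderOf_y] at hc
    obtain ⟨k', rfl⟩ := hc
    rw [pow_mul, e.xq, one_pow]
  have hxc : ∀ d ∈ D, Commute d x := fun d hd => e.locD_commute hC hg hD hd e.xmem
  set I := zpowers x ⊔ D with hI
  have hnorm : zpowers x ≤ normalizer (D : Set G) := (zpowers_le.2 (mem_centralizer_iff.2 fun d hd =>
    (hxc d hd).eq)).trans (centralizer_le_normalizer _)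
  have hIcard : Nat.card ↥I = q * Nat.card ↥D := by
    have h1 := Grp.card_sup_mul_card_inf hnorm
    rw [hxD, Subgroup.card_bot, mul_one, Nat.card_zpowers, orderOf_eq_prime e.xq
      (fun e1 => e.not_commute (e1 ▸ Commute.one_right z))] at h1
    exact h1
  have hIinv : ∀ g ∈ I, τ * g * τ⁻¹ = g⁻¹ := by
    intro g hg'
    rw [hI, sup_eq_closure, ] at hg'
    refine (closure_induction (p := fun g _ => τ * g * τ⁻¹ = g⁻¹ ∧ Commute g x ∧ ∀ d ∈ D, Commute g d) ?_ ?_ ?_ ?_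
      hg').1
    · rintro g (hgx | hgD)
      · obtain ⟨k, rfl⟩ := mem_zpowers_iff.1 hgx
        exact ⟨by rw [← conj_zpow, e.xinv, inv_zpow], (Commute.refl x).zpow_left k,
          fun d hd => (hxc d hd).symm.zpow_left k⟩
      · haveI := (e.lineData hC hg).isCyclic
        exact ⟨(e.mem_locD hC hg hgD).2.2, hxc g hgD, fun d hd =>
          congrArg Subtype.val (IsCyclic.isMulCommutative.is_comm.comm (⟨g, hgD⟩ : ↥D) ⟨d, hd⟩)⟩
    · exact ⟨by group, Commute.one_left _, fun d _ => Commute.one_left d⟩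
    · rintro a b ha hb ⟨ai, ax, ad⟩ ⟨bi, bx, bd⟩
      refine ⟨?_, ax.mul_left bx, fun d hd => (ad d hd).mul_left (bd d hd)⟩
      have hab : Commute a b := by
        refine closure_induction (p := fun b _ => Commute a b) ?_ (Commute.one_right a)
          (fun _ _ _ _ u v => u.mul_right v) (fun _ _ u => u.inv_right) hb
        rintro b (hbx | hbD)
        · obtain ⟨k, rfl⟩ := mem_zpowers_iff.1 hbx
          exact ax.zpow_right k
        · exact ad b hbD
      rw [show τ * (a * b) * τ⁻¹ = (τ * a * τ⁻¹) * (τ * b * τ⁻¹) by group, ai, bi, ← mul_inv_rev, hab.eq]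
    · rintro a _ ⟨ai, ax, ad⟩
      exact ⟨by rw [show τ * a⁻¹ * τ⁻¹ = (τ * a * τ⁻¹)⁻¹ by group, ai], ax.inv_left, fun d hd => (ad d hd).inv_left⟩
  have hIK : I ≤ K := sup_le (zpowers_le.2 hxK) hD
  have hIR : I ⊓ (K ⊓ centralizer ({τ} : Set G)) = ⊥ := (eq_bot_iff_forall _).2 fun g hg' => by
    obtain ⟨hgI, hgK, hgτ⟩ := hg'
    have h1 := hIinv g hgI
    rw [← (mem_centralizer_singleton_iff.1 hgτ), mul_inv_cancel_right] at h1
    exact eq_one_of_odd h.odd_coreCent (hKU hgK) (mul_eq_one_iff_eq_inv.2 h1)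
  have hτK : τ ∈ normalizer (K : Set G) := by
    refine mem_normalizer_fintype fun g hg' => ?_
    obtain ⟨hgU, hgw⟩ := (e.mem_kerOn e.frame).1 hg'
    have hτC := h.le_centralizer h.hτ
    refine (e.mem_kerOn e.frame).2 ⟨h.conj_core hτC hgU, fun w hw => ?_⟩
    have hw' := (mem_normalizer_iff.1 (inv_mem (e.wnorm hτC)) w).1 hw
    have h2 := (mem_normalizer_iff.1 (e.zpowers_normalized hτC) _).1 (hgw _ hw')
    rwa [show τ * ((τ⁻¹ * w * τ⁻¹⁻¹)⁻¹ * (g * (τ⁻¹ * w * τ⁻¹⁻¹) * g⁻¹)) * τ⁻¹ =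
      w⁻¹ * (τ * g * τ⁻¹ * w * (τ * g * τ⁻¹)⁻¹) by group] at h2
  have hsplit : ∀ g ∈ K, ∃ p ∈ I, ∃ r ∈ K ⊓ centralizer ({τ} : Set G), p * r = g := by
    intro g hg'
    obtain ⟨a, ha, r, hr, hai, hrc, rfl, -⟩ :=
      Klein.exists_inverted_mul (odd_of_le hKU h.odd_coreCent) h.tau_mul_self hτK hg'
    obtain ⟨hax, -, i, hiz⟩ := e.commute_of_inverted_ker ha hai
    have hbi : τ * (a * (x ^ i)⁻¹) * τ⁻¹ = (a * (x ^ i)⁻¹)⁻¹ := by
      rw [show τ * (a * (x ^ i)⁻¹) * τ⁻¹ = (τ * a * τ⁻¹) * ((τ * x * τ⁻¹) ^ i)⁻¹ by rw [conj_pow]; group, hai,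
        e.xinv, inv_pow, inv_inv, mul_inv_rev, inv_inv, ((hax.pow_right i).inv_left).eq]
    have hbD : a * (x ^ i)⁻¹ ∈ D := h.mem_locD_of_inverted
      (mul_mem (hKU ha) (inv_mem (pow_mem (e.W_le_core e.xmem) i))) (mem_centralizer_singleton_iff.2 hiz.eq) hbi
    refine ⟨a, ?_, r, Subgroup.mem_inf.2 ⟨hr, mem_centralizer_singleton_iff.2 hrc.eq⟩, rfl⟩
    rw [← inv_mul_cancel_right a (x ^ i)]
    exact mul_mem (mem_sup_right hbD) (mem_sup_left (pow_mem (mem_zpowers x) i))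
  have hmul := card_eq_mul_of_parts hIK inf_le_left hIR hsplit
  refine Nat.eq_of_mul_eq_mul_right (Nat.card_pos (α := ↥(K ⊓ centralizer ({τ} : Set G) : Subgroup G))) ?_
  rw [← hIcard, ← hmul, ← relIndex_bot_left, mul_comm, relIndex_mul_relIndex _ _ _ bot_le inf_le_left,
    relIndex_bot_left]

/-- The index of `R` in the frame of `z`. -/
theorem idx_eq_mul (hD : locD σ τ n (centralizer ({z} : Set G)) ≤ e.frame.kerOn (coreCent (central σ n))) :
    idx σ τ n = Plane.fixIdx Plane.refl (e.frame.image (coreCent (central σ n))) *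
      (q * Nat.card ↥(locD σ τ n (centralizer ({z} : Set G)))) := by
  have hτ := h.le_centralizer h.hτ
  have h1 := e.frame.relIndex_fixed e.core_le_frameDom h.odd_coreCent (u := ⟨τ, e.le_frameDom hτ⟩)
    h.tau_mul_self (h.le_normalizer_coreCent hτ)
  rw [e.hom_tau, e.ker_relIndex hC hg hD] at h1
  exact h1

omit hC hg

/-- The kernels of the two frames agree. -/
theorem kerOn_symm {σ' τ' : G} {h' : Hyp S σ' τ' n} (ht : central σ' n = central σ n) {z' x' y' : G}
    (e' : XSpec h' q W z' x' y') :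
    e'.frame.kerOn (coreCent (central σ n)) = e.frame.kerOn (coreCent (central σ n)) := by
  have hyy : zpowers y' = zpowers y := by rw [← e.omZ_eq, ← ht, e'.omZ_eq]
  ext g
  rw [e.mem_kerOn e.frame, ← ht, e'.mem_kerOn e'.frame, hyy]

/-- The images in the two frames have the same order. -/
theorem card_image_symm {σ' τ' : G} {h' : Hyp S σ' τ' n} (ht : central σ' n = central σ n) {z' x' y' : G}
    (e' : XSpec h' q W z' x' y') :
    Nat.card ↥(e'.frame.image (coreCent (central σ n))) = Nat.card ↥(e.frame.image (coreCent (central σ n))) := by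
  have h1 := e.frame.card_image_mul e.core_le_frameDom h.odd_coreCent
  have h2 := e'.frame.card_image_mul e'.core_le_frameDom h'.odd_coreCent
  rw [ht, e.kerOn_symm ht e'] at h2
  exact Nat.eq_of_mul_eq_mul_right Nat.card_pos (h2.trans h1.symm)

end XSpec

/-- A fixed element of a core of `U` centralising `W` is trivial. -/
theorem XSpec.eq_one_of_centralizes (e : XSpec h q W z x y)
    (hC : IsCoatom (centralizer ({central σ n} : Set G))) {s : ℕ} [Fact s.Prime] (hs : Good S σ n s) {g : G}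
    (hgY : g ∈ opOf s (coreCent (central σ n))) (hgR : g ∈ fixR (central σ n) τ)
    (hgW : ∀ w ∈ W, Commute g w) : g = 1 := by
  by_contra hg1
  haveI := (h.lineData hC hs hgY hgR hg1).isCyclic
  have hmem : ∀ w ∈ W, τ * w * τ⁻¹ = w⁻¹ → w ∈ locD σ τ n (centralizer ({g} : Set G)) := fun w hw hi =>
    h.mem_locD_of_inverted (e.W_le_core hw) (mem_centralizer_singleton_iff.2 (hgW w hw).symm.eq) hi
  have hxy := mem_zpowers_of_isCyclic (hmem y e.yW e.yinv) (hmem x e.xmem e.xinv) e.y_pow e.y_ne e.xq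
  obtain ⟨k, hk⟩ := mem_zpowers_iff.1 hxy
  exact e.not_commute (hk ▸ (e.commute_y_W e.zmem).symm.zpow_right k)

/-- The inverted parts of the two reflections agree: both are the Fitting subgroup of `U ⊓ C(W)`. -/
theorem XSpec.locD_le_symm (e : XSpec h q W z x y) {τ₁ : G} {h₁ : Hyp S σ τ₁ n} {z' x' y' : G}
    (e' : XSpec h₁ q W z' x' y')
    (hC : IsCoatom (centralizer ({central σ n} : Set G))) (hg : Good S σ n q)
    (hgood : ∀ s : ℕ, s.Prime → opOf s (coreCent (central σ n)) ≠ ⊥ → Good S σ n s)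
    (hD : locD σ τ n (centralizer ({z} : Set G)) ≤ e.frame.kerOn (coreCent (central σ n))) :
    locD σ τ n (centralizer ({z} : Set G)) ≤ locD σ τ₁ n (centralizer ({z'} : Set G)) := by
  set U := coreCent (central σ n) with hU
  set V := U ⊓ centralizer (W : Set G) with hV
  haveI : Group.IsSolvable ↥V := Klein.isSolvable_of_odd (odd_of_le inf_le_left h.odd_coreCent)
  have hVU : V ≤ U := inf_le_left
  have hcV : ∀ {v : G}, v ∈ V → ∀ w ∈ W, Commute v w := fun hv w hw =>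
    ((mem_centralizer_iff.1 (Subgroup.mem_inf.1 hv).2 w hw)).symm
  have hCV : centralizer ({central σ n} : Set G) ≤ normalizer (V : Set G) := fun c hc => by
    refine mem_normalizer_fintype fun v hv => Subgroup.mem_inf.2
      ⟨h.conj_core hc (hVU hv), mem_centralizer_iff.2 fun w hw => ?_⟩
    have hw' := (mem_normalizer_iff.1 (inv_mem (e.wnorm hc)) w).1 hw
    have h1 := (hcV hv _ hw').conj c
    rw [show c * (c⁻¹ * w * c⁻¹⁻¹) * c⁻¹ = w by group] at h1
    exact h1.eq.symm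
  have hfix : ∀ {σ' τ' : G} {h' : Hyp S σ' τ' n} {z₁ x₁ y₁ : G}, central σ' n = central σ n →
      XSpec h' q W z₁ x₁ y₁ → (∀ s : ℕ, s.Prime → opOf s U ≠ ⊥ → Good S σ' n s) →
      ∀ s : ℕ, s.Prime → ∀ g ∈ opOf s V, τ' * g * τ'⁻¹ = g⁻¹ ∧ Commute g z₁ := by
    intro σ' τ' h' z₁ x₁ y₁ ht e₁ hgd s hs g hgs
    haveI : Fact s.Prime := ⟨hs⟩
    refine ⟨?_, hcV (opOf_le s V hgs) z₁ e₁.zmem⟩
    have hle : opOf s V ≤ opOf s U := le_opOf ((opOf_le s V).trans hVU)
      (((h.coreCent_le.trans hCV)).trans (normalizer_le_normalizer_opOf s V)) (isPGroup_opOf s V)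
    have hτ' : τ' ∈ normalizer (opOf s V : Set G) :=
      (hCV.trans (normalizer_le_normalizer_opOf s V)) (ht ▸ h'.le_centralizer h'.hτ)
    obtain ⟨a, -, f, hf, hai, hfc, rfl, -⟩ := Klein.exists_inverted_mul
      (odd_of_le ((opOf_le s V).trans hVU) h.odd_coreCent) h'.tau_mul_self hτ' hgs
    suffices hf1 : f = 1 by rw [hf1, mul_one]; exact hai
    by_contra hg1
    have hg' := hf
    have hgc := hfc
    refine hg1 (e₁.eq_one_of_centralizes (ht.symm ▸ hC) (hgd s hs fun e0 => hg1 ?_)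
      (ht.symm ▸ hle hg') (h'.mem_fixR.2 ⟨ht.symm ▸ hVU (opOf_le s V hg'), hgc⟩) (hcV (opOf_le s V hg')))
    have := hle hg'
    rwa [e0, mem_bot] at this
  set F := (Cfsg.fittingSubgroup ↥V).map V.subtype with hF
  have hFle : ∀ {σ' τ' : G} {h' : Hyp S σ' τ' n} {z₁ x₁ y₁ : G}, central σ' n = central σ n →
      XSpec h' q W z₁ x₁ y₁ → (∀ s : ℕ, s.Prime → opOf s U ≠ ⊥ → Good S σ' n s) →
      F ≤ locD σ' τ' n (centralizer ({z₁} : Set G)) := by
    intro σ' τ' h' z₁ x₁ y₁ ht e₁ hgd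
    rw [hF, fittingSubgroup_map_eq_iSup]
    refine iSup_le fun p g hg' => ?_
    obtain ⟨hi, hc⟩ := hfix ht e₁ hgd p p.2 g hg'
    exact h'.mem_locD_of_inverted (ht.symm ▸ hVU (opOf_le _ V hg')) (mem_centralizer_singleton_iff.2 hc.eq) hi
  intro d hd
  refine hFle rfl e' hgood ?_
  have hdV : d ∈ V := Subgroup.mem_inf.2 ⟨(e.mem_locD hC hg hd).1,
    mem_centralizer_iff.2 fun w hw => (e.locD_commute hC hg hD hd hw).eq.symm⟩
  refine mem_fitting_of_commute hdV fun p hp g hg' => ?_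
  have hgD := hFle rfl e hgood ((fittingSubgroup_map_eq_iSup V).ge
    (le_iSup (fun p : Nat.Primes => opOf (p : ℕ) V) ⟨p, hp⟩ hg'))
  haveI := (e.lineData hC hg).isCyclic
  exact congrArg Subtype.val (IsCyclic.isMulCommutative.is_comm.comm
    (⟨d, hd⟩ : ↥(locD σ τ n (centralizer ({z} : Set G)))) ⟨g, hgD⟩)

end Cfsg.Agent.Invol.GW.Dihedral
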