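import Cfsg.Agent.Lib.Invol.GW.Dihedral.ExtraspecialPlane
import Cfsg.Agent.Lib.Invol.GW.Dihedral.CaseStab

/-!
# Gorenstein–Walter, dihedral, shape (iii): the rotation on the plane `W / ⟨y⟩`

The rotation centralises `y`, so it is not a reflection on the plane.  No line `⟨z, y⟩` or `⟨x, y⟩` is normalised by
`C(t)` when it meets `R` resp. `R₁`; elements acting trivially centralise `W`, and an element acting as `-1` fixes
only `⟨y⟩`.
-/

set_option autoImplicit false
set_option linter.unusedSectionVars false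
set_option linter.style.haveILetI false

namespace Cfsg.Agent.Invol.GW.Dihedral

open Subgroup Klein
open scoped Pointwise

universe u

variable {G : Type u} [Group G] [Finite G] {S : Sylow 2 G} {σ τ : G} {n : ℕ} {q : ℕ} [Fact q.Prime]
  {h : Hyp S σ τ n} {W : Subgroup G} {z x y : G}

/-- An odd element with a trivial power of exponent a power of two is trivial. -/
theorem eq_one_of_two_pow {K : Subgroup G} (hK : Odd (Nat.card ↥K)) {c : G} (hc : c ∈ K) {N : ℕ}
    (hN : c ^ 2 ^ N = 1) : c = 1 :=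
  orderOf_eq_one_iff.1 (Nat.eq_one_of_dvd_coprimes (k := orderOf c)
    (Nat.Coprime.pow_left N (Nat.coprime_two_left.2 (Odd.of_dvd_nat hK (K.orderOf_dvd_natCard hc))))
    (orderOf_dvd_of_pow_eq_one hN) dvd_rfl)

/-- A subgroup normalised by `C(t)` avoiding `R` avoids the fixed points of the conjugate reflection. -/
theorem Hyp.avoid_conj (h : Hyp S σ τ n) {B : Subgroup G}
    (hn : centralizer ({central σ n} : Set G) ≤ normalizer (B : Set G))
    (hR : B ⊓ fixR (central σ n) τ = ⊥) : B ⊓ fixR (central σ n) (σ * (σ * τ)) = ⊥ := by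
  refine (eq_bot_iff_forall _).2 fun w hw => ?_
  obtain ⟨hwB, hwR⟩ := Subgroup.mem_inf.1 hw
  obtain ⟨hwU, hwc⟩ := h.symm.symm.mem_fixR.1 hwR
  have hσC := inv_mem (h.le_centralizer h.hσ)
  have hτσ : σ⁻¹ * (σ * (σ * τ)) * σ = τ := by
    have h1 : σ * τ * σ = τ := by
      conv_lhs => rw [show σ * τ * σ = σ * (τ * σ * τ⁻¹) * τ by group, h.rel, mul_inv_cancel, one_mul]
    rw [inv_mul_cancel_left, h1]
  have hc : Commute (σ⁻¹ * w * σ) τ := by
    have h1 := hwc.conj σ⁻¹
    rwa [inv_inv, hτσ] at h1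
  have h2 : σ⁻¹ * w * σ ∈ B ⊓ fixR (central σ n) τ := by
    have h3 := (mem_normalizer_iff.1 (hn hσC) w).1 hwB
    have h4 := h.conj_core hσC hwU
    rw [inv_inv] at h3 h4
    exact Subgroup.mem_inf.2 ⟨h3, h.mem_fixR.2 ⟨h4, hc⟩⟩
  rw [hR, mem_bot] at h2
  rw [show w = σ * (σ⁻¹ * w * σ) * σ⁻¹ by group, h2, mul_one, mul_inv_cancel]

namespace XSpec

variable (e : XSpec h q W z x y)
include e

/-- The image of an element of `C(t)` on the plane. -/
noncomputable def act {g : G} (hg : g ∈ centralizer ({central σ n} : Set G)) : Plane.GL2 q :=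
  e.frame.hom ⟨g, e.le_frameDom hg⟩

theorem act_mul {g g' : G} (hg : g ∈ centralizer ({central σ n} : Set G))
    (hg' : g' ∈ centralizer ({central σ n} : Set G)) : e.act (mul_mem hg hg') = e.act hg * e.act hg' := by
  rw [act, act, act, ← map_mul]
  rfl

theorem act_pow {g : G} (hg : g ∈ centralizer ({central σ n} : Set G)) (k : ℕ) :
    e.act (pow_mem hg k) = e.act hg ^ k := by
  rw [act, act, ← map_pow]
  rfl

theorem act_tau : e.act (h.le_centralizer h.hτ) = Plane.refl := e.hom_tau _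

theorem ne_two : q ≠ 2 := fun e2 => by
  have ho := h.odd_orderOf h.odd_coreCent (e.W_le_core e.yW)
  rw [e.orderOf_y, e2] at ho
  exact absurd ho (by decide)

theorem act_sigma_tau : e.act (h.le_centralizer (mul_mem h.hσ h.hτ)) =
    e.act (h.le_centralizer h.hσ) * Plane.refl := by
  rw [← e.act_tau]
  exact e.act_mul (h.le_centralizer h.hσ) (h.le_centralizer h.hτ)

theorem cfg : Plane.Cfg (e.frame.image (coreCent (central σ n))) where
  ne_two := e.ne_two
  odd := e.frame.odd_image e.core_le_frameDom h.odd_coreCent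
  conj := fun a ha => by
    have h1 := e.frame.conj_mem_image (g := ⟨τ, e.le_frameDom (h.le_centralizer h.hτ)⟩)
      (h.le_normalizer_coreCent (h.le_centralizer h.hτ)) ha
    rwa [e.hom_tau, show (Plane.refl : Plane.GL2 q)⁻¹ = Plane.refl from
      inv_eq_of_mul_eq_one_right Plane.refl_mul_self] at h1

theorem conj_image {g : G} (hg : g ∈ centralizer ({central σ n} : Set G)) :
    ∀ a ∈ e.frame.image (coreCent (central σ n)), e.act hg * a * (e.act hg)⁻¹ ∈
      e.frame.image (coreCent (central σ n)) := fun _ ha =>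
  e.frame.conj_mem_image (g := ⟨g, e.le_frameDom hg⟩) (h.le_normalizer_coreCent hg) ha

theorem act_rotation : Plane.refl * e.act (h.le_centralizer h.hσ) * Plane.refl =
    (e.act (h.le_centralizer h.hσ))⁻¹ ∧ e.act (h.le_centralizer h.hσ) ^ 2 ^ (n - 1) = 1 := by
  refine ⟨?_, ?_⟩
  · rw [← e.act_tau, act, act, ← map_mul, ← map_mul, ← map_inv]
    refine congrArg _ (Subtype.ext ?_)
    show τ * σ * τ = σ⁻¹
    rw [← h.rel, h.tau_inv]
  · rw [act, ← map_pow]
    convert map_one e.frame.hom using 2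
    exact Subtype.ext (by simp [← h.orderσ, pow_orderOf_eq_one])

/-- The rotation centralises `y`. -/
theorem sigma_commute_y : Commute σ y := by
  have h1 := e.yinv'
  rw [show σ * τ * y * (σ * τ)⁻¹ = σ * (τ * y * τ⁻¹) * σ⁻¹ by group, e.yinv] at h1
  exact Commute.inv_right_iff.1 (mul_inv_eq_iff_eq_mul.1 h1)

/-- Conjugation fixing `y` and inverting one of `z`, `x` modulo `⟨y⟩` and fixing the other does not exist. -/
theorem false_of_det {g : G} (hgy : Commute g y)
    (hg : (z⁻¹ * (g * z * g⁻¹) ∈ zpowers y ∧ x * (g * x * g⁻¹) ∈ zpowers y) ∨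
      (z * (g * z * g⁻¹) ∈ zpowers y ∧ x⁻¹ * (g * x * g⁻¹) ∈ zpowers y)) : False := by
  have hz' : z * x * z⁻¹ = y * x := by rw [← e.comm, inv_mul_cancel_right]
  have hcen : ∀ u ∈ zpowers y, ∀ w ∈ W, Commute u w := fun u hu w hw => by
    obtain ⟨i, rfl⟩ := mem_zpowers_iff.1 hu
    exact (e.commute_y_W hw).zpow_left i
  have key : ∀ a ∈ W, ∀ b ∈ W, ∀ u ∈ zpowers y, ∀ v ∈ zpowers y,
      (a * u) * (b * v) * (a * u)⁻¹ * (b * v)⁻¹ = a * b * a⁻¹ * b⁻¹ := by
    intro a ha b hb u hu v hv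
    calc (a * u) * (b * v) * (a * u)⁻¹ * (b * v)⁻¹
        = a * (u * (b * v) * u⁻¹) * a⁻¹ * v⁻¹ * b⁻¹ := by group
      _ = a * b * (v * a⁻¹) * v⁻¹ * b⁻¹ := by
        rw [(hcen u hu _ (mul_mem hb (e.frame.le hv))).eq, mul_inv_cancel_right]; group
      _ = a * b * a⁻¹ * b⁻¹ := by
        rw [(hcen v hv _ (inv_mem ha)).eq, ← mul_assoc, mul_inv_cancel_right]
  have hy2 : y * y = 1 → False := fun h2 => e.y_ne (eq_one_of_odd h.odd_coreCent (e.W_le_core e.yW) h2)
  have hgy' : g * (z * x * z⁻¹ * x⁻¹) * g⁻¹ = y := by rw [e.comm, hgy.eq, mul_inv_cancel_right]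
  rw [show g * (z * x * z⁻¹ * x⁻¹) * g⁻¹ =
    (g * z * g⁻¹) * (g * x * g⁻¹) * (g * z * g⁻¹)⁻¹ * (g * x * g⁻¹)⁻¹ by group] at hgy'
  rcases hg with ⟨hz, hx⟩ | ⟨hz, hx⟩
  · rw [show g * z * g⁻¹ = z * (z⁻¹ * (g * z * g⁻¹)) by group,
      show g * x * g⁻¹ = x⁻¹ * (x * (g * x * g⁻¹)) by group,
      key z e.zmem x⁻¹ (inv_mem e.xmem) _ hz _ hx, show z * x⁻¹ * z⁻¹ * x⁻¹⁻¹ = (z * x * z⁻¹)⁻¹ * x by group,
      hz', mul_inv_rev, (e.commute_y_W (inv_mem e.xmem)).inv_left.symm.eq, inv_mul_cancel_right] at hgy'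
    exact hy2 (mul_eq_one_iff_eq_inv.2 hgy'.symm)
  · have hzx : z⁻¹ * x * z = y⁻¹ * x := by
      calc z⁻¹ * x * z = z⁻¹ * (y⁻¹ * (y * x)) * z := by group
        _ = z⁻¹ * y⁻¹ * z * x := by rw [← hz']; group
        _ = y⁻¹ * x := by rw [← (e.commute_y_W (inv_mem e.zmem)).inv_left.eq, inv_mul_cancel_right]
    rw [show g * z * g⁻¹ = z⁻¹ * (z * (g * z * g⁻¹)) by group,
      show g * x * g⁻¹ = x * (x⁻¹ * (g * x * g⁻¹)) by group,
      key z⁻¹ (inv_mem e.zmem) x e.xmem _ hz _ hx, inv_inv, hzx, mul_inv_cancel_right] at hgy'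
    exact hy2 (mul_eq_one_iff_eq_inv.2 hgy'.symm)

theorem rotation_ne_refl : e.act (h.le_centralizer h.hσ) ≠ Plane.refl ∧
    e.act (h.le_centralizer h.hσ) ≠ -Plane.refl := by
  obtain ⟨g00, g01, g10, g11⟩ := Plane.ent_refl (q := q)
  refine ⟨fun hr => e.false_of_det e.sigma_commute_y (Or.inl ⟨?_, ?_⟩),
    fun hr => e.false_of_det e.sigma_commute_y (Or.inr ⟨?_, ?_⟩)⟩
  · exact e.frame.fix_first ⟨σ, e.le_frameDom (h.le_centralizer h.hσ)⟩
      ((congrArg (fun a => Plane.ent a 0 0) hr).trans g00) ((congrArg (fun a => Plane.ent a 1 0) hr).trans g10)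
  · exact e.frame.inv_second ⟨σ, e.le_frameDom (h.le_centralizer h.hσ)⟩
      ((congrArg (fun a => Plane.ent a 0 1) hr).trans g01) ((congrArg (fun a => Plane.ent a 1 1) hr).trans g11)
  · exact e.frame.inv_first ⟨σ, e.le_frameDom (h.le_centralizer h.hσ)⟩
      ((congrArg (fun a => Plane.ent a 0 0) hr).trans (by rw [Plane.ent_neg, g00]))
      ((congrArg (fun a => Plane.ent a 1 0) hr).trans (by rw [Plane.ent_neg, g10, neg_zero]))
  · exact e.frame.fix_second ⟨σ, e.le_frameDom (h.le_centralizer h.hσ)⟩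
      ((congrArg (fun a => Plane.ent a 0 1) hr).trans (by rw [Plane.ent_neg, g01, neg_zero]))
      ((congrArg (fun a => Plane.ent a 1 1) hr).trans (by rw [Plane.ent_neg, g11, neg_neg]))

/-- The image of `C(t)` is generated by those of `U`, the rotation and the reflection. -/
theorem act_mem {L : Subgroup (Plane.GL2 q)} (hU : e.frame.image (coreCent (central σ n)) ≤ L)
    (hr : e.act (h.le_centralizer h.hσ) ∈ L) (hτ : Plane.refl ∈ L) {g : G}
    (hg : g ∈ centralizer ({central σ n} : Set G)) : e.act hg ∈ L := by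
  set M := (L.comap e.frame.hom).map (frameDom W (zpowers y)).subtype with hM
  have hmem : ∀ {g : G} (hg : g ∈ centralizer ({central σ n} : Set G)), g ∈ M → e.act hg ∈ L := by
    rintro g hg ⟨v, hv, rfl⟩
    exact hv
  have hσM : σ ∈ M := ⟨⟨σ, e.le_frameDom (h.le_centralizer h.hσ)⟩, hr, rfl⟩
  have hτM : τ ∈ M := ⟨⟨τ, e.le_frameDom (h.le_centralizer h.hτ)⟩,
    show e.act (h.le_centralizer h.hτ) ∈ L by rw [e.act_tau]; exact hτ, rfl⟩
  refine hmem hg ?_
  obtain ⟨u, hu, s, hs, rfl⟩ := h.exists_mul hg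
  refine mul_mem ⟨⟨u, e.core_le_frameDom hu⟩, hU (e.frame.hom_mem_image hu), rfl⟩ ?_
  by_cases hsσ : s ∈ zpowers σ
  · exact zpowers_le.2 hσM hsσ
  · obtain ⟨i, rfl⟩ := h.exists_rotation_mul_tau hs hsσ
    exact mul_mem (zpow_mem hσM i) hτM

/-- A line `⟨w, y⟩` of `W` normalised by `C(t)` is elementary abelian. -/
theorem line_facts {w : G} (hw : w ∈ W)
    (hn : ∀ g ∈ centralizer ({central σ n} : Set G), g * w * g⁻¹ ∈ zpowers w ⊔ zpowers y) :
    zpowers w ⊔ zpowers y ≤ opOf q (coreCent (central σ n)) ∧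
      centralizer ({central σ n} : Set G) ≤ normalizer ((zpowers w ⊔ zpowers y : Subgroup G) : Set G) ∧
      IsMulCommutative ↥(zpowers w ⊔ zpowers y : Subgroup G) ∧
      ∀ b ∈ zpowers w ⊔ zpowers y, b ^ q = 1 := by
  set B := zpowers w ⊔ zpowers y with hB
  have hBW : B ≤ W := sup_le (zpowers_le.2 hw) (zpowers_le.2 e.yW)
  refine ⟨hBW.trans e.wle, fun g hg => mem_normalizer_fintype fun b hb => ?_, ?_, fun b hb => e.cube b (hBW hb)⟩
  · refine (show B ≤ B.comap (MulAut.conj g).toMonoidHom from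
      sup_le (zpowers_le.2 (hn g hg)) (zpowers_le.2 (mem_sup_right ?_))) hb
    exact (mem_normalizer_iff.1 (e.zpowers_normalized hg) y).1 (mem_zpowers y)
  · have hBw : B ≤ centralizer ({w} : Set G) :=
      sup_le (zpowers_le.2 (mem_centralizer_singleton_iff.2 rfl))
        (zpowers_le.2 (mem_centralizer_singleton_iff.2 (e.commute_y_W hw).eq))
    have hBy : B ≤ centralizer ({y} : Set G) :=
      sup_le (zpowers_le.2 (mem_centralizer_singleton_iff.2 (e.commute_y_W hw).symm.eq))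
        (zpowers_le.2 (mem_centralizer_singleton_iff.2 rfl))
    have hcc : B ≤ centralizer (B : Set G) :=
      sup_le (zpowers_le.2 (mem_centralizer_iff.2 fun b hb => mem_centralizer_singleton_iff.1 (hBw hb)))
        (zpowers_le.2 (mem_centralizer_iff.2 fun b hb => mem_centralizer_singleton_iff.1 (hBy hb)))
    exact ⟨⟨fun a b => Subtype.ext (mem_centralizer_iff.1 (hcc b.2) a a.2)⟩⟩

theorem not_low (hI : ∀ B : Subgroup G, B ≤ opOf q (coreCent (central σ n)) →
      centralizer ({central σ n} : Set G) ≤ normalizer (B : Set G) → IsMulCommutative ↥B →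
      (∀ b ∈ B, b ^ q = 1) → B ⊓ fixR (central σ n) τ = ⊥)
    (hr : Plane.ent (e.act (h.le_centralizer h.hσ)) 1 0 = 0)
    (hU : ∀ a ∈ e.frame.image (coreCent (central σ n)), Plane.ent a 1 0 = 0) : False := by
  obtain ⟨h1, h2, h3, h4⟩ := e.line_facts e.zmem fun g hg => by
    obtain ⟨a, ha⟩ := (e.frame.ent_low_iff ⟨g, e.le_frameDom hg⟩).1
      (e.act_mem (L := Plane.low q) hU hr (Plane.mem_low.2 (Plane.ent_refl (q := q)).2.2.1) hg)
    have h5 := mul_mem (mem_sup_left (T := zpowers y) (pow_mem (mem_zpowers z) a))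
      (mem_sup_right (S := zpowers z) ha)
    rwa [mul_inv_cancel_left] at h5
  exact e.z_ne (mem_bot.1 ((hI _ h1 h2 h3 h4).le
    (Subgroup.mem_inf.2 ⟨mem_sup_left (mem_zpowers z), e.zR⟩)))

/-- A rotation acting as `-1` does not leave the second axis to `C(t)`. -/
theorem not_upp_neg (hI1 : ∀ B : Subgroup G, B ≤ opOf q (coreCent (central σ n)) →
      centralizer ({central σ n} : Set G) ≤ normalizer (B : Set G) → IsMulCommutative ↥B →
      (∀ b ∈ B, b ^ q = 1) → B ⊓ fixR (central σ n) (σ * τ) = ⊥)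
    (hr : e.act (h.le_centralizer h.hσ) = -1)
    (hU : ∀ a ∈ e.frame.image (coreCent (central σ n)), Plane.ent a 0 1 = 0) : False := by
  obtain ⟨g00, g01, g10, g11⟩ := Plane.ent_refl (q := q)
  obtain ⟨h1, h2, h3, h4⟩ := e.line_facts e.xmem fun g hg => by
    obtain ⟨a, ha⟩ := (e.frame.ent_upp_iff ⟨g, e.le_frameDom hg⟩).1
      (e.act_mem (L := Plane.upp q) hU (by rw [hr, Plane.mem_upp]; simp [Plane.ent_neg, Plane.ent_one])
        (Plane.mem_upp.2 g01) hg)
    have h5 := mul_mem (mem_sup_left (T := zpowers y) (pow_mem (mem_zpowers x) a))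
      (mem_sup_right (S := zpowers x) ha)
    rwa [mul_inv_cancel_left] at h5
  set B := zpowers x ⊔ zpowers y
  have hρ := h.le_centralizer (mul_mem h.hσ h.hτ)
  have hinv := Hyp.inverted_of_avoid h.symm (h1.trans (opOf_le q _)) (h2 hρ) (hI1 B h1 h2 h3 h4)
    (mem_sup_left (mem_zpowers x))
  have hfix : x⁻¹ * (σ * τ * x * (σ * τ)⁻¹) ∈ zpowers y := by
    have hact := e.act_sigma_tau
    rw [hr, neg_one_mul] at hact
    exact e.frame.fix_second ⟨σ * τ, e.le_frameDom hρ⟩
      ((congrArg (fun a => Plane.ent a 0 1) hact).trans (by rw [Plane.ent_neg, g01, neg_zero]))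
      ((congrArg (fun a => Plane.ent a 1 1) hact).trans (by rw [Plane.ent_neg, g11, neg_neg]))
  rw [hinv, ← mul_inv_rev, inv_mem_iff, ← pow_two] at hfix
  have h6 := (e.frame.indep 0 2 (by rwa [pow_zero, one_mul])).2
  exact e.ne_two ((Nat.prime_dvd_prime_iff_eq (Fact.out : q.Prime) Nat.prime_two).1 h6)

/-- An element of 2-power order fixing `y` and acting trivially centralises `W`. -/
theorem commute_of_act_one {g : G} (hg : g ∈ centralizer ({central σ n} : Set G)) (hgy : Commute g y) {N : ℕ}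
    (hgN : g ^ 2 ^ N = 1) (h1 : e.act hg = 1) {w : G} (hw : w ∈ W) : Commute g w := by
  have hc := e.frame.mem_of_hom_eq_one h1 hw
  set c := w⁻¹ * (g * w * g⁻¹) with hcdef
  obtain ⟨i, hi⟩ := mem_zpowers_iff.1 hc
  have hgc : g * c * g⁻¹ = c := by rw [← hi, (hgy.zpow_right i).eq, mul_inv_cancel_right]
  have hk : ∀ k : ℕ, g ^ k * w * (g ^ k)⁻¹ = w * c ^ k := fun k => by
    induction k with
    | zero => simp
    | succ k ih =>
      rw [pow_succ', show g * g ^ k * w * (g * g ^ k)⁻¹ = g * (g ^ k * w * (g ^ k)⁻¹) * g⁻¹ by group, ih,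
        show g * (w * c ^ k) * g⁻¹ = (g * w * g⁻¹) * (g * c ^ k * g⁻¹) by group, ← conj_pow, hgc,
        show g * w * g⁻¹ = w * c by rw [hcdef]; group, mul_assoc, ← pow_succ']
  have h2 := hk (2 ^ N)
  rw [hgN, one_mul, inv_one, mul_one, left_eq_mul] at h2
  have hc1 := eq_one_of_two_pow h.odd_coreCent (e.W_le_core (e.frame.le hc)) h2
  have h3 := hk 1
  rw [hc1, pow_one, pow_one, mul_one] at h3
  exact mul_inv_eq_iff_eq_mul.1 h3

/-- An element acting as `-1` fixes only elements of `⟨y⟩`. -/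
theorem mem_of_fixed_neg {g : G} (hg : g ∈ centralizer ({central σ n} : Set G)) (h1 : e.act hg = -1) {w : G}
    (hw : w ∈ W) (hgw : Commute g w) : w ∈ zpowers y := by
  have hgd := e.le_frameDom hg
  set v := e.frame.coord w with hv
  have h2 : e.frame.act g hgd = -LinearMap.id := by
    refine LinearMap.toMatrix'.injective ?_
    rw [map_neg, LinearMap.toMatrix'_id]
    exact congrArg Units.val h1
  have h3 : e.frame.coord (g * e.frame.vec v * g⁻¹) = v := by
    refine e.frame.coord_eq (e.frame.conj_mem_M hgd (e.frame.vec_mem v)) ?_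
    have h4 := e.frame.coord_spec hw
    rw [← hv] at h4
    have h5 := mul_mem h4 (inv_mem (e.frame.conj_mem_N hgd h4))
    rwa [show (e.frame.vec v)⁻¹ * w * (g * ((e.frame.vec v)⁻¹ * w) * g⁻¹)⁻¹ =
      (e.frame.vec v)⁻¹ * (w * (g * w * g⁻¹)⁻¹) * (g * e.frame.vec v * g⁻¹) by group, hgw.eq,
      mul_inv_cancel_right, mul_inv_cancel, mul_one] at h5
  rw [← e.frame.act_apply g hgd, h2, LinearMap.neg_apply, LinearMap.id_apply] at h3
  have hv0 : v = 0 := by
    funext j
    have h6 : -v j = v j := congrFun h3 j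
    exact (mul_eq_zero.1 (show (2 : ZMod q) * v j = 0 by linear_combination -h6)).resolve_left
      (Plane.two_ne_zero' e.ne_two)
  have h7 := e.frame.coord_spec hw
  rw [← hv, hv0] at h7
  rwa [show e.frame.vec (0 : Fin 2 → ZMod q) = 1 by simp [Frame.vec, ZMod.val_zero], inv_one, one_mul] at h7

/-- The group `R` normalises `⟨z⟩`. -/
theorem fixR_le_normalizer : fixR (central σ n) τ ≤ normalizer (zpowers z : Set G) := fun g hg =>
  mem_normalizer_zpowers_of_conj (e.fix _
    (conj_mem_of_normalizer (e.wnorm (h.coreCent_le (h.mem_fixR.1 hg).1)) e.zmem)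
    (mul_mem (mul_mem hg e.zR) (inv_mem hg)))

variable {i : ℕ} (hi : 1 ≤ i) (hin : i ≤ n - 1) (hri : e.act (h.le_centralizer h.hσ) ^ 2 ^ (i - 1) = -1)
include hi hin hri

/-- The 2-part of `C(z) ⊓ C(t)` under a rotation of order `2 ^ i`. -/
theorem factorization_rot : (Nat.card ↥(centralizer ({z} : Set G) ⊓ centralizer ({central σ n} : Set G) :
    Subgroup G)).factorization 2 = n - i := by
  have hσC := h.le_centralizer h.hσ
  have h2i : e.act (h.le_centralizer h.hσ) ^ 2 ^ i = 1 := by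
    rw [show i = i - 1 + 1 by omega, pow_succ, pow_mul, hri, neg_one_sq]
  have hzσ : Commute (σ ^ 2 ^ i) z := e.commute_of_act_one (pow_mem hσC _) (e.sigma_commute_y.pow_left _)
    (N := n - 1) (by rw [← pow_mul, mul_comm, pow_mul, ← h.orderσ, pow_orderOf_eq_one, one_pow])
    (by rw [e.act_pow hσC]; exact h2i) e.zmem
  obtain ⟨P, hP, hPc⟩ := h.exists_dihedral_part hin hzσ (h.mem_fixR.1 e.zR).2.symm
  refine h.factorization_stab hP hPc fun c hc => ?_
  set w := c * z * c⁻¹ with hwdef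
  have hwW : w ∈ W := conj_mem_of_normalizer (e.wnorm hc) e.zmem
  have hwy : w ∉ zpowers y := fun hwy => by
    have h8 := (mem_normalizer_iff.1 (e.zpowers_normalized hc) z).2 hwy
    exact Nat.Prime.not_dvd_one (Fact.out : q.Prime) (e.frame.indep 1 0 (by simpa using h8)).1
  refine (h.card_le_two_mul_rotations inf_le_left).trans ?_
  rw [show n - i = n - 1 - i + 1 by omega, pow_succ', ← h.card_zpowers_pow hin]
  refine Nat.mul_le_mul_left 2 (card_le_of_le fun v hv => ?_)
  obtain ⟨hvσ, -, hvc⟩ := hv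
  obtain ⟨k, hk⟩ := Submonoid.mem_powers_iff _ _ |>.1 ((mem_powers_iff_mem_zpowers).2 hvσ)
  subst hk
  have hj : Commute (σ ^ k) w := mem_centralizer_singleton_iff.1 hvc
  rcases Nat.eq_zero_or_pos k with rfl | hk0
  · simp
  obtain ⟨a, d, hd, rfl⟩ := Nat.exists_eq_two_pow_mul_odd hk0.ne'
  by_cases hai : i ≤ a
  · obtain ⟨a', rfl⟩ : ∃ a', a = i + a' := ⟨a - i, by omega⟩
    rw [pow_add, mul_assoc, pow_mul]
    exact pow_mem (mem_zpowers _) _
  refine absurd ?_ hwy
  have h9 : Commute (σ ^ (2 ^ (i - 1) * d)) w := by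
    have := hj.pow_left (2 ^ (i - 1 - a))
    rwa [← pow_mul, show 2 ^ a * d * 2 ^ (i - 1 - a) = 2 ^ (i - 1) * d by
      rw [mul_right_comm, ← pow_add, show a + (i - 1 - a) = i - 1 by omega]] at this
  exact e.mem_of_fixed_neg (pow_mem hσC _) (by rw [e.act_pow hσC, pow_mul, hri, hd.neg_one_pow]) hwW h9

end XSpec

end Cfsg.Agent.Invol.GW.Dihedral
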