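import Cfsg.Agent.Lib.Invol.GW.Dihedral.Assembly
import Cfsg.Agent.Lib.Invol.GW.Dihedral.BadPrimeEnd
import Cfsg.Agent.Lib.Invol.GW.Dihedral.CaseFinal

/-!
# Gorenstein–Walter from the exclusion of three-class maximal subgroups
-/

set_option autoImplicit false

namespace Cfsg.Agent.Invol.GW.Dihedral

universe u

/-- The theorem of Gorenstein and Walter, given that no maximal subgroup properly over `C(t)` has three classes. -/
theorem gwStatement_of_three (hT : ThreeDone.{u}) : GWStatement.{u} :=
  gwStatement_of_parts factsDone hT goodDone_holds caseDone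

end Cfsg.Agent.Invol.GW.Dihedral
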