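import Cfsg.Agent.Lib.Invol.GW.Dihedral.Setup
import Cfsg.Agent.Lib.Invol.GW.Klein.Cores

/-!
# The four groups `⟨t, w⟩` of a dihedral Sylow subgroup and their fusion

`four t w` is the subgroup generated by two commuting involutions; `Fuses L t w` says that an element of `L`
permutes `t, w, t * w` cyclically.  Every statement about `τ` transfers to the other reflections by `Hyp.symm`.
-/

set_option autoImplicit false
set_option linter.unusedSectionVars false

namespace Cfsg.Agent.Invol.GW.Dihedral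

open Subgroup Klein
open scoped Pointwise

universe u

variable {G : Type u} [Group G]

/-- The subgroup generated by `t` and `w`. -/
def four (t w : G) : Subgroup G := closure {t, w}

/-- An element of `L` permutes `t`, `w` and `t * w` cyclically. -/
def Fuses (L : Subgroup G) (t w : G) : Prop := ∃ g ∈ L, g * t * g⁻¹ = w ∧ g * w * g⁻¹ = t * w

theorem left_mem_four (t w : G) : t ∈ four t w := subset_closure (Set.mem_insert _ _)

theorem right_mem_four (t w : G) : w ∈ four t w := subset_closure (Set.mem_insert_of_mem _ rfl)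

theorem four_le {t w : G} {L : Subgroup G} (ht : t ∈ L) (hw : w ∈ L) : four t w ≤ L :=
  (closure_le L).2 (Set.insert_subset ht (Set.singleton_subset_iff.2 hw))

theorem mem_four {t w : G} (ht : t * t = 1) (hw : w * w = 1) (hc : Commute t w) {x : G} :
    x ∈ four t w ↔ x = 1 ∨ x = t ∨ x = w ∨ x = t * w := by
  constructor
  · intro hx
    refine closure_induction (p := fun y _ => y = 1 ∨ y = t ∨ y = w ∨ y = t * w) ?_ (Or.inl rfl) ?_ ?_ hx
    · rintro y (e | e)
      · exact Or.inr (Or.inl e)
      · exact Or.inr (Or.inr (Or.inl e))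
    · have hwt : w * t = t * w := hc.eq.symm
      have h1 : t * (t * w) = w := by rw [← mul_assoc, ht, one_mul]
      have h2 : w * (t * w) = t := by rw [← mul_assoc, hwt, mul_assoc, hw, mul_one]
      have h3 : t * w * t = w := by rw [mul_assoc, hwt, h1]
      have h4 : t * w * w = t := by rw [mul_assoc, hw, mul_one]
      have h5 : t * w * (t * w) = 1 := by rw [mul_assoc, h2, ht]
      rintro a b _ _ (rfl | rfl | rfl | rfl) (rfl | rfl | rfl | rfl) <;>
        simp [ht, hw, hwt, h1, h2, h3, h4, h5]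
    · rintro a _ (rfl | rfl | rfl | rfl)
      · exact Or.inl inv_one
      · exact Or.inr (Or.inl (inv_eq_of_mul_eq_one_right ht))
      · exact Or.inr (Or.inr (Or.inl (inv_eq_of_mul_eq_one_right hw)))
      · refine Or.inr (Or.inr (Or.inr (inv_eq_of_mul_eq_one_right ?_)))
        rw [mul_assoc, ← mul_assoc w t w, ← hc.eq, mul_assoc t w w, hw, mul_one, ht]
  · rintro (e | e | e | e) <;> rw [e]
    exacts [one_mem _, left_mem_four t w, right_mem_four t w, mul_mem (left_mem_four t w) (right_mem_four t w)]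

theorem Fuses.mono {L M : Subgroup G} {t w : G} (h : Fuses L t w) (hLM : L ≤ M) : Fuses M t w := by
  obtain ⟨g, hg, h1, h2⟩ := h
  exact ⟨g, hLM hg, h1, h2⟩

theorem Fuses.rotate {L : Subgroup G} {t w : G} (h : Fuses L t w) : Fuses L w (t * w) := by
  obtain ⟨g, hg, h1, h2⟩ := h
  refine ⟨g, hg, h2, ?_⟩
  rw [show g * (t * w) * g⁻¹ = (g * t * g⁻¹) * (g * w * g⁻¹) by group, h1, h2]

theorem Fuses.swap {L : Subgroup G} {t w : G} (h : Fuses L t w) (hw : w * w = 1) (hc : Commute t w) :
    Fuses L w t := by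
  obtain ⟨g, hg, h1, h2⟩ := h
  refine ⟨g⁻¹, inv_mem hg, ?_, ?_⟩
  · rw [← h1]; group
  · have h3 : g * (t * w) * g⁻¹ = t := by
      rw [show g * (t * w) * g⁻¹ = (g * t * g⁻¹) * (g * w * g⁻¹) by group, h1, h2, ← mul_assoc, ← hc.eq,
        mul_assoc, hw, mul_one]
    calc g⁻¹ * t * g⁻¹⁻¹ = g⁻¹ * (g * (t * w) * g⁻¹) * g := by rw [h3, inv_inv]
      _ = t * w := by group
      _ = w * t := hc.eq

theorem Fuses.smul {L : Subgroup G} {t w : G} (h : Fuses L t w) (c : G) :
    Fuses (MulAut.conj c • L) (c * t * c⁻¹) (c * w * c⁻¹) := by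
  obtain ⟨g, hg, h1, h2⟩ := h
  refine ⟨c * g * c⁻¹, ⟨g, hg, rfl⟩, ?_, ?_⟩
  · rw [← h1]; group
  · rw [show c * t * c⁻¹ * (c * w * c⁻¹) = c * (t * w) * c⁻¹ by group, ← h2]; group

/-- The elements fusing a four group normalise it. -/
theorem mem_normalizer_four [Finite G] {t w g : G} (h1 : g * t * g⁻¹ ∈ four t w) (h2 : g * w * g⁻¹ ∈ four t w) :
    g ∈ normalizer (four t w : Set G) := by
  have hle : MulAut.conj g • four t w ≤ four t w := by
    rintro _ ⟨x, hx, rfl⟩
    refine closure_induction (p := fun y _ => g * y * g⁻¹ ∈ four t w) ?_ ?_ ?_ ?_ hx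
    · rintro y (rfl | rfl)
      exacts [h1, h2]
    · simp
    · intro a b _ _ ha hb
      rw [show g * (a * b) * g⁻¹ = (g * a * g⁻¹) * (g * b * g⁻¹) by group]
      exact mul_mem ha hb
    · intro a _ ha
      rw [show g * a⁻¹ * g⁻¹ = (g * a * g⁻¹)⁻¹ by group]
      exact inv_mem ha
  exact Grp.mem_normalizer_iff_smul.2 (eq_of_le_of_card_ge hle (Grp.card_conj_smul g _).ge)

/-- A `p`-subgroup of a group over a Sylow subgroup has a conjugate inside it. -/
theorem exists_conj_le_sylow [Finite G] {p : ℕ} [Fact p.Prime] (P : Sylow p G) {X K : Subgroup G}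
    (hPX : (P : Subgroup G) ≤ X) (hKX : K ≤ X) (hK : IsPGroup p K) :
    ∃ x ∈ X, ∀ y ∈ K, x * y * x⁻¹ ∈ (P : Subgroup G) := by
  obtain ⟨Q, hQ⟩ := (hK.of_equiv (subgroupOfEquivOfLe hKX).symm).exists_le_sylow
  obtain ⟨x, hx⟩ := MulAction.exists_smul_eq ↥X Q (P.subtype hPX)
  refine ⟨x, x.2, fun y hy => ?_⟩
  have h1 : x * (⟨y, hKX hy⟩ : ↥X) * x⁻¹ ∈ (P.subtype hPX : Subgroup ↥X) := by
    rw [← hx, Sylow.coe_subgroup_smul]
    exact ⟨_, hQ (mem_subgroupOf.2 hy), rfl⟩
  exact mem_subgroupOf.1 h1

namespace Hyp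

variable [Finite G] {S : Sylow 2 G} {σ τ : G} {n : ℕ} (h : Hyp S σ τ n)
include h

theorem central_mul_self : central σ n * central σ n = 1 := by
  rw [← pow_two, ← h.orderOf_central, pow_orderOf_eq_one]

theorem central_ne_one : central σ n ≠ 1 := fun e => by
  have := h.orderOf_central
  rw [e, orderOf_one] at this
  omega

theorem central_commute {x : G} (hx : x ∈ (S : Subgroup G)) : Commute (central σ n) x :=
  (mem_centralizer_singleton_iff.1 (h.le_centralizer hx) : x * central σ n = central σ n * x).symm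

theorem commute_central_tau : Commute (central σ n) τ := h.central_commute h.hτ

theorem tau_ne_one : τ ≠ 1 := fun e => by
  have := h.orderτ
  rw [e, orderOf_one] at this
  omega

theorem tau_inv : τ⁻¹ = τ := inv_eq_of_mul_eq_one_right h.tau_mul_self

theorem tau_notMem : τ ∉ zpowers σ := fun hmem => by
  obtain ⟨k, hk⟩ := mem_zpowers_iff.1 hmem
  have h1 := h.rel
  rw [← hk, ← zpow_add_one, ← zpow_neg, ← zpow_add, show k + 1 + -k = (1 : ℤ) by ring, zpow_one,
    eq_inv_iff_mul_eq_one, ← pow_two] at h1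
  have h2 := orderOf_le_of_pow_eq_one (n := 2) (by norm_num) h1
  rw [h.orderσ] at h2
  have h4 : 2 ^ 2 ≤ 2 ^ (n - 1) := Nat.pow_le_pow_right two_pos (by have := h.three; omega)
  omega

theorem central_ne_tau : central σ n ≠ τ := fun e => h.tau_notMem (e ▸ h.central_mem_zpowers)

theorem mem_four_tau {x : G} :
    x ∈ four (central σ n) τ ↔ x = 1 ∨ x = central σ n ∨ x = τ ∨ x = central σ n * τ :=
  mem_four h.central_mul_self h.tau_mul_self h.commute_central_tau

theorem four_le_sylow : four (central σ n) τ ≤ (S : Subgroup G) := Dihedral.four_le h.central_mem h.hτ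

theorem four_le_centralizer : four (central σ n) τ ≤ centralizer ({central σ n} : Set G) :=
  h.four_le_sylow.trans h.le_centralizer

theorem central_mul_tau_ne : central σ n * τ ≠ 1 := fun e =>
  h.central_ne_tau ((mul_eq_one_iff_eq_inv.1 e).trans h.tau_inv)

theorem isKleinFour_four : IsKleinFour (four (central σ n) τ) := by
  classical
  have hs : (four (central σ n) τ : Set G) =
      (({1, central σ n, τ, central σ n * τ} : Finset G) : Set G) := by
    ext x
    simp [SetLike.mem_coe, h.mem_four_tau]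
  have hcard : Nat.card (four (central σ n) τ) = 4 := by
    rw [show Nat.card (four (central σ n) τ) = Nat.card (four (central σ n) τ : Set G) from rfl, hs,
      Nat.card_coe_set_eq, Set.ncard_coe_finset]
    have h1 := h.central_ne_one
    have h2 := h.tau_ne_one
    have h3 := h.central_mul_tau_ne
    have h4 := h.central_ne_tau
    have h5 : central σ n ≠ central σ n * τ := fun e => h.tau_ne_one (mul_eq_left.1 e.symm)
    have h6 : τ ≠ central σ n * τ := fun e => h.central_ne_one (mul_eq_right.1 e.symm)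
    simp [Ne.symm h1, Ne.symm h2, Ne.symm h3, h4, h5, h6]
  refine ⟨hcard, ?_⟩
  haveI : Nontrivial (four (central σ n) τ) := Finite.one_lt_card_iff_nontrivial.1 (by omega)
  refine (Monoid.exponent_eq_prime_iff Nat.prime_two).2 fun x hx => orderOf_eq_prime (Subtype.ext ?_) hx
  rw [SubgroupClass.coe_pow, pow_two, OneMemClass.coe_one]
  rcases h.mem_four_tau.1 x.2 with e | e | e | e <;> rw [e]
  · exact one_mul _
  · exact h.central_mul_self
  · exact h.tau_mul_self
  · rw [mul_assoc, ← mul_assoc τ, ← h.commute_central_tau.eq, mul_assoc (central σ n) τ, h.tau_mul_self,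
      mul_one, h.central_mul_self]

theorem isPGroup_four : IsPGroup 2 (four (central σ n) τ) := S.isPGroup'.to_le h.four_le_sylow

/-- An involution among the rotations is the central one. -/
theorem eq_central {x : G} (hx : x ∈ zpowers σ) (hxx : x * x = 1) (hx1 : x ≠ 1) : x = central σ n := by
  have h1 := (h.data.rotation_involution h.two_pow_eq hx hxx).resolve_left hx1
  rwa [h.exp_eq] at h1

theorem commute_tau_mem {x : G} (hx : x ∈ (S : Subgroup G)) (hc : Commute x τ) :
    x ∈ four (central σ n) τ := by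
  refine h.mem_four_tau.2 ?_
  have h1 := h.data.centralizer_reflection h.two_pow_eq h.hτ h.tau_notMem hx hc.eq
  rwa [h.exp_eq] at h1

/-- Reflections are moved to their product with `t` by a rotation of order four. -/
theorem exists_quarter : ∃ s ∈ (S : Subgroup G), s * central σ n * s⁻¹ = central σ n ∧
    ∀ w ∈ (S : Subgroup G), w ∉ zpowers σ → s * w * s⁻¹ = central σ n * w := by
  refine ⟨σ ^ (2 ^ (n - 3)), pow_mem h.hσ _, ?_, fun w hw hwσ => ?_⟩
  · rw [← (h.central_commute (pow_mem h.hσ _)).eq, mul_inv_cancel_right]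
  · obtain ⟨hww, -, hwc⟩ := (h.data.cases w hw).resolve_left hwσ
    set s := σ ^ (2 ^ (n - 3)) with hs
    have hws : w * s * w⁻¹ = s⁻¹ := by rw [hs, ← conj_pow, hwc, inv_pow]
    have hss : s * s = central σ n := by
      rw [hs, central, ← pow_add, ← two_mul, ← pow_succ', show n - 3 + 1 = n - 2 by have := h.three; omega]
    calc s * w * s⁻¹ = s * (w * s⁻¹ * w⁻¹) * w := by group
      _ = s * s * w := by rw [show w * s⁻¹ * w⁻¹ = (w * s * w⁻¹)⁻¹ by group, hws, inv_inv]
      _ = central σ n * w := by rw [hss]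

/-- The group fuses the four group of every reflection. -/
theorem exists_fuse : Fuses (⊤ : Subgroup G) (central σ n) τ := by
  have : Fact (Nat.Prime 2) := ⟨Nat.prime_two⟩
  obtain ⟨g, hg⟩ := isConj_iff.1 (h.one_central τ h.orderτ)
  obtain ⟨s, hsS, hst, hsw⟩ := h.exists_quarter
  set V := four (central σ n) τ
  have hK : IsPGroup 2 (MulAut.conj g⁻¹ • V : Subgroup G) :=
    h.isPGroup_four.map (MulDistribMulAction.toMonoidHom G (MulAut.conj g⁻¹))
  have hKC : MulAut.conj g⁻¹ • V ≤ centralizer ({central σ n} : Set G) := by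
    rintro _ ⟨y, hy, rfl⟩
    refine mem_centralizer_singleton_iff.2 ?_
    have hc : Commute y τ := by
      rcases h.mem_four_tau.1 hy with rfl | rfl | rfl | rfl
      exacts [Commute.one_left _, h.commute_central_tau, Commute.refl _,
        h.commute_central_tau.mul_left (Commute.refl _)]
    have h1 := hc.conj g⁻¹
    rw [← hg, show g⁻¹ * (g * central σ n * g⁻¹) * g⁻¹⁻¹ = central σ n by group] at h1
    exact h1.eq
  obtain ⟨c, hc, hcV⟩ := exists_conj_le_sylow S h.le_centralizer hKC hK
  set k := c * g⁻¹ with hk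
  have hkmem : ∀ y ∈ V, k * y * k⁻¹ ∈ (S : Subgroup G) := fun y hy => by
    have h1 := hcV (g⁻¹ * y * g) (Grp.mem_smul_conj.2 (by simpa [mul_assoc] using hy))
    rwa [show c * (g⁻¹ * y * g) * c⁻¹ = k * y * k⁻¹ by rw [hk]; group] at h1
  have hkτ : k * τ * k⁻¹ = central σ n := by
    rw [hk, ← hg, show c * g⁻¹ * (g * central σ n * g⁻¹) * (c * g⁻¹)⁻¹ = c * central σ n * c⁻¹ by group,
      mem_centralizer_singleton_iff.1 hc, mul_inv_cancel_right]
  set w := k * central σ n * k⁻¹ with hw
  have hwσ : w ∉ zpowers σ := fun hmem => by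
    refine h.central_ne_tau (mul_left_cancel (mul_right_cancel ((?_ : w = central σ n).trans hkτ.symm)))
    refine h.eq_central hmem ?_ ?_
    · rw [hw, show k * central σ n * k⁻¹ * (k * central σ n * k⁻¹) =
        k * (central σ n * central σ n) * k⁻¹ by group, h.central_mul_self]
      group
    · rw [hw, ne_eq, conj_eq_one_iff]
      exact h.central_ne_one
  have hsw' := hsw w (hkmem _ (left_mem_four _ _)) hwσ
  set b := k⁻¹ * s * k with hb
  have hbτ : b * τ * b⁻¹ = τ := by
    calc b * τ * b⁻¹ = k⁻¹ * (s * (k * τ * k⁻¹) * s⁻¹) * k := by rw [hb]; group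
      _ = k⁻¹ * (k * τ * k⁻¹) * k := by rw [hkτ, hst]
      _ = τ := by group
  have hbt : b * central σ n * b⁻¹ = central σ n * τ := by
    calc b * central σ n * b⁻¹ = k⁻¹ * (s * w * s⁻¹) * k := by rw [hb, hw]; group
      _ = k⁻¹ * ((k * τ * k⁻¹) * (k * central σ n * k⁻¹)) * k := by rw [hsw', hw, ← hkτ]
      _ = τ * central σ n := by group
      _ = central σ n * τ := h.commute_central_tau.eq.symm
  have hsτ := hsw τ h.hτ h.tau_notMem
  refine ⟨s * b, mem_top _, ?_, ?_⟩
  · rw [show s * b * central σ n * (s * b)⁻¹ = s * (b * central σ n * b⁻¹) * s⁻¹ by group, hbt,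
      show s * (central σ n * τ) * s⁻¹ = (s * central σ n * s⁻¹) * (s * τ * s⁻¹) by group, hst, hsτ,
      ← mul_assoc, h.central_mul_self, one_mul]
  · rw [show s * b * τ * (s * b)⁻¹ = s * (b * τ * b⁻¹) * s⁻¹ by group, hbτ, hsτ]

end Hyp

end Cfsg.Agent.Invol.GW.Dihedral
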