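import Cfsg.Agent.Lib.Invol.GW.Dihedral.Setup
import Cfsg.Agent.Lib.Invol.GW.Dihedral.Four

/-!
# Gorenstein–Walter, dihedral: what a fusing local subgroup with one class of involutions gives

`H` fuses `⟨t, τ⟩`, has one class of involutions, its core lies in `R` and `τ` moves `U ⊓ H`.  With `E` the last
derived subgroup of `H`, `D = [U ⊓ H, τ] ≤ U ⊓ E` is cyclic and inverted, and either a reflection in `H` centralises
it (`A₇`) or `D = U ⊓ E`, `E ≅ PSL₂(l)` with `l ± 1 = 2 ^ k |D|`, `2 ^ k` the order of a Sylow 2-subgroup of `H`.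
-/

set_option autoImplicit false
set_option linter.unusedSectionVars false

namespace Cfsg.Agent.Invol.GW.Dihedral

open Subgroup Klein
open scoped commutatorElement

universe u

variable {G : Type u} [Group G]

/-- The last derived subgroup. -/
def locE (H : Subgroup G) : Subgroup G := ⨅ i : ℕ, (derivedSeries ↥H i).map H.subtype

/-- The inverted part of `U ⊓ H`. -/
def locD (σ τ : G) (n : ℕ) (H : Subgroup G) : Subgroup G :=
  ⁅coreCent (central σ n) ⊓ H, zpowers τ⁆

/-- The data of a fusing subgroup with one class of involutions and core in `R`. -/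
structure LocalData (σ τ : G) (n : ℕ) (H : Subgroup G) : Prop where
  normalizer_le : normalizer (H : Set G) ≤ normalizer (locE H : Set G)
  not_le : ¬ locE H ≤ centralizer ({central σ n} : Set G)
  le_E : locD σ τ n H ≤ coreCent (central σ n) ⊓ locE H
  ne_bot : locD σ τ n H ≠ ⊥
  isCyclic : IsCyclic ↥(locD σ τ n H)
  inverted : ∀ d ∈ locD σ τ n H, τ * d * τ⁻¹ = d⁻¹
  sup_eq : (fixR (central σ n) τ ⊓ H) ⊔ locD σ τ n H = coreCent (central σ n) ⊓ H
  field : ∀ q : ℕ, q.Prime → ∀ x ∈ fixR (central σ n) τ ⊓ H, IsPGroup q (zpowers x) →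
    IsPGroup q ↥⁅locD σ τ n H, zpowers x⁆ → ∀ e ∈ locE H, Commute x e
  arith :
    (∃ ρ ∈ H, orderOf ρ = 2 ∧ ρ ≠ central σ n ∧ Commute ρ (central σ n) ∧ ∀ d ∈ locD σ τ n H, Commute ρ d) ∨
    ∃ (F : Type) (_ : Field F) (_ : Fintype F) (k : ℕ), Odd (Fintype.card F) ∧ 5 ≤ Fintype.card F ∧
      Nonempty (↥(locE H) ≃* Matrix.ProjectiveSpecialLinearGroup (Fin 2) F) ∧
      four (central σ n) τ ≤ locE H ∧ locE H ⊓ fixR (central σ n) τ = ⊥ ∧
      locD σ τ n H = coreCent (central σ n) ⊓ locE H ∧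
      2 ≤ k ∧ (Nat.card ↥(H ⊓ centralizer ({central σ n} : Set G))).factorization 2 = k ∧
      (Fintype.card F + 1 = 2 ^ k * Nat.card ↥(locD σ τ n H) ∨
        Fintype.card F = 2 ^ k * Nat.card ↥(locD σ τ n H) + 1)

/-- What piece 2 proves. -/
def LocalStatement (σ τ : G) (n : ℕ) : Prop :=
  ∀ H : Subgroup G, H ≠ ⊤ → four (central σ n) τ ≤ H → Fuses H (central σ n) τ →
    (∀ s ∈ H, orderOf s = 2 → ∃ k ∈ H, k * s * k⁻¹ = central σ n) →
    oddOf H ≤ fixR (central σ n) τ → ¬ coreCent (central σ n) ⊓ H ≤ centralizer ({τ} : Set G) →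
    LocalData σ τ n H

end Cfsg.Agent.Invol.GW.Dihedral
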