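import Cfsg.Agent.Lib.Invol.GW.Dihedral.LocalsNormal
import Cfsg.Agent.Lib.Invol.GW.Dihedral.LocalData
import Cfsg.Agent.Lib.Invol.GW.Klein.LinearData

/-!
# Gorenstein–Walter, dihedral case: the perfect normal subgroup of a fusing subgroup with one class of involutions

If `H` fuses `⟨t, τ⟩`, has one class of involutions and its core is centralised by `⟨t, τ⟩` then its last derived
subgroup `E` has odd index, centralises the core and maps onto `PSL₂(q)` or `A₇` with the kernel `E ⊓ O(H)`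
(`EData`).  When the odd part of the centraliser of `t` in this quotient is cyclic and inverted by `τ`, the
subgroup `locD` consists of the inverted elements of `U ⊓ E` and `U ⊓ H = (R ⊓ H) locD`.
-/

set_option autoImplicit false
set_option linter.unusedSectionVars false
set_option linter.style.haveILetI false

namespace Cfsg.Agent.Invol.GW.Dihedral

open Subgroup Klein
open scoped commutatorElement

universe u

variable {G : Type u} [Group G]

/-- The perfect normal subgroup of odd index, centralising the core, with its quotient. -/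
structure EData (σ τ : G) (n : ℕ) (H E : Subgroup G) {Q : Type} [Group Q] (φ : ↥E →* Q) : Prop where
  le : E ≤ H
  normal : H ≤ normalizer (E : Set G)
  four_le : four (central σ n) τ ≤ E
  surj : Function.Surjective φ
  ker : ∀ x : ↥E, φ x = 1 ↔ (x : G) ∈ oddOf H
  comm_core : ∀ x ∈ E, ∀ y ∈ oddOf H, Commute x y
  perfect : commutator ↥E = ⊤
  odd_index : Odd (E.relIndex H)
  locE_eq : locE H = E
  normalizer_locE : normalizer (H : Set G) ≤ normalizer (locE H : Set G)
  self : ∀ x ∈ H, (∀ y ∈ E, x * y * x⁻¹ * y⁻¹ ∈ oddOf H) → x ∈ oddOf H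

/-- The last derived subgroup is a perfect normal subgroup of odd index. -/
theorem locE_of_perfect [Finite G] {H E : Subgroup G} (hE : E ≤ H) (hn : H ≤ normalizer (E : Set G))
    (hp : ⁅E, E⁆ = E) (hodd : Odd (E.relIndex H)) :
    locE H = E ∧ normalizer (H : Set G) ≤ normalizer (locE H : Set G) := by
  haveI : (E.subgroupOf H).Normal := normal_subgroupOf_of_le_normalizer hn
  haveI : Group.IsSolvable (↥H ⧸ E.subgroupOf H) := Cfsg.Agent.S0205.result (by rwa [← index_eq_card])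
  obtain ⟨k, hk⟩ := (Group.isSolvable_def (↥H ⧸ E.subgroupOf H)).1 inferInstance
  have hle : derivedSeries ↥H k ≤ E.subgroupOf H := by
    rw [← map_derivedSeries_eq (QuotientGroup.mk'_surjective (E.subgroupOf H)), Subgroup.map_eq_bot_iff,
      QuotientGroup.ker_mk'] at hk
    exact hk
  have hge : ∀ i, E ≤ (derivedSeries ↥H i).map H.subtype := by
    intro i
    induction i with
    | zero =>
      rw [derivedSeries_zero, ← MonoidHom.range_eq_map, range_subtype]
      exact hE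
    | succ i ih =>
      rw [derivedSeries_succ, map_commutator, ← hp]
      exact commutator_mono ih ih
  have heq : (derivedSeries ↥H k).map H.subtype = E :=
    le_antisymm ((map_mono hle).trans_eq (map_subgroupOf_eq_of_le hE)) (hge k)
  have hloc : locE H = E := le_antisymm ((iInf_le _ k).trans_eq heq) (le_iInf hge)
  refine ⟨hloc, ?_⟩
  rw [hloc, ← heq]
  exact Isolated.normalizer_le_map_char H _

/-- A dihedral group is generated by its reflections. -/
theorem le_of_reflections {P : Type u} [Group P] {m : ℕ} (e : P ≃* DihedralGroup m) (A : Subgroup P)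
    (hA : ∀ x : P, x * x = 1 → x ∈ A) : A = ⊤ := by
  refine eq_top_iff.2 fun x _ => ?_
  have hsr : ∀ i, e.symm (DihedralGroup.sr i) ∈ A := fun i => hA _ (by
    rw [← map_mul, DihedralGroup.sr_mul_self, map_one])
  obtain ⟨y, rfl⟩ := e.symm.surjective x
  cases y with
  | sr i => exact hsr i
  | r i =>
    rw [show DihedralGroup.r i = DihedralGroup.sr 0 * DihedralGroup.sr i by
      rw [DihedralGroup.sr_mul_sr, sub_zero], map_mul]
    exact mul_mem (hsr 0) (hsr i)

namespace Hyp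

variable [Finite G] {S : Sylow 2 G} {σ τ : G} {n : ℕ} (h : Hyp S σ τ n)
include h

/-- The perfect subgroup, from a simple socle. -/
theorem exists_eData_of_socle {H N : Subgroup G} {Q : Type} [Group Q] [IsSimpleGroup Q] {π : ↥N →* Q}
    (hd : SocleData H N π) (hQ : commutator Q = ⊤) (h2 : 2 ∣ Nat.card Q) (hVH : four (central σ n) τ ≤ H)
    (hf : Fuses H (central σ n) τ)
    (hone : ∀ s ∈ H, orderOf s = 2 → ∃ k ∈ H, k * s * k⁻¹ = central σ n)
    (hO : oddOf H ≤ fixR (central σ n) τ) :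
    ∃ (E : Subgroup G) (φ : ↥E →* Q), EData σ τ n H E φ := by
  have hVN : four (central σ n) τ ≤ N :=
    h.four_le_of_fuses hVH hf hd.le hd.normal (h2.trans (Subgroup.card_dvd_of_surjective π hd.surj))
  set C : Subgroup G := N ⊓ centralizer (oddOf H : Set G) with hC
  have hVC : four (central σ n) τ ≤ C := le_inf hVN (h.four_le_centralizer_of_le_fixR hO)
  have hconj : ∀ g ∈ H, ∀ x ∈ C, g * x * g⁻¹ ∈ C := by
    intro g hg x hx
    refine ⟨conj_mem_of_normalizer (hd.normal hg) hx.1, mem_centralizer_iff.2 fun y hy => ?_⟩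
    have hy' : g⁻¹ * y * g ∈ oddOf H := by simpa using conj_mem_oddOf (inv_mem hg) hy
    have := (show Commute (g⁻¹ * y * g) x from mem_centralizer_iff.1 hx.2 _ hy').conj g
    rw [show g * (g⁻¹ * y * g) * g⁻¹ = y by group] at this
    exact this.eq
  have hHC : H ≤ normalizer (C : Set G) := fun g hg => mem_normalizer_fintype fun x hx => hconj g hg x hx
  have hCN : C ≤ N := inf_le_left
  haveI : (C.subgroupOf N).Normal := normal_subgroupOf_of_le_normalizer (hd.le.trans hHC)
  have himg : (C.subgroupOf N).map π = ⊤ := by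
    refine ((inferInstance : (C.subgroupOf N).Normal).map π hd.surj).eq_bot_or_eq_top.resolve_left fun e => ?_
    have h1 : π ⟨_, hVN (left_mem_four _ _)⟩ = 1 := by
      rw [← mem_bot, ← e]
      exact mem_map_of_mem π (mem_subgroupOf.2 (hVC (left_mem_four _ _)))
    exact h.central_ne_one (h.eq_one_of_mem_oddOf (left_mem_four _ _) ((hd.ker _).1 h1))
  set f : ↥C →* Q := π.comp (Subgroup.inclusion hCN) with hfd
  have hfs : Function.Surjective f := fun y => by
    obtain ⟨x, hx, rfl⟩ := Subgroup.mem_map.1 (himg.symm ▸ mem_top y : y ∈ (C.subgroupOf N).map π)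
    exact ⟨⟨x, mem_subgroupOf.1 hx⟩, rfl⟩
  have hkerO : ∀ x : ↥C, f x = 1 → (x : G) ∈ oddOf H := fun x hx => (hd.ker _).1 hx
  have hfc : f.ker ≤ center ↥C := fun x hx => Subgroup.mem_center_iff.2 fun y =>
    Subtype.ext (mem_centralizer_iff.1 y.2.2 x (hkerO x hx)).symm
  have hp := commutator_perfect_of_central f hfs hfc hQ
  set E : Subgroup G := (commutator ↥C).map C.subtype with hEdef
  have hEC : E ≤ C := map_subtype_le _
  have hmapE : (commutator ↥C).map f = ⊤ := by
    rw [_root_.commutator_def, map_commutator, map_top_of_surjective f hfs, ← _root_.commutator_def, hQ]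
  set φ : ↥E →* Q := π.comp (Subgroup.inclusion (hEC.trans hCN))
  have hφ : Function.Surjective φ := fun y => by
    obtain ⟨x, hx, rfl⟩ := Subgroup.mem_map.1 (hmapE.symm ▸ mem_top y : y ∈ (commutator ↥C).map f)
    exact ⟨⟨x, x, hx, rfl⟩, rfl⟩
  have hperf : ⁅E, E⁆ = E := by
    have h1 : ⁅commutator ↥C, commutator ↥C⁆ = commutator ↥C := by
      rw [← (commutator ↥C).map_subtype_commutator, hp, ← MonoidHom.range_eq_map, range_subtype]
    rw [hEdef, ← map_commutator, h1]
  have hEn : H ≤ normalizer (E : Set G) := fun g hg => mem_normalizer_fintype fun x hx => by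
    have hle : ⁅C, C⁆ ≤ ⁅C, C⁆.comap (MulAut.conj g).toMonoidHom := commutator_le.2 fun a ha b hb => by
      rw [mem_comap, map_commutatorElement]
      exact commutator_mem_commutator (hconj g hg a ha) (hconj g hg b hb)
    have hmap : E = ⁅C, C⁆ := C.map_subtype_commutator
    rw [hmap] at hx ⊢
    exact hle hx
  -- the four group lies in `E`
  have hVE : four (central σ n) τ ≤ E := by
    refine h.four_le_of_fuses hVH hf ((hEC.trans hCN).trans hd.le) hEn ?_
    exact h2.trans (Subgroup.card_dvd_of_surjective φ hφ)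
  have htwo : ∀ s ∈ H, s * s = 1 → s ∈ E := fun s hs hs2 => by
    by_cases hs1 : s = 1
    · exact hs1 ▸ one_mem _
    obtain ⟨k, hk, hks⟩ := hone s hs (orderOf_eq_prime (by rw [pow_two]; exact hs2) hs1)
    rw [show s = k⁻¹ * central σ n * k⁻¹⁻¹ by rw [← hks]; group]
    exact conj_mem_of_normalizer (hEn (inv_mem hk)) (hVE (left_mem_four _ _))
  have hidx : Odd (E.relIndex H) := by
    obtain ⟨P, j, -, ⟨eP⟩⟩ := h.exists_dihedral_sylow hVH
    have hPE : (P : Subgroup ↥H) ≤ E.subgroupOf H := subgroupOf_eq_top.1 (le_of_reflections eP _ fun x hx =>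
      mem_subgroupOf.2 (mem_subgroupOf.2 (htwo _ (x : ↥H).2
        (congrArg (fun z : ↥(P : Subgroup ↥H) => ((z : ↥H) : G)) hx))))
    rw [← Nat.not_even_iff_odd, even_iff_two_dvd]
    exact fun hd' => P.not_dvd_index (hd'.trans (index_dvd_of_le hPE))
  obtain ⟨hloc, hnorm⟩ := locE_of_perfect ((hEC.trans hCN).trans hd.le) hEn hperf hidx
  refine ⟨E, φ, (hEC.trans hCN).trans hd.le, hEn, hVE, hφ, fun x => hd.ker _, fun x hx y hy => ?_, ?_, hidx, hloc,
    hnorm, fun x hx hxy => hd.self x hx fun y hy => ?_⟩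
  · exact (mem_centralizer_iff.1 (hEC hx).2 y hy).symm
  · refine map_injective E.subtype_injective ?_
    rw [E.map_subtype_commutator, hperf, ← MonoidHom.range_eq_map, range_subtype]
  · obtain ⟨e, he⟩ := hφ (π ⟨y, hy⟩)
    have ho : (e : G)⁻¹ * y ∈ oddOf H :=
      (hd.ker ((Subgroup.inclusion (hEC.trans hCN) e)⁻¹ * (⟨y, hy⟩ : ↥N))).1 (by
        rw [map_mul, map_inv, ← he]; exact inv_mul_cancel _)
    have hye : y = (e : G) * ((e : G)⁻¹ * y) := by group
    set o := (e : G)⁻¹ * y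
    rw [hye, show x * ((e : G) * o) * x⁻¹ * ((e : G) * o)⁻¹ =
      (x * (e : G) * x⁻¹ * (e : G)⁻¹) * ((e : G) * (x * o * x⁻¹ * o⁻¹) * (e : G)⁻¹) by group]
    exact mul_mem (hxy e e.2) (conj_mem_oddOf ((hEC.trans hCN).trans hd.le e.2)
      (mul_mem (conj_mem_oddOf hx ho) (inv_mem ho)))

/-- The perfect subgroup of a moved fusing subgroup with one class of involutions. -/
theorem exists_eData {H : Subgroup G} (hH : H ≠ ⊤) (hVH : four (central σ n) τ ≤ H)
    (hf : Fuses H (central σ n) τ)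
    (hone : ∀ s ∈ H, orderOf s = 2 → ∃ k ∈ H, k * s * k⁻¹ = central σ n)
    (hO : oddOf H ≤ fixR (central σ n) τ)
    (hmov : ¬ coreCent (central σ n) ⊓ H ≤ centralizer ({τ} : Set G)) : ∃ E : Subgroup G,
      (∃ φ : ↥E →* alternatingGroup (Fin 7), EData σ τ n H E φ) ∨
      ∃ (F : Type) (_ : Field F) (_ : Fintype F), Odd (Fintype.card F) ∧ 5 ≤ Fintype.card F ∧
        ∃ φ : ↥E →* Matrix.ProjectiveSpecialLinearGroup (Fin 2) F, EData σ τ n H E φ := by
  obtain ⟨N, hN⟩ := h.exists_socle hH hVH hf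
  rcases hN with ⟨π, hd⟩ | ⟨F, _, _, hodd, h3, π, hd⟩
  · haveI : IsSimpleGroup (alternatingGroup (Fin 7)) := alternatingGroup.isSimpleGroup (by simp)
    have hp : commutator (alternatingGroup (Fin 7)) = ⊤ :=
      commutator_alternatingGroup_eq_top (by simp)
    obtain ⟨E, φ, hE⟩ := h.exists_eData_of_socle hd hp (by
      rw [nat_card_alternatingGroup]
      simp only [Nat.card_eq_fintype_card, Fintype.card_fin]
      decide) hVH hf hone hO
    exact ⟨E, Or.inl ⟨φ, hE⟩⟩
  · have h2 : 2 ∣ Nat.card (Matrix.ProjectiveSpecialLinearGroup (Fin 2) F) := by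
      obtain ⟨k, hk⟩ := hodd
      have h1 := Klein.PSL.card_mul (F := F) ⟨k, hk⟩
      rw [hk, Nat.add_sub_cancel] at h1
      exact ⟨(2 * k + 1) * (k * (k + 1)), Nat.eq_of_mul_eq_mul_left two_pos (h1.trans (by ring))⟩
    rcases Nat.lt_or_ge (Fintype.card F) 5 with h5 | h5
    · have hF : Fintype.card F = 3 := by
        obtain ⟨k, hk⟩ := hodd
        omega
      obtain ⟨g⟩ := Cfsg.Agent.PSLBin.psl_three_iso (E := F) hF
      have hle := h.core_of_four hd g (h.four_le_of_fuses hVH hf hd.le hd.normal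
        (h2.trans (Subgroup.card_dvd_of_surjective π hd.surj)))
      exact absurd ((hle.trans hO).trans inf_le_right) hmov
    · haveI := Klein.PSL.isSimple (F := F) h5
      obtain ⟨E, φ, hE⟩ := h.exists_eData_of_socle hd (Klein.PSL.perfect h5) h2 hVH hf hone hO
      exact ⟨E, Or.inr ⟨F, inferInstance, inferInstance, hodd, h5, φ, hE⟩⟩

/-- The commutator of an element of `U ⊓ H` with `τ`. -/
theorem comm_tau {H E : Subgroup G} {Q : Type} [Group Q] {φ : ↥E →* Q} (hE : EData σ τ n H E φ) {x : G}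
    (hx : x ∈ coreCent (central σ n) ⊓ H) :
    x * τ * x⁻¹ * τ⁻¹ ∈ coreCent (central σ n) ⊓ E ∧
      τ * (x * τ * x⁻¹ * τ⁻¹) * τ⁻¹ = (x * τ * x⁻¹ * τ⁻¹)⁻¹ := by
  have hτE : τ ∈ E := hE.four_le (right_mem_four _ _)
  refine ⟨⟨?_, E.mul_mem (conj_mem_of_normalizer (hE.normal hx.2) hτE) (E.inv_mem hτE)⟩, ?_⟩
  · show x * τ * x⁻¹ * τ⁻¹ ∈ coreCent (central σ n)
    rw [show x * τ * x⁻¹ * τ⁻¹ = x * (τ * x⁻¹ * τ⁻¹) by group]
    exact mul_mem hx.1 (conj_mem_of_normalizer
      (h.le_normalizer_coreCent (mem_centralizer_singleton_iff.2 h.commute_central_tau.symm.eq)) (inv_mem hx.1))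
  · rw [show (x * τ * x⁻¹ * τ⁻¹)⁻¹ = τ * x * τ⁻¹ * x⁻¹ by group, h.tau_inv]
    simp only [mul_assoc]
    rw [h.tau_mul_self, mul_one]

/-- An element of `U` both in the core of `H` and inverted by `τ` is trivial. -/
theorem eq_one_of_inverted {H : Subgroup G} (hO : oddOf H ≤ fixR (central σ n) τ) {x : G} (hx : x ∈ oddOf H)
    (hinv : τ * x * τ⁻¹ = x⁻¹) : x = 1 := by
  rw [← (h.mem_fixR.1 (hO hx)).2.eq, mul_inv_cancel_right] at hinv
  exact eq_one_of_odd h.odd_coreCent (hO hx).1 (mul_eq_one_iff_eq_inv.2 hinv)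

/-- `locD` is the inverted part of `U ⊓ E`, cyclic, and supplements `R ⊓ H` in `U ⊓ H`. -/
theorem locD_facts {H E : Subgroup G} {Q : Type} [Group Q] {φ : ↥E →* Q} (hE : EData σ τ n H E φ)
    (hO : oddOf H ≤ fixR (central σ n) τ)
    (hmov : ¬ coreCent (central σ n) ⊓ H ≤ centralizer ({τ} : Set G))
    {T : Subgroup Q} (hT : IsCyclic ↥T)
    (hTm : ∀ x : ↥E, (x : G) ∈ coreCent (central σ n) → φ x ∈ T) :
    (∀ d, d ∈ locD σ τ n H ↔ d ∈ coreCent (central σ n) ⊓ E ∧ τ * d * τ⁻¹ = d⁻¹) ∧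
      IsCyclic ↥(locD σ τ n H) ∧ locD σ τ n H ≠ ⊥ ∧
      (fixR (central σ n) τ ⊓ H) ⊔ locD σ τ n H = coreCent (central σ n) ⊓ H := by
  set U := coreCent (central σ n) with hU
  haveI := hT
  -- `U ⊓ E` is abelian
  let f : ↥(U ⊓ E : Subgroup G) →* ↥T :=
    (φ.comp (Subgroup.inclusion inf_le_right)).codRestrict T fun x => hTm _ x.2.1
  have hab : ∀ a b : ↥(U ⊓ E : Subgroup G), a * b = b * a :=
    (f.isMulCommutative_of_isCyclic_of_ker_le_center fun x hx => mem_center_iff.2 fun y =>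
      Subtype.ext (hE.comm_core y y.2.2 x ((hE.ker (Subgroup.inclusion inf_le_right x)).1
        (congrArg Subtype.val (MonoidHom.mem_ker.1 hx)))).eq).is_comm.comm
  let I : Subgroup G :=
    { carrier := {d | d ∈ U ⊓ E ∧ τ * d * τ⁻¹ = d⁻¹}
      one_mem' := ⟨one_mem _, by simp⟩
      mul_mem' := fun {a b} ha hb => ⟨mul_mem ha.1 hb.1, by
        rw [show τ * (a * b) * τ⁻¹ = (τ * a * τ⁻¹) * (τ * b * τ⁻¹) by group, ha.2, hb.2, ← mul_inv_rev]
        exact congrArg (fun z : G => z⁻¹) (congrArg Subtype.val (hab ⟨b, hb.1⟩ ⟨a, ha.1⟩))⟩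
      inv_mem' := fun {a} ha => ⟨inv_mem ha.1, by
        rw [show τ * a⁻¹ * τ⁻¹ = (τ * a * τ⁻¹)⁻¹ by group, ha.2]⟩ }
  have hcI : ∀ x ∈ U ⊓ H, x * τ * x⁻¹ * τ⁻¹ ∈ I := fun x hx => h.comm_tau hE hx
  have hsq : ∀ d ∈ I, ∃ e ∈ I, e * e = d ∧ e * τ * e⁻¹ * τ⁻¹ = d := by
    intro d hd
    obtain ⟨k, hk⟩ := h.odd_orderOf h.odd_coreCent hd.1.1
    have he : d ^ (k + 1) ∈ I := pow_mem hd _
    have hee : d ^ (k + 1) * d ^ (k + 1) = d := by
      rw [← pow_add, show k + 1 + (k + 1) = orderOf d + 1 by omega, pow_succ, pow_orderOf_eq_one, one_mul]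
    refine ⟨_, he, hee, ?_⟩
    rw [show d ^ (k + 1) * τ * (d ^ (k + 1))⁻¹ * τ⁻¹ = d ^ (k + 1) * (τ * d ^ (k + 1) * τ⁻¹)⁻¹ by group,
      he.2, inv_inv, hee]
  have hD : locD σ τ n H = I := by
    refine le_antisymm (commutator_le.2 fun x hx w hw => ?_) fun d hd => ?_
    · have hw2 : w = 1 ∨ w = τ := by
        obtain ⟨i, rfl⟩ := mem_zpowers_iff.1 hw
        rcases Int.even_or_odd i with ⟨j, rfl⟩ | ⟨j, rfl⟩
        · exact Or.inl (by rw [← two_mul, zpow_mul, zpow_two, h.tau_mul_self, one_zpow])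
        · exact Or.inr (by rw [zpow_add_one, zpow_mul, zpow_two, h.tau_mul_self, one_zpow, one_mul])
      rcases hw2 with e | e <;> rw [e, commutatorElement_def]
      · rw [mul_one, inv_one, mul_one, mul_inv_cancel]
        exact one_mem _
      · exact hcI x hx
    · obtain ⟨e, he, -, hed⟩ := hsq d hd
      rw [← hed, ← commutatorElement_def]
      exact commutator_mem_commutator ⟨he.1.1, hE.le he.1.2⟩ (mem_zpowers τ)
  rw [hD]
  refine ⟨fun d => Iff.rfl, ?_, ?_, ?_⟩
  · let g : ↥I →* ↥T := f.comp (Subgroup.inclusion fun d hd => hd.1)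
    refine isCyclic_of_injective g ((injective_iff_map_eq_one g).2 fun a ha => Subtype.ext ?_)
    exact h.eq_one_of_inverted hO ((hE.ker ⟨a, a.2.1.2⟩).1 (congrArg Subtype.val ha)) a.2.2
  · intro hb
    refine hmov fun x hx => mem_centralizer_singleton_iff.2 ?_
    have h1 := hcI x hx
    rw [hb, mem_bot, mul_inv_eq_one, mul_inv_eq_iff_eq_mul] at h1
    exact h1
  · refine le_antisymm (sup_le (inf_le_inf_right _ inf_le_left) fun d hd => ⟨hd.1.1, hE.le hd.1.2⟩) fun x hx => ?_
    obtain ⟨d, hd, hdy, -⟩ := hsq _ (hcI x hx)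
    have hyinv := (hcI x hx).2
    have hr : τ * (d⁻¹ * x) * τ⁻¹ = d⁻¹ * x := by
      have h1 : τ * x * τ⁻¹ = (x * τ * x⁻¹ * τ⁻¹)⁻¹ * x := by group
      rw [show τ * (d⁻¹ * x) * τ⁻¹ = (τ * d * τ⁻¹)⁻¹ * (τ * x * τ⁻¹) by group, h1, hd.2, ← hdy]
      group
    have hrH : d⁻¹ * x ∈ U ⊓ H := mul_mem (inv_mem ⟨hd.1.1, hE.le hd.1.2⟩) hx
    rw [show x = d * (d⁻¹ * x) by group]
    exact mul_mem (mem_sup_right hd)
      (mem_sup_left ⟨h.mem_fixR.2 ⟨hrH.1, (mul_inv_eq_iff_eq_mul.1 hr).symm⟩, hrH.2⟩)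

end Hyp

/-- Conjugation by the elements of `H` on the quotient of `E`. -/
theorem EData.exists_auto [Finite G] {σ τ : G} {n : ℕ} {H E : Subgroup G} {Q : Type} [Group Q] {φ : ↥E →* Q}
    (hE : EData σ τ n H E φ) :
    ∃ Θ : ↥H →* MulAut Q, (∀ (x : ↥H) (e : ↥E),
      Θ x (φ e) = φ ⟨(x : G) * e * (x : G)⁻¹, conj_mem_of_normalizer (hE.normal x.2) e.2⟩) ∧
      ∀ x : ↥H, Θ x = 1 → (x : G) ∈ oddOf H := by
  let c : ↥H → (↥E →* ↥E) := fun x =>
    (((MulAut.conj (x : G)).toMonoidHom.comp E.subtype).codRestrict E fun e =>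
      conj_mem_of_normalizer (hE.normal x.2) e.2)
  have hker : ∀ x : ↥H, φ.ker ≤ (φ.comp (c x)).ker := fun x e he =>
    (hE.ker _).2 (conj_mem_oddOf x.2 ((hE.ker e).1 he))
  let L : ↥H → (Q →* Q) := fun x => φ.liftOfSurjective hE.surj ⟨φ.comp (c x), hker x⟩
  have hL : ∀ x e, L x (φ e) = φ (c x e) := fun x e =>
    φ.liftOfRightInverse_comp_apply _ _ ⟨φ.comp (c x), hker x⟩ e
  have hmul : ∀ x y q, L (x * y) q = L x (L y q) := fun x y q => by
    obtain ⟨e, rfl⟩ := hE.surj q
    rw [hL, hL, hL]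
    refine congrArg φ (Subtype.ext ?_)
    show ((x : G) * y) * e * ((x : G) * y)⁻¹ = (x : G) * ((y : G) * e * (y : G)⁻¹) * (x : G)⁻¹
    group
  have hone : ∀ q, L 1 q = q := fun q => by
    obtain ⟨e, rfl⟩ := hE.surj q
    rw [hL]
    refine congrArg φ (Subtype.ext ?_)
    show ((1 : ↥H) : G) * e * ((1 : ↥H) : G)⁻¹ = e
    simp
  let Θ : ↥H →* MulAut Q :=
    { toFun := fun x =>
        { toFun := L x
          invFun := L x⁻¹
          left_inv := fun q => by rw [← hmul, inv_mul_cancel, hone]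
          right_inv := fun q => by rw [← hmul, mul_inv_cancel, hone]
          map_mul' := map_mul _ }
      map_one' := MulEquiv.ext hone
      map_mul' := fun x y => MulEquiv.ext (hmul x y) }
  refine ⟨Θ, fun x e => hL x e, fun x hx => hE.self x x.2 fun y hy => ?_⟩
  have h1 : φ (c x ⟨y, hy⟩) = φ ⟨y, hy⟩ := (hL x ⟨y, hy⟩).symm.trans (DFunLike.congr_fun hx (φ ⟨y, hy⟩))
  rw [← mul_inv_eq_one, ← map_inv, ← map_mul, hE.ker] at h1
  exact h1

end Cfsg.Agent.Invol.GW.Dihedral
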