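import Cfsg.Agent.Lib.Fus.FundPair.Fusion
import Cfsg.Agent.Lib.Grp.DihedralClasses
import Cfsg.Agent.Lib.Invol.Sylow
import Cfsg.Agent.Lib.Invol.GW.Dihedral.Four

/-!
# Four groups in groups with dihedral Sylow 2-subgroups and no subgroup of index two

Two commuting involutions `v`, `w` of such a group are permuted cyclically with `v * w` by a conjugation.
-/

set_option autoImplicit false
set_option linter.unusedSectionVars false
set_option linter.style.haveILetI false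

namespace Cfsg.Agent.Invol.GW.Dihedral

open Subgroup

universe u

variable {X : Type u} [Group X] [Finite X]

/-- A nontrivial 2-group quotient has a subgroup of index two. -/
theorem exists_index_two_of_pow {N : Subgroup X} [N.Normal] {k : ℕ} (hk : N.index = 2 ^ (k + 1)) :
    ∃ K : Subgroup X, K.Normal ∧ K.index = 2 := by
  haveI : Fact (Nat.Prime 2) := ⟨Nat.prime_two⟩
  have hQ : Nat.card (X ⧸ N) = 2 ^ (k + 1) := by rw [← index_eq_card, hk]
  obtain ⟨M, hM⟩ := Sylow.exists_subgroup_card_pow_prime (G := X ⧸ N) 2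
    (show 2 ^ k ∣ Nat.card (X ⧸ N) from hQ ▸ pow_dvd_pow 2 k.le_succ)
  have hMi : M.index = 2 := by
    have h1 := M.card_mul_index
    rw [hQ, hM, pow_succ] at h1
    exact Nat.eq_of_mul_eq_mul_left (by positivity) h1
  haveI := normal_of_index_eq_two hMi
  exact ⟨M.comap (QuotientGroup.mk' N), inferInstance,
    (index_comap_of_surjective _ (QuotientGroup.mk'_surjective N)).trans hMi⟩

/-- One class of involutions. -/
theorem isConj_of_no_index_two (hno : ∀ K : Subgroup X, K.Normal → K.index ≠ 2) (S : Sylow 2 X) {m : ℕ}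
    (hm : 2 ≤ m) (e : (S : Subgroup X) ≃* DihedralGroup (2 ^ m)) {a b : X} (ha : orderOf a = 2)
    (hb : orderOf b = 2) : IsConj a b := by
  haveI : Fact (Nat.Prime 2) := ⟨Nat.prime_two⟩
  haveI : NeZero (2 ^ m) := ⟨by positivity⟩
  obtain ⟨k, rfl⟩ : ∃ k, m = k + 2 := ⟨m - 2, by omega⟩
  rcases Grp.DihClasses.trichotomy S ⟨2 ^ k, by rw [pow_add]; ring⟩ e with
    ⟨hc, -⟩ | ⟨-, ⟨N, hN, hN2⟩, -⟩ | ⟨-, P, N, hN, hNP⟩
  · haveI := (Nat.card_eq_one_iff_unique.1 hc).1
    exact ConjClasses.mk_eq_mk_iff_isConj.1 (congrArg Subtype.val (Subsingleton.elim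
      (⟨ConjClasses.mk a, a, rfl, ha⟩ : {C : ConjClasses X // ∃ g : X, ConjClasses.mk g = C ∧ orderOf g = 2})
      ⟨ConjClasses.mk b, b, rfl, hb⟩))
  · exact absurd hN2 (hno N hN)
  · exfalso
    have hP : N.index = 2 ^ (k + 2 + 1) := by
      rw [hNP.symm.index_eq_card, Nat.card_congr ((P.equiv S).trans e).toEquiv, DihedralGroup.nat_card,
        pow_succ' 2 (k + 2)]
    haveI := hN
    obtain ⟨K, hK, hK2⟩ := exists_index_two_of_pow hP
    exact hno K hK hK2

/-- An element centralising the involution `v` interchanges a commuting involution `w` and `v * w`. -/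
theorem exists_swap (hno : ∀ K : Subgroup X, K.Normal → K.index ≠ 2) (S : Sylow 2 X) {m : ℕ}
    (hm : 2 ≤ m) (e : (S : Subgroup X) ≃* DihedralGroup (2 ^ m)) {v w : X} (hv : orderOf v = 2)
    (hw : orderOf w = 2) (hc : Commute v w) (hne : v ≠ w) :
    ∃ s : X, s * v * s⁻¹ = v ∧ s * w * s⁻¹ = v * w := by
  haveI : Fact (Nat.Prime 2) := ⟨Nat.prime_two⟩
  obtain ⟨k, rfl⟩ : ∃ k, m = k + 2 := ⟨m - 2, by omega⟩
  set h : ℕ := 2 ^ (k + 1) with hh
  have hn : (2 : ℕ) ^ (k + 2) = h + h := by rw [hh, pow_succ]; ring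
  have hhh : ((h : ℕ) : ZMod (2 ^ (k + 2))) + (h : ℕ) = 0 := by rw [← Nat.cast_add, ← hn, ZMod.natCast_self]
  set f : DihedralGroup (2 ^ (k + 2)) →* X := (S : Subgroup X).subtype.comp e.symm.toMonoidHom with hf
  have hfi : Function.Injective f := (S : Subgroup X).subtype_injective.comp e.symm.injective
  set z := f (.r ((h : ℕ) : ZMod (2 ^ (k + 2)))) with hz
  have hz2 : orderOf z = 2 := by
    rw [hz, orderOf_injective f hfi]
    refine orderOf_eq_prime (by rw [pow_two, DihedralGroup.r_mul_r, hhh]; rfl) fun e1 => ?_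
    rw [DihedralGroup.one_def] at e1
    simp only [DihedralGroup.r.injEq, ZMod.natCast_eq_zero_iff] at e1
    have := Nat.le_of_dvd (by rw [hh]; positivity) e1
    have : 0 < h := by rw [hh]; positivity
    omega
  have hzS : ∀ x ∈ (S : Subgroup X), Commute z x := by
    intro x hx
    obtain ⟨d, hd⟩ : ∃ d, f d = x := ⟨e ⟨x, hx⟩, by simp [hf]⟩
    rw [← hd, hz]
    refine Commute.map (f := f) ?_
    have hneg : -((h : ℕ) : ZMod (2 ^ (k + 2))) = (h : ℕ) := neg_eq_of_add_eq_zero_left hhh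
    cases d with
    | r i => simp [Commute, SemiconjBy, add_comm]
    | sr i =>
      show (DihedralGroup.r _ * DihedralGroup.sr i) = DihedralGroup.sr i * DihedralGroup.r _
      rw [DihedralGroup.r_mul_sr, DihedralGroup.sr_mul_r, sub_eq_add_neg, hneg]
  obtain ⟨c, hcv⟩ := isConj_iff.1 (isConj_of_no_index_two hno S hm e hv hz2)
  have hSC : (S : Subgroup X) ≤ centralizer ({z} : Set X) := fun x hx =>
    mem_centralizer_singleton_iff.2 (hzS x hx).symm.eq
  have hw' : c * w * c⁻¹ ∈ centralizer ({z} : Set X) :=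
    mem_centralizer_singleton_iff.2 (hcv ▸ (hc.symm.conj c).eq)
  obtain ⟨d, hd, hdS⟩ := exists_conj_le_sylow S hSC (zpowers_le.2 hw')
    (isPGroup_zpowers (n := 1) (by
      rw [show c * w * c⁻¹ = MulAut.conj c w from rfl, MulEquiv.orderOf_eq, hw, pow_one]) :
      IsPGroup 2 (zpowers (c * w * c⁻¹)))
  set k' := d * c with hk'
  have hkv : k' * v * k'⁻¹ = z := by
    rw [hk', show d * c * v * (d * c)⁻¹ = d * (c * v * c⁻¹) * d⁻¹ by group, hcv,
      mem_centralizer_singleton_iff.1 hd, mul_inv_cancel_right]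
  have hkw : k' * w * k'⁻¹ ∈ (S : Subgroup X) := by
    rw [hk', show d * c * w * (d * c)⁻¹ = d * (c * w * c⁻¹) * d⁻¹ by group]
    exact hdS _ (mem_zpowers _)
  obtain ⟨y, hy⟩ : ∃ y, f y = k' * w * k'⁻¹ := ⟨e ⟨_, hkw⟩, by simp [hf]⟩
  have hy2 : orderOf y = 2 := by
    rw [← orderOf_injective f hfi, hy, show k' * w * k'⁻¹ = MulAut.conj k' w from rfl, MulEquiv.orderOf_eq, hw]
  cases y with
  | r i =>
    exfalso
    obtain ⟨u, rfl⟩ : ∃ u : ℕ, i = (u : ZMod (2 ^ (k + 2))) := ⟨i.val, by simp⟩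
    have h2 := pow_orderOf_eq_one (DihedralGroup.r (u : ZMod (2 ^ (k + 2))))
    rw [hy2, pow_two, DihedralGroup.r_mul_r, DihedralGroup.one_def] at h2
    simp only [DihedralGroup.r.injEq, ← Nat.cast_add, ZMod.natCast_eq_zero_iff, hn] at h2
    obtain ⟨q, hq⟩ := h2
    have hu : u = h * q := by
      have h3 : 2 * u = 2 * (h * q) := by linarith
      omega
    rcases Nat.even_or_odd' q with ⟨r, rfl | rfl⟩
    · rw [show (u : ZMod (2 ^ (k + 2))) = 0 by
        rw [ZMod.natCast_eq_zero_iff, hn, hu]; exact ⟨r, by ring⟩] at hy2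
      rw [← DihedralGroup.one_def, orderOf_one] at hy2
      omega
    · refine hne (mul_left_cancel (mul_right_cancel (hkv.trans (Eq.trans ?_ hy))))
      rw [hz, hu, show h * (2 * r + 1) = (h + h) * r + h by ring, Nat.cast_add, Nat.cast_mul, ← hn,
        ZMod.natCast_self, zero_mul, zero_add]
  | sr i =>
    set q := f (.r ((2 ^ k : ℕ) : ZMod (2 ^ (k + 2)))) with hq
    have hqz : q * z * q⁻¹ = z := by
      rw [(hzS q (e.symm _).2).symm.eq, mul_inv_cancel_right]
    have hqy : q * (k' * w * k'⁻¹) * q⁻¹ = z * (k' * w * k'⁻¹) := by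
      rw [← hy, hq, hz, ← map_inv, ← map_mul, ← map_mul, ← map_mul, DihedralGroup.inv_r,
        DihedralGroup.r_mul_sr, DihedralGroup.sr_mul_r, DihedralGroup.r_mul_sr]
      congr 2
      push_cast [hh]
      ring
    refine ⟨k'⁻¹ * q * k', ?_, ?_⟩
    · calc k'⁻¹ * q * k' * v * (k'⁻¹ * q * k')⁻¹ = k'⁻¹ * (q * (k' * v * k'⁻¹) * q⁻¹) * k' := by group
        _ = k'⁻¹ * (k' * v * k'⁻¹) * k' := by rw [hkv, hqz]
        _ = v := by group
    · calc k'⁻¹ * q * k' * w * (k'⁻¹ * q * k')⁻¹ = k'⁻¹ * (q * (k' * w * k'⁻¹) * q⁻¹) * k' := by group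
        _ = k'⁻¹ * ((k' * v * k'⁻¹) * (k' * w * k'⁻¹)) * k' := by rw [hqy, hkv]
        _ = v * w := by group

/-- Commuting involutions are permuted cyclically with their product. -/
theorem exists_cycle (hno : ∀ K : Subgroup X, K.Normal → K.index ≠ 2) (S : Sylow 2 X) {m : ℕ}
    (hm : 1 ≤ m) (e : (S : Subgroup X) ≃* DihedralGroup (2 ^ m)) {v w : X} (hv : orderOf v = 2)
    (hw : orderOf w = 2) (hc : Commute v w) (hne : v ≠ w) : Fuses (⊤ : Subgroup X) v w := by
  haveI : Fact (Nat.Prime 2) := ⟨Nat.prime_two⟩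
  have hvv : v * v = 1 := by rw [← pow_two, ← hv, pow_orderOf_eq_one]
  have hww : w * w = 1 := by rw [← pow_two, ← hw, pow_orderOf_eq_one]
  rcases Nat.lt_or_ge m 2 with hm1 | hm2
  · obtain rfl : m = 1 := by omega
    have hS : IsKleinFour (S : Subgroup X) := by
      haveI : IsKleinFour (DihedralGroup (2 ^ 1)) := by rw [pow_one]; infer_instance
      exact ⟨by rw [Nat.card_congr e.toEquiv, IsKleinFour.card_four],
        by rw [Monoid.exponent_eq_of_mulEquiv e, IsKleinFour.exponent_two]⟩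
    have h2 : IsPGroup 2 (four v w) := fun x => ⟨1, Subtype.ext (by
      rw [pow_one, SubgroupClass.coe_pow, pow_two, OneMemClass.coe_one]
      rcases (mem_four hvv hww hc).1 x.2 with e1 | e1 | e1 | e1 <;> rw [e1]
      exacts [one_mul _, hvv, hww, by rw [hc.symm.mul_mul_mul_comm, hvv, hww, one_mul]])⟩
    obtain ⟨x, -, hx⟩ := exists_conj_le_sylow S (X := ⊤) le_top (K := four v w) le_top h2
    obtain ⟨g, hg1, hg2⟩ := Fus.FundPair.exists_three_cycle hno S hS (hx v (left_mem_four v w))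
      (hx w (right_mem_four v w)) (by rw [ne_eq, conj_eq_one_iff]; intro e1; rw [e1, orderOf_one] at hv; omega)
      (by rw [ne_eq, conj_eq_one_iff]; intro e1; rw [e1, orderOf_one] at hw; omega)
      (fun e1 => hne (mul_left_cancel (mul_right_cancel e1)))
    refine ⟨x⁻¹ * g * x, mem_top _, ?_, ?_⟩
    · calc x⁻¹ * g * x * v * (x⁻¹ * g * x)⁻¹ = x⁻¹ * (g * (x * v * x⁻¹) * g⁻¹) * x := by group
        _ = w := by rw [hg1]; group
    · calc x⁻¹ * g * x * w * (x⁻¹ * g * x)⁻¹ = x⁻¹ * (g * (x * w * x⁻¹) * g⁻¹) * x := by group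
        _ = v * w := by rw [hg2]; group
  · obtain ⟨s₁, h1v, h1w⟩ := exists_swap hno S hm2 e hv hw hc hne
    obtain ⟨s₂, h2w, h2v⟩ := exists_swap hno S hm2 e hw hv hc.symm hne.symm
    refine ⟨s₁ * s₂, mem_top _, ?_, ?_⟩
    · calc s₁ * s₂ * v * (s₁ * s₂)⁻¹ = s₁ * (s₂ * v * s₂⁻¹) * s₁⁻¹ := by group
        _ = (s₁ * w * s₁⁻¹) * (s₁ * v * s₁⁻¹) := by rw [h2v]; group
        _ = w := by rw [h1v, h1w, hc.eq, mul_assoc, hvv, mul_one]
    · calc s₁ * s₂ * w * (s₁ * s₂)⁻¹ = s₁ * (s₂ * w * s₂⁻¹) * s₁⁻¹ := by group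
        _ = v * w := by rw [h2w, h1w]

end Cfsg.Agent.Invol.GW.Dihedral
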