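import Cfsg.Agent.Lib.Invol.GW.Klein.Orbit
import Mathlib.LinearAlgebra.Matrix.GeneralLinearGroup.Defs
import Mathlib.LinearAlgebra.Matrix.CharP
import Mathlib.FieldTheory.Finite.Basic

/-!
# A group of odd order in `GL₂(q)` normalised by a reflection

`H` has odd order and is normalised by `diag (1, -1)`.  Either it normalises the first axis, or it normalises the
second one and moves the first to all `q` other lines, or it is abelian of order prime to `q`, meets the two
triangular groups only in scalars and its image modulo scalars has order dividing `q - 1` or `q + 1`.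
-/

set_option autoImplicit false
set_option linter.unusedSectionVars false
set_option linter.style.haveILetI false

namespace Cfsg.Agent.Invol.GW.Dihedral.Plane

open Subgroup Matrix

/-- The general linear group of the plane over the prime field. -/
abbrev GL2 (q : ℕ) : Type := GL (Fin 2) (ZMod q)

variable {q : ℕ} [hq : Fact q.Prime]

/-- An entry. -/
abbrev ent (h : GL2 q) (i j : Fin 2) : ZMod q := (h : Matrix (Fin 2) (Fin 2) (ZMod q)) i j

theorem ent_mul (a b : GL2 q) (i j : Fin 2) :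
    ent (a * b) i j = ent a i 0 * ent b 0 j + ent a i 1 * ent b 1 j := by
  simp [ent, Matrix.mul_apply, Fin.sum_univ_two]

theorem ent_one (i j : Fin 2) : ent (1 : GL2 q) i j = if i = j then 1 else 0 := by
  simp [ent, Matrix.one_apply]

theorem ext_ent {a b : GL2 q} (h00 : ent a 0 0 = ent b 0 0) (h01 : ent a 0 1 = ent b 0 1)
    (h10 : ent a 1 0 = ent b 1 0) (h11 : ent a 1 1 = ent b 1 1) : a = b := by
  refine Matrix.GeneralLinearGroup.ext fun i j => ?_
  fin_cases i <;> fin_cases j <;> assumption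

theorem det_ne (h : GL2 q) : ent h 0 0 * ent h 1 1 - ent h 0 1 * ent h 1 0 ≠ 0 := by
  have h1 := (Matrix.GeneralLinearGroup.det h).ne_zero
  simpa [Matrix.det_fin_two] using h1

/-- The reflection fixing the first axis. -/
def refl : GL2 q :=
  Matrix.GeneralLinearGroup.mkOfDetNeZero !![1, 0; 0, -1] (by simp [Matrix.det_fin_two])

theorem ent_conj_refl (h : GL2 q) : ent (refl * h * refl) 0 0 = ent h 0 0 ∧
    ent (refl * h * refl) 0 1 = -ent h 0 1 ∧ ent (refl * h * refl) 1 0 = -ent h 1 0 ∧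
    ent (refl * h * refl) 1 1 = ent h 1 1 := by
  simp only [ent_mul]
  simp [ent, refl, Matrix.GeneralLinearGroup.mkOfDetNeZero]

/-- The stabiliser of the first axis. -/
def low (q : ℕ) [Fact q.Prime] : Subgroup (GL2 q) where
  carrier := {h | ent h 1 0 = 0}
  one_mem' := by simp [ent_one]
  mul_mem' := fun {a b} ha hb => by
    simp only [Set.mem_setOf_eq, ent_mul] at ha hb ⊢
    simp [ha, hb]
  inv_mem' := fun {a} ha => by
    simp only [Set.mem_setOf_eq] at ha ⊢
    have h1 := det_ne a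
    have h2 : ent (a * a⁻¹) 1 0 = 0 := by simp [ent_one]
    rw [ent_mul, ha, zero_mul, zero_add] at h2
    rw [ha, mul_zero, sub_zero] at h1
    exact (mul_eq_zero.1 h2).resolve_left (right_ne_zero_of_mul h1)

/-- The stabiliser of the second axis. -/
def upp (q : ℕ) [Fact q.Prime] : Subgroup (GL2 q) where
  carrier := {h | ent h 0 1 = 0}
  one_mem' := by simp [ent_one]
  mul_mem' := fun {a b} ha hb => by
    simp only [Set.mem_setOf_eq, ent_mul] at ha hb ⊢
    simp [ha, hb]
  inv_mem' := fun {a} ha => by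
    simp only [Set.mem_setOf_eq] at ha ⊢
    have h1 := det_ne a
    have h2 : ent (a * a⁻¹) 0 1 = 0 := by simp [ent_one]
    rw [ent_mul, ha, zero_mul, add_zero] at h2
    rw [ha, zero_mul, sub_zero] at h1
    exact (mul_eq_zero.1 h2).resolve_left (left_ne_zero_of_mul h1)

theorem mem_low {h : GL2 q} : h ∈ low q ↔ ent h 1 0 = 0 := Iff.rfl

theorem mem_upp {h : GL2 q} : h ∈ upp q ↔ ent h 0 1 = 0 := Iff.rfl

/-- The scalars. -/
def scal (q : ℕ) [Fact q.Prime] : Subgroup (GL2 q) where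
  carrier := {h | ent h 1 0 = 0 ∧ ent h 0 1 = 0 ∧ ent h 0 0 = ent h 1 1}
  one_mem' := by simp [ent_one]
  mul_mem' := fun {a b} ha hb => by
    simp only [Set.mem_setOf_eq, ent_mul] at ha hb ⊢
    simp [ha.1, ha.2.1, hb.1, hb.2.1, ha.2.2, hb.2.2]
  inv_mem' := fun {a} ha => by
    simp only [Set.mem_setOf_eq] at ha ⊢
    obtain ⟨h10, h01, h00⟩ := ha
    refine ⟨(low q).inv_mem (x := a) h10, (upp q).inv_mem (x := a) h01, ?_⟩
    have e0 : ent (a * a⁻¹) 0 0 = 1 := by simp [ent_one]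
    have e1 : ent (a * a⁻¹) 1 1 = 1 := by simp [ent_one]
    rw [ent_mul, h01, zero_mul, add_zero] at e0
    rw [ent_mul, h10, zero_mul, zero_add, ← h00] at e1
    exact mul_left_cancel₀ (left_ne_zero_of_mul_eq_one e0) (e0.trans e1.symm)

theorem mem_scal {h : GL2 q} : h ∈ scal q ↔ ent h 1 0 = 0 ∧ ent h 0 1 = 0 ∧ ent h 0 0 = ent h 1 1 := Iff.rfl

theorem commute_of_mem_scal {s : GL2 q} (hs : s ∈ scal q) (x : GL2 q) : Commute s x := by
  obtain ⟨h10, h01, h00⟩ := hs
  apply ext_ent <;> simp only [ent_mul] <;> simp [h10, h01, h00, mul_comm]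

/-- Odd order and normalised by the reflection. -/
structure Cfg (H : Subgroup (GL2 q)) : Prop where
  ne_two : q ≠ 2
  odd : Odd (Nat.card ↥H)
  conj : ∀ h ∈ H, refl * h * refl ∈ H

theorem two_ne_zero' (hne : q ≠ 2) : (2 : ZMod q) ≠ 0 := fun e => by
  have h1 : ((2 : ℕ) : ZMod q) = 0 := by exact_mod_cast e
  rw [ZMod.natCast_eq_zero_iff] at h1
  exact hne ((Nat.prime_dvd_prime_iff_eq hq.out Nat.prime_two).1 h1)

namespace Cfg

variable {H : Subgroup (GL2 q)} (c : Cfg H)
include c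

theorem odd_orderOf {h : GL2 q} (hh : h ∈ H) : Odd (orderOf h) :=
  Odd.of_dvd_nat c.odd (H.orderOf_dvd_natCard hh)

theorem ent_pow_low {h : GL2 q} (h10 : ent h 1 0 = 0) (k : ℕ) : ent (h ^ k) 0 0 = ent h 0 0 ^ k := by
  induction k with
  | zero => simp [ent_one]
  | succ k ih => rw [pow_succ, ent_mul, ih, h10, mul_zero, add_zero, pow_succ]

theorem ent00_ne_neg_one {h : GL2 q} (hh : h ∈ H) (h10 : ent h 1 0 = 0) : ent h 0 0 ≠ -1 := fun e => by
  have h1 := ent_pow_low c h10 (orderOf h)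
  rw [pow_orderOf_eq_one, e, (c.odd_orderOf hh).neg_one_pow, ent_one, if_pos rfl] at h1
  exact two_ne_zero' c.ne_two (by linear_combination h1)

theorem ne_neg_one {h : GL2 q} (hh : h ∈ H)
    (e00 : ent h 0 0 = -1) (e10 : ent h 1 0 = 0) : False := c.ent00_ne_neg_one hh e10 e00

theorem ent00_ne_zero {h : GL2 q} (hh : h ∈ H) : ent h 0 0 ≠ 0 := by
  intro e
  obtain ⟨-, -, f10, -⟩ := ent_conj_refl h
  obtain ⟨f00, -, -, -⟩ := ent_conj_refl h
  set w := h⁻¹ * (refl * h * refl) with hw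
  have hwH : w ∈ H := mul_mem (inv_mem hh) (c.conj h hh)
  have hhw : h * w = refl * h * refl := by rw [hw, mul_inv_cancel_left]
  have h1 := det_ne h
  rw [e, zero_mul, zero_sub, neg_ne_zero] at h1
  have e0 : ent (h * w) 0 0 = ent h 0 0 := by rw [hhw, f00]
  have e1 : ent (h * w) 1 0 = -ent h 1 0 := by rw [hhw, f10]
  rw [ent_mul, e, zero_mul, zero_add] at e0
  have w10 := (mul_eq_zero.1 e0).resolve_left (left_ne_zero_of_mul h1)
  rw [ent_mul, w10, mul_zero, add_zero] at e1
  refine c.ne_neg_one hwH (mul_left_cancel₀ (right_ne_zero_of_mul h1) ?_) w10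
  rw [e1, mul_neg_one]

/-- The orbit of the first axis misses the second one. -/
theorem relIndex_low_le : (low q).relIndex H ≤ q := by
  classical
  let f : ↥H ⧸ (low q).subgroupOf H → ZMod q := fun Q => ent (Q.out : GL2 q) 1 0 / ent (Q.out : GL2 q) 0 0
  have hf : Function.Injective f := fun Q Q' e => by
    rw [← Quotient.out_eq Q, ← Quotient.out_eq Q']
    refine QuotientGroup.eq.2 (mem_subgroupOf.2 (mem_low.2 ?_))
    set a := (Q.out : GL2 q)
    set b := (Q'.out : GL2 q)
    have e' : ent b 1 0 * ent a 0 0 = ent a 1 0 * ent b 0 0 := by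
      have := (div_eq_div_iff (c.ent00_ne_zero Q.out.2) (c.ent00_ne_zero Q'.out.2)).1 e
      linear_combination -this
    have hab : a * (a⁻¹ * b) = b := mul_inv_cancel_left a b
    have e0 : ent (a * (a⁻¹ * b)) 0 0 = ent b 0 0 := by rw [hab]
    have e1 : ent (a * (a⁻¹ * b)) 1 0 = ent b 1 0 := by rw [hab]
    rw [ent_mul] at e0 e1
    have h2 : (ent a 0 0 * ent a 1 1 - ent a 0 1 * ent a 1 0) * ent (a⁻¹ * b) 1 0 = 0 := by
      linear_combination (ent a 0 0) * e1 - (ent a 1 0) * e0 + e'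
    exact (mul_eq_zero.1 h2).resolve_left (det_ne a)
  have h1 := Nat.card_le_card_of_injective f hf
  rwa [Nat.card_zmod] at h1

/-- Fixing the second axis: either the first one too, or all other lines are in its orbit. -/
theorem translations (hup : ∀ h ∈ H, ent h 0 1 = 0) :
    (∀ h ∈ H, ent h 1 0 = 0) ∨ (low q).relIndex H = q := by
  classical
  by_contra hcon
  push Not at hcon
  obtain ⟨⟨h, hh, hc⟩, hne⟩ := hcon
  refine hne (le_antisymm c.relIndex_low_le ?_)
  obtain ⟨f00, f01, f10, f11⟩ := ent_conj_refl h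
  set w := h⁻¹ * (refl * h * refl) with hw
  have hwH : w ∈ H := mul_mem (inv_mem hh) (c.conj h hh)
  have hhw : h * w = refl * h * refl := by rw [hw, mul_inv_cancel_left]
  have hd := det_ne h
  rw [hup h hh, zero_mul, sub_zero] at hd
  have w01 := hup w hwH
  have e0 : ent (h * w) 0 0 = ent h 0 0 := by rw [hhw, f00]
  rw [ent_mul, hup h hh, zero_mul, add_zero] at e0
  have w00 : ent w 0 0 = 1 := mul_left_cancel₀ (left_ne_zero_of_mul hd) (e0.trans (mul_one _).symm)
  have e1 : ent (h * w) 1 0 = -ent h 1 0 := by rw [hhw, f10]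
  rw [ent_mul, w00, mul_one] at e1
  have e2 : ent (h * w) 1 1 = ent h 1 1 := by rw [hhw, f11]
  rw [ent_mul, w01, mul_zero, zero_add] at e2
  have w11 : ent w 1 1 = 1 := mul_left_cancel₀ (right_ne_zero_of_mul hd) (e2.trans (mul_one _).symm)
  have w10 : ent w 1 0 ≠ 0 := fun e => by
    rw [e, mul_zero, add_zero] at e1
    exact hc ((mul_eq_zero.1 (show (2 : ZMod q) * ent h 1 0 = 0 by linear_combination e1)).resolve_left
      (two_ne_zero' c.ne_two))
  have hpow : ∀ i : ℕ, ent (w ^ i) 0 0 = 1 ∧ ent (w ^ i) 0 1 = 0 ∧ ent (w ^ i) 1 0 = i * ent w 1 0 ∧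
      ent (w ^ i) 1 1 = 1 := by
    intro i
    induction i with
    | zero => simp [ent_one]
    | succ i ih =>
      simp only [pow_succ, ent_mul, ih.1, ih.2.1, ih.2.2.1, ih.2.2.2, w00, w01, w11]
      push_cast
      refine ⟨?_, ?_, ?_, ?_⟩ <;> ring
  let f : ZMod q → ↥H ⧸ (low q).subgroupOf H := fun i => QuotientGroup.mk ⟨w ^ i.val, pow_mem hwH _⟩
  have hf : Function.Injective f := fun i j e => by
    have h1 := mem_low.1 (mem_subgroupOf.1 (QuotientGroup.eq.1 e))
    simp only [Subgroup.coe_mul, InvMemClass.coe_inv] at h1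
    set k := (w ^ i.val)⁻¹ * w ^ j.val
    have hk : w ^ i.val * k = w ^ j.val := mul_inv_cancel_left _ _
    have e0 : ent (w ^ i.val * k) 0 0 = ent (w ^ j.val) 0 0 := by rw [hk]
    have e1 : ent (w ^ i.val * k) 1 0 = ent (w ^ j.val) 1 0 := by rw [hk]
    rw [ent_mul, (hpow _).1, (hpow _).1, (hpow _).2.1, one_mul, zero_mul, add_zero] at e0
    rw [ent_mul, h1, mul_zero, add_zero, e0, mul_one, (hpow _).2.2.1, (hpow _).2.2.1] at e1
    have := mul_right_cancel₀ w10 e1
    rwa [ZMod.natCast_zmod_val, ZMod.natCast_zmod_val] at this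
  have h1 := Nat.card_le_card_of_injective f hf
  rwa [Nat.card_zmod] at h1

/-- Two transvections of `H` have orthogonal directions. -/
theorem trace_eq_zero {u v : GL2 q} (hu : u ∈ H) (hv : v ∈ H) {a b r a' b' r' : ZMod q}
    (hu0 : ent u 0 0 = 1 + a) (hu1 : ent u 0 1 = b) (hu2 : ent u 1 0 = r) (hu3 : ent u 1 1 = 1 - a)
    (hN : a * a + b * r = 0) (hv0 : ent v 0 0 = 1 + a') (hv1 : ent v 0 1 = b') (hv2 : ent v 1 0 = r')
    (hv3 : ent v 1 1 = 1 - a') (hN' : a' * a' + b' * r' = 0) : 2 * a * a' + b * r' + r * b' = 0 := by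
  by_contra hT
  set T := 2 * a * a' + b * r' + r * b' with hTdef
  have hpow : ∀ i : ℕ, ent (u ^ i) 0 0 = 1 + i * a ∧ ent (u ^ i) 0 1 = i * b ∧ ent (u ^ i) 1 0 = i * r ∧
      ent (u ^ i) 1 1 = 1 - i * a := by
    intro i
    induction i with
    | zero => simp [ent_one]
    | succ i ih =>
      simp only [pow_succ, ent_mul, ih.1, ih.2.1, ih.2.2.1, ih.2.2.2, hu0, hu1, hu2, hu3]
      push_cast
      refine ⟨?_, ?_, ?_, ?_⟩
      · linear_combination (i : ZMod q) * hN
      · ring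
      · ring
      · linear_combination (i : ZMod q) * hN
  set s : ℕ := (-2 / T : ZMod q).val
  have hs : (s : ZMod q) * T = -2 := by
    simp only [s, ZMod.natCast_zmod_val]
    field_simp
  set w := u ^ s * v with hw
  have hwH : w ∈ H := mul_mem (pow_mem hu s) hv
  obtain ⟨p0, p1, p2, p3⟩ := hpow s
  have w00 : ent w 0 0 = (1 + s * a) * (1 + a') + s * b * r' := by rw [hw, ent_mul, p0, p1, hv0, hv2]
  have w01 : ent w 0 1 = (1 + s * a) * b' + s * b * (1 - a') := by rw [hw, ent_mul, p0, p1, hv1, hv3]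
  have w10 : ent w 1 0 = s * r * (1 + a') + (1 - s * a) * r' := by rw [hw, ent_mul, p2, p3, hv0, hv2]
  have w11 : ent w 1 1 = s * r * b' + (1 - s * a) * (1 - a') := by rw [hw, ent_mul, p2, p3, hv1, hv3]
  have htr : ent w 0 0 + ent w 1 1 = 0 := by rw [w00, w11]; rw [hTdef] at hs; linear_combination hs
  have hdet : ent w 0 0 * ent w 1 1 - ent w 0 1 * ent w 1 0 = 1 := by
    rw [w00, w01, w10, w11]
    linear_combination (-(s : ZMod q) * s * (1 - a' * a' - b' * r')) * hN - hN'
  refine c.ne_neg_one (mul_mem hwH hwH) ?_ ?_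
  · rw [ent_mul]; linear_combination (ent w 0 0) * htr - hdet
  · rw [ent_mul]; linear_combination (ent w 1 0) * htr

/-- An element of order `q` makes an axis invariant. -/
theorem axis_of_dvd (hd : q ∣ Nat.card ↥H) : (∀ h ∈ H, ent h 0 1 = 0) ∨ ∀ h ∈ H, ent h 1 0 = 0 := by
  classical
  obtain ⟨u₀, hu₀⟩ := exists_prime_orderOf_dvd_card' (G := ↥H) q hd
  set u := (u₀ : GL2 q) with hudef
  have hu : u ∈ H := u₀.2
  have huo : orderOf u = q := by rw [hudef, orderOf_coe, hu₀]
  set M : Matrix (Fin 2) (Fin 2) (ZMod q) := (u : Matrix (Fin 2) (Fin 2) (ZMod q)) - 1 with hM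
  have hMq : M ^ q = 0 := by
    rw [hM, sub_pow_char_of_commute q (Commute.one_right _), one_pow, ← Units.val_pow_eq_pow_val,
      orderOf_dvd_iff_pow_eq_one.1 huo.dvd, Units.val_one, sub_self]
  have hdet : M.det = 0 := by
    have h1 := congrArg Matrix.det hMq
    rw [Matrix.det_pow, Matrix.det_zero] at h1
    exact eq_zero_of_pow_eq_zero h1
  rw [Matrix.det_fin_two] at hdet
  have hsq : M * M = (M 0 0 + M 1 1) • M := by
    refine Matrix.ext (Fin.forall_fin_two.2 ⟨Fin.forall_fin_two.2 ⟨?_, ?_⟩, Fin.forall_fin_two.2 ⟨?_, ?_⟩⟩) <;>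
      simp only [Matrix.mul_apply, Fin.sum_univ_two, Matrix.smul_apply, smul_eq_mul] <;>
      first | linear_combination -hdet | linear_combination hdet | ring1
  have hM0 : M ≠ 0 := fun e => by
    have h1 : u = 1 := Units.ext (sub_eq_zero.1 e)
    rw [h1, orderOf_one] at huo
    exact hq.out.ne_one huo.symm
  have htr : M 0 0 + M 1 1 = 0 := by
    by_contra hne
    refine hM0 ?_
    have hp : ∀ k : ℕ, M ^ (k + 1) = (M 0 0 + M 1 1) ^ k • M := fun k => by
      induction k with
      | zero => simp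
      | succ k ih => rw [pow_succ, ih, Matrix.smul_mul, hsq, smul_smul, pow_succ]
    have h1 := hp (q - 1)
    rw [Nat.sub_add_cancel hq.out.one_le, hMq] at h1
    exact (smul_eq_zero.1 h1.symm).resolve_left (pow_ne_zero _ hne)
  set a := M 0 0 with ha
  set b := M 0 1 with hb
  set r := M 1 0 with hr
  have hu0 : ent u 0 0 = 1 + a := by simp [ent, ha, hM]
  have hu1 : ent u 0 1 = b := by simp [ent, hb, hM]
  have hu2 : ent u 1 0 = r := by simp [ent, hr, hM]
  have hu3 : ent u 1 1 = 1 - a := by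
    have : ent u 1 1 = 1 + M 1 1 := by simp [ent, hM]
    linear_combination this + htr
  have hN : a * a + b * r = 0 := by linear_combination a * htr - hdet
  obtain ⟨f00, f01, f10, f11⟩ := ent_conj_refl u
  have h1 := c.trace_eq_zero hu (c.conj u hu) hu0 hu1 hu2 hu3 hN (a' := a) (b' := -b) (r' := -r)
    (f00.trans hu0) (f01.trans (congrArg Neg.neg hu1)) (f10.trans (congrArg Neg.neg hu2)) (f11.trans hu3)
    (by linear_combination hN)
  have ha0 : a = 0 := mul_self_eq_zero.1 ((mul_eq_zero.1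
    (show (4 : ZMod q) * (a * a) = 0 by linear_combination h1 + 2 * hN)).resolve_left (by
      rw [show (4 : ZMod q) = 2 * 2 by norm_num]
      exact mul_ne_zero (two_ne_zero' c.ne_two) (two_ne_zero' c.ne_two)))
  have hbr : b * r = 0 := by rw [ha0] at hN; linear_combination hN
  have hbr0 : b ≠ 0 ∨ r ≠ 0 := by
    by_contra hcon
    push Not at hcon
    refine hM0 (Matrix.ext fun i j => ?_)
    fin_cases i <;> fin_cases j
    exacts [ha0, hcon.1, hcon.2, by
      show M 1 1 = 0
      linear_combination htr - ha0]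
  -- the conjugates of `u` have the same direction
  have key : ∀ h ∈ H, ∀ a' b' r' : ZMod q, ent (h * u * h⁻¹) 0 0 = 1 + a' → ent (h * u * h⁻¹) 0 1 = b' →
      ent (h * u * h⁻¹) 1 0 = r' → ent (h * u * h⁻¹) 1 1 = 1 - a' ∧ a' * a' + b' * r' = 0 := by
    intro h hh a' b' r' e0 e1 e2
    have hconj : ((h * u * h⁻¹ : GL2 q) : Matrix (Fin 2) (Fin 2) (ZMod q)) =
        (h : Matrix (Fin 2) (Fin 2) (ZMod q)) * u * ((h⁻¹ : GL2 q) : Matrix (Fin 2) (Fin 2) (ZMod q)) := by simp
    have ht : (h * u * h⁻¹ : GL2 q).1.trace = u.1.trace := by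
      rw [hconj, Matrix.trace_units_conj]
    have hdd : (h * u * h⁻¹ : GL2 q).1.det = u.1.det := by rw [hconj, Matrix.det_units_conj]
    rw [Matrix.trace_fin_two, Matrix.trace_fin_two] at ht
    rw [Matrix.det_fin_two, Matrix.det_fin_two] at hdd
    change ent (h * u * h⁻¹) 0 0 + ent (h * u * h⁻¹) 1 1 = ent u 0 0 + ent u 1 1 at ht
    change ent (h * u * h⁻¹) 0 0 * ent (h * u * h⁻¹) 1 1 - ent (h * u * h⁻¹) 0 1 * ent (h * u * h⁻¹) 1 0 =
      ent u 0 0 * ent u 1 1 - ent u 0 1 * ent u 1 0 at hdd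
    rw [e0, hu0, hu3] at ht
    have e3 : ent (h * u * h⁻¹) 1 1 = 1 - a' := by linear_combination ht
    rw [e0, e1, e2, e3, hu0, hu1, hu2, hu3] at hdd
    exact ⟨e3, by linear_combination -hdd + hN⟩
  rcases mul_eq_zero.1 hbr with hb0 | hr0
  · left
    intro h hh
    obtain ⟨e3, hN'⟩ := key h hh (ent (h * u * h⁻¹) 0 0 - 1) _ _ (by ring) rfl rfl
    have hT := c.trace_eq_zero hu (mul_mem (mul_mem hh hu) (inv_mem hh)) hu0 hu1 hu2 hu3 hN
      (a' := ent (h * u * h⁻¹) 0 0 - 1) (by ring) rfl rfl e3 hN'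
    have hr0 : r ≠ 0 := hbr0.resolve_left fun e => e hb0
    have hb' : ent (h * u * h⁻¹) 0 1 = 0 :=
      (mul_eq_zero.1 (show r * ent (h * u * h⁻¹) 0 1 = 0 by rw [ha0, hb0] at hT; linear_combination hT)).resolve_left
        hr0
    rw [hb', zero_mul, add_zero] at hN'
    have h00 : ent (h * u * h⁻¹) 0 0 = 1 := sub_eq_zero.1 (mul_self_eq_zero.1 hN')
    generalize hg : h * u * h⁻¹ = g at h00 hb'
    have e0 : ent (g * h) 0 0 = ent (h * u) 0 0 := by rw [← hg, inv_mul_cancel_right]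
    simp only [ent_mul, h00, hb', hu0, hu2, ha0] at e0
    exact (mul_eq_zero.1 (show ent h 0 1 * r = 0 by linear_combination -e0)).resolve_right hr0
  · right
    intro h hh
    obtain ⟨e3, hN'⟩ := key h hh (ent (h * u * h⁻¹) 0 0 - 1) _ _ (by ring) rfl rfl
    have hT := c.trace_eq_zero hu (mul_mem (mul_mem hh hu) (inv_mem hh)) hu0 hu1 hu2 hu3 hN
      (a' := ent (h * u * h⁻¹) 0 0 - 1) (by ring) rfl rfl e3 hN'
    have hb0 : b ≠ 0 := hbr0.resolve_right fun e => e hr0
    have hr' : ent (h * u * h⁻¹) 1 0 = 0 :=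
      (mul_eq_zero.1 (show b * ent (h * u * h⁻¹) 1 0 = 0 by rw [ha0, hr0] at hT; linear_combination hT)).resolve_left
        hb0
    rw [hr', mul_zero, add_zero] at hN'
    have h00 : ent (h * u * h⁻¹) 0 0 = 1 := sub_eq_zero.1 (mul_self_eq_zero.1 hN')
    have h11 : ent (h * u * h⁻¹) 1 1 = 1 := by rw [e3, h00]; ring
    generalize hg : h * u * h⁻¹ = g at h11 hr'
    have e1 : ent (g * h) 1 1 = ent (h * u) 1 1 := by rw [← hg, inv_mul_cancel_right]
    simp only [ent_mul, h11, hr', hu1, hu3, ha0] at e1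
    exact (mul_eq_zero.1 (show ent h 1 0 * b = 0 by linear_combination -e1)).resolve_right hb0

end Cfg

end Cfsg.Agent.Invol.GW.Dihedral.Plane
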