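import Cfsg.Agent.Lib.Invol.GW.Dihedral.PlaneRotation

/-!
# The positions of a group of odd order and a rotation in `GL₂(q)`

`r` is a 2-element inverted by the reflection: it is `1`, `±` the reflection, or a power of it is `-1`.  In the last
case the group normalised by both fixes an axis fixed by `r`, or has order prime to `q` and one of the two indices of
the fixed points is one while the other is at least three, or they are equal and `2 ^ i` times them is at most
`q + 1`.
-/

set_option autoImplicit false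
set_option linter.unusedSectionVars false

namespace Cfsg.Agent.Invol.GW.Dihedral.Plane

open Subgroup Matrix

variable {q : ℕ} [hq : Fact q.Prime]

/-- The index in `H` of the points fixed by `x`. -/
noncomputable def fixIdx (x : GL2 q) (H : Subgroup (GL2 q)) : ℕ := (centralizer ({x} : Set (GL2 q))).relIndex H

theorem ent_neg (a : GL2 q) (i j : Fin 2) : ent (-a) i j = -ent a i j := by simp [ent]

theorem neg_one_mem_scal : (-1 : GL2 q) ∈ scal q := mem_scal.2 (by simp [ent_neg, ent_one])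

theorem ent_refl : ent (refl : GL2 q) 0 0 = 1 ∧ ent (refl : GL2 q) 0 1 = 0 ∧ ent (refl : GL2 q) 1 0 = 0 ∧
    ent (refl : GL2 q) 1 1 = -1 := by
  simp [ent, refl, Matrix.GeneralLinearGroup.mkOfDetNeZero]

/-- Powers of an element fixing an axis. -/
theorem ent00_pow {h : GL2 q} (hh : ent h 1 0 = 0 ∨ ent h 0 1 = 0) (k : ℕ) :
    ent (h ^ k) 0 0 = ent h 0 0 ^ k := by
  rcases hh with hh | hh
  · induction k with
    | zero => simp [ent_one]
    | succ k ih => rw [pow_succ, ent_mul, ih, hh, mul_zero, add_zero, pow_succ]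
  · induction k with
    | zero => simp [ent_one]
    | succ k ih => rw [pow_succ', ent_mul, ih, hh, zero_mul, add_zero, pow_succ']

theorem two_mul_sq_eleven : ∀ a : ZMod 11, 2 * a * a ≠ 1 := by decide

section Rotation

variable (hne2 : q ≠ 2) {r : GL2 q} (hrr : refl * r * refl = r⁻¹)
include hne2 hrr

/-- An element inverted by the reflection is `±` the reflection or has determinant one and equal diagonal. -/
theorem rotation_shape : r = refl ∨ r = -refl ∨
    (ent r 0 0 = ent r 1 1 ∧ ent r 0 0 * ent r 1 1 - ent r 0 1 * ent r 1 0 = 1) := by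
  obtain ⟨f00, f01, f10, f11⟩ := ent_conj_refl r
  set D := ent r 0 0 * ent r 1 1 - ent r 0 1 * ent r 1 0 with hD
  have hD0 : D ≠ 0 := det_ne r
  have e : ∀ a b, ent (r * (refl * r * refl)) a b = ent (1 : GL2 q) a b := fun a b => by
    rw [hrr, mul_inv_cancel]
  have d00 := e 0 0
  have d01 := e 0 1
  have d10 := e 1 0
  have d11 := e 1 1
  simp [ent_mul (a := r), f00, f01, f10, f11, ent_one] at d00 d01 d10 d11
  by_cases hd : ent r 0 1 = 0 ∧ ent r 1 0 = 0
  · obtain ⟨h01, h10⟩ := hd
    have ha : ent r 0 0 * ent r 0 0 = 1 := by rw [h01] at d00; linear_combination d00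
    have hb : ent r 1 1 * ent r 1 1 = 1 := by rw [h10] at d11; linear_combination d11
    obtain ⟨g00, g01, g10, g11⟩ := ent_refl (q := q)
    rcases mul_self_eq_one_iff.1 ha with e0 | e0 <;> rcases mul_self_eq_one_iff.1 hb with e1 | e1
    · exact Or.inr (Or.inr ⟨by rw [e0, e1], by rw [hD, e0, e1, h01]; ring⟩)
    · exact Or.inl (ext_ent (by rw [e0, g00]) (by rw [h01, g01]) (by rw [h10, g10]) (by rw [e1, g11]))
    · exact Or.inr (Or.inl (ext_ent (by rw [e0, ent_neg, g00]) (by rw [h01, ent_neg, g01, neg_zero])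
        (by rw [h10, ent_neg, g10, neg_zero]) (by rw [e1, ent_neg, g11, neg_neg])))
    · exact Or.inr (Or.inr ⟨by rw [e0, e1], by rw [hD, e0, e1, h01]; ring⟩)
  · have heq : ent r 0 0 = ent r 1 1 := by
      rcases not_and_or.1 hd with h1 | h1
      · exact sub_eq_zero.1 ((mul_eq_zero.1 (show ent r 0 1 * (ent r 0 0 - ent r 1 1) = 0 by
          linear_combination -d01)).resolve_left h1)
      · exact sub_eq_zero.1 ((mul_eq_zero.1 (show ent r 1 0 * (ent r 0 0 - ent r 1 1) = 0 by
          linear_combination d10)).resolve_left h1)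
    exact Or.inr (Or.inr ⟨heq, by rw [hD, ← heq]; linear_combination d00⟩)

/-- The positions of a 2-element inverted by the reflection. -/
theorem rotation_cases {N : ℕ} (hN : r ^ 2 ^ N = 1) :
    r = 1 ∨ r = refl ∨ r = -refl ∨ ∃ i, 1 ≤ i ∧ i ≤ N ∧ r ^ 2 ^ (i - 1) = -1 := by
  classical
  rcases rotation_shape hne2 hrr with e | e | ⟨heq, hdet⟩
  · exact Or.inr (Or.inl e)
  · exact Or.inr (Or.inr (Or.inl e))
  have hex : ∃ j, r ^ 2 ^ j = 1 := ⟨N, hN⟩
  rcases Nat.eq_zero_or_pos (Nat.find hex) with e | hpos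
  · left
    have h0 := Nat.find_spec hex
    rwa [e, pow_zero, pow_one] at h0
  refine Or.inr (Or.inr (Or.inr ⟨Nat.find hex, hpos, Nat.find_le hN, ?_⟩))
  set i := Nat.find hex with hi
  set x := r ^ 2 ^ (i - 1) with hx
  have hx1 : x ≠ 1 := Nat.find_min hex (show i - 1 < Nat.find hex by omega)
  have hxx : x * x = 1 := by
    have h0 : r ^ 2 ^ i = 1 := Nat.find_spec hex
    rw [hx, ← pow_add, ← two_mul, ← pow_succ', show i - 1 + 1 = i by omega, h0]
  have hdet' : ent x 0 0 * ent x 1 1 - ent x 0 1 * ent x 1 0 = 1 := by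
    have h1 : Matrix.GeneralLinearGroup.det r = 1 := Units.ext (by simpa [Matrix.det_fin_two] using hdet)
    have h2 : Matrix.GeneralLinearGroup.det x = 1 := by rw [hx, map_pow, h1, one_pow]
    simpa [Matrix.det_fin_two] using congrArg Units.val h2
  -- an involution of determinant one is a scalar
  have e : ∀ a b, ent (x * x) a b = ent (1 : GL2 q) a b := fun a b => by rw [hxx]
  have e00 := e 0 0
  have e01 := e 0 1
  have e10 := e 1 0
  have e11 := e 1 1
  simp [ent_mul, ent_one] at e00 e01 e10 e11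
  set s := ent x 0 0 + ent x 1 1 with hs
  have hs0 : s ≠ 0 := fun h0 => by
    rw [hs] at h0
    exact two_ne_zero' hne2 (by linear_combination -e00 + ent x 0 0 * h0 - hdet')
  have x01 : ent x 0 1 = 0 :=
    (mul_eq_zero.1 (show ent x 0 1 * s = 0 by rw [hs]; linear_combination e01)).resolve_right hs0
  have x10 : ent x 1 0 = 0 :=
    (mul_eq_zero.1 (show ent x 1 0 * s = 0 by rw [hs]; linear_combination e10)).resolve_right hs0
  have x11 : ent x 1 1 = ent x 0 0 := by
    rw [x01] at e00 hdet'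
    linear_combination ent x 0 0 * hdet' - ent x 1 1 * e00
  have ha : ent x 0 0 * ent x 0 0 = 1 := by rw [x01] at e00; linear_combination e00
  rcases mul_self_eq_one_iff.1 ha with e0 | e0
  · exact absurd (ext_ent (by simp [ent_one, e0]) (by simp [ent_one, x01]) (by simp [ent_one, x10])
      (by simp [ent_one, x11, e0])) hx1
  · exact ext_ent (by simp [ent_neg, ent_one, e0]) (by simp [ent_neg, ent_one, x01])
      (by simp [ent_neg, ent_one, x10]) (by simp [ent_neg, ent_one, x11, e0])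

variable {i : ℕ} (hi : 1 ≤ i) (hri : r ^ 2 ^ (i - 1) = -1)
include hi hri

/-- A rotation of order at least four moves both axes. -/
theorem rotation_moves (hi2 : 2 ≤ i) : ent r 1 0 ≠ 0 ∧ ent r 0 1 ≠ 0 := by
  have key : ¬ (ent r 1 0 = 0 ∨ ent r 0 1 = 0) := by
    intro hh
    rcases rotation_shape hne2 hrr with e | e | ⟨heq, hdet⟩
    all_goals
      have h1 := ent00_pow hh (2 ^ (i - 1))
      rw [hri, ent_neg, ent_one, if_pos rfl] at h1
      have h2 : ent r 0 0 * ent r 0 0 = 1 := by
        first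
          | (rw [e]; simp [ent_neg, (ent_refl (q := q)).1])
          | (rw [← heq] at hdet; rcases hh with h0 | h0 <;> rw [h0] at hdet <;> linear_combination hdet)
      rw [show 2 ^ (i - 1) = 2 * 2 ^ (i - 2) by rw [← pow_succ']; congr 1; omega, pow_mul, pow_two, h2,
        one_pow] at h1
      exact two_ne_zero' hne2 (by linear_combination -h1)
  exact ⟨fun e => key (Or.inl e), fun e => key (Or.inr e)⟩

/-- A rotation of order `2 ^ i` of determinant one: at most `q + 1` points on the conic. -/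
theorem two_pow_le (hi2 : 2 ≤ i) : 2 ^ i ≤ q + 1 := by
  classical
  obtain ⟨m10, m01⟩ := rotation_moves hne2 hrr hi hri hi2
  obtain ⟨heq, hdet⟩ : ent r 0 0 = ent r 1 1 ∧
      ent r 0 0 * ent r 1 1 - ent r 0 1 * ent r 1 0 = 1 := by
    rcases rotation_shape hne2 hrr with e | e | e
    · exact absurd (by rw [e, (ent_refl (q := q)).2.2.1]) m10
    · exact absurd (by rw [e, ent_neg, (ent_refl (q := q)).2.2.1, neg_zero]) m10
    · exact e
  set K := ent r 0 1 * ent r 1 0 with hK
  -- the powers are `A + w (r - A)`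
  have hpow : ∀ k : ℕ, ∃ A w : ZMod q, ent (r ^ k) 0 0 = A ∧ ent (r ^ k) 1 1 = A ∧
      ent (r ^ k) 0 1 = w * ent r 0 1 ∧ ent (r ^ k) 1 0 = w * ent r 1 0 ∧ A * A - K * (w * w) = 1 := by
    intro k
    induction k with
    | zero => exact ⟨1, 0, by simp [ent_one], by simp [ent_one], by simp [ent_one], by simp [ent_one], by ring⟩
    | succ k ih =>
      obtain ⟨A, w, a0, a1, a2, a3, a4⟩ := ih
      refine ⟨A * ent r 0 0 + w * K, A + w * ent r 0 0, ?_, ?_, ?_, ?_, ?_⟩ <;>
        simp only [pow_succ, ent_mul, a0, a1, a2, a3, ← heq, hK]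
      · ring
      · ring
      · ring
      · ring
      · rw [← heq] at hdet
        rw [hK] at a4
        linear_combination a4 + (A * A - ent r 0 1 * ent r 1 0 * (w * w)) * hdet
  have hord : orderOf r = 2 ^ i := by
    rw [show i = i - 1 + 1 by omega]
    refine orderOf_eq_prime_pow ?_ ?_
    · intro e
      have h1 : ent (r ^ 2 ^ (i - 1)) 0 0 = ent (1 : GL2 q) 0 0 := by rw [e]
      rw [hri, ent_neg, ent_one, if_pos rfl] at h1
      exact two_ne_zero' hne2 (by linear_combination -h1)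
    · rw [pow_succ, pow_mul, hri, neg_one_sq]
  let g : Fin (2 ^ i) → Option (ZMod q) := fun k =>
    if ent (r ^ (k : ℕ)) 0 0 = -1 then none
    else some (ent (r ^ (k : ℕ)) 0 1 / ((1 + ent (r ^ (k : ℕ)) 0 0) * ent r 0 1))
  have hg : Function.Injective g := by
    intro k k' hkk
    refine Fin.ext (pow_injOn_Iio_orderOf (x := r) (by simp [hord, k.2]) (by simp [hord, k'.2]) ?_)
    obtain ⟨A, w, a0, a1, a2, a3, a4⟩ := hpow k
    obtain ⟨B, v, b0, b1, b2, b3, b4⟩ := hpow k'
    suffices A = B ∧ w = v from ext_ent (by rw [a0, b0, this.1]) (by rw [a2, b2, this.2])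
      (by rw [a3, b3, this.2]) (by rw [a1, b1, this.1])
    have hK0 : K ≠ 0 := mul_ne_zero m01 m10
    simp only [g, a0, b0, a2, b2] at hkk
    by_cases hA : A = -1 <;> by_cases hB : B = -1
    · refine ⟨hA.trans hB.symm, ?_⟩
      rw [hA] at a4
      rw [hB] at b4
      have hw : w = 0 := mul_self_eq_zero.1 ((mul_eq_zero.1 (show K * (w * w) = 0 by linear_combination -a4)).resolve_left hK0)
      have hv : v = 0 := mul_self_eq_zero.1 ((mul_eq_zero.1 (show K * (v * v) = 0 by linear_combination -b4)).resolve_left hK0)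
      rw [hw, hv]
    · simp [hA, hB] at hkk
    · simp [hA, hB] at hkk
    · rw [if_neg hA, if_neg hB, Option.some_inj] at hkk
      have hA' : (1 : ZMod q) + A ≠ 0 := fun e => hA (by linear_combination e)
      have hB' : (1 : ZMod q) + B ≠ 0 := fun e => hB (by linear_combination e)
      set u := w / (1 + A) with hu
      have hv : v / (1 + B) = u := by
        rw [hu]
        rw [mul_div_mul_right _ _ m01, mul_div_mul_right _ _ m01] at hkk
        exact hkk.symm
      have ew : w = u * (1 + A) := by rw [hu, div_mul_cancel₀ _ hA']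
      have ev : v = u * (1 + B) := by rw [← hv, div_mul_cancel₀ _ hB']
      have eA : A * (1 - K * (u * u)) = 1 + K * (u * u) := by
        refine mul_right_cancel₀ hA' ?_
        rw [ew] at a4
        linear_combination a4
      have eB : B * (1 - K * (u * u)) = 1 + K * (u * u) := by
        refine mul_right_cancel₀ hB' ?_
        rw [ev] at b4
        linear_combination b4
      have hne : 1 - K * (u * u) ≠ 0 := fun e0 => by
        rw [e0, mul_zero] at eA
        exact two_ne_zero' hne2 (by linear_combination e0 - eA)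
      have hAB := mul_right_cancel₀ hne (eA.trans eB.symm)
      exact ⟨hAB, by rw [ew, ev, hAB]⟩
  have h1 := Fintype.card_le_of_injective g hg
  rwa [Fintype.card_fin, Fintype.card_option, ZMod.card] at h1

/-- No rotation of order eight for `q = 11`. -/
theorem ne_three_of_eleven (hq11 : q = 11) : i ≠ 3 := by
  intro hi3
  subst hi3 hq11
  obtain ⟨m10, -⟩ := rotation_moves hne2 hrr hi hri (by norm_num)
  obtain ⟨heq, hdet⟩ : ent r 0 0 = ent r 1 1 ∧
      ent r 0 0 * ent r 1 1 - ent r 0 1 * ent r 1 0 = 1 := by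
    rcases rotation_shape hne2 hrr with e | e | e
    · exact absurd (by rw [e, (ent_refl (q := 11)).2.2.1]) m10
    · exact absurd (by rw [e, ent_neg, (ent_refl (q := 11)).2.2.1, neg_zero]) m10
    · exact e
  have h1 : ent (r ^ 4) 0 0 = -1 := by
    have e : r ^ 4 = -1 := hri
    rw [e, ent_neg, ent_one, if_pos rfl]
  simp only [show (4 : ℕ) = 2 * 2 from rfl, pow_mul, pow_two, ent_mul, ← heq] at h1
  rw [← heq] at hdet
  refine two_mul_sq_eleven (ent r 0 0) ?_
  have h3 : (2 : ZMod 11) * ((2 * ent r 0 0 * ent r 0 0 - 1) * (2 * ent r 0 0 * ent r 0 0 - 1)) = 0 := by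
    linear_combination h1 + (8 * ent r 0 0 * ent r 0 0 - 1 - (ent r 0 0 * ent r 0 0 - ent r 0 1 * ent r 1 0)) * hdet
  exact sub_eq_zero.1 (mul_self_eq_zero.1 ((mul_eq_zero.1 h3).resolve_left (two_ne_zero' hne2)))

end Rotation

namespace Cfg

variable {H : Subgroup (GL2 q)} (c : Cfg H)
include c

theorem odd_fixIdx (x : GL2 q) : Odd (fixIdx x H) := Odd.of_dvd_nat c.odd (relIndex_dvd_card _ _)

theorem three_le_fixIdx {x : GL2 q} (hx : ∃ h ∈ H, ¬ Commute h x) : 3 ≤ fixIdx x H := by
  obtain ⟨h, hh, hn⟩ := hx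
  have h1 : fixIdx x H ≠ 1 := fun e =>
    hn (mem_centralizer_singleton_iff.1 (relIndex_eq_one.1 e hh))
  obtain ⟨k, hk⟩ := c.odd_fixIdx x
  omega

theorem fixIdx_eq_one {x : GL2 q} (hx : ∀ h ∈ H, Commute h x) : fixIdx x H = 1 :=
  relIndex_eq_one.2 fun h hh => mem_centralizer_singleton_iff.2 (hx h hh).eq

/-- When the fixed points are scalars. -/
theorem fixIdx_refl_eq (hl : ∀ h ∈ H, ent h 1 0 = 0 → h ∈ scal q) : fixIdx refl H = (scal q).relIndex H := by
  rw [fixIdx, ← Subgroup.inf_relIndex_right, ← Subgroup.inf_relIndex_right (scal q)]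
  congr 1
  exact le_antisymm
    (fun x hx => ⟨hl x hx.2 ((commute_refl_iff c.ne_two).1 (mem_centralizer_singleton_iff.1 hx.1)).1, hx.2⟩)
    (inf_le_inf_right _ fun x hx => mem_centralizer_singleton_iff.2 (commute_of_mem_scal hx _).eq)

/-- The index of the fixed points of the reflection. -/
theorem fixed_cases : (∀ h ∈ H, ent h 1 0 = 0) ∨
    ((∀ h ∈ H, ent h 0 1 = 0) ∧ fixIdx refl H = q) ∨
    (¬ q ∣ Nat.card ↥H ∧ (∀ h ∈ H, Commute h refl → h ∈ scal q) ∧ 3 ≤ fixIdx refl H ∧
      fixIdx refl H ≤ q ∧ (fixIdx refl H ∣ q - 1 ∨ fixIdx refl H ∣ q + 1)) := by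
  rcases c.trichotomy with h1 | ⟨hu, he⟩ | ⟨hu, hlow, hd, -, hl, -, -, -, hdiv⟩
  · exact Or.inl h1
  · refine Or.inr (Or.inl ⟨hu, ?_⟩)
    refine Eq.trans ?_ he
    rw [fixIdx, ← Subgroup.inf_relIndex_right, ← Subgroup.inf_relIndex_right (low q)]
    congr 1
    exact le_antisymm
      (fun x hx => ⟨mem_low.2 ((commute_refl_iff c.ne_two).1 (mem_centralizer_singleton_iff.1 hx.1)).1, hx.2⟩)
      (fun x hx => ⟨mem_centralizer_singleton_iff.2 ((commute_refl_iff c.ne_two).2 ⟨mem_low.1 hx.1, hu x hx.2⟩).eq,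
        hx.2⟩)
  · rw [c.fixIdx_refl_eq hl]
    refine Or.inr (Or.inr ⟨hd, fun h hh hc => hl h hh ((commute_refl_iff c.ne_two).1 hc).1, ?_, ?_, hdiv⟩)
    · rw [← c.fixIdx_refl_eq hl]
      push Not at hlow
      obtain ⟨h, hh, hne⟩ := hlow
      exact c.three_le_fixIdx ⟨h, hh, fun hc => hne ((commute_refl_iff c.ne_two).1 hc).1⟩
    · have hodd : Odd ((scal q).relIndex H) := Odd.of_dvd_nat c.odd (relIndex_dvd_card _ _)
      have hq2 := hq.out.two_le
      rcases hdiv with e | e
      · have := Nat.le_of_dvd (by omega) e; omega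
      · rcases hodd with ⟨k, hk⟩
        obtain ⟨j, hj⟩ := e
        rcases Nat.lt_or_ge j 2 with hj2 | hj2
        · interval_cases j
          · omega
          · have := hq.out.eq_two_or_odd.resolve_left c.ne_two
            omega
        · rw [hk] at hj ⊢
          nlinarith

variable {r : GL2 q} (hrH : ∀ h ∈ H, r * h * r⁻¹ ∈ H) (hrr : refl * r * refl = r⁻¹) {i : ℕ} (hi : 1 ≤ i)
  (hri : r ^ 2 ^ (i - 1) = -1)
include hrH hrr hi hri

/-- If everything fixes an axis moved by the rotation, everything is diagonal. -/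
theorem diagonal_of_axis (hi2 : 2 ≤ i) (hax : (∀ h ∈ H, ent h 1 0 = 0) ∨ ∀ h ∈ H, ent h 0 1 = 0) :
    ∀ h ∈ H, ent h 1 0 = 0 ∧ ent h 0 1 = 0 := by
  obtain ⟨m10, m01⟩ := rotation_moves c.ne_two hrr hi hri hi2
  intro h hh
  obtain ⟨f00, f01, f10, f11⟩ := ent_conj_refl h
  set w := h⁻¹ * (refl * h * refl) with hw
  have hwH : w ∈ H := mul_mem (inv_mem hh) (c.conj h hh)
  have hu := hrH w hwH
  have hru : r * w = r * w * r⁻¹ * r := by group
  generalize r * w * r⁻¹ = u at hu hru
  have e : ∀ a b, ent (r * w) a b = ent (u * r) a b := fun a b => by rw [hru]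
  have hhw : h * w = refl * h * refl := by rw [hw, mul_inv_cancel_left]
  have d : ∀ a b, ent (h * w) a b = ent (refl * h * refl) a b := fun a b => by rw [hhw]
  have hdet := det_ne h
  have e00 := e 0 0
  have e01 := e 0 1
  have e10 := e 1 0
  have e11 := e 1 1
  have d00 := d 0 0
  have d01 := d 0 1
  have d10 := d 1 0
  have d11 := d 1 1
  simp only [ent_mul] at e00 e01 e10 e11
  simp only [ent_mul (a := h), f00, f01, f10, f11] at d00 d01 d10 d11
  rcases hax with hax | hax
  · have h10 := hax h hh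
    have w10 := hax w hwH
    have u10 := hax u hu
    rw [h10, mul_zero, sub_zero] at hdet
    simp only [h10, w10, u10, zero_mul, mul_zero, zero_add, add_zero] at e00 e01 e10 e11 d00 d01 d10 d11
    have hw00 : ent w 0 0 = 1 := mul_left_cancel₀ (left_ne_zero_of_mul hdet) (d00.trans (mul_one _).symm)
    have hw11 : ent w 1 1 = 1 := mul_left_cancel₀ (right_ne_zero_of_mul hdet) (d11.trans (mul_one _).symm)
    rw [hw00] at e10
    have hu11 : ent u 1 1 = 1 := mul_right_cancel₀ m10 (e10.symm.trans ((mul_one _).trans (one_mul _).symm))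
    rw [hw11, hu11] at e11
    have hw01 : ent w 0 1 = 0 :=
      (mul_eq_zero.1 (show ent r 1 0 * ent w 0 1 = 0 by linear_combination e11)).resolve_left m10
    rw [hw01, hw11] at d01
    exact ⟨h10, (mul_eq_zero.1 (show (2 : ZMod q) * ent h 0 1 = 0 by linear_combination d01)).resolve_left
      (two_ne_zero' c.ne_two)⟩
  · have h01 := hax h hh
    have w01 := hax w hwH
    have u01 := hax u hu
    rw [h01, zero_mul, sub_zero] at hdet
    simp only [h01, w01, u01, zero_mul, mul_zero, zero_add, add_zero] at e00 e01 e10 e11 d00 d01 d10 d11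
    have hw00 : ent w 0 0 = 1 := mul_left_cancel₀ (left_ne_zero_of_mul hdet) (d00.trans (mul_one _).symm)
    have hw11 : ent w 1 1 = 1 := mul_left_cancel₀ (right_ne_zero_of_mul hdet) (d11.trans (mul_one _).symm)
    rw [hw11] at e01
    have hu00 : ent u 0 0 = 1 := mul_right_cancel₀ m01 (e01.symm.trans ((mul_one _).trans (one_mul _).symm))
    rw [hw00, hu00] at e00
    have hw10 : ent w 1 0 = 0 :=
      (mul_eq_zero.1 (show ent r 0 1 * ent w 1 0 = 0 by linear_combination e00)).resolve_left m01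
    rw [hw00, hw10] at d10
    exact ⟨(mul_eq_zero.1 (show (2 : ZMod q) * ent h 1 0 = 0 by linear_combination d10)).resolve_left
      (two_ne_zero' c.ne_two), h01⟩

/-- The positions of the group and a rotation. -/
theorem rot_cases : (ent r 1 0 = 0 ∧ ∀ h ∈ H, ent h 1 0 = 0) ∨ (ent r 0 1 = 0 ∧ ∀ h ∈ H, ent h 0 1 = 0) ∨
    (¬ q ∣ Nat.card ↥H ∧
      ((fixIdx (r * refl) H = fixIdx refl H ∧ 2 ^ i * fixIdx refl H ≤ q + 1 ∧ 3 ≤ 2 ^ i * fixIdx refl H ∧
          (q = 11 → 2 ^ i * fixIdx refl H ≠ 8)) ∨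
        (fixIdx refl H = 1 ∧ 3 ≤ fixIdx (r * refl) H) ∨ (fixIdx (r * refl) H = 1 ∧ 3 ≤ fixIdx refl H))) := by
  classical
  have hq2 := hq.out.two_le
  by_cases hax : (∀ h ∈ H, ent h 1 0 = 0) ∨ ∀ h ∈ H, ent h 0 1 = 0
  · rcases Nat.lt_or_ge i 2 with hi1 | hi2
    · have hr : r = -1 := by rwa [show i - 1 = 0 by omega, pow_zero, pow_one] at hri
      have h10 : ent r 1 0 = 0 := by simp [hr, ent_neg, ent_one]
      have h01 : ent r 0 1 = 0 := by simp [hr, ent_neg, ent_one]
      rcases hax with h1 | h1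
      exacts [Or.inl ⟨h10, h1⟩, Or.inr (Or.inl ⟨h01, h1⟩)]
    have hdiag := c.diagonal_of_axis hrH hrr hi hri hi2 hax
    obtain ⟨m10, m01⟩ := rotation_moves c.ne_two hrr hi hri hi2
    have hd : ¬ q ∣ Nat.card ↥H := fun hd => by
      obtain ⟨x, hx⟩ := exists_prime_orderOf_dvd_card' (G := ↥H) q hd
      rw [← orderOf_coe] at hx
      obtain ⟨x10, x01⟩ := hdiag x x.2
      have hp := ent00_pow (h := (x : GL2 q)) (Or.inl x10) q
      have hxq : (x : GL2 q) ^ q = 1 := orderOf_dvd_iff_pow_eq_one.1 (dvd_of_eq hx)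
      rw [hxq, ent_one, if_pos rfl, ZMod.pow_card] at hp
      have hp' : ∀ k : ℕ, ent ((x : GL2 q) ^ k) 1 1 = ent (x : GL2 q) 1 1 ^ k := fun k => by
        induction k with
        | zero => simp [ent_one]
        | succ k ih => rw [pow_succ, ent_mul, ih, x01, mul_zero, zero_add, pow_succ]
      have hp1 := hp' q
      rw [hxq, ent_one, if_pos rfl, ZMod.pow_card] at hp1
      have hx1 : (x : GL2 q) = 1 :=
        ext_ent (by simp [ent_one, ← hp]) (by simp [ent_one, x01]) (by simp [ent_one, x10]) (by simp [ent_one, ← hp1])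
      rw [hx1, orderOf_one] at hx
      omega
    refine Or.inr (Or.inr ⟨hd, ?_⟩)
    have he : fixIdx refl H = 1 := c.fixIdx_eq_one fun h hh => (commute_refl_iff c.ne_two).2 (hdiag h hh)
    by_cases hsc : ∀ h ∈ H, Commute h (r * refl)
    · left
      have h2 := two_pow_le c.ne_two hrr hi hri hi2
      have h4 : 2 ^ 2 ≤ 2 ^ i := Nat.pow_le_pow_right two_pos hi2
      rw [he, c.fixIdx_eq_one hsc, mul_one]
      refine ⟨rfl, h2, by omega, fun h11 h8 => ne_three_of_eleven c.ne_two hrr hi hri h11 ?_⟩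
      exact Nat.pow_right_injective (a := 2) le_rfl (show 2 ^ i = 2 ^ 3 by simpa using h8)
    · push Not at hsc
      exact Or.inr (Or.inl ⟨he, c.three_le_fixIdx hsc⟩)
  rcases c.trichotomy with h1 | ⟨h1, -⟩ | ⟨hu, hlow, hd, -, hl, -, -, -, -⟩
  · exact absurd (Or.inl h1) hax
  · exact absurd (Or.inr h1) hax
  refine Or.inr (Or.inr ⟨hd, ?_⟩)
  push Not at hlow
  obtain ⟨g, hg, hg10⟩ := hlow
  have hne : ∃ h ∈ H, h ∉ scal q := ⟨g, hg, fun hs => hg10 (mem_scal.1 hs).1⟩
  have h3 : 3 ≤ fixIdx refl H :=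
    c.three_le_fixIdx ⟨g, hg, fun hc => hg10 ((commute_refl_iff c.ne_two).1 hc).1⟩
  by_cases hρ : ∀ h ∈ H, Commute h (r * refl)
  · exact Or.inr (Or.inr ⟨c.fixIdx_eq_one hρ, h3⟩)
  push Not at hρ
  have hs : r ^ 2 ^ (i - 1) ∈ scal q := by rw [hri]; exact neg_one_mem_scal
  have hs' : ent (r ^ 2 ^ (i - 1)) 0 0 = -1 := by rw [hri, ent_neg, ent_one, if_pos rfl]
  have h2 := c.two_pow_mul_dvd hd hl hne hrH hrr hρ hi hs hs'
  have h4 : fixIdx (r * refl) H = fixIdx refl H := by
    rw [c.fixIdx_refl_eq hl]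
    exact c.relIndex_centralizer_eq hd hl hne hrH hρ
  rw [c.fixIdx_refl_eq hl] at h3 h4 ⊢
  left
  refine ⟨h4, ?_, le_trans h3 (Nat.le_mul_of_pos_left _ (by positivity)), fun h11 h8 => ?_⟩
  swap
  · rcases h2 with h2 | h2 <;> rw [h8] at h2 <;> subst h11 <;> norm_num at h2
  rcases h2 with h2 | h2
  · have := Nat.le_of_dvd (by omega) h2; omega
  · exact Nat.le_of_dvd (by omega) h2

end Cfg

end Cfsg.Agent.Invol.GW.Dihedral.Plane
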