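import Cfsg.Agent.Lib.Invol.GW.Dihedral.PlaneSplit

/-!
# The semisimple case with a rotation

`r` is inverted by the reflection and normalises `H`; its power of exponent `2 ^ (i - 1)` is `-1`.  If the second
reflection `r * refl` moves something then it fixes only scalars and `2 ^ i` times the order of the image of `H`
modulo scalars divides `q - 1` or `q + 1`.
-/

set_option autoImplicit false
set_option linter.unusedSectionVars false
set_option linter.style.haveILetI false

namespace Cfsg.Agent.Invol.GW.Dihedral.Plane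

open Subgroup Matrix

variable {q : ℕ} [hq : Fact q.Prime]

/-- Elements commuting with the reflection are diagonal. -/
theorem commute_refl_iff (hne : q ≠ 2) {h : GL2 q} :
    Commute h refl ↔ ent h 1 0 = 0 ∧ ent h 0 1 = 0 := by
  have e : ∀ i j, ent refl i j = (if i = j then (if i = 0 then 1 else -1) else 0 : ZMod q) := fun i j => by
    fin_cases i <;> fin_cases j <;> simp [ent, refl, Matrix.GeneralLinearGroup.mkOfDetNeZero]
  constructor
  · intro hc
    have e10 : ent (h * refl) 1 0 = ent (refl * h) 1 0 := by rw [hc.eq]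
    have e01 : ent (h * refl) 0 1 = ent (refl * h) 0 1 := by rw [hc.eq]
    simp [ent_mul, e] at e10 e01
    exact ⟨(mul_eq_zero.1 (show (2 : ZMod q) * ent h 1 0 = 0 by linear_combination e10)).resolve_left
        (two_ne_zero' hne),
      (mul_eq_zero.1 (show (2 : ZMod q) * ent h 0 1 = 0 by linear_combination -e01)).resolve_left
        (two_ne_zero' hne)⟩
  · rintro ⟨h10, h01⟩
    apply ext_ent <;> simp [ent_mul, e, h10, h01]

theorem refl_mul_self : (refl : GL2 q) * refl = 1 := by
  apply ext_ent <;> simp [ent_mul, ent_one] <;> simp [ent, refl, Matrix.GeneralLinearGroup.mkOfDetNeZero]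

namespace Cfg

variable {H : Subgroup (GL2 q)} (c : Cfg H) (hd : ¬ q ∣ Nat.card ↥H)
include c hd

/-- A commuting element of the same trace and determinant. -/
theorem eq_or_adj {g x : GL2 q} (hgH : g ∈ H) (hgs : g ∉ scal q) (hx : Commute x g)
    (ht : ent x 0 0 + ent x 1 1 = ent g 0 0 + ent g 1 1)
    (hdet : ent x 0 0 * ent x 1 1 - ent x 0 1 * ent x 1 0 = ent g 0 0 * ent g 1 1 - ent g 0 1 * ent g 1 0) :
    x = g ∨ (ent x 0 0 = ent g 1 1 ∧ ent x 0 1 = -ent g 0 1 ∧ ent x 1 0 = -ent g 1 0 ∧ ent x 1 1 = ent g 0 0) := by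
  obtain ⟨i, s, e0, e1, e2, e3⟩ := exists_coef hgs hx
  rw [e0, e3] at ht
  rw [e0, e1, e2, e3] at hdet
  set t := ent g 0 0 + ent g 1 1
  set D := ent g 0 0 * ent g 1 1 - ent g 0 1 * ent g 1 0
  have h1 : (1 - s) * (1 + s) * (t ^ 2 - 4 * D) = 0 := by
    linear_combination (4 : ZMod q) * hdet - (2 * i + s * t + t) * ht
  rcases mul_eq_zero.1 ((mul_eq_zero.1 h1).resolve_right (c.disc_ne hd hgH hgs)) with h2 | h2
  · have hs : s = 1 := by linear_combination -h2
    have hi : i = 0 := (mul_eq_zero.1 (show (2 : ZMod q) * i = 0 by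
      rw [hs] at ht; linear_combination ht)).resolve_left (two_ne_zero' c.ne_two)
    exact Or.inl (ext_ent (by rw [e0, hs, hi]; ring) (by rw [e1, hs]; ring) (by rw [e2, hs]; ring)
      (by rw [e3, hs, hi]; ring))
  · have hs : s = -1 := by linear_combination h2
    have hi : i = t := sub_eq_zero.1 ((mul_eq_zero.1 (show (2 : ZMod q) * (i - t) = 0 by
      rw [hs] at ht; linear_combination ht)).resolve_left (two_ne_zero' c.ne_two))
    exact Or.inr ⟨by rw [e0, hs, hi]; ring, by rw [e1, hs]; ring, by rw [e2, hs]; ring, by rw [e3, hs, hi]; ring⟩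

variable (hlow : ∀ h ∈ H, ent h 1 0 = 0 → h ∈ scal q) (hne : ∃ h ∈ H, h ∉ scal q)
  {r : GL2 q} (hrH : ∀ h ∈ H, r * h * r⁻¹ ∈ H) (hrr : refl * r * refl = r⁻¹)
  (hρ : ∃ h ∈ H, ¬ Commute h (r * refl))
include hlow hne hrH hρ

/-- The rotation centralises `H`. -/
theorem rotation_commute : ∀ h ∈ H, Commute r h := by
  obtain ⟨g, hgH, hgs⟩ := hne
  set gτ := refl * g * refl with hgτ
  obtain ⟨f00, f01, f10, f11⟩ := ent_conj_refl g
  have hadj : ent gτ 0 0 = ent g 1 1 ∧ ent gτ 0 1 = -ent g 0 1 ∧ ent gτ 1 0 = -ent g 1 0 ∧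
      ent gτ 1 1 = ent g 0 0 := by
    refine (c.eq_or_adj hd hgH hgs (c.commute hd _ (c.conj g hgH) g hgH) (by rw [f00, f11]) (by
      rw [f00, f01, f10, f11]; ring)).resolve_left fun e => hgs (hlow g hgH ?_)
    have h1 : ent g 1 0 = -ent g 1 0 := by rw [← f10, e]
    exact (mul_eq_zero.1 (show (2 : ZMod q) * ent g 1 0 = 0 by linear_combination h1)).resolve_left
      (two_ne_zero' c.ne_two)
  have hconj : ∀ x : GL2 q, ((r * x * r⁻¹ : GL2 q) : Matrix (Fin 2) (Fin 2) (ZMod q)) =
      (r : Matrix (Fin 2) (Fin 2) (ZMod q)) * x * ((r⁻¹ : GL2 q) : Matrix (Fin 2) (Fin 2) (ZMod q)) :=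
    fun x => by simp
  rcases c.eq_or_adj hd hgH hgs (c.commute hd _ (hrH g hgH) g hgH)
    (by
      have : (r * g * r⁻¹ : GL2 q).1.trace = g.1.trace := by rw [hconj, Matrix.trace_units_conj]
      rw [Matrix.trace_fin_two, Matrix.trace_fin_two] at this
      exact this)
    (by
      have : (r * g * r⁻¹ : GL2 q).1.det = g.1.det := by rw [hconj, Matrix.det_units_conj]
      rw [Matrix.det_fin_two, Matrix.det_fin_two] at this
      exact this) with e | ⟨a0, a1, a2, a3⟩
  · intro h hh
    exact commute_of_commute hgs (mul_inv_eq_iff_eq_mul.1 e) (c.commute hd h hh g hgH)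
  · -- otherwise the second reflection centralises `H`
    exfalso
    obtain ⟨h, hh, hnc⟩ := hρ
    refine hnc (commute_of_commute hgs (c.commute hd h hh g hgH) ?_)
    have e : r * g * r⁻¹ = gτ :=
      ext_ent (a0.trans hadj.1.symm) (a1.trans hadj.2.1.symm) (a2.trans hadj.2.2.1.symm) (a3.trans hadj.2.2.2.symm)
    -- `refl` and `r` both exchange `g` with its adjugate
    have hsum : ∀ i j, ent gτ i j + ent g i j = if i = j then ent g 0 0 + ent g 1 1 else 0 := by
      intro i j
      fin_cases i <;> fin_cases j <;> simp [hadj.1, hadj.2.1, hadj.2.2.1, hadj.2.2.2] <;> ring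
    have hmat : (gτ : Matrix (Fin 2) (Fin 2) (ZMod q)) =
        (ent g 0 0 + ent g 1 1) • (1 : Matrix (Fin 2) (Fin 2) (ZMod q)) - g := by
      ext i j
      have h2 := hsum i j
      simp only [Matrix.sub_apply, Matrix.smul_apply, Matrix.one_apply, smul_eq_mul, mul_ite, mul_one, mul_zero]
      linear_combination h2
    have hback : r * gτ * r⁻¹ = g := by
      refine Units.ext ?_
      rw [hconj, hmat, mul_sub, sub_mul, Matrix.mul_smul, mul_one, Matrix.smul_mul, Units.mul_inv, ← hconj, e, hmat,
        sub_sub_cancel]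
    refine mul_inv_eq_iff_eq_mul.1 ?_
    rw [_root_.mul_inv_rev, show (refl : GL2 q)⁻¹ = refl from inv_eq_of_mul_eq_one_right refl_mul_self,
      show r * refl * g * (refl * r⁻¹) = r * gτ * r⁻¹ by rw [hgτ]; group, hback]

/-- The second reflection fixes only scalars. -/
theorem mem_scal_of_commute {h : GL2 q} (hh : h ∈ H) (hc : Commute h (r * refl)) : h ∈ scal q := by
  have h1 := c.rotation_commute hd hlow hne hrH hρ h hh
  have h2 : Commute h refl := by
    have := h1.symm.inv_right.mul_right hc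
    rwa [inv_mul_cancel_left] at this
  exact hlow h hh ((commute_refl_iff c.ne_two).1 h2).1

theorem relIndex_centralizer_eq :
    (centralizer ({r * refl} : Set (GL2 q))).relIndex H = (scal q).relIndex H := by
  rw [← Subgroup.inf_relIndex_right, ← Subgroup.inf_relIndex_right (scal q)]
  congr 1
  exact le_antisymm
    (fun x hx => ⟨c.mem_scal_of_commute hd hlow hne hrH hρ hx.2 (mem_centralizer_singleton_iff.1 hx.1), hx.2⟩)
    (inf_le_inf_right _ fun x hx => mem_centralizer_singleton_iff.2 (commute_of_mem_scal hx _).eq)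

variable {i : ℕ} (hi : 1 ≤ i) (hri : r ^ 2 ^ (i - 1) ∈ scal q)
  (hri' : ent (r ^ 2 ^ (i - 1)) 0 0 = -1)
include hrr hi hri hri'

theorem det_rotation : ent r 0 0 * ent r 1 1 - ent r 0 1 * ent r 1 0 = 1 := by
  obtain ⟨f00, f01, f10, f11⟩ := ent_conj_refl r
  set D := ent r 0 0 * ent r 1 1 - ent r 0 1 * ent r 1 0
  have e0 : ∀ a b, ent (r * (refl * r * refl)) a b = ent (1 : GL2 q) a b := fun a b => by
    rw [hrr, mul_inv_cancel]
  have d00 := e0 0 0
  have d01 := e0 0 1
  have d10 := e0 1 0
  have d11 := e0 1 1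
  simp [ent_mul (a := r), f00, f01, f10, f11, ent_one] at d00 d01 d10 d11
  rcases mul_eq_zero.1 (show (D - 1) * (D + 1) = 0 by
    linear_combination (ent r 1 1 * ent r 1 1 - ent r 0 1 * ent r 1 0) * d00 + d11
      - (ent r 0 0 * ent r 1 0 - ent r 1 0 * ent r 1 1) * d01) with h | h
  · linear_combination h
  exfalso
  -- determinant `-1` makes `r` a reflection in the same basis
  have hneg : D = -1 := by linear_combination h
  by_cases h01 : ent r 0 1 = 0
  · rw [h01] at d00
    have h00 : ent r 0 0 * ent r 0 0 = 1 := by linear_combination d00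
    have hD : ent r 0 0 * ent r 1 1 = -1 := by
      have : D = ent r 0 0 * ent r 1 1 := by simp only [D, h01]; ring
      rw [← this, hneg]
    have hsum : ent r 0 0 + ent r 1 1 = 0 := by
      linear_combination ent r 0 0 * hD - ent r 1 1 * h00
    by_cases h10 : ent r 1 0 = 0
    · -- then `r ^ 2 = 1`
      have h2 : r * r = 1 := by
        apply ext_ent <;> simp only [ent_mul, ent_one, h01, h10] <;> simp
        · linear_combination h00
        · linear_combination h00 + (ent r 1 1 - ent r 0 0) * hsum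
      rcases Nat.eq_or_lt_of_le hi with e | e
      · rw [← e, show 2 ^ (1 - 1) = 1 from rfl, pow_one] at hri'
        obtain ⟨-, -, h3⟩ := mem_scal.1 (show r ∈ scal q by rwa [← e, show 2 ^ (1 - 1) = 1 from rfl, pow_one] at hri)
        rw [← h3, h00] at hD
        exact two_ne_zero' c.ne_two (by linear_combination hD)
      · obtain ⟨k, rfl⟩ : ∃ k, i = k + 2 := ⟨i - 2, by omega⟩
        rw [show k + 2 - 1 = k + 1 by omega, pow_succ', pow_mul, pow_two, h2, one_pow, ent_one, if_pos rfl] at hri'
        exact two_ne_zero' c.ne_two (by linear_combination hri')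
    · have h11 := d11
      rw [h01] at h11
      have hmul : ent r 1 0 * (ent r 0 0 - ent r 1 1) = 0 := by linear_combination d10
      have hdiff := (mul_eq_zero.1 hmul).resolve_left h10
      have : (2 : ZMod q) * ent r 0 0 = 0 := by linear_combination hsum + hdiff
      rw [(mul_eq_zero.1 this).resolve_left (two_ne_zero' c.ne_two), zero_mul] at h00
      exact zero_ne_one h00
  · have hdiff : ent r 0 0 = ent r 1 1 := by
      refine sub_eq_zero.1 ((mul_eq_zero.1 (show ent r 0 1 * (ent r 0 0 - ent r 1 1) = 0 by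
        linear_combination -d01)).resolve_left h01)
    simp only [D] at hneg
    exact two_ne_zero' c.ne_two (by
      have h5 : ent r 0 0 * ent r 0 0 - ent r 0 1 * ent r 1 0 = 1 := by linear_combination d00
      linear_combination hneg - h5 + ent r 0 0 * hdiff)

/-- The order of the image of `⟨H, r⟩`. -/
theorem two_pow_mul_dvd :
    2 ^ i * (scal q).relIndex H ∣ q - 1 ∨ 2 ^ i * (scal q).relIndex H ∣ q + 1 := by
  classical
  obtain ⟨g, hgH, hgs⟩ := hne
  have hrc := c.rotation_commute hd hlow ⟨g, hgH, hgs⟩ hrH hρ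
  haveI := c.scal_normal hd
  set C := centralizer ({g} : Set (GL2 q))
  have hsC : scal q ≤ C := fun x hx => mem_centralizer_singleton_iff.2 (commute_of_mem_scal hx g).eq
  have hHC : H ≤ C := fun x hx => mem_centralizer_singleton_iff.2 (c.commute hd x hx g hgH).eq
  have hrC : zpowers r ≤ C := zpowers_le.2 (mem_centralizer_singleton_iff.2 (hrc g hgH).eq)
  set M := scal q ⊔ (H ⊔ zpowers r)
  have hMC : M ≤ C := sup_le hsC (sup_le hHC hrC)
  -- the order of the image is a multiple of `2 ^ (i - 1)` and of that of `H`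
  set e := (scal q).relIndex H
  have hrd : 2 ^ (i - 1) ∣ (scal q).relIndex M := by
    have h1 : (scal q).relIndex (zpowers r) = 2 ^ (i - 1) := by
      refine le_antisymm (Nat.le_of_dvd (by positivity) ?_) ?_
      · rw [← Subgroup.inf_relIndex_right]
        have hle : zpowers (r ^ 2 ^ (i - 1)) ≤ scal q ⊓ zpowers r :=
          zpowers_le.2 ⟨hri, pow_mem (mem_zpowers r) _⟩
        refine (Subgroup.relIndex_dvd_of_le_left _ hle).trans ?_
        have h2 : Nat.card (zpowers (r ^ 2 ^ (i - 1))) * (zpowers (r ^ 2 ^ (i - 1))).relIndex (zpowers r) =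
            Nat.card (zpowers r) := by
          rw [← Subgroup.relIndex_bot_left (H := zpowers (r ^ 2 ^ (i - 1))),
            Subgroup.relIndex_mul_relIndex _ _ _ bot_le (zpowers_le.2 (pow_mem (mem_zpowers r) _)),
            Subgroup.relIndex_bot_left]
        rw [Nat.card_zpowers, Nat.card_zpowers] at h2
        have h3 : orderOf r ∣ 2 ^ (i - 1) * orderOf (r ^ 2 ^ (i - 1)) := orderOf_dvd_of_pow_eq_one (by
          rw [pow_mul, pow_orderOf_eq_one])
        refine Nat.dvd_of_mul_dvd_mul_left (orderOf_pos (r ^ 2 ^ (i - 1))) ?_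
        rw [h2, mul_comm]
        exact h3
      · by_contra hlt
        rw [not_le] at hlt
        have hn := Subgroup.pow_index_mem (H := (scal q).subgroupOf (zpowers r)) ⟨r, mem_zpowers r⟩
        change r ^ (scal q).relIndex (zpowers r) ∈ scal q at hn
        obtain ⟨j, hj, hje⟩ : ∃ j ≤ i - 1, (scal q).relIndex (zpowers r) = 2 ^ j := by
          refine (Nat.dvd_prime_pow Nat.prime_two).1 ?_
          have h2 : (scal q).relIndex (zpowers r) ∣ orderOf r := by
            rw [← Nat.card_zpowers]; exact Subgroup.relIndex_dvd_card _ _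
          have h3 : orderOf r ∣ 2 ^ (i - 1) * 2 := orderOf_dvd_of_pow_eq_one (by
            obtain ⟨s10, s01, s00⟩ := mem_scal.1 hri
            rw [pow_mul]
            apply ext_ent <;> simp [pow_two, ent_mul, ent_one, s10, s01, ← s00, hri'])
          obtain ⟨m, hm, hme⟩ := (Nat.dvd_prime_pow Nat.prime_two).1 (show _ ∣ 2 ^ i by
            exact (show 2 ^ (i - 1) * 2 = 2 ^ i by rw [← pow_succ, show i - 1 + 1 = i by omega]) ▸ h2.trans h3)
          rw [hme]
          refine pow_dvd_pow 2 ?_
          by_contra hmi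
          rw [hme, show m = i by omega] at hlt
          exact absurd hlt (not_lt.2 (Nat.pow_le_pow_right two_pos (by omega)))
        rw [hje] at hlt hn
        have hjlt : j < i - 1 := (Nat.pow_lt_pow_iff_right (by norm_num)).1 hlt
        set w := r ^ 2 ^ j
        obtain ⟨w10, w01, w00⟩ := mem_scal.1 hn
        have hinv : refl * w * refl = w⁻¹ := by
          have hri2 : (refl : GL2 q)⁻¹ = refl := inv_eq_of_mul_eq_one_right refl_mul_self
          calc refl * w * refl = refl * w * refl⁻¹ := by rw [hri2]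
            _ = (refl * r * refl⁻¹) ^ 2 ^ j := conj_pow.symm
            _ = w⁻¹ := by rw [hri2, hrr, inv_pow]
        rw [(commute_of_mem_scal hn refl).symm.eq, mul_assoc, refl_mul_self, mul_one,
          eq_inv_iff_mul_eq_one] at hinv
        have hone : ent (r ^ 2 ^ (i - 1)) 0 0 = 1 := by
          rw [show i - 1 = j + 1 + (i - 2 - j) by omega, pow_add, pow_succ, pow_mul, pow_mul, pow_two, hinv,
            one_pow, ent_one, if_pos rfl]
        rw [hone] at hri'
        exact two_ne_zero' c.ne_two (by linear_combination hri')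
    rw [← h1, ← Subgroup.relIndex_sup_left (K := scal q) (H := zpowers r),
      ← Subgroup.relIndex_mul_relIndex (scal q) (scal q ⊔ zpowers r) M le_sup_left
        (sup_le le_sup_left (le_sup_right.trans le_sup_right))]
    exact dvd_mul_right _ _
  have hed : e ∣ (scal q).relIndex M := by
    rw [show e = (scal q).relIndex H from rfl, ← Subgroup.relIndex_sup_left (K := scal q) (H := H),
      ← Subgroup.relIndex_mul_relIndex (scal q) (scal q ⊔ H) M le_sup_left
        (sup_le le_sup_left (le_sup_left.trans le_sup_right))]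
    exact dvd_mul_right _ _
  have heodd : Odd e := Odd.of_dvd_nat c.odd (Subgroup.relIndex_dvd_card _ _)
  have hMd : 2 ^ (i - 1) * e ∣ (scal q).relIndex M :=
    ((Nat.coprime_two_left.2 heodd).pow_left _).mul_dvd_of_dvd_of_dvd hrd hed
  -- determinants in `M` are squares, not all those in `C`
  set Sq := (powMonoidHom 2 : (ZMod q)ˣ →* (ZMod q)ˣ).range.comap
    (Matrix.GeneralLinearGroup.det : GL2 q →* (ZMod q)ˣ)
  have hMS : M ≤ Sq := by
    refine sup_le (fun s hs => ?_) (sup_le (fun h hh => ?_) (zpowers_le.2 ⟨1, ?_⟩))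
    · obtain ⟨h10, h01, h00⟩ := mem_scal.1 hs
      refine ⟨Units.mk0 (ent s 0 0) fun e0 => det_ne s (by rw [e0, h01, zero_mul, zero_mul, sub_zero]),
        Units.ext ?_⟩
      show ent s 0 0 ^ 2 = (s : Matrix (Fin 2) (Fin 2) (ZMod q)).det
      rw [Matrix.det_fin_two]
      show ent s 0 0 ^ 2 = ent s 0 0 * ent s 1 1 - ent s 0 1 * ent s 1 0
      rw [h01, ← h00]; ring
    · obtain ⟨k, hk⟩ := c.odd_orderOf hh
      refine ⟨Matrix.GeneralLinearGroup.det (h ^ (k + 1)), ?_⟩
      rw [powMonoidHom_apply, ← map_pow, ← pow_mul, show (k + 1) * 2 = orderOf h + 1 by omega, pow_succ, pow_orderOf_eq_one, one_mul]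
    · refine Units.ext ?_
      show (1 : ZMod q) ^ 2 = (r : Matrix (Fin 2) (Fin 2) (ZMod q)).det
      rw [Matrix.det_fin_two, one_pow]
      exact (c.det_rotation hd hlow ⟨g, hgH, hgs⟩ hrH hrr hρ hi hri hri').symm
  have hCS : ¬ C ≤ Sq := by
    intro hle
    have hodd : q % 2 = 1 := hq.out.eq_two_or_odd.resolve_left c.ne_two
    obtain ⟨ν, hν⟩ := FiniteField.exists_nonsquare (F := ZMod q) (by rw [ZMod.ringChar_zmod_n]; exact c.ne_two)
    set t := ent g 0 0 + ent g 1 1
    set D := ent g 0 0 * ent g 1 1 - ent g 0 1 * ent g 1 0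
    obtain ⟨hf, hD4⟩ : ∃ hf : ZMod q, 2 * hf = t ∧ D - hf * hf ≠ 0 := by
      refine ⟨t / 2, mul_div_cancel₀ _ (two_ne_zero' c.ne_two), fun e0 => c.disc_ne hd hgH hgs ?_⟩
      linear_combination -4 * e0 - (t + 2 * (t / 2)) * (mul_div_cancel₀ t (two_ne_zero' c.ne_two))
    obtain ⟨u, w, huw⟩ := FiniteField.exists_root_sum_quadratic (R := ZMod q)
      (f := Polynomial.X ^ 2 - Polynomial.C ν) (g := Polynomial.C (D - hf * hf) * Polynomial.X ^ 2)
      (by rw [Polynomial.degree_X_pow_sub_C (by norm_num)]; rfl)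
      (by rw [Polynomial.degree_C_mul_X_pow 2 hD4.2]; rfl) (by rw [ZMod.card]; exact hodd)
    simp only [Polynomial.eval_sub, Polynomial.eval_mul, Polynomial.eval_pow, Polynomial.eval_X,
      Polynomial.eval_C] at huw
    set a := u - w * hf
    have hdet : (a + w * ent g 0 0) * (a + w * ent g 1 1) - w * ent g 0 1 * (w * ent g 1 0) = ν := by
      linear_combination huw - w * (u - w * hf) * hD4.1
    have hν0 : ν ≠ 0 := fun e0 => hν ⟨0, by rw [e0, zero_mul]⟩
    set x : GL2 q := Matrix.GeneralLinearGroup.mkOfDetNeZero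
      !![a + w * ent g 0 0, w * ent g 0 1; w * ent g 1 0, a + w * ent g 1 1]
      (by rw [Matrix.det_fin_two]; simpa [hdet] using hν0) with hx
    obtain ⟨v, hv⟩ := hle (show x ∈ C by
      refine mem_centralizer_singleton_iff.2 ?_
      apply ext_ent <;> simp [ent_mul] <;> simp [ent, hx, Matrix.GeneralLinearGroup.mkOfDetNeZero] <;> ring)
    refine hν ⟨(v : ZMod q), ?_⟩
    have h2 : (v : ZMod q) ^ 2 = (x : Matrix (Fin 2) (Fin 2) (ZMod q)).det := congrArg Units.val hv
    rw [Matrix.det_fin_two] at h2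
    simp [hx, Matrix.GeneralLinearGroup.mkOfDetNeZero] at h2
    linear_combination -h2 - hdet
  haveI : Sq.Normal := Subgroup.Normal.comap inferInstance _
  have h2 : 2 ∣ M.relIndex C := by
    refine dvd_trans (b := Sq.relIndex C) ?_ (Subgroup.relIndex_dvd_of_le_left _ hMS)
    have hidx : Sq.relIndex C ∣ 2 := by
      refine (Subgroup.relIndex_dvd_index_of_normal Sq C).trans ?_
      rw [Subgroup.index_comap_of_surjective _ ?_]
      · rw [show ((powMonoidHom 2 : (ZMod q)ˣ →* (ZMod q)ˣ).range).index = _ from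
          IsCyclic.index_powMonoidHom_range (d := 2) (G := (ZMod q)ˣ)]
        exact Nat.gcd_dvd_right _ _
      · intro v
        refine ⟨Matrix.GeneralLinearGroup.mkOfDetNeZero !![(v : ZMod q), 0; 0, 1] (by
          rw [Matrix.det_fin_two]; simp), Units.ext ?_⟩
        simp [Matrix.GeneralLinearGroup.mkOfDetNeZero, Matrix.det_fin_two]
    rcases (Nat.dvd_prime Nat.prime_two).1 hidx with e' | e'
    · exact absurd (Subgroup.relIndex_eq_one.1 e') hCS
    · rw [e']
  have hall : 2 ^ i * e ∣ (scal q).relIndex C := by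
    rw [← Subgroup.relIndex_mul_relIndex (scal q) M C le_sup_left hMC,
      show 2 ^ i * e = 2 ^ (i - 1) * e * 2 by
        conv_lhs => rw [show i = i - 1 + 1 by omega, pow_succ]
        ring]
    exact mul_dvd_mul hMd h2
  rcases c.relIndex_centralizer hd hgH hgs with e' | e' <;> rw [e'] at hall
  exacts [Or.inl hall, Or.inr hall]

end Cfg

end Cfsg.Agent.Invol.GW.Dihedral.Plane
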