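import Cfsg.Agent.Lib.Invol.GW.Dihedral.Local
import Cfsg.Agent.Lib.Char.Galois
import Cfsg.Agent.Lib.Char.ModP
import Cfsg.Agent.Lib.Char.Constituent

/-!
# Gorenstein–Walter, dihedral case: the principal block

`Principal S σ τ n` collects what the principal 2-block gives: the rational faithful character `χ` constant `δ` off
the elements of odd order, of degree `x = δ + 2 ^ n Θ`; two characters whose signed degrees `A`, `B` add up to
`δ (x + δ)`; the order `|G : C| = m² x (x + δ) / 2` with `m` odd and `a + a₁ = 2 m Θ`; and the relation between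
`A`, `B` and `a`, `a₁`.
-/

set_option autoImplicit false
set_option linter.unusedSectionVars false
set_option linter.style.haveILetI false

open scoped ComplexConjugate

namespace Cfsg.Agent.Invol.GW.Dihedral

open Subgroup Klein Block

universe u

variable {G : Type u} [Group G] [Finite G]

/-- The data of the principal block. -/
structure Principal (S : Sylow 2 G) (σ τ : G) (n : ℕ) where
  χ : IrrCharacter G
  χ₂ : IrrCharacter G
  χ₃ : IrrCharacter G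
  δ : ℤ
  A : ℤ
  B : ℤ
  Θ : ℕ
  m : ℕ
  delta : δ = 1 ∨ δ = -1
  deg : (charDegree (χ : G → ℂ) : ℤ) = δ + 2 ^ n * Θ
  theta_pos : 0 < Θ
  m_odd : Odd m
  idx_add : idx σ τ n + idx σ (σ * τ) n = 2 * m * Θ
  index_eq : 2 * ((centralizer ({central σ n} : Set G)).index : ℤ) =
    (m : ℤ) ^ 2 * charDegree (χ : G → ℂ) * (charDegree (χ : G → ℂ) + δ)
  deg₂ : A.natAbs = charDegree (χ₂ : G → ℂ)
  deg₃ : B.natAbs = charDegree (χ₃ : G → ℂ)
  odd₂ : Odd A
  odd₃ : Odd B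
  deg_sum : A + B = δ * (charDegree (χ : G → ℂ) + δ)
  ratio : (A - B) ^ 2 * ((idx σ τ n : ℤ) + idx σ (σ * τ) n) ^ 2 * charDegree (χ : G → ℂ) =
    ((idx σ τ n : ℤ) - idx σ (σ * τ) n) ^ 2 * (charDegree (χ : G → ℂ) - δ) ^ 2 * (A * B * δ)
  ne_one : (χ : G → ℂ) ≠ fun _ => 1
  ne_one₂ : (χ₂ : G → ℂ) ≠ fun _ => 1
  ne_one₃ : (χ₃ : G → ℂ) ≠ fun _ => 1
  ne₂ : χ₂ ≠ χ
  ne₃ : χ₃ ≠ χ
  ne₂₃ : χ₂ ≠ χ₃
  value : ∀ g : G, Even (orderOf g) → (χ : G → ℂ) g = δ
  value₂ : ∀ z y : G, orderOf z = 2 → Commute z y → Odd (orderOf y) → (χ₂ : G → ℂ) (z * y) = Int.sign A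
  value₃ : ∀ z y : G, orderOf z = 2 → Commute z y → Odd (orderOf y) → (χ₃ : G → ℂ) (z * y) = Int.sign B
  int_value : ∀ g : G, ∃ z : ℤ, (χ : G → ℂ) g = z

namespace Hyp

variable {S : Sylow 2 G} {σ τ : G} {n : ℕ} (h : Hyp S σ τ n)
include h

theorem even_half : Even (2 ^ (n - 2)) := by
  rw [Nat.even_pow]
  exact ⟨even_two, by have := h.three; omega⟩

set_option maxHeartbeats 2000000 in
/-- The principal block of the configuration. -/
theorem exists_principal : Nonempty (Principal S σ τ n) := by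
  classical
  haveI : Fact (Nat.Prime 2) := ⟨Nat.prime_two⟩
  cases nonempty_fintype G
  cases nonempty_fintype ↥(S : Subgroup G)
  cases nonempty_fintype ↥(coreCent (central σ n))
  obtain ⟨M, hM⟩ := Cfsg.Agent.Char.exists_isPModular 2 Nat.prime_two
  have hd := h.data
  have hm4 := h.four_le
  have hlt := h.half_lt
  obtain ⟨hr0, hr2⟩ := h.half_pos
  have hexp := h.exp_eq
  have heven := h.even_half
  have hζ : IsPrimitiveRoot (Complex.exp (2 * Real.pi * Complex.I / (2 ^ (n - 1) : ℕ))) (2 ^ (n - 1)) :=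
    Complex.isPrimitiveRoot_exp _ (by omega)
  generalize Complex.exp (2 * Real.pi * Complex.I / (2 ^ (n - 1) : ℕ)) = ζ at hζ
  obtain ⟨χ, b, c, η, δ, d2, d3, hδ, hd2, hd3, hinj, hao, hbo, hco, hab, hac, hbc, hη, hset, -, hv,
    hrel⟩ := Dih.dihedral_block hM hd h.two_pow_eq hr0 hr2 hζ
  have hBmem : ∀ ξ, (ξ = trivialIrr G ∨ ξ = χ ∨ ξ = b ∨ ξ = c ∨ ∃ j, ξ = η j) → ξ ∈ principalBlock M G :=
    fun ξ hξ => by rw [hset]; exact hξ
  set J := central σ n with hJdef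
  have hJ : orderOf J = 2 := h.orderOf_central
  have hroot : ζ ^ (2 ^ (n - 2)) = -1 := by
    have e : (ζ ^ (2 ^ (n - 2))) ^ 2 = 1 := by
      rw [← pow_mul, ← pow_succ, show n - 2 + 1 = n - 1 by have := h.three; omega, hζ.pow_eq_one]
    exact (sq_eq_one_iff.1 e).resolve_left (hζ.pow_ne_one_of_pos_of_lt (by omega) hlt.2)
  have hne1 : ∀ {ξ : IrrCharacter G}, ξ ≠ trivialIrr G → (ξ : G → ℂ) ≠ fun _ => 1 :=
    fun hξ e => hξ (Subtype.ext e)
  -- sections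
  have hsec : ∀ ξ ∈ principalBlock M G, ∀ z v : G, (∃ k : ℕ, orderOf z = 2 ^ k) → z ≠ 1 → Commute z v →
      Odd (orderOf v) → (ξ : G → ℂ) (z * v) = (ξ : G → ℂ) z := fun ξ hξ z v hz hz1 hc hv' =>
    hd.section_const hM hz (h.complement hz hz1) (v := ⟨v, mem_centralizer_singleton_iff.2 hc.symm.eq⟩)
      (by rw [orderOf_mk]; exact hv'.not_two_dvd_nat) hξ
  have hval : ∀ g : G, Even (orderOf g) → (χ : G → ℂ) g = δ := by
    intro g hg
    obtain ⟨z, v, hzv, hc, hz, hvo, -, -⟩ := exists_pPart_zpowers (p := 2) g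
    have hz1 : z ≠ 1 := fun e => by
      rw [← hzv, e, one_mul] at hg
      exact hvo (even_iff_two_dvd.1 hg)
    rw [← hzv, hsec χ (hBmem χ (by simp)) z v hz hz1 hc (Nat.not_even_iff_odd.1 fun e => hvo e.two_dvd)]
    obtain ⟨l, hl0, hlm, hconj⟩ := h.exists_rotation hz hz1
    rw [Char.IsClass.eq_of_isConj (irr_classFun χ) hconj]
    exact (hv l hl0 hlm).1
  have hneg : (-1 : ℂ) ^ (2 ^ (n - 2) + 1) = -1 := by rw [pow_succ, heven.neg_one_pow, one_mul]
  obtain ⟨vb, vc⟩ : (b : G → ℂ) J = -(d2 : ℂ) ∧ (c : G → ℂ) J = -(d3 : ℂ) :=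
    ⟨by rw [hJdef, central, (hv _ hlt.1 hlt.2).2.1, hneg, mul_neg, mul_one],
     by rw [hJdef, central, (hv _ hlt.1 hlt.2).2.2.1, hneg, mul_neg, mul_one]⟩
  have va : (χ : G → ℂ) J = δ := hval _ (by rw [hJ]; exact even_two)
  have vη : ∀ j, (η j : G → ℂ) J = 2 * δ * (-1 : ℂ) ^ ((j : ℕ) + 1) := fun j => by
    rw [hJdef, central, (hv _ hlt.1 hlt.2).2.2.2 j, mul_comm ((j : ℕ) + 1), pow_mul, hroot]
    rcases neg_one_pow_eq_or ℂ ((j : ℕ) + 1) with e' | e' <;> rw [e'] <;> norm_num <;> ring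
  have hinvol : ∀ ξ ∈ principalBlock M G, ∀ z y : G, orderOf z = 2 → Commute z y → Odd (orderOf y) →
      (ξ : G → ℂ) (z * y) = (ξ : G → ℂ) J := fun ξ hξ z y hz hc hy => by
    rw [hsec ξ hξ z y ⟨1, by rw [hz, pow_one]⟩ (fun e => by rw [e, orderOf_one] at hz; omega) hc hy]
    exact (Char.IsClass.eq_of_isConj (irr_classFun ξ) (h.one_central z hz)).symm
  -- the degrees
  set x : ℕ := charDegree (χ : G → ℂ) with hxdef
  have hdeg : ∀ ξ : IrrCharacter G, (ξ : G → ℂ) 1 = (charDegree (ξ : G → ℂ) : ℕ) := fun ξ => charDeg_spec' ξ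
  have hdeg0 : ∀ ξ : IrrCharacter G, (ξ : G → ℂ) 1 ≠ 0 := fun ξ => by
    rw [hdeg ξ]; exact Nat.cast_ne_zero.2 (charDeg_pos ξ).ne'
  have hδ2 : (δ : ℂ) * δ = 1 := by rcases hδ with rfl | rfl <;> norm_num
  have hd22 : (d2 : ℂ) * d2 = 1 := by rcases hd2 with rfl | rfl <;> norm_num
  have hd32 : (d3 : ℂ) * d3 = 1 := by rcases hd3 with rfl | rfl <;> norm_num
  set A : ℤ := -d2 * (charDegree (b : G → ℂ) : ℕ) with hAdef
  set B : ℤ := -d3 * (charDegree (c : G → ℂ) : ℕ) with hBdef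
  let j₀ : Fin (2 ^ (n - 2) - 1) := ⟨0, hr0⟩
  have hsum : A + B = δ * (x + δ) := by
    have e := (hrel 1 (by simp) j₀).1
    rw [hdeg χ, hdeg b, hdeg c] at e
    have e' : ((A + B : ℤ) : ℂ) = ((δ * (x + δ) : ℤ) : ℂ) := by
      simp only [hAdef, hBdef, hxdef]
      push_cast
      linear_combination -e - hδ2
    exact Int.cast_injective e'
  have hη1 : ∀ j, (η j : G → ℂ) 1 = (x : ℂ) + δ := fun j => by
    have e := (hrel 1 (by simp) j).2
    rw [hdeg χ, ← hxdef] at e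
    linear_combination (-(δ : ℂ)) * e + ((x : ℂ) - (η j : G → ℂ) 1) * hδ2
  have hxδ : (x : ℂ) + δ ≠ 0 := hη1 j₀ ▸ hdeg0 _
  -- block sums
  set T : Finset (IrrCharacter G) := insert (trivialIrr G) (insert χ (insert b (insert c
      (Finset.univ.image η))))
  have hblock : ∀ F : IrrCharacter G → ℂ, ∑ᶠ ξ ∈ principalBlock M G, F ξ =
      F (trivialIrr G) + F χ + F b + F c + ∑ j, F (η j) := fun F => by
    rw [finsum_mem_block, show Finset.univ.filter (fun ξ : IrrCharacter G =>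
        ξ ∈ principalBlock M G) = T by rw [hset]; ext ξ; simp [T, eq_comm],
      Finset.sum_insert (by simp [hao.symm, hbo.symm, hco.symm, fun j => (hη j).2.2.2]),
      Finset.sum_insert (by simp [hab, hac, fun j => (hη j).1]),
      Finset.sum_insert (by simp [hbc, fun j => (hη j).2.1]),
      Finset.sum_insert (by simp [fun j => (hη j).2.2.1]),
      Finset.sum_image fun i _ j _ e => hinj e]
    ring
  have t1 : ∀ g, ((trivialIrr G : IrrCharacter G) : G → ℂ) g = 1 := fun _ => rfl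
  have wb : (b : G → ℂ) σ = (d2 : ℂ) := by simpa using (hv 1 one_pos (by omega)).2.1
  have wc : (c : G → ℂ) σ = (d3 : ℂ) := by simpa using (hv 1 one_pos (by omega)).2.2.1
  have wa : (χ : G → ℂ) σ = δ := by simpa using (hv 1 one_pos (by omega)).1
  set z : Fin (2 ^ (n - 2) - 1) → ℂ := fun j => ζ ^ ((j : ℕ) + 1) + (ζ ^ ((j : ℕ) + 1))⁻¹
  set q : Fin (2 ^ (n - 2) - 1) → ℂ := fun j => (-1 : ℂ) ^ ((j : ℕ) + 1)
  have wη : ∀ j, (η j : G → ℂ) σ = δ * z j := fun j => by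
    have e := (hv 1 one_pos (by omega)).2.2.2 j
    simpa [z] using e
  have hq2 : ∀ j, q j * q j = 1 := fun j => by
    simp only [q]; rw [← pow_add, ← two_mul, pow_mul]; simp
  have hzero : ∀ y : G, y ≠ 1 → (∃ k : ℕ, orderOf y = 2 ^ k) →
      ∑ᶠ ξ ∈ principalBlock M G, (ξ : G → ℂ) y * (ξ : G → ℂ) 1 = 0 := fun y hy hy2 => by
    refine Eq.trans (finsum_congr fun ξ => finsum_congr fun _ => ?_)
      (principal_pElem_orth hM hy2 (x := (1 : G)) ⟨0, by rw [orderOf_one, pow_zero]⟩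
        fun hc => hy (isConj_one_left.1 hc))
    rw [charDeg_spec' ξ, Complex.conj_natCast]
  have hAB : (-(d2 : ℂ)) * (b : G → ℂ) 1 + (-(d3 : ℂ)) * (c : G → ℂ) 1 = (δ : ℂ) * ((x : ℂ) + δ) := by
    rw [hdeg b, hdeg c]
    exact_mod_cast hsum
  have hqsum : ∑ j, q j = -1 := by
    have e := hzero J (fun e => by rw [e, orderOf_one] at hJ; omega) ⟨1, by rw [hJ, pow_one]⟩
    rw [hblock] at e
    simp only [t1, va, vb, vc, vη, hη1, hdeg χ, ← hxdef] at e
    rw [Finset.sum_congr rfl (g := fun j => (2 * δ * ((x : ℂ) + δ)) * q j) fun j _ => by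
      simp only [q]; ring, ← Finset.mul_sum] at e
    have e' : 2 * (δ : ℂ) * ((x : ℂ) + δ) * (∑ j, q j + 1) = 0 := by
      linear_combination e - hAB + hδ2
    exact eq_neg_of_add_eq_zero_left ((mul_eq_zero.1 e').resolve_left
      (mul_ne_zero (mul_ne_zero two_ne_zero (left_ne_zero_of_mul_eq_one hδ2)) hxδ))
  have hzsum : ∑ j, z j = 0 := by
    have e := hzero σ h.sigma_ne_one ⟨n - 1, h.orderσ⟩
    rw [hblock] at e
    simp only [t1, wa, wb, wc, wη, hη1, hdeg χ, ← hxdef] at e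
    rw [Finset.sum_congr rfl (g := fun j => ((δ : ℂ) * ((x : ℂ) + δ)) * z j) fun j _ => by ring,
      ← Finset.mul_sum] at e
    have e' : (δ : ℂ) * ((x : ℂ) + δ) * ∑ j, z j = 0 := by
      linear_combination e + hAB + hδ2
    exact (mul_eq_zero.1 e').resolve_left (mul_ne_zero (left_ne_zero_of_mul_eq_one hδ2) hxδ)
  have hδ0 : (δ : ℂ) ≠ 0 := left_ne_zero_of_mul_eq_one hδ2
  have hterm : ∀ (d e : ℤ) (k : ℕ), (d : ℂ) * d = 1 → ((d : ℂ)) ^ 2 / (k : ℂ) * e = (e : ℂ) / k :=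
    fun d e k hd' => by rw [pow_two, hd']; ring
  have hsq4 : ∀ j : Fin (2 ^ (n - 2) - 1), (2 * (δ : ℂ) * (-1 : ℂ) ^ ((j : ℕ) + 1)) ^ 2 = 4 := fun j => by
    rw [mul_pow, mul_pow, pow_two (δ : ℂ), hδ2, ← pow_mul, mul_comm ((j : ℕ) + 1), pow_mul]
    norm_num
  have hδsq : (δ : ℂ) ^ 2 = 1 := by rw [pow_two, hδ2]
  have hd2sq : (d2 : ℂ) ^ 2 = 1 := by rw [pow_two, hd22]
  have hd3sq : (d3 : ℂ) ^ 2 = 1 := by rw [pow_two, hd32]
  set s2 : ℂ := (d2 : ℂ) / (b : G → ℂ) 1 with hs2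
  set s3 : ℂ := (d3 : ℂ) / (c : G → ℂ) 1 with hs3
  set SJ : ℂ := ∑ᶠ ξ ∈ principalBlock M G, (ξ : G → ℂ) J ^ 2 / (ξ : G → ℂ) 1 * (ξ : G → ℂ) J with hSJdef
  set Sσ : ℂ := ∑ᶠ ξ ∈ principalBlock M G, (ξ : G → ℂ) J ^ 2 / (ξ : G → ℂ) 1 * (ξ : G → ℂ) σ with hSσdef
  have hSJ : SJ = 1 + (δ : ℂ) / x - s2 - s3 - 8 / ((x : ℂ) + δ) * δ := by
    rw [hSJdef, hblock]
    simp only [t1, va, vb, vc, vη, hη1, hdeg χ, ← hxdef]
    rw [Finset.sum_congr rfl (g := fun j => (8 * (δ : ℂ) / ((x : ℂ) + δ)) * q j) fun j _ => by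
      simp only [q]
      rw [hsq4 j]
      ring, ← Finset.mul_sum, hqsum, hs2, hs3, neg_sq, neg_sq, hδsq, hd2sq, hd3sq]
    ring
  have hSσ : Sσ = 1 + (δ : ℂ) / x + s2 + s3 := by
    rw [hSσdef, hblock]
    simp only [t1, va, vb, vc, vη, wa, wb, wc, wη, hη1, hdeg χ, ← hxdef]
    rw [Finset.sum_congr rfl (g := fun j => (4 * (δ : ℂ) / ((x : ℂ) + δ)) * z j) fun j _ => by
      rw [hsq4 j]
      ring, ← Finset.mul_sum, hzsum, hs2, hs3, neg_sq, neg_sq, hδsq, hd2sq, hd3sq]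
    ring
  -- the two equations
  set a := idx σ τ n with hadef
  set a₁ := idx σ (σ * τ) n with ha1def
  set U := coreCent (central σ n) with hUdef
  set N := (centralizer ({J} : Set G)).index with hNdef
  have hG : (Nat.card G : ℂ) = (N : ℂ) * ((Nat.card ↥U : ℂ) * (2 : ℂ) ^ n) := by
    rw [← (centralizer ({J} : Set G)).card_mul_index, hJdef, h.card_centralizer]
    push_cast
    ring
  have h2n : (2 : ℂ) ^ n = 4 * ((2 ^ (n - 2) : ℕ) : ℂ) := by
    push_cast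
    rw [show (4 : ℂ) = 2 ^ 2 by norm_num, ← pow_add, show 2 + (n - 2) = n by have := h.three; omega]
  have hU0 : (Nat.card ↥U : ℂ) ≠ 0 := Nat.cast_ne_zero.2 Nat.card_pos.ne'
  have hP0 : ((2 ^ (n - 2) : ℕ) : ℂ) ≠ 0 := Nat.cast_ne_zero.2 (by positivity)
  have eJ : 4 * (N : ℂ) * SJ = ((2 : ℂ) ^ n) ^ 2 * ((a : ℂ) ^ 2 + (a₁ : ℂ) ^ 2) := by
    have e := h.pair_equation hM (d := 2 ^ (n - 2)) (.inl rfl)
    rw [if_pos heven, show σ ^ 2 ^ (n - 2) = J from rfl, ← hJdef, ← hUdef, hG, ← hSJdef] at e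
    refine mul_left_cancel₀ (mul_ne_zero (mul_ne_zero hU0 hU0) hP0) ?_
    linear_combination e - (N : ℂ) * (Nat.card ↥U : ℂ) ^ 2 * SJ * h2n
  have eσ : 4 * (N : ℂ) * Sσ = ((2 : ℂ) ^ n) ^ 2 * (2 * (a : ℂ) * a₁) := by
    have e := h.pair_equation hM (d := 1) (.inr ⟨odd_one, by omega⟩)
    rw [if_neg (by simp), pow_one, ← hJdef, ← hUdef, hG, ← hSσdef] at e
    refine mul_left_cancel₀ (mul_ne_zero (mul_ne_zero hU0 hU0) hP0) ?_
    linear_combination e - (N : ℂ) * (Nat.card ↥U : ℂ) ^ 2 * Sσ * h2n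
  have hx0 : (x : ℂ) ≠ 0 := hdeg χ ▸ hdeg0 χ
  have hA' : (A : ℂ) = -(d2 : ℂ) * (b : G → ℂ) 1 := by rw [hdeg b, hAdef]; push_cast; ring
  have hB' : (B : ℂ) = -(d3 : ℂ) * (c : G → ℂ) 1 := by rw [hdeg c, hBdef]; push_cast; ring
  have hA0 : (A : ℂ) ≠ 0 := hA' ▸ mul_ne_zero (neg_ne_zero.2 (left_ne_zero_of_mul_eq_one hd22)) (hdeg0 b)
  have hB0 : (B : ℂ) ≠ 0 := hB' ▸ mul_ne_zero (neg_ne_zero.2 (left_ne_zero_of_mul_eq_one hd32)) (hdeg0 c)
  have hsA : s2 * A = -1 := by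
    rw [hA', hs2]
    have := hdeg0 b
    field_simp
    linear_combination -hd22
  have hsB : s3 * B = -1 := by
    rw [hB', hs3]
    have := hdeg0 c
    field_simp
    linear_combination -hd32
  have hsumC : (A : ℂ) + B = δ * ((x : ℂ) + δ) := by exact_mod_cast hsum
  -- `x (x + δ) (Σ_J + Σ_σ) = 2 (x - δ)²`, `A B (A + B) (Σ_J - Σ_σ) = 2 (A - B)²`
  have hadd : (x : ℂ) * ((x : ℂ) + δ) * (SJ + Sσ) = 2 * ((x : ℂ) - δ) ^ 2 := by
    rw [hSJ, hSσ]
    field_simp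
    ring
  have hsub : (A : ℂ) * B * ((A : ℂ) + B) * (SJ - Sσ) = 2 * ((A : ℂ) - B) ^ 2 := by
    rw [hSJ, hSσ]
    calc _ = ((A : ℂ) + B) * (-2 * ((s2 * A) * B + (s3 * B) * A)) -
          8 * ((A : ℂ) * B) * ((δ : ℂ) * ((A : ℂ) + B) / ((x : ℂ) + δ)) := by ring
      _ = _ := by
          rw [hsA, hsB, show (δ : ℂ) * ((A : ℂ) + B) / ((x : ℂ) + δ) = 1 by
            rw [hsumC, ← mul_assoc, hδ2, one_mul, div_self hxδ]]
          ring
  have P2 : 8 * (N : ℤ) * ((x : ℤ) - δ) ^ 2 =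
      ((2 : ℤ) ^ n) ^ 2 * ((a : ℤ) + a₁) ^ 2 * ((x : ℤ) * ((x : ℤ) + δ)) := by
    apply Int.cast_injective (α := ℂ)
    push_cast
    linear_combination -4 * (N : ℂ) * hadd + (x : ℂ) * ((x : ℂ) + δ) * (eJ + eσ)
  have P1 : 8 * (N : ℤ) * (A - B) ^ 2 = ((2 : ℤ) ^ n) ^ 2 * ((a : ℤ) - a₁) ^ 2 * (A * B * (A + B)) := by
    apply Int.cast_injective (α := ℂ)
    push_cast
    linear_combination -4 * (N : ℂ) * hsub + (A : ℂ) * B * ((A : ℂ) + B) * (eJ - eσ)
  -- congruence on the Sylow subgroup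
  obtain ⟨k, hk⟩ : ∃ k : ℤ, (x : ℤ) = δ + (2 : ℤ) ^ n * k := by
    obtain ⟨w, hw⟩ := Char.IsChar.classInner_nat (Char.IsChar.res (irr_isChar χ) (S : Subgroup G))
      Char.IsChar.one
    have hs : ∑ g : ↥(S : Subgroup G), (χ : G → ℂ) g = (x : ℂ) + ((2 : ℂ) ^ n - 1) * δ := by
      rw [← Finset.add_sum_erase _ _ (Finset.mem_univ 1), OneMemClass.coe_one, hdeg χ,
        Finset.sum_congr rfl (g := fun _ : ↥(S : Subgroup G) => (δ : ℂ)) fun g hg => hval (g : G) ?_,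
        Finset.sum_const,
        nsmul_eq_mul, Finset.card_erase_of_mem (Finset.mem_univ _), Finset.card_univ,
        ← Nat.card_eq_fintype_card, h.card_sylow, Nat.cast_sub Nat.one_le_two_pow]
      · push_cast; ring
      · obtain ⟨j, hj⟩ := IsPGroup.iff_orderOf.1 S.isPGroup' g
        rw [Subgroup.orderOf_coe, hj, Nat.even_pow]
        refine ⟨even_two, fun e => (Finset.mem_erase.1 hg).1 (orderOf_eq_one_iff.1 ?_)⟩
        rw [hj, e, pow_zero]
    simp only [classInner, map_one, mul_one] at hw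
    rw [h.card_sylow, hs] at hw
    refine ⟨(w : ℤ) - δ, Int.cast_injective (α := ℂ) ?_⟩
    push_cast at hw ⊢
    have h2 : ((2 : ℂ) ^ n) ≠ 0 := pow_ne_zero _ two_ne_zero
    rw [inv_mul_eq_iff_eq_mul₀ h2] at hw
    linear_combination hw
  have hxpos : (0 : ℤ) < x := by exact_mod_cast charDeg_pos χ
  have hxd : (0 : ℤ) < (x : ℤ) + δ := by
    have : (x : ℤ) + δ ≠ 0 := fun e => hxδ (by exact_mod_cast e)
    omega
  have hNpos : (0 : ℤ) < N := by
    exact_mod_cast Nat.pos_of_ne_zero (index_ne_zero_of_finite (H := centralizer ({J} : Set G)))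
  have hapos : (0 : ℤ) < (a : ℤ) + a₁ := by
    have := h.idx_pos
    omega
  have hkne : k ≠ 0 := fun e => by
    rw [hk, e, mul_zero, add_zero, sub_self] at P2
    have : (0 : ℤ) < ((2 : ℤ) ^ n) ^ 2 * ((a : ℤ) + a₁) ^ 2 * (δ * (δ + δ)) := by
      have hd1 : δ = 1 := by rw [hk, e, mul_zero, add_zero] at hxpos; omega
      subst hd1
      positivity
    simp only [ne_eq, OfNat.ofNat_ne_zero, not_false_eq_true, zero_pow, mul_zero] at P2
    omega
  have hk0 : 0 ≤ k := by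
    by_contra hneg'
    push Not at hneg'
    have h2 : (2 : ℤ) ^ n * k ≤ -((2 : ℤ) ^ n) := by nlinarith [pow_pos (two_pos (α := ℤ)) n]
    have h3 : (8 : ℤ) ≤ (2 : ℤ) ^ n := by
      calc (8 : ℤ) = 2 ^ 3 := by norm_num
        _ ≤ _ := pow_le_pow_right₀ (by norm_num) h.three
    rcases hδ with rfl | rfl <;> omega
  obtain ⟨Θ, rfl⟩ := Int.eq_ofNat_of_zero_le hk0
  have hΘ : 0 < Θ := Nat.pos_of_ne_zero fun e => hkne (by simp [e])
  -- the index
  obtain ⟨s, hs⟩ : ∃ s, a + a₁ = 2 * s := (h.idx_odd.add_odd h.symm.idx_odd).two_dvd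
  obtain ⟨y, hy, hxy⟩ : ∃ y : ℤ, (x : ℤ) + δ = 2 * y ∧ IsCoprime (Θ : ℤ) ((x : ℤ) * y) := by
    have h2 : (2 : ℤ) ^ n = 2 * (2 : ℤ) ^ (n - 1) := by
      rw [← pow_succ', show n - 1 + 1 = n by have := h.three; omega]
    refine ⟨(2 : ℤ) ^ (n - 1) * Θ + δ, by rw [hk, h2]; ring, ?_⟩
    have hu : IsCoprime (Θ : ℤ) δ := by
      rcases hδ with rfl | rfl
      · exact isCoprime_one_right
      · exact isCoprime_one_right.neg_right
    refine IsCoprime.mul_right ?_ ?_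
    · rw [hk, mul_comm ((2 : ℤ) ^ n)]
      exact hu.add_mul_left_right _
    · rw [mul_comm ((2 : ℤ) ^ (n - 1)), add_comm]
      exact hu.add_mul_left_right _
  have hNs : (N : ℤ) * (Θ : ℤ) ^ 2 = (s : ℤ) ^ 2 * ((x : ℤ) * y) := by
    have hs' : (a : ℤ) + a₁ = 2 * s := by exact_mod_cast hs
    rw [hy, hs', hk] at P2
    refine mul_left_cancel₀ (show (8 : ℤ) * ((2 : ℤ) ^ n) ^ 2 ≠ 0 by positivity) ?_
    rw [hk]
    linear_combination P2
  obtain ⟨m, hm⟩ : Θ ∣ s := by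
    have hdvd : (Θ : ℤ) ^ 2 ∣ (s : ℤ) ^ 2 * ((x : ℤ) * y) := ⟨N, by rw [← hNs]; ring⟩
    exact Int.natCast_dvd_natCast.1 ((Int.pow_dvd_pow_iff two_ne_zero).1 (hxy.pow_left.dvd_of_dvd_mul_right hdvd))
  have hNm : (N : ℤ) = (m : ℤ) ^ 2 * ((x : ℤ) * y) := by
    refine mul_right_cancel₀ (pow_ne_zero 2 (show (Θ : ℤ) ≠ 0 by exact_mod_cast hΘ.ne')) ?_
    rw [hNs, hm]
    push_cast
    ring
  have hNodd : Odd N := by
    have h1 : N ∣ (S : Subgroup G).index := index_dvd_of_le (by rw [hJdef]; exact h.le_centralizer)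
    exact Odd.of_dvd_nat (Nat.not_even_iff_odd.1 fun e => S.not_dvd_index e.two_dvd) h1
  have hmodd : Odd m := by
    have h1 : Odd (N : ℤ) := by exact_mod_cast hNodd
    rw [hNm, Int.odd_mul, Int.odd_pow' two_ne_zero] at h1
    exact_mod_cast h1.1
  -- parity of the other degrees
  have hJJ : J * J = 1 := by rw [← pow_two, ← hJ, pow_orderOf_eq_one]
  have hodd : ∀ (ξ : IrrCharacter G) (d : ℤ), (d = 1 ∨ d = -1) → (ξ : G → ℂ) J = -(d : ℂ) →
      Odd (-d * (charDegree (ξ : G → ℂ) : ℕ)) := fun ξ d hd' hv' => by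
    obtain ⟨w, hw, hpar⟩ := Dih.char_involution_parity ξ hJJ
    have hw' : w = -d := Int.cast_injective (α := ℂ) (by push_cast; rw [← hw, hv'])
    rw [hw'] at hpar
    rw [Int.odd_iff]
    rcases hd' with rfl | rfl <;> omega
  have hsign : ∀ (ξ : IrrCharacter G) (d : ℤ), (d = 1 ∨ d = -1) →
      ((Int.sign (-d * (charDegree (ξ : G → ℂ) : ℕ)) : ℤ) : ℂ) = -(d : ℂ) := fun ξ d hd' => by
    have h1 : (0 : ℤ) < (charDegree (ξ : G → ℂ) : ℕ) := by exact_mod_cast charDeg_pos ξ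
    rw [Int.sign_mul, Int.sign_eq_one_of_pos h1]
    rcases hd' with rfl | rfl <;> simp
  -- rationality
  have hrat : ∀ g : G, ∃ w : ℤ, (χ : G → ℂ) g = w := by
    intro g
    refine Char.IsChar.exists_int_of_fixed (irr_isChar χ) g fun k hkc => ?_
    obtain ⟨k', hk'c, hk'⟩ := Char.exists_coprime_lift (N := Nat.card G) Nat.card_pos (orderOf_dvd_natCard g) hkc
    rw [pow_eq_pow_iff_modEq.2 hk'.symm]
    set φ : IrrCharacter G := ⟨fun y => (χ : G → ℂ) (y ^ k'), Char.IsIrr.pow_map χ.2 hk'c⟩ with hφdef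
    have hφv : ∀ y : G, Even (orderOf y) → (φ : G → ℂ) y = δ := fun y hy => by
      refine hval _ ?_
      rwa [(hk'c.coprime_dvd_right (orderOf_dvd_natCard y)).symm.orderOf_pow]
    have hφB : φ ∈ principalBlock M G := by
      by_contra hno
      have hodd2 := h.odd2
      rw [← hUdef, ← hJdef] at hodd2
      obtain ⟨e, he⟩ : ∃ e, ((U).subgroupOf (centralizer ({J} : Set G))).index = 2 ^ e := ⟨n, h.core_index⟩
      have h0 := Dih.coset_sum hM U ⟨1, by rw [hJ, pow_one]⟩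
        (hodd2.norm (mem_centralizer_singleton_iff.2 rfl)) hodd2.norm hodd2.odd ⟨e, he⟩ φ
      rw [if_neg hno, Finset.sum_congr rfl (g := fun _ => (δ : ℂ)) fun l _ => hφv _ ?_, Finset.sum_const,
        nsmul_eq_mul] at h0
      · exact hδ0 ((mul_eq_zero.1 h0).resolve_left (Nat.cast_ne_zero.2 Finset.univ_nonempty.card_pos.ne'))
      · rw [even_iff_two_dvd, (show Commute (l : G) J from h.commute_core l.2).orderOf_mul_eq_mul_orderOf_of_coprime
          (by rw [hJ]; exact Nat.coprime_two_right.2 (h.odd_of_mem l.2)), hJ]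
        exact dvd_mul_left _ _
    have hrot : ∀ l, 0 < l → l < 2 ^ (n - 1) → (φ : G → ℂ) (σ ^ l) = δ := fun l hl0 hlm => by
      refine hφv _ ?_
      obtain ⟨j, hj⟩ := pPow_of_mem S.isPGroup' (pow_mem h.hσ l : σ ^ l ∈ (S : Subgroup G))
      rw [hj, Nat.even_pow]
      refine ⟨even_two, fun e => pow_ne_one_of_lt_orderOf hl0.ne' (by rwa [h.orderσ]) (orderOf_eq_one_iff.1 ?_)⟩
      rw [hj, e, pow_zero]
    have hφ : φ = χ := by
      have hl1 := hrot 1 one_pos (by omega)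
      have hl2 := hrot 2 two_pos (by omega)
      rcases (hset ▸ hφB : φ ∈ _) with e | e | e | e | ⟨j, e⟩
      · exfalso
        rw [e, t1] at hl1
        have hd1 : δ = 1 := by exact_mod_cast hl1.symm
        refine hne1 hao (funext fun y => ?_)
        have h1 := congrArg (fun f : IrrCharacter G => (f : G → ℂ) 1) e
        simp only [hφdef, one_pow, t1] at h1
        rw [hdeg χ, ← hxdef] at h1
        have : (x : ℤ) = 1 := by exact_mod_cast h1
        have : (2 : ℤ) ^ n * (Θ : ℤ) = 0 := by omega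
        simp [hΘ.ne'] at this
      · exact e
      · exfalso
        subst e
        rw [(hv 1 one_pos (by omega)).2.1] at hl1
        rw [(hv 2 two_pos (by omega)).2.1] at hl2
        norm_num at hl1 hl2
        rw [hl1] at hl2
        exact hδ0 (by linear_combination (-1 / 2 : ℂ) * hl2)
      · exfalso
        subst e
        rw [(hv 1 one_pos (by omega)).2.2.1] at hl1
        rw [(hv 2 two_pos (by omega)).2.2.1] at hl2
        norm_num at hl1 hl2
        rw [hl1] at hl2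
        exact hδ0 (by linear_combination (-1 / 2 : ℂ) * hl2)
      · exfalso
        have e0 := (hrot _ hlt.1 hlt.2).symm
        rw [e] at e0
        have e := e0.trans (vη j)
        rcases neg_one_pow_eq_or ℂ ((j : ℕ) + 1) with e' | e' <;> rw [e'] at e
        · exact hδ0 (by linear_combination -e)
        · exact hδ0 (by linear_combination e / 3)
    exact congrFun (congrArg (fun f : IrrCharacter G => (f : G → ℂ)) hφ) g
  have hidxadd : a + a₁ = 2 * m * Θ := by rw [hs, hm]; ring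
  refine ⟨{ χ := χ, χ₂ := b, χ₃ := c, δ := δ, A := A, B := B, Θ := Θ, m := m, delta := hδ,
            deg := hk, theta_pos := hΘ, m_odd := hmodd, idx_add := hidxadd,
            index_eq := ?_, deg₂ := ?_, deg₃ := ?_, odd₂ := hodd b d2 hd2 vb, odd₃ := hodd c d3 hd3 vc,
            deg_sum := hsum, ratio := ?_, ne_one := hne1 hao, ne_one₂ := hne1 hbo, ne_one₃ := hne1 hco,
            ne₂ := hab.symm, ne₃ := hac.symm, ne₂₃ := hbc, value := hval,
            value₂ := fun w y hw hc' hy' => ?_, value₃ := fun w y hw hc' hy' => ?_, int_value := hrat }⟩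
  · rw [← hJdef, ← hNdef, ← hxdef, hNm, hy]; ring
  · rw [hAdef, Int.natAbs_mul, Int.natAbs_natCast]
    rcases hd2 with rfl | rfl <;> simp
  · rw [hBdef, Int.natAbs_mul, Int.natAbs_natCast]
    rcases hd3 with rfl | rfl <;> simp
  · refine mul_left_cancel₀ (mul_ne_zero (mul_ne_zero (show (8 : ℤ) ≠ 0 by norm_num) hNpos.ne') hxd.ne') ?_
    rw [← hadef, ← ha1def, ← hxdef]
    linear_combination ((x : ℤ) * ((x : ℤ) + δ) * ((a : ℤ) + a₁) ^ 2) * P1 -
      (A * B * (A + B) * ((a : ℤ) - a₁) ^ 2) * P2 +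
      (8 * (N : ℤ) * ((x : ℤ) - δ) ^ 2 * ((a : ℤ) - a₁) ^ 2 * A * B) * hsum
  · rw [hinvol b (hBmem b (by simp)) w y hw hc' hy', vb, hsign b d2 hd2]
  · rw [hinvol c (hBmem c (by simp)) w y hw hc' hy', vc, hsign c d3 hd3]

end Hyp

end Cfsg.Agent.Invol.GW.Dihedral
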