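import Cfsg.Agent.Lib.Invol.GW.Dihedral.OneClass
import Cfsg.Agent.Lib.Invol.GW.Dihedral.LocalsNormal
import Cfsg.Agent.Lib.Invol.GW.Klein.ThreeClassData
import Cfsg.Agent.Lib.Transfer.PStableFree
import Cfsg.Agent.Lib.Block.QuaternionSylow

/-!
# Gorenstein–Walter, dihedral: the base facts for the three-class case

The group is `p`-stable, `⟨t, τ⟩` is the four group of the generic development, a subgroup with 2-group quotient
by its core has `t` central modulo the core, and one over `C(t)` without that property fuses `t`.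
-/

set_option autoImplicit false
set_option linter.unusedSectionVars false
set_option linter.style.haveILetI false

namespace Cfsg.Agent.Invol.GW.Dihedral

open Subgroup Klein

universe u

theorem sl_central_of_sq {p : ℕ} [Fact p.Prime] (hp : p ≠ 2)
    {x y : Matrix.SpecialLinearGroup (Fin 2) (ZMod p)} (hx : x * x = 1) : Commute x y := by
  have h2 : (2 : ZMod p) ≠ 0 := Grp.SL2.two_ne_zero' (F := ZMod p) p hp
  have hinv : x⁻¹ = x := inv_eq_of_mul_eq_one_right hx
  have e := congrArg Subtype.val hinv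
  simp only [Matrix.SpecialLinearGroup.coe_inv, Matrix.adjugate_fin_two] at e
  have h00 := congrFun (congrFun e 0) 0
  have h01 := congrFun (congrFun e 0) 1
  have h10 := congrFun (congrFun e 1) 0
  simp at h00 h01 h10
  have e01 : x.1 0 1 = 0 := (mul_eq_zero.1 (show (2 : ZMod p) * x.1 0 1 = 0 by linear_combination -h01)).resolve_left h2
  have e10 : x.1 1 0 = 0 := (mul_eq_zero.1 (show (2 : ZMod p) * x.1 1 0 = 0 by linear_combination -h10)).resolve_left h2
  refine Subtype.ext ?_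
  show x.1 * y.1 = y.1 * x.1
  ext i j
  fin_cases i <;> fin_cases j <;> simp [Matrix.mul_apply, Fin.sum_univ_two, e01, e10, h00] <;> ring

/-- A group with a map onto a group generated by squares, with odd kernel, has no subgroup of index two. -/
theorem no_index_two_of_squares {M : Type u} [Group M] [Finite M] {Q : Type} [Group Q]
    (hQ : ∀ q : Q, ∃ a b : Q, q = a * a * (b * b)) (f : M →* Q) (hf : Function.Surjective f)
    (hk : Odd (Nat.card ↥f.ker)) (A : Subgroup M) (hA : A.Normal) : A.index ≠ 2 := by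
  intro h2
  haveI := hA
  have hsq : ∀ x : M, x * x ∈ A := fun x => by
    have h1 : x ^ 2 ∈ A := h2 ▸ A.pow_index_mem x
    rwa [pow_two] at h1
  have htop : A = ⊤ := by
    refine eq_top_iff.2 fun x _ => ?_
    obtain ⟨a, b, e⟩ := hQ (f x)
    obtain ⟨a', rfl⟩ := hf a
    obtain ⟨b', rfl⟩ := hf b
    have hker : (a' * a' * (b' * b'))⁻¹ * x ∈ f.ker := by
      rw [MonoidHom.mem_ker, map_mul, map_inv, map_mul, map_mul, map_mul, e, inv_mul_cancel]
    obtain ⟨j, hj⟩ := Odd.of_dvd_nat hk (f.ker.orderOf_dvd_natCard hker)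
    set k := (a' * a' * (b' * b'))⁻¹ * x with hkdef
    have hkA : k ∈ A := by
      have h3 := hsq (k ^ (j + 1))
      rwa [← pow_add, show j + 1 + (j + 1) = orderOf k + 1 by omega, pow_succ, pow_orderOf_eq_one, one_mul] at h3
    rw [show x = a' * a' * (b' * b') * k by rw [hkdef]; group]
    exact mul_mem (mul_mem (hsq a') (hsq b')) hkA
  rw [htop, index_top] at h2
  omega

set_option synthInstance.maxSize 100000 in
theorem alt_four_squares : ∀ q : alternatingGroup (Fin 4), ∃ a b, q = a * a * (b * b) := by decide +kernel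

variable {G : Type u} [Group G]

namespace Hyp

variable [Finite G] {S : Sylow 2 G} {σ τ : G} {n : ℕ} (h : Hyp S σ τ n)
include h

/-- A group with dihedral Sylow 2-subgroups has no section `Qd(p)`. -/
theorem qdFree {p : ℕ} [Fact p.Prime] (hp : p ≠ 2) : ¬ Cfsg.Involves ↥(Cfsg.qd p) G := by
  intro hq
  haveI : Fact (Nat.Prime 2) := ⟨Nat.prime_two⟩
  obtain ⟨H, f, hf⟩ := Transfer.exists_sl_section_of_qd hq
  obtain ⟨Q, hQ, x, hxQ, y, hyQ, hxy⟩ := Grp.Quad.exists_noncomm_two (p := p) hp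
  obtain ⟨R, hR⟩ := hQ.exists_le_sylow
  obtain ⟨S₁⟩ : Nonempty (Sylow 2 H) := inferInstance
  obtain ⟨g, hg⟩ := MulAction.exists_smul_eq (Matrix.SpecialLinearGroup (Fin 2) (ZMod p)) (S₁.mapSurjective hf) R
  obtain ⟨k, rfl⟩ := hf g
  have hsub : ∀ z ∈ (R : Subgroup (Matrix.SpecialLinearGroup (Fin 2) (ZMod p))),
      ∃ s ∈ (S₁ : Subgroup H), f k * f s * (f k)⁻¹ = z := by
    intro z hz
    rw [← hg, Sylow.coe_subgroup_smul, Grp.mem_smul_conj] at hz
    obtain ⟨s, hs, e⟩ := hz
    exact ⟨s, hs, by rw [e]; group⟩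
  obtain ⟨T, hT⟩ := (S₁.isPGroup'.map H.subtype).exists_le_sylow
  obtain ⟨c, hc⟩ := MulAction.exists_smul_eq G T S
  have hmem : ∀ s ∈ (S₁ : Subgroup H), c * (s : G) * c⁻¹ ∈ (S : Subgroup G) := fun s hs => by
    rw [← hc, Sylow.coe_subgroup_smul]
    exact ⟨s, hT ⟨s, hs, rfl⟩, rfl⟩
  obtain ⟨a, ha, rfl⟩ := hsub x (hR hxQ)
  obtain ⟨b, hb, rfl⟩ := hsub y (hR hyQ)
  refine hxy ?_
  have hcase : ∀ s ∈ (S₁ : Subgroup H), c * (s : G) * c⁻¹ ∈ zpowers σ ∨ f s * f s = 1 := fun s hs => by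
    refine (em _).imp_right fun hn => ?_
    have h1 := ((h.data.cases _ (hmem s hs)).resolve_left hn).1
    have h2 : (s : G) * (s : G) = 1 := by
      rwa [show c * (s : G) * c⁻¹ * (c * (s : G) * c⁻¹) = c * ((s : G) * (s : G)) * c⁻¹ by group,
        conj_eq_one_iff] at h1
    rw [← map_mul, show s * s = 1 from Subtype.ext h2, map_one]
  rcases hcase a ha with ha' | ha'
  · rcases hcase b hb with hb' | hb'
    · obtain ⟨i, hi⟩ := mem_zpowers_iff.1 ha'
      obtain ⟨j, hj⟩ := mem_zpowers_iff.1 hb'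
      have h1 : Commute (c * (a : G) * c⁻¹) (c * (b : G) * c⁻¹) := hi ▸ hj ▸ Commute.zpow_zpow (Commute.refl σ) i j
      have h2 : Commute a b := Subtype.ext (mul_left_cancel (a := c) (mul_right_cancel (b := c⁻¹) (by
        calc c * ((a : G) * b) * c⁻¹ = c * (a : G) * c⁻¹ * (c * (b : G) * c⁻¹) := by group
          _ = c * (b : G) * c⁻¹ * (c * (a : G) * c⁻¹) := h1.eq
          _ = c * ((b : G) * a) * c⁻¹ := by group)))
      exact (h2.map f).conj (f k)
    · exact ((sl_central_of_sq hp hb').symm).conj (f k)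
  · exact (sl_central_of_sq hp ha').conj (f k)

/-- The four group of the generic three-class development. -/
theorem base : ThreeClass.Base (four (central σ n) τ) (central σ n) τ :=
  ⟨h.simple, h.isKleinFour_four, left_mem_four _ _, right_mem_four _ _, h.central_ne_one, h.tau_ne_one,
    h.central_ne_tau, fun _ _ hp => h.qdFree hp, fun _ hD hVD _ hx hc =>
      h.mem_four_of_commute hD hVD hx (hc _ (left_mem_four _ _)) (hc _ (right_mem_four _ _))⟩

/-- With a 2-group quotient by the core `t` is central modulo the core. -/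
theorem three_of_twoKind {L : Subgroup G} (hSL : (S : Subgroup G) ≤ L) (hL : TwoKind L) :
    ThreeClass.Three (central σ n) L := by
  haveI : Fact (Nat.Prime 2) := ⟨Nat.prime_two⟩
  haveI : (Cfsg.oddCore ↥L).Normal := Grp.pPrimeCore_isNormal
  refine ⟨fun x hx ho => ?_, fun g hg => ?_⟩
  · obtain ⟨k, hk⟩ := hL (QuotientGroup.mk' _ (⟨x, hx⟩ : ↥L))
    rw [← map_pow] at hk
    have h1 : x ^ 2 ^ k ∈ oddOf L := ⟨_, (QuotientGroup.eq_one_iff _).1 hk, rfl⟩
    obtain ⟨j, hj⟩ := exists_pow_eq_self_of_coprime (x := x) (n := 2 ^ k) ((Nat.coprime_two_left.2 ho).pow_left k)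
    exact hj ▸ pow_mem h1 j
  · set π := QuotientGroup.mk' (Cfsg.oddCore ↥L)
    have htop : ((S.subtype hSL).mapSurjective (QuotientGroup.mk'_surjective (Cfsg.oddCore ↥L)) :
        Subgroup (↥L ⧸ Cfsg.oddCore ↥L)) = ⊤ :=
      (((S.subtype hSL).mapSurjective (QuotientGroup.mk'_surjective (Cfsg.oddCore ↥L))).3
        (hL.to_subgroup ⊤) le_top).symm
    obtain ⟨s, hs, e⟩ : π ⟨g, hg⟩ ∈ ((S.subtype hSL : Subgroup ↥L)).map π := by
      rw [Sylow.coe_mapSurjective] at htop
      rw [htop]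
      exact mem_top _
    have hk1 : π (s⁻¹ * ⟨g, hg⟩) = 1 := by rw [map_mul, map_inv, e, inv_mul_cancel]
    have hk : (s : G)⁻¹ * g ∈ oddOf L := ⟨s⁻¹ * ⟨g, hg⟩, (QuotientGroup.eq_one_iff (s⁻¹ * (⟨g, hg⟩ : ↥L))).1 hk1, rfl⟩
    obtain ⟨a, ha, hga⟩ : ∃ a ∈ oddOf L, g = a * (s : G) := ⟨(s : G) * ((s : G)⁻¹ * g) * (s : G)⁻¹,
      conj_mem_oddOf s.2 hk, by group⟩
    have htL : central σ n ∈ L := hSL h.central_mem
    rw [hga, show a * (s : G) * central σ n * (a * (s : G))⁻¹ * (central σ n)⁻¹ =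
      a * ((s : G) * central σ n * (s : G)⁻¹) * a⁻¹ * (central σ n)⁻¹ by group,
      (h.central_commute (mem_subgroupOf.1 hs)).symm.eq, mul_inv_cancel_right,
      show a * central σ n * a⁻¹ * (central σ n)⁻¹ = a * (central σ n * a⁻¹ * (central σ n)⁻¹) by group]
    exact mul_mem ha (conj_mem_oddOf htL (inv_mem ha))

/-- The socle of a subgroup whose quotient by the core is no 2-group. -/
theorem exists_socle_of_not_twoKind {L : Subgroup G} (hL : L ≠ ⊤) {W : Subgroup G} (hWL : W ≤ L)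
    (hW : IsKleinFour W) (hn : ¬ TwoKind L) : ∃ N : Subgroup G,
      (∃ π : ↥N →* alternatingGroup (Fin 7), SocleData L N π) ∨
      ∃ (F : Type) (_ : Field F) (_ : Fintype F), Odd (Fintype.card F) ∧ 3 ≤ Fintype.card F ∧
        ∃ π : ↥N →* Matrix.ProjectiveSpecialLinearGroup (Fin 2) F, SocleData L N π := by
  haveI : (Cfsg.oddCore ↥L).Normal := Grp.pPrimeCore_isNormal
  obtain ⟨N, hN, hON, hNc, hπ⟩ := (h.known L hL ⟨W, hWL, hW⟩).resolve_left hn
  let e := Subgroup.equivMapOfInjective N L.subtype L.subtype_injective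
  have hnorm : L ≤ normalizer ((N.map L.subtype : Subgroup G) : Set G) := fun g hg => by
    refine le_normalizer_map L.subtype ⟨⟨g, hg⟩, ?_, rfl⟩
    rw [normalizer_eq_top]
    exact mem_top _
  have hself : ∀ x ∈ L, (∀ y ∈ N.map L.subtype, x * y * x⁻¹ * y⁻¹ ∈ oddOf L) → x ∈ oddOf L :=
    fun x hx hxy => ⟨⟨x, hx⟩, hNc ⟨x, hx⟩ fun y hy => by
      obtain ⟨z, hz, hzy⟩ := hxy (y : G) ⟨y, hy, rfl⟩
      rwa [show z = (⟨x, hx⟩ : ↥L) * y * ⟨x, hx⟩⁻¹ * y⁻¹ from Subtype.ext hzy] at hz, rfl⟩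
  have key : ∀ {Q : Type} [Group Q] (π : ↥N →* Q), Function.Surjective π →
      π.ker = (Cfsg.oddCore ↥L).subgroupOf N →
      SocleData L (N.map L.subtype) (π.comp e.symm.toMonoidHom) := fun {Q} _ π hπ hker =>
    ⟨map_subtype_le _, hnorm, map_mono hON, hπ.comp e.symm.surjective, fun x => by
      have hxe : (x : G) = L.subtype (e.symm x : ↥N) := congrArg Subtype.val (e.apply_symm_apply x).symm
      rw [MonoidHom.comp_apply, ← MonoidHom.mem_ker, hker, mem_subgroupOf, oddOf, hxe,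
        Subgroup.mem_map_iff_mem L.subtype_injective]
      rfl, hself⟩
  rcases hπ with ⟨π, h1, h2⟩ | ⟨F, hF, hFf, hFo, hF3, π, h1, h2⟩
  · exact ⟨_, Or.inl ⟨_, key π h1 h2⟩⟩
  · exact ⟨_, Or.inr ⟨F, hF, hFf, hFo, hF3, _, key π h1 h2⟩⟩

theorem odd_ker_of_socle {L N : Subgroup G} {Q : Type} [Group Q] {π : ↥N →* Q} (hd : SocleData L N π) :
    Odd (Nat.card ↥π.ker) := by
  let g : ↥π.ker →* ↥(oddOf L) :=
    (N.subtype.comp π.ker.subtype).codRestrict (oddOf L) fun x => (hd.ker _).1 (MonoidHom.mem_ker.1 x.2)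
  refine Odd.of_dvd_nat (odd_card_oddOf L) (Subgroup.card_dvd_of_injective g fun a b e => ?_)
  exact Subtype.ext (Subtype.ext (congrArg (fun z : ↥(oddOf L) => (z : G)) e :))

/-- The socle has no subgroup of index two. -/
theorem exists_socle_no_index_two {L : Subgroup G} (hL : L ≠ ⊤) {W : Subgroup G} (hWL : W ≤ L)
    (hW : IsKleinFour W) (hn : ¬ TwoKind L) : ∃ N : Subgroup G, N ≤ L ∧ L ≤ normalizer (N : Set G) ∧
      2 ∣ Nat.card ↥N ∧ ∀ A : Subgroup ↥N, A.Normal → A.index ≠ 2 := by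
  obtain ⟨N, hN⟩ := h.exists_socle_of_not_twoKind hL hWL hW hn
  refine ⟨N, ?_⟩
  rcases hN with ⟨π, hd⟩ | ⟨F, _, _, hodd, h3, π, hd⟩
  · haveI : IsSimpleGroup (alternatingGroup (Fin 7)) := alternatingGroup.isSimpleGroup (by simp)
    refine ⟨hd.le, hd.normal, Dvd.dvd.trans ?_ (Subgroup.card_dvd_of_surjective π hd.surj),
      no_index_two_of_simple ?_ π hd.surj (h.odd_ker_of_socle hd)⟩
    · rw [nat_card_alternatingGroup]
      simp only [Nat.card_eq_fintype_card, Fintype.card_fin]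
      decide
    · intro hc
      have := commutator_alternatingGroup_eq_top (α := Fin 7) (by simp)
      rw [_root_.commutator_eq_closure, show commutatorSet (alternatingGroup (Fin 7)) = {1} from ?_,
        Subgroup.closure_singleton_one] at this
      · exact bot_ne_top this
      · refine Set.eq_singleton_iff_unique_mem.2 ⟨⟨1, 1, commutatorElement_self 1⟩, ?_⟩
        rintro _ ⟨a, b, rfl⟩
        exact commutatorElement_eq_one_iff_mul_comm.2 (hc.is_comm.comm a b)
  · have h2 : 2 ∣ Nat.card (Matrix.ProjectiveSpecialLinearGroup (Fin 2) F) := by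
      obtain ⟨k, hk⟩ := hodd
      have h1 := Klein.PSL.card_mul (F := F) ⟨k, hk⟩
      rw [hk, Nat.add_sub_cancel] at h1
      exact ⟨(2 * k + 1) * (k * (k + 1)), Nat.eq_of_mul_eq_mul_left two_pos (h1.trans (by ring))⟩
    refine ⟨hd.le, hd.normal, h2.trans (Subgroup.card_dvd_of_surjective π hd.surj), ?_⟩
    rcases Nat.lt_or_ge (Fintype.card F) 5 with h5 | h5
    · have hF : Fintype.card F = 3 := by
        obtain ⟨k, hk⟩ := hodd
        omega
      obtain ⟨g⟩ := Cfsg.Agent.PSLBin.psl_three_iso (E := F) hF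
      refine no_index_two_of_squares (fun q => ?_) π hd.surj (h.odd_ker_of_socle hd)
      obtain ⟨a, b, e⟩ := alt_four_squares (g q)
      refine ⟨g.symm a, g.symm b, g.injective ?_⟩
      rw [map_mul, map_mul, map_mul, g.apply_symm_apply, g.apply_symm_apply]
      exact e
    · haveI := Klein.PSL.isSimple (F := F) h5
      exact no_index_two_of_simple (fun hc => Klein.PSL.not_commute (F := F) h5 hc.is_comm.comm) π hd.surj
        (h.odd_ker_of_socle hd)

/-- A normal subgroup of even order contains the central involution. -/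
theorem central_mem_of_normal {L K : Subgroup G} (hSL : (S : Subgroup G) ≤ L) (hKL : K ≤ L)
    (hn : L ≤ normalizer (K : Set G)) (h2 : 2 ∣ Nat.card ↥K) : central σ n ∈ K := by
  haveI : Fact (Nat.Prime 2) := ⟨Nat.prime_two⟩
  obtain ⟨x, hx⟩ := exists_prime_orderOf_dvd_card' 2 h2
  rw [← Subgroup.orderOf_coe] at hx
  obtain ⟨c, hc, hcS⟩ := exists_conj_le_sylow S hSL (zpowers_le.2 (hKL x.2))
    (isPGroup_zpowers (n := 1) (by rw [hx, pow_one]) : IsPGroup 2 (zpowers (x : G)))
  set A := (S : Subgroup G) ⊓ K with hA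
  have hne : A ≠ ⊥ := fun e => by
    have h1 : c * (x : G) * c⁻¹ ∈ A := ⟨hcS _ (mem_zpowers _), conj_mem_of_normalizer (hn hc) x.2⟩
    rw [e, mem_bot, conj_eq_one_iff] at h1
    rw [h1, orderOf_one] at hx
    omega
  obtain ⟨z, ⟨⟨hzS, hzK⟩, hzc⟩, hz1⟩ := (bot_or_exists_ne_one _).resolve_left
    (ThreeClass.exists_fixed (p := 2) (S.isPGroup'.to_le inf_le_left) S.isPGroup'
      (Grp.le_normalizer_inf' le_normalizer (hSL.trans hn)) hne)
  rcases h.eq_of_central hzS (fun y hy => (mem_centralizer_iff.1 hzc y hy).symm) with e | e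
  · exact absurd e hz1
  · exact e ▸ hzK

/-- Over `C(t)` a subgroup without a 2-group quotient by its core moves `t` to another involution of a four group. -/
theorem exists_conj_of_not_twoKind {L : Subgroup G} (hL : L ≠ ⊤)
    (hCL : centralizer ({central σ n} : Set G) ≤ L) (hn : ¬ TwoKind L) :
    ∃ g ∈ L, g * central σ n * g⁻¹ = τ ∨ g * central σ n * g⁻¹ = σ * τ := by
  haveI : Fact (Nat.Prime 2) := ⟨Nat.prime_two⟩
  have hSL := h.le_centralizer.trans hCL
  obtain ⟨N, hNL, hNn, h2, hno⟩ := h.exists_socle_no_index_two hL (h.four_le_centralizer.trans hCL)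
    h.isKleinFour_four hn
  have htN := h.central_mem_of_normal hSL hNL hNn h2
  -- a reflection lies in the socle
  obtain ⟨w, hwS, hwN, hwσ⟩ : ∃ w ∈ (S : Subgroup G), w ∈ N ∧ w ∉ zpowers σ := by
    by_contra hcon
    push Not at hcon
    obtain ⟨P⟩ : Nonempty (Sylow 2 ↥N) := inferInstance
    obtain ⟨c, hc, hcS⟩ := exists_conj_le_sylow S hSL ((map_subtype_le _).trans hNL) (P.isPGroup'.map N.subtype)
    let φ : ↥(P : Subgroup ↥N) →* ↥(zpowers σ) :=
      (((MulAut.conj c).toMonoidHom.comp N.subtype).comp (P : Subgroup ↥N).subtype).codRestrict (zpowers σ)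
        fun y => hcon _ (hcS _ (mem_map_of_mem _ y.2)) (conj_mem_of_normalizer (hNn hc) (y : ↥N).2)
    have hφ : Function.Injective φ := fun a b e => Subtype.ext (Subtype.ext
      ((MulAut.conj c).injective (congrArg (fun z : ↥(zpowers σ) => (z : G)) e :)))
    have hcyc : IsCyclic (P : Subgroup ↥N) := isCyclic_of_injective φ hφ
    obtain ⟨K, hK, hKodd, hKi⟩ := Block.cyclic_two_complement P hcyc
    obtain ⟨k, hk⟩ := IsPGroup.iff_card.1 P.isPGroup'
    rw [hk] at hKi
    rcases k with _ | k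
    · refine hKodd ?_
      rw [pow_zero, index_eq_one] at hKi
      rw [hKi, card_top]
      exact h2
    · haveI := hK
      obtain ⟨A, hA, hA2⟩ := exists_index_two_of_pow hKi
      exact hno A hA hA2
  obtain ⟨s, hs, hw⟩ := h.exists_conj_class hwS hwσ
  have hmem := conj_mem_of_normalizer (hNn (hSL hs)) hwN
  rcases hw with e | e
  · rw [e] at hmem
    obtain ⟨P, j, hj, ⟨eP⟩⟩ := h.exists_dihedral_sylow (M := N) (Dihedral.four_le htN hmem)
    obtain ⟨g, -, hg, -⟩ := exists_cycle hno P hj eP (v := ⟨_, htN⟩) (w := ⟨_, hmem⟩)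
      (by rw [Subgroup.orderOf_mk]; exact h.orderOf_central) (by rw [Subgroup.orderOf_mk]; exact h.orderτ)
      (Subtype.ext h.commute_central_tau.eq) (fun e1 => h.central_ne_tau (congrArg Subtype.val e1))
    exact ⟨g, hNL g.2, Or.inl (congrArg Subtype.val hg)⟩
  · rw [e] at hmem
    obtain ⟨P, j, hj, ⟨eP⟩⟩ := h.symm.exists_dihedral_sylow (M := N) (Dihedral.four_le htN hmem)
    obtain ⟨g, -, hg, -⟩ := exists_cycle hno P hj eP (v := ⟨_, htN⟩) (w := ⟨_, hmem⟩)
      (by rw [Subgroup.orderOf_mk]; exact h.orderOf_central) (by rw [Subgroup.orderOf_mk]; exact h.symm.orderτ)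
      (Subtype.ext h.symm.commute_central_tau.eq) (fun e1 => h.symm.central_ne_tau (congrArg Subtype.val e1))
    exact ⟨g, hNL g.2, Or.inr (congrArg Subtype.val hg)⟩

end Hyp

end Cfsg.Agent.Invol.GW.Dihedral
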