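import Cfsg.Agent.Lib.Invol.GW.Dihedral.ThreeClassDefs
import Cfsg.Agent.Lib.Invol.GW.Dihedral.ThreeClassBase
import Cfsg.Agent.Lib.Invol.GW.Dihedral.TwoClassProducer
import Cfsg.Agent.Lib.Invol.GW.Klein.ThreeClassSteps
import Cfsg.Agent.Lib.Grp.TwoSymFour.Known
import Cfsg.Agent.Lib.Alt.AutAlternating

/-!
# Gorenstein–Walter, dihedral: the action of a local subgroup that is not constrained on its socle

Such a subgroup `H` contains a perfect subgroup `E` centralising the core of `H` and inducing all inner automorphisms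
of the simple socle; `E` lies in no subgroup with the three-class property.
-/

set_option autoImplicit false
set_option linter.unusedSectionVars false
set_option linter.style.haveILetI false

namespace Cfsg.Agent.Invol.GW.Dihedral

open Subgroup Klein Transfer.Loc

universe u

/-- The facts on automorphisms for the possible socles. -/
structure AlgDone : Prop where
  seven : AlgFacts (alternatingGroup (Fin 7))
  psl : ∀ (F : Type) [Field F] [Fintype F], Odd (Fintype.card F) → 5 ≤ Fintype.card F →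
    AlgFacts (Matrix.ProjectiveSpecialLinearGroup (Fin 2) F)

variable {G : Type u} [Group G] [Finite G]

/-- The data of a local subgroup that is not constrained. -/
structure LocalAct (t : G) (S H E : Subgroup G) {Q : Type} [Group Q] (Θ : ↥H →* MulAut Q) : Prop where
  act : ActData H Θ
  facts : AlgFacts Q
  noEight : NoEight Θ.range
  le : E ≤ H
  cover : ∀ α ∈ Cfsg.Inn Q, ∃ e : ↥H, (e : G) ∈ E ∧ Θ e = α
  comm : ∀ x ∈ E, ∀ y ∈ oddOf H, Commute x y
  not_three : ∀ (v : G) (M : Subgroup G), ThreeClass.Three v M → ¬ E ≤ M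
  central : S ≤ H → ∀ ht : t ∈ H, Θ ⟨t, ht⟩ ∈ Cfsg.Inn Q

/-- A core extended by a 2-group is solvable. -/
theorem isSolvable_of_twoKind {L : Subgroup G} (hL : TwoKind L) : Group.IsSolvable ↥L := by
  haveI : Fact (Nat.Prime 2) := ⟨Nat.prime_two⟩
  haveI : (Cfsg.oddCore ↥L).Normal := Grp.pPrimeCore_isNormal
  haveI : Group.IsSolvable ↥(Cfsg.oddCore ↥L) := Klein.isSolvable_of_odd (by
    have h1 := odd_card_oddOf L
    rwa [oddOf, card_map_of_injective L.subtype_injective] at h1)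
  haveI : Group.IsSolvable (↥L ⧸ Cfsg.oddCore ↥L) := by
    haveI := IsPGroup.isNilpotent hL
    infer_instance
  exact ThreeClass.isSolvable_of_extension (Cfsg.oddCore ↥L)

/-- With the three-class property the quotient by the core is a 2-group. -/
theorem twoKind_of_three {v : G} {M : Subgroup G} (hM : ThreeClass.Three v M) : TwoKind M := by
  haveI : (Cfsg.oddCore ↥M).Normal := Grp.pPrimeCore_isNormal
  intro q
  obtain ⟨x, rfl⟩ := QuotientGroup.mk_surjective q
  obtain ⟨k, m, hm, hkm⟩ := Nat.exists_eq_two_pow_mul_odd (orderOf_pos x).ne'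
  refine ⟨k, ?_⟩
  rw [← QuotientGroup.mk_pow, QuotientGroup.eq_one_iff]
  have ho : orderOf (x ^ 2 ^ k) = m := by
    rw [orderOf_pow' x (by positivity), hkm, Nat.gcd_mul_right_left, Nat.mul_div_cancel_left _ (by positivity)]
  obtain ⟨y, hy, e⟩ := hM.mem _ (x ^ 2 ^ k).2 (by rw [Subgroup.orderOf_coe, ho]; exact hm)
  rwa [← show y = x ^ 2 ^ k from M.subtype_injective e]

namespace Hyp

variable {S : Sylow 2 G} {σ τ : G} {n : ℕ} (h : Hyp S σ τ n)
include h

/-- In the Sylow subgroup an involution commuting with two others is their product. -/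
theorem eq_of_three_commuting {a b c : G} (ha : orderOf a = 2) (hb : b * b = 1) (hb1 : b ≠ 1) (hba : b ≠ a)
    (hc : c * c = 1) (hab : Commute a b) (hac : Commute a c) (hbc : Commute b c) :
    c = 1 ∨ c = a ∨ c = b ∨ c = a * b := by
  haveI : Fact (Nat.Prime 2) := ⟨Nat.prime_two⟩
  obtain ⟨g, hg⟩ := isConj_iff.1 (h.one _ _ ha h.orderOf_central)
  set C := centralizer ({central σ n} : Set G) with hC
  have hmemC : ∀ x : G, Commute a x → g * x * g⁻¹ ∈ C := fun x hx =>
    mem_centralizer_singleton_iff.2 (hg ▸ (hx.symm.conj g).eq)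
  -- the two others generate a 2-group
  set A := zpowers (g * b * g⁻¹) with hA
  set B := zpowers (g * c * g⁻¹) with hB
  have hp : ∀ x : G, x * x = 1 → IsPGroup 2 (zpowers (g * x * g⁻¹)) := fun x hx y => by
    obtain ⟨i, hi⟩ := mem_zpowers_iff.1 y.2
    refine ⟨1, Subtype.ext ?_⟩
    show (y : G) ^ (2 ^ 1) = 1
    rw [pow_one, ← hi, ← zpow_natCast, ← zpow_mul, mul_comm, zpow_mul, zpow_natCast, pow_two,
      show g * x * g⁻¹ * (g * x * g⁻¹) = g * (x * x) * g⁻¹ by group, hx, mul_one, mul_inv_cancel, one_zpow]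
  have hBA : B ≤ normalizer (A : Set G) := by
    rw [hB, zpowers_le]
    refine ThreeClass.mem_normalizer_zpowers ?_
    rw [((hbc.conj g).symm).eq, mul_inv_cancel_right]
    exact mem_zpowers _
  obtain ⟨d, hd, hdS⟩ := exists_conj_le_sylow S h.le_centralizer
    (sup_le (zpowers_le.2 (hmemC b hab)) (zpowers_le.2 (hmemC c hac)))
    ((hp b hb).to_sup_of_normal_left' (hp c hc) hBA)
  set k := d * g with hk
  have hkx : ∀ x : G, k * x * k⁻¹ = d * (g * x * g⁻¹) * d⁻¹ := fun x => by rw [hk]; group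
  have hka : k * a * k⁻¹ = central σ n := by
    rw [hkx, hg, mem_centralizer_singleton_iff.1 hd, mul_inv_cancel_right]
  have hbS : k * b * k⁻¹ ∈ (S : Subgroup G) := hkx b ▸ hdS _ (mem_sup_left (mem_zpowers _))
  have hcS : k * c * k⁻¹ ∈ (S : Subgroup G) := hkx c ▸ hdS _ (mem_sup_right (mem_zpowers _))
  have hinj : ∀ x y : G, k * x * k⁻¹ = k * y * k⁻¹ → x = y := fun x y e =>
    mul_left_cancel (mul_right_cancel e)
  have hbσ : k * b * k⁻¹ ∉ zpowers σ := fun hmem => hba (hinj b a ((h.eq_central hmem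
    (by rw [show k * b * k⁻¹ * (k * b * k⁻¹) = k * (b * b) * k⁻¹ by group, hb, mul_one, mul_inv_cancel])
    fun e => hb1 (conj_eq_one_iff.1 e)).trans hka.symm))
  have h1 := h.data.centralizer_reflection h.two_pow_eq hbS hbσ hcS ((hbc.symm).conj k).eq
  rw [h.exp_eq] at h1
  change k * c * k⁻¹ = 1 ∨ k * c * k⁻¹ = central σ n ∨ k * c * k⁻¹ = k * b * k⁻¹ ∨
    k * c * k⁻¹ = central σ n * (k * b * k⁻¹) at h1
  rcases h1 with e | e | e | e
  · exact Or.inl (conj_eq_one_iff.1 e)
  · exact Or.inr (Or.inl (hinj _ _ (e.trans hka.symm)))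
  · exact Or.inr (Or.inr (Or.inl (hinj _ _ e)))
  · refine Or.inr (Or.inr (Or.inr (hinj _ _ (e.trans ?_))))
    rw [← hka]
    group

/-- The image of a local subgroup has no elementary abelian subgroup of order eight. -/
theorem noEight_range {H : Subgroup G} {Q : Type} [Group Q] {Θ : ↥H →* MulAut Q} (hact : ActData H Θ) :
    NoEight Θ.range := by
  rintro _ ⟨x, rfl⟩ _ ⟨y, rfl⟩ _ ⟨z, rfl⟩ hx hy hz hne hxy hxz hyz
  obtain ⟨r, hr⟩ : Odd (Nat.card ↥(oddOf H)) := odd_card_oddOf H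
  -- involutions over involutions
  have hlift : ∀ w : ↥H, orderOf (Θ w) = 2 →
      Θ (w ^ (2 * r + 1)) = Θ w ∧ w ^ (2 * r + 1) * w ^ (2 * r + 1) = 1 := by
    intro w hw
    have h2 : Θ w ^ 2 = 1 := hw ▸ pow_orderOf_eq_one _
    refine ⟨by rw [map_pow, pow_succ, pow_mul, h2, one_pow, one_mul], Subtype.ext ?_⟩
    rw [← pow_add, ← two_mul, pow_mul, SubmonoidClass.coe_pow, ← hr, OneMemClass.coe_one]
    exact orderOf_dvd_iff_pow_eq_one.1 ((oddOf H).orderOf_dvd_natCard
      ((hact.ker (w ^ 2)).1 (by rw [map_pow, h2])))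
  obtain ⟨hi, hii⟩ := hlift x hx
  set i := x ^ (2 * r + 1)
  obtain ⟨y', hy', hyi⟩ := hact.exists_lift_commute hii (x := y) (by rw [hi]; exact hxy.symm)
  obtain ⟨hj, hjj⟩ := hlift y' (by rw [hy', hy])
  set j := y' ^ (2 * r + 1)
  have hji : Commute j i := hyi.pow_left _
  rw [hy'] at hj
  obtain ⟨z', hz', hzi, hzj⟩ := hact.exists_lift_commute₂ hii hjj hji.symm (x := z)
    (by rw [hi]; exact hxz.symm) (by rw [hj]; exact hyz.symm)
  obtain ⟨hk, hkk⟩ := hlift z' (by rw [hz', hz])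
  set k := z' ^ (2 * r + 1)
  have hki : Commute k i := hzi.pow_left _
  have hkj : Commute k j := hzj.pow_left _
  rw [hz'] at hk
  have hne1 : ∀ {w w' : ↥H}, Θ w = Θ w' → orderOf (Θ w') = 2 → (w : G) ≠ 1 := fun {w w'} e ho e1 => by
    rw [← e, show w = 1 from Subtype.ext e1, map_one, orderOf_one] at ho
    omega
  have hia : orderOf (i : G) = 2 := orderOf_eq_prime
    (by rw [pow_two]; exact congrArg Subtype.val hii) (hne1 hi hx)
  rcases h.eq_of_three_commuting hia (congrArg Subtype.val hjj) (hne1 hj hy)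
      (fun e => hne (by rw [← hi, ← hj, show j = i from Subtype.ext e]))
      (congrArg Subtype.val hkk) (congrArg Subtype.val hji.symm.eq) (congrArg Subtype.val hki.symm.eq)
      (congrArg Subtype.val hkj.symm.eq) with e | e | e | e
  · exact absurd e (hne1 hk hz)
  · exact Or.inl (by rw [← hi, ← hk, show k = i from Subtype.ext e])
  · exact Or.inr (Or.inl (by rw [← hj, ← hk, show k = j from Subtype.ext e]))
  · exact Or.inr (Or.inr (by rw [← hi, ← hj, ← hk, ← map_mul, show k = i * j from Subtype.ext e]))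

/-- The action of a subgroup with simple socle that is not constrained. -/
theorem localAct_of_socle {H N : Subgroup G} {Q : Type} [Group Q] [IsSimpleGroup Q] {π : ↥N →* Q}
    (hd : SocleData H N π) (hQ : commutator Q = ⊤) (h2 : 2 ∣ Nat.card Q) (hfacts : AlgFacts Q)
    (hnc : ¬ H ⊓ centralizer (Cfsg.fittingOf H : Set G) ≤ Cfsg.fittingOf H) :
    ∃ (Θ : ↥H →* MulAut Q) (E : Subgroup G), LocalAct (central σ n) S H E Θ := by
  obtain ⟨Θ, hact, hΘ⟩ := hd.exists_action
  set Γ := H ⊓ centralizer (Cfsg.fittingOf H : Set G) with hΓ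
  have hΓn : H ≤ normalizer (Γ : Set G) := Grp.le_normalizer_inf' le_normalizer
    ((le_normalizer_fittingOf H).trans normalizer_le_normalizer_centralizer)
  set 𝒦 := {K : Subgroup G | K ≤ Γ ⊓ N ∧ H ≤ normalizer (K : Set G) ∧
    ∀ q : Q, ∃ y : ↥N, (y : G) ∈ K ∧ π y = q} with h𝒦
  have hne : 𝒦.Nonempty := by
    refine ⟨Γ ⊓ N, le_rfl, Grp.le_normalizer_inf' hΓn hd.normal, ?_⟩
    haveI : (Γ.subgroupOf N).Normal := normal_subgroupOf_of_le_normalizer (hd.le.trans hΓn)
    rcases ((inferInstance : (Γ.subgroupOf N).Normal).map π hd.surj).eq_bot_or_eq_top with e | e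
    · refine absurd (fun x hx => ThreeClass.mem_fittingOf_of_core (hd.self x hx.1 fun y hy => ?_) hx.2) hnc
      have hm : x * y * x⁻¹ * y⁻¹ ∈ N :=
        mul_mem (conj_mem_of_normalizer (hd.normal hx.1) hy) (inv_mem hy)
      refine (hd.ker ⟨_, hm⟩).1 ?_
      rw [← mem_bot, ← e]
      refine mem_map_of_mem π (mem_subgroupOf.2 ?_)
      show x * y * x⁻¹ * y⁻¹ ∈ Γ
      rw [show x * y * x⁻¹ * y⁻¹ = x * (y * x⁻¹ * y⁻¹) by group]
      exact mul_mem hx (conj_mem_of_normalizer (hΓn (hd.le hy)) (inv_mem hx))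
    · intro q
      obtain ⟨y, hy, rfl⟩ := Subgroup.mem_map.1 (e.symm ▸ mem_top q : q ∈ (Γ.subgroupOf N).map π)
      exact ⟨y, ⟨mem_subgroupOf.1 hy, y.2⟩, rfl⟩
  obtain ⟨E, hE, hmin⟩ := Set.exists_min_image 𝒦 (fun K => Nat.card ↥K) 𝒦.toFinite hne
  obtain ⟨hEΓN, hEn, hsurj⟩ := hE
  have hEN : E ≤ N := hEΓN.trans inf_le_right
  have hEH : E ≤ H := hEN.trans hd.le
  set f : ↥E →* Q := π.comp (Subgroup.inclusion hEN) with hf
  have hfs : Function.Surjective f := fun q => by
    obtain ⟨y, hy, rfl⟩ := hsurj q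
    exact ⟨⟨y, hy⟩, rfl⟩
  -- perfect by minimality
  have hder : ⁅E, E⁆ ∈ 𝒦 := by
    have hle : ⁅E, E⁆ ≤ E := commutator_le.2 fun a ha b hb => by
      rw [commutatorElement_def]
      exact mul_mem (mul_mem (mul_mem ha hb) (inv_mem ha)) (inv_mem hb)
    refine ⟨hle.trans hEΓN, fun g hg => mem_normalizer_fintype fun x hx => ?_, fun q => ?_⟩
    · have h1 : ⁅E, E⁆ ≤ ⁅E, E⁆.comap (MulAut.conj g).toMonoidHom := commutator_le.2 fun a ha b hb => by
        rw [mem_comap, map_commutatorElement]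
        exact commutator_mem_commutator (conj_mem_of_normalizer (hEn hg) ha) (conj_mem_of_normalizer (hEn hg) hb)
      exact h1 hx
    · have hmap : (commutator ↥E).map f = ⊤ := by
        rw [_root_.commutator_def, map_commutator, map_top_of_surjective f hfs, ← _root_.commutator_def, hQ]
      obtain ⟨x, hx, rfl⟩ := Subgroup.mem_map.1 (hmap.symm ▸ mem_top q : q ∈ (commutator ↥E).map f)
      refine ⟨Subgroup.inclusion hEN x, ?_, rfl⟩
      exact E.map_subtype_commutator.le ⟨x, hx, rfl⟩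
  have hperf : commutator ↥E = ⊤ := by
    refine map_injective E.subtype_injective ?_
    rw [E.map_subtype_commutator, eq_of_le_of_card_ge ((commutator_le.2 fun a ha b hb => by
      rw [commutatorElement_def]
      exact mul_mem (mul_mem (mul_mem ha hb) (inv_mem ha)) (inv_mem hb)) : ⁅E, E⁆ ≤ E) (hmin _ hder),
      ← MonoidHom.range_eq_map, range_subtype]
  refine ⟨Θ, E, hact, hfacts, h.noEight_range hact, hEH, ?_, ?_, fun v M hM hEM => ?_, fun hSH ht => ?_⟩
  · rintro _ ⟨q, rfl⟩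
    obtain ⟨y, hy, rfl⟩ := hsurj q
    exact ⟨⟨y, hd.le y.2⟩, hy, hΘ y⟩
  · intro x₀ hx₀ y hy
    -- commutators with `y` are central in `E`
    have hc : ∀ x : ↥E, (x : G) * y * (x : G)⁻¹ * y⁻¹ ∈ E ∧
        ∀ e : ↥E, Commute ((x : G) * y * (x : G)⁻¹ * y⁻¹) e := by
      intro x
      have h1 : (x : G) * y * (x : G)⁻¹ * y⁻¹ ∈ E := by
        rw [show (x : G) * y * (x : G)⁻¹ * y⁻¹ = x * (y * (x : G)⁻¹ * y⁻¹) by group]
        exact mul_mem x.2 (conj_mem_of_normalizer (hEn (oddOf_le H hy)) (inv_mem x.2))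
      refine ⟨h1, fun e => ?_⟩
      have h2 := ThreeClass.mem_fittingOf_of_core (mul_mem (conj_mem_oddOf (hEH x.2) hy) (inv_mem hy))
        (hEΓN h1).1.2
      exact ((mem_centralizer_iff.1 (hEΓN e.2).1.2 _ h2 :) : Commute _ (e : G))
    obtain ⟨c, hcval⟩ : ∃ c : ↥E →* ↥(center ↥E),
        ∀ x : ↥E, ((c x : ↥E) : G) = (x : G) * y * (x : G)⁻¹ * y⁻¹ := ⟨MonoidHom.mk'
      (fun x => ⟨⟨_, (hc x).1⟩, Subgroup.mem_center_iff.2 fun e => Subtype.ext ((hc x).2 e).symm.eq⟩)
      fun a b => Subtype.ext (Subtype.ext (by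
        show ((a * b : ↥E) : G) * y * ((a * b : ↥E) : G)⁻¹ * y⁻¹ =
          (a : G) * y * (a : G)⁻¹ * y⁻¹ * ((b : G) * y * (b : G)⁻¹ * y⁻¹)
        rw [Subgroup.coe_mul, ((hc a).2 ⟨_, (hc b).1⟩).eq]
        have h1 := ((hc b).2 a).symm.eq
        show (a : G) * b * y * ((a : G) * b)⁻¹ * y⁻¹ = _
        rw [show (a : G) * b * y * ((a : G) * b)⁻¹ * y⁻¹ =
          (a : G) * ((b : G) * y * (b : G)⁻¹ * y⁻¹) * (y * (a : G)⁻¹ * y⁻¹) by group, h1]
        group)), fun _ => rfl⟩
    have hab : commutator ↥E ≤ c.ker := by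
      rw [_root_.commutator_def, commutator_le]
      intro a _ b _
      rw [MonoidHom.mem_ker, map_commutatorElement, commutatorElement_eq_one_iff_mul_comm]
      exact Subtype.ext (Subgroup.mem_center_iff.1 (c b).2 _)
    have h3 : x₀ * y * x₀⁻¹ * y⁻¹ = 1 := by
      have h1 := MonoidHom.mem_ker.1 (hab (hperf.symm ▸ mem_top (⟨x₀, hx₀⟩ : ↥E)))
      have h2 := hcval ⟨x₀, hx₀⟩
      rw [h1] at h2
      exact h2.symm
    exact mul_inv_eq_iff_eq_mul.1 (mul_inv_eq_one.1 h3)
  · haveI := Grp.isSolvable_of_le hEM (isSolvable_of_twoKind (twoKind_of_three hM))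
    haveI : Group.IsSolvable Q := Group.isSolvable_of_surjective hfs
    exact (Group.IsSolvable.commutator_lt_top_of_nontrivial Q).ne hQ
  · have htN : central σ n ∈ N := h.central_mem_of_normal hSH hd.le hd.normal
      (h2.trans (Subgroup.card_dvd_of_surjective π hd.surj))
    exact ⟨π ⟨_, htN⟩, (hΘ ⟨_, htN⟩).symm⟩

/-- The action of a subgroup over a four group that is not constrained. -/
theorem exists_localAct (hA : AlgDone) {H : Subgroup G} (hH : H ≠ ⊤)
    (hVH : four (central σ n) τ ≤ H)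
    (hnc : ¬ H ⊓ centralizer (Cfsg.fittingOf H : Set G) ≤ Cfsg.fittingOf H) :
    ∃ (Q : Type) (_ : Group Q) (Θ : ↥H →* MulAut Q) (E : Subgroup G), LocalAct (central σ n) S H E Θ := by
  have hsolv : ¬ Group.IsSolvable ↥H := fun hs => hnc (by haveI := hs; exact centralizer_fittingOf_le H)
  obtain ⟨N, hN⟩ := h.exists_socle_of_not_twoKind hH hVH h.isKleinFour_four
    fun h2 => hsolv (isSolvable_of_twoKind h2)
  rcases hN with ⟨π, hd⟩ | ⟨F, _, _, hodd, h3, π, hd⟩
  · haveI : IsSimpleGroup (alternatingGroup (Fin 7)) := alternatingGroup.isSimpleGroup (by simp)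
    exact ⟨_, _, h.localAct_of_socle hd (commutator_alternatingGroup_eq_top (by simp)) (by
      rw [nat_card_alternatingGroup]
      simp only [Nat.card_eq_fintype_card, Fintype.card_fin]
      decide) hA.seven hnc⟩
  rcases Nat.lt_or_ge (Fintype.card F) 5 with h5 | h5
  · exfalso
    have hF : Fintype.card F = 3 := by
      obtain ⟨k, hk⟩ := hodd
      omega
    obtain ⟨g⟩ := Cfsg.Agent.PSLBin.psl_three_iso (E := F) hF
    obtain ⟨Θ, hact, -⟩ := hd.exists_action
    let c : Equiv.Perm (Fin 4) ≃* MulAut (alternatingGroup (Fin 4)) :=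
      MulEquiv.ofBijective MulAut.conjNormal
        (Cfsg.Agent.AltAut.conjNormal_bijective (by simp) (by simp))
    let Ψ : ↥H →* Equiv.Perm (Fin 4) := (c.symm.toMonoidHom.comp (MulAut.congr g).toMonoidHom).comp Θ
    refine hsolv ?_
    haveI := Grp.TwoSymFour.isSolvable_perm_four
    haveI : Group.IsSolvable ↥((oddOf H).subgroupOf H) := Klein.isSolvable_of_odd (by
      rw [Nat.card_congr (subgroupOfEquivOfLe (oddOf_le H)).toEquiv]
      exact odd_card_oddOf H)
    refine Group.isSolvable_of_ker_le_range ((oddOf H).subgroupOf H).subtype Ψ fun x hx => ?_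
    rw [range_subtype, mem_subgroupOf, ← hact.ker]
    exact (map_eq_one_iff (MulAut.congr g) (MulEquiv.injective _)).1
      ((map_eq_one_iff c.symm c.symm.injective).1 (MonoidHom.mem_ker.1 hx))
  · haveI := Klein.PSL.isSimple (F := F) h5
    have h2 : 2 ∣ Nat.card (Matrix.ProjectiveSpecialLinearGroup (Fin 2) F) := by
      obtain ⟨k, hk⟩ := hodd
      have h1 := Klein.PSL.card_mul (F := F) ⟨k, hk⟩
      rw [hk, Nat.add_sub_cancel] at h1
      exact ⟨(2 * k + 1) * (k * (k + 1)), Nat.eq_of_mul_eq_mul_left two_pos (h1.trans (by ring))⟩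
    exact ⟨_, _, h.localAct_of_socle hd (Klein.PSL.perfect h5) h2 (hA.psl F hodd h5) hnc⟩

end Hyp

end Cfsg.Agent.Invol.GW.Dihedral
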