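import Cfsg.Agent.Lib.Invol.GW.Dihedral.Setup
import Cfsg.Agent.Lib.Classical.PSLFieldAut

/-!
# Gorenstein–Walter, dihedral: what the three-class case needs from the automorphisms of the socle

`Hb` stands for the image of a local subgroup in the automorphism group of its simple socle `Q`.
-/

set_option autoImplicit false
set_option linter.unusedSectionVars false

namespace Cfsg.Agent.Invol.GW.Dihedral

open Subgroup

/-- No elementary abelian subgroup of order eight. -/
def NoEight {A : Type*} [Group A] (Hb : Subgroup A) : Prop :=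
  ∀ a ∈ Hb, ∀ b ∈ Hb, ∀ c ∈ Hb, orderOf a = 2 → orderOf b = 2 → orderOf c = 2 → a ≠ b → Commute a b →
    Commute a c → Commute b c → c = a ∨ c = b ∨ c = a * b

/-- Two commuting distinct involutions of `Hb`. -/
structure Pair {A : Type*} [Group A] (Hb : Subgroup A) (t u : A) : Prop where
  ht : t ∈ Hb
  hu : u ∈ Hb
  t2 : orderOf t = 2
  u2 : orderOf u = 2
  ne : t ≠ u
  comm : Commute t u

/-- The facts on the automorphism group of `Q`. -/
structure AlgFacts (Q : Type) [Group Q] : Prop where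
  /-- A `p`-group normalised by the pair and by the centraliser of `t` has nothing inverted by `t`. -/
  no_inverted : ∀ Hb : Subgroup (MulAut Q), Cfsg.Inn Q ≤ Hb → NoEight Hb → ∀ t u : MulAut Q, Pair Hb t u →
    ∀ (p : ℕ) [Fact p.Prime], ∀ P : Subgroup (MulAut Q), P ≤ Hb → IsPGroup p P → Odd (Nat.card P) →
    u ∈ normalizer (P : Set (MulAut Q)) → (∀ c ∈ Hb, Commute c t → c ∈ normalizer (P : Set (MulAut Q))) →
    ∀ r ∈ P, t * r * t⁻¹ = r⁻¹ → r = 1
  /-- An element inverted by `u` commuting with a nontrivial element fixed by `u` and inverted by `t` is trivial. -/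
  fixed : ∀ Hb : Subgroup (MulAut Q), Cfsg.Inn Q ≤ Hb → NoEight Hb → ∀ t u : MulAut Q, Pair Hb t u →
    ∀ x ∈ Hb, ∀ y ∈ Hb, Odd (orderOf x) → Odd (orderOf y) → x ≠ 1 → t * x * t⁻¹ = x⁻¹ → Commute u x →
    u * y * u⁻¹ = y⁻¹ → Commute y x → y = 1
  /-- Outer `t` and `t * u`: no odd prime occurs in the centralisers of both `t` and `u`. -/
  classes : ∀ Hb : Subgroup (MulAut Q), Cfsg.Inn Q ≤ Hb → NoEight Hb → ∀ t u : MulAut Q, Pair Hb t u →
    t ∉ Cfsg.Inn Q → t * u ∉ Cfsg.Inn Q → ∀ r : ℕ, r.Prime → r ≠ 2 → ∀ y ∈ Hb, ∀ y' ∈ Hb,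
    orderOf y = r → orderOf y' = r → Commute y t → u * y * u⁻¹ = y⁻¹ → Commute y' u → t * y' * t⁻¹ = y'⁻¹ →
    False

end Cfsg.Agent.Invol.GW.Dihedral
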