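import Cfsg.Agent.Lib.Invol.GW.Dihedral.ThreeClassAct

/-!
# Gorenstein–Walter, dihedral: what the generic three-class development needs from the local subgroups

A local subgroup containing a moved core, or over the normaliser of an inverted element of the only moved core, is
constrained: otherwise its action on the socle contradicts `AlgFacts`.
-/

set_option autoImplicit false
set_option linter.unusedSectionVars false
set_option linter.style.haveILetI false

namespace Cfsg.Agent.Invol.GW.Dihedral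

open Subgroup Klein Transfer.Loc
open scoped Pointwise

universe u

variable {G : Type u} [Group G] [Finite G]

namespace LocalAct

variable {t : G} {S H E : Subgroup G} {Q : Type} [Group Q] {Θ : ↥H →* MulAut Q} (A : LocalAct t S H E Θ)
include A

theorem commute_map {a b : G} (ha : a ∈ H) (hb : b ∈ H) (e : Commute a b) : Commute (Θ ⟨a, ha⟩) (Θ ⟨b, hb⟩) :=
  Commute.map (show Commute (⟨a, ha⟩ : ↥H) ⟨b, hb⟩ from Subtype.ext e.eq) Θ

theorem inverted_map {a b : G} (ha : a ∈ H) (hb : b ∈ H) (e : a * b * a⁻¹ = b⁻¹) :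
    Θ ⟨a, ha⟩ * Θ ⟨b, hb⟩ * (Θ ⟨a, ha⟩)⁻¹ = (Θ ⟨b, hb⟩)⁻¹ := by
  rw [← map_mul, ← map_inv, ← map_mul, ← map_inv]
  exact congrArg Θ (Subtype.ext e)

theorem odd_map {a : G} (ha : a ∈ H) (ho : Odd (orderOf a)) : Odd (orderOf (Θ ⟨a, ha⟩)) := by
  refine ho.of_dvd_nat ?_
  rw [show orderOf a = orderOf (⟨a, ha⟩ : ↥H) from (Subgroup.orderOf_mk a ha).symm]
  exact orderOf_map_dvd Θ _

theorem mem_core {a : G} (ha : a ∈ H) (e : Θ ⟨a, ha⟩ = 1) : a ∈ oddOf H := (A.act.ker _).1 e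

theorem pair {u : G} (htH : t ∈ H) (huH : u ∈ H) (ht : t * t = 1) (ht1 : t ≠ 1) (hu : u * u = 1) (hu1 : u ≠ 1)
    (hne : t ≠ u) (hc : Commute t u) : Pair Θ.range (Θ ⟨t, htH⟩) (Θ ⟨u, huH⟩) := by
  have hord : ∀ {a : G} (ha : a ∈ H), a * a = 1 → a ≠ 1 → orderOf (Θ ⟨a, ha⟩) = 2 := fun {a} ha h2 h1 =>
    orderOf_eq_prime (by rw [pow_two, ← map_mul, ← map_one Θ]; exact congrArg Θ (Subtype.ext h2))
      (A.act.ne_one_of_involution h2 h1)
  refine ⟨⟨_, rfl⟩, ⟨_, rfl⟩, hord htH ht ht1, hord huH hu hu1, fun e => ?_, A.commute_map _ _ hc⟩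
  refine A.act.ne_one_of_involution (x := ⟨t, htH⟩ * ⟨u, huH⟩) ?_ ?_ ?_
  · show t * u * (t * u) = 1
    rw [hc.symm.mul_mul_mul_comm, ht, hu, one_mul]
  · show t * u ≠ 1
    intro e1
    exact hne ((mul_eq_one_iff_eq_inv.1 e1).trans (inv_eq_of_mul_eq_one_right hu))
  · rw [map_mul, e, ← map_mul, ← map_one Θ]
    exact congrArg Θ (Subtype.ext hu)

/-- An inner involution does not invert an element of the core of odd order commuting with `E`. -/
theorem eq_one_of_inner {v : G} (hv : v ∈ H) (hin : Θ ⟨v, hv⟩ ∈ Cfsg.Inn Q) {x : G} (hx : x ∈ oddOf H)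
    (hinv : v * x * v⁻¹ = x⁻¹) : x = 1 := by
  obtain ⟨e, he, hΘe⟩ := A.cover _ hin
  have ho : (e : G)⁻¹ * v ∈ oddOf H :=
    A.mem_core (mul_mem (inv_mem e.2) hv) (by
      rw [show (⟨(e : G)⁻¹ * v, mul_mem (inv_mem e.2) hv⟩ : ↥H) = e⁻¹ * ⟨v, hv⟩ from rfl, map_mul, map_inv, hΘe,
        inv_mul_cancel])
  refine ThreeClass.eq_one_of_real (odd_card_oddOf H) ho hx ?_
  calc (e : G)⁻¹ * v * x * ((e : G)⁻¹ * v)⁻¹ = (e : G)⁻¹ * (v * x * v⁻¹) * e := by group
    _ = x⁻¹ := by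
      rw [hinv, mul_assoc, ← (A.comm _ he _ (inv_mem hx)).eq, ← mul_assoc, inv_mul_cancel, one_mul]

/-- An element of the core whose centraliser lies in a three-class subgroup is absurd. -/
theorem notMem_core {a v : G} {M : Subgroup G} (hM : ThreeClass.Three v M)
    (hle : ∀ g : G, Commute g a → g ∈ M) : a ∉ oddOf H :=
  fun ha => A.not_three v M hM fun e he => hle e (A.comm e he a ha)

end LocalAct

namespace Hyp

variable {S : Sylow 2 G} {σ τ : G} {n : ℕ} (h : Hyp S σ τ n)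
include h

/-- Above `C(t)`: the three-class property, or nothing inverted by `t`. -/
theorem above_centralizer {H : Subgroup G} (hH : IsCoatom H)
    (hlt : centralizer ({central σ n} : Set G) < H) :
    ThreeClass.Three (central σ n) H ∨ ∀ W : Subgroup G, Odd (Nat.card W) → H ≤ normalizer (W : Set G) →
      (∀ w ∈ W, central σ n * w * (central σ n)⁻¹ = w⁻¹) → W = ⊥ := by
  have hSH : (S : Subgroup G) ≤ H := h.le_centralizer.trans hlt.le
  by_cases hT : TwoKind H
  · exact Or.inl (h.three_of_twoKind hSH hT)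
  refine Or.inr fun W hodd hn hinv => eq_bot_iff.2 fun y hy => Subgroup.mem_bot.2 ?_
  obtain ⟨g, hg, hgt⟩ := h.exists_conj_of_not_twoKind hH.1 hlt.le hT
  obtain ⟨w, hwS, hwσ, hw⟩ : ∃ w ∈ (S : Subgroup G), w ∉ zpowers σ ∧ g * central σ n * g⁻¹ = w := by
    rcases hgt with e | e
    · exact ⟨τ, h.hτ, h.tau_notMem, e⟩
    · exact ⟨σ * τ, h.symm.hτ, h.symm.tau_notMem, e⟩
  have hwinv : ∀ z ∈ W, w * z * w⁻¹ = z⁻¹ := fun z hz => by
    have h1 := hinv _ (ThreeClass.conj_mem' (hn hg) hz)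
    calc w * z * w⁻¹ = g * (central σ n * (g⁻¹ * z * g) * (central σ n)⁻¹) * g⁻¹ := by rw [← hw]; group
      _ = z⁻¹ := by rw [h1]; group
  obtain ⟨s, hsS, -, hsw⟩ := h.exists_quarter
  have htwinv : central σ n * w * y * (central σ n * w)⁻¹ = y⁻¹ := by
    have h1 := hwinv _ (ThreeClass.conj_mem' (hn (hSH hsS)) hy)
    calc central σ n * w * y * (central σ n * w)⁻¹ = s * (w * (s⁻¹ * y * s) * w⁻¹) * s⁻¹ := by
          rw [← hsw w hwS hwσ]; group
      _ = y⁻¹ := by rw [h1]; group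
  have h4 : central σ n * w * y * (central σ n * w)⁻¹ = y := by
    calc central σ n * w * y * (central σ n * w)⁻¹ = central σ n * (w * y * w⁻¹) * (central σ n)⁻¹ := by group
      _ = (central σ n * y * (central σ n)⁻¹)⁻¹ := by rw [hwinv y hy]; group
      _ = y := by rw [hinv y hy, inv_inv]
  exact ThreeClass.eq_one_of_fixed_inverted (ThreeClass.odd_orderOf hodd hy) (ThreeClass.commute_of_conj h4) htwinv

/-- A subgroup containing a moved core is constrained. -/
theorem constrained_of_moved (hA : AlgDone) {u m : G} {M H : Subgroup G}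
    (T : ThreeClass.TC (four (central σ n) τ) (central σ n) u m M) (hH : H ≠ ⊤)
    (hVH : four (central σ n) τ ≤ H) {p : ℕ} (hp : p ∈ ThreeClass.mu (central σ n) M)
    (hFH : ThreeClass.F p M ≤ H)
    (hor : centralizer ({central σ n} : Set G) ≤ H ∨
      ∀ w : G, (∀ x ∈ ThreeClass.F p M, central σ n * x * (central σ n)⁻¹ = x⁻¹ → Commute x w) → w ∈ M) :
    H ⊓ centralizer (Cfsg.fittingOf H : Set G) ≤ Cfsg.fittingOf H := by
  by_contra hnc
  obtain ⟨Q, _, Θ, E, A⟩ := h.exists_localAct hA hH hVH hnc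
  haveI := Fact.mk hp.1
  set t := central σ n
  have htH : t ∈ H := hVH T.hyp.ht
  have huH : u ∈ H := hVH T.hyp.hu
  have hP : ∀ x ∈ ThreeClass.F p M, t * x * t⁻¹ = x⁻¹ → x ∈ oddOf H := by
    intro x hx hxt
    refine A.mem_core (hFH hx) ?_
    set f : ↥(ThreeClass.F p M) →* MulAut Q := Θ.comp (Subgroup.inclusion hFH) with hf
    haveI : Finite ↥(f.range : Set (MulAut Q)) := Finite.of_surjective f.rangeRestrict f.rangeRestrict_surjective
    refine A.facts.no_inverted Θ.range A.act.inn A.noEight _ _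
      (A.pair htH huH T.tt T.hyp.ht1 T.uu T.hyp.hu1 T.hyp.htu T.htu_comm) p f.range ?_ ?_ ?_ ?_ ?_ _
      ⟨⟨x, hx⟩, rfl⟩ (A.inverted_map htH (hFH hx) hxt)
    · rintro _ ⟨y, rfl⟩
      exact ⟨_, rfl⟩
    · exact (O_isPGroup p _).of_surjective f.rangeRestrict f.rangeRestrict_surjective
    · exact (T.odd_F p).of_dvd_nat (Subgroup.card_dvd_of_surjective f.rangeRestrict f.rangeRestrict_surjective)
    · refine mem_normalizer_fintype ?_
      rintro _ ⟨y, rfl⟩
      refine ⟨⟨u * y * u⁻¹, ThreeClass.conj_mem (T.V_le_normalizer_F p T.hyp.hu) y.2⟩, ?_⟩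
      show Θ ⟨u * y * u⁻¹, _⟩ = Θ ⟨u, huH⟩ * Θ (Subgroup.inclusion hFH y) * (Θ ⟨u, huH⟩)⁻¹
      rw [← map_inv, ← map_mul, ← map_mul]
      rfl
    · rintro _ ⟨c, rfl⟩ hc
      obtain ⟨c', hc', hcc⟩ := A.act.exists_lift_commute (v := ⟨t, htH⟩) (Subtype.ext T.tt) hc
      have hcM : (c' : G) ∈ M := T.le_M (ThreeClass.mem_centralizer_singleton.2 (congrArg Subtype.val hcc.eq))
      refine mem_normalizer_fintype ?_
      rintro _ ⟨y, rfl⟩
      refine ⟨⟨c' * y * (c' : G)⁻¹, ThreeClass.conj_mem (T.M_le_normalizer_F p hcM) y.2⟩, ?_⟩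
      show Θ ⟨(c' : G) * y * (c' : G)⁻¹, _⟩ = Θ c * Θ (Subgroup.inclusion hFH y) * (Θ c)⁻¹
      rw [← hc', ← map_inv, ← map_mul, ← map_mul]
      rfl
  rcases hor with hCH | hw
  · obtain ⟨x, hx, hx1, hxt, -⟩ := T.exists_inverted hp
    exact hx1 (A.eq_one_of_inner htH (A.central (h.le_centralizer.trans hCH) htH) (hP x hx hxt) hxt)
  · exact A.not_three t M T.three fun e he => hw e fun x hx hxt => (A.comm e he x (hP x hx hxt)).symm

/-- A subgroup over the normaliser of an inverted element of the only moved core is constrained. -/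
theorem constrained_of_only_moved (hA : AlgDone) (hl : ThreeClass.Loc (four (central σ n) τ) (central σ n))
    {u m : G} {M H : Subgroup G} (T : ThreeClass.TC (four (central σ n) τ) (central σ n) u m M)
    (hmax : ThreeClass.Max (four (central σ n) τ) (central σ n) M) (htwo : ThreeClass.Two M) {p : ℕ}
    (hp : p ∈ ThreeClass.mu (central σ n) M) {x : G} (hx : x ∈ ThreeClass.F p M) (hx1 : x ≠ 1)
    (hxt : central σ n * x * (central σ n)⁻¹ = x⁻¹) (hxu : Commute u x)
    (hfix : ∀ r : ℕ, r.Prime → r ≠ p → ∀ y ∈ ThreeClass.F r M, Commute (central σ n) y) (hH : IsCoatom H)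
    (hXH : normalizer (zpowers x : Set G) ≤ H) :
    H ⊓ centralizer (Cfsg.fittingOf H : Set G) ≤ Cfsg.fittingOf H := by
  haveI := Fact.mk hp.1
  set t := central σ n
  set V := four t τ
  have hVX : V ≤ normalizer (zpowers x : Set G) :=
    T.V_le_normalizer_zpowers (hxt ▸ inv_mem (mem_zpowers x))
      (by rw [hxu.eq, mul_inv_cancel_right]; exact mem_zpowers x)
  have hVH : V ≤ H := hVX.trans hXH
  have hcH : ∀ {g : G}, Commute g x → g ∈ H := fun {g} hg =>
    hXH (centralizer_le_normalizer _ (ThreeClass.mem_centralizer_zpowers hg))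
  have hp2 : p ≠ 2 := fun e => T.F_ne_bot_of_mu hp (e ▸ T.F_two)
  have hxo : Odd (orderOf x) := ThreeClass.odd_orderOf (T.odd_F p) hx
  by_contra hnc
  obtain ⟨Q, _, Θ, E, A⟩ := h.exists_localAct hA hH.1 hVH hnc
  have htH : t ∈ H := hVH T.hyp.ht
  have huH : u ∈ H := hVH T.hyp.hu
  have hpair := A.pair htH huH T.tt T.hyp.ht1 T.uu T.hyp.hu1 T.hyp.htu T.htu_comm
  have hxH : x ∈ H := hcH (Commute.refl x)
  suffices key : ∃ r : ℕ, r.Prime ∧ r ≠ 2 ∧ ∃ y : G, (∃ k : ℕ, y ^ r ^ k = 1) ∧ Commute y t ∧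
      u * y * u⁻¹ = y⁻¹ ∧ Commute y x ∧ m * y * m⁻¹ ∈ H ∧ ∀ g : G, Commute g y → g ∈ M by
    obtain ⟨r, hr, hr2, y, ⟨k, hk⟩, hyt, hyu, hyx, hy'H, hyM⟩ := key
    set y' := m * y * m⁻¹ with hy'
    have hy't : t * y' * t⁻¹ = y'⁻¹ := by
      have e1 : t = m * (t * u) * m⁻¹ := T.hnv.symm
      calc t * y' * t⁻¹ = m * (t * u * y * (t * u)⁻¹) * m⁻¹ := by
            conv_lhs => rw [e1, hy']
            group
        _ = m * (t * (u * y * u⁻¹) * t⁻¹) * m⁻¹ := by group
        _ = y'⁻¹ := by rw [hyu, hyt.inv_left.symm.eq, mul_inv_cancel_right, hy']; group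
    have hy'u : Commute y' u := by
      rw [hy', ← T.hnt]
      exact hyt.conj m
    have hyH : y ∈ H := hcH hyx
    have hny : y ∉ oddOf H := A.notMem_core T.three hyM
    have hny' : y' ∉ oddOf H := by
      refine A.notMem_core T.shift.three fun g hg => ?_
      rw [Grp.mem_smul_conj]
      refine hyM _ ?_
      have := hg.conj m⁻¹
      rwa [show m⁻¹ * g * m⁻¹⁻¹ = m⁻¹ * g * m by group, show m⁻¹ * y' * m⁻¹⁻¹ = y by rw [hy']; group] at this
    have hyo : Odd (orderOf y) := Odd.of_dvd_nat ((hr.odd_of_ne_two hr2).pow) (orderOf_dvd_of_pow_eq_one hk)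
    by_cases hxO : x ∈ oddOf H
    swap
    · refine hny (A.mem_core hyH (A.facts.fixed Θ.range A.act.inn A.noEight _ _ hpair _ ⟨⟨x, hxH⟩, rfl⟩ _
        ⟨⟨y, hyH⟩, rfl⟩ (A.odd_map hxH hxo) (A.odd_map hyH hyo) (fun e => hxO (A.mem_core hxH e))
        (A.inverted_map htH hxH hxt) (A.commute_map huH hxH hxu) (A.inverted_map huH hyH hyu)
        (A.commute_map hyH hxH hyx)))
    have htout : Θ ⟨t, htH⟩ ∉ Cfsg.Inn Q := fun hin => hx1 (A.eq_one_of_inner htH hin hxO hxt)
    have htuout : Θ ⟨t, htH⟩ * Θ ⟨u, huH⟩ ∉ Cfsg.Inn Q := fun hin => by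
      rw [← map_mul] at hin
      refine hx1 (A.eq_one_of_inner (mul_mem htH huH) hin hxO ?_)
      calc t * u * x * (t * u)⁻¹ = t * (u * x * u⁻¹) * t⁻¹ := by group
        _ = x⁻¹ := by rw [hxu.eq, mul_inv_cancel_right, hxt]
    -- powers whose images have prime order
    have hpow : ∀ {a : G} (ha : a ∈ H), a ^ r ^ k = 1 → a ∉ oddOf H →
        ∃ j : ℕ, orderOf (Θ ⟨a, ha⟩ ^ j) = r := by
      intro a ha hak hna
      have h1 : (Θ ⟨a, ha⟩) ^ r ^ k = 1 := by
        rw [← map_pow, ← map_one Θ]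
        exact congrArg Θ (Subtype.ext (by rw [SubmonoidClass.coe_pow]; exact hak))
      obtain ⟨i, -, hi⟩ := (Nat.dvd_prime_pow hr).1 (orderOf_dvd_of_pow_eq_one h1)
      rcases i with _ | i
      · rw [pow_zero, orderOf_eq_one_iff] at hi
        exact absurd (A.mem_core ha hi) hna
      · refine ⟨r ^ i, ?_⟩
        rw [orderOf_pow' _ (pow_ne_zero _ hr.ne_zero), hi, Nat.gcd_eq_right (pow_dvd_pow r i.le_succ),
          Nat.pow_div i.le_succ hr.pos, show i + 1 - i = 1 by omega, pow_one]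
    obtain ⟨i, hi⟩ := hpow hyH hk hny
    obtain ⟨j, hj⟩ := hpow hy'H (by rw [hy', conj_pow, hk, mul_one, mul_inv_cancel]) hny'
    refine A.facts.classes Θ.range A.act.inn A.noEight _ _ hpair htout htuout r hr hr2 _
      (pow_mem (MonoidHom.mem_range.2 ⟨_, rfl⟩) i) _ (pow_mem (MonoidHom.mem_range.2 ⟨_, rfl⟩) j) hi hj
      ((A.commute_map hyH htH hyt).pow_left i) ?_ ((A.commute_map hy'H huH hy'u).pow_left j) ?_
    · rw [← conj_pow, A.inverted_map huH hyH hyu, inv_pow]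
    · rw [← conj_pow, A.inverted_map htH hy'H hy't, inv_pow]
  -- the elements: from another core, or from the centre of the only moved one
  by_cases hE : ∀ r : ℕ, r.Prime → r ≠ p → ∀ e ∈ ThreeClass.F r M, t * u * e * (t * u)⁻¹ = e⁻¹ → e = 1
  swap
  · push Not at hE
    obtain ⟨r, hr, hrp, e, he, hei, he1⟩ := hE
    haveI := Fact.mk hr
    have hr2 : r ≠ 2 := by
      rintro rfl
      rw [T.F_two, Subgroup.mem_bot] at he
      exact he1 he
    have hte := hfix r hr hrp e he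
    have hue : u * e * u⁻¹ = e⁻¹ := by
      calc u * e * u⁻¹ = u * (t * e * t⁻¹) * u⁻¹ := by rw [hte.eq, mul_inv_cancel_right]
        _ = (u * t) * e * (u * t)⁻¹ := by group
        _ = e⁻¹ := by rw [← T.htu_comm.eq, hei]
    have hN : normalizer (zpowers e : Set G) ≤ M := T.normalizer_le_of_part hl hmax htwo
      (zpowers_ne_bot.2 he1) (zpowers_le.2 he) (ThreeClass.zpowers_le_centralizer e)
      (T.V_le_normalizer_zpowers (by rw [hte.eq, mul_inv_cancel_right]; exact mem_zpowers e)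
        (hue ▸ inv_mem (mem_zpowers e))) hp fun a ha =>
        centralizer_le (zpowers_le.2 he) (O_commute (Ne.symm hrp) (oddOf M) ha)
    refine ⟨r, hr, hr2, e, ThreeClass.mem_F_of_ppow (O_isPGroup r _) he, hte.symm, hue,
      (ThreeClass.commute_of_primes hrp (O_isPGroup r _) (O_isPGroup p _) he hx
        (T.M_le_normalizer_F p (T.F_le_M r he)) (T.M_le_normalizer_F r (T.F_le_M p hx))), ?_, fun g hg =>
      hN (centralizer_le_normalizer _ (ThreeClass.mem_centralizer_zpowers hg))⟩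
    exact hcH (T.commute_F_shift hx hxt hxu hr hrp _ (T.mem_F_shift he)).symm
  -- `⟨t, u⟩` centralises the other cores
  have hcent : ∀ r : ℕ, r.Prime → r ≠ p → ∀ y ∈ ThreeClass.F r M, Commute t y ∧ Commute u y := by
    intro r hr hrp y hy
    haveI := Fact.mk hr
    exact ⟨hfix r hr hrp y hy, T.htu_commute_of (hfix r hr hrp y hy)
      (ThreeClass.commute_of_no_inverted (T.hyp.mul_self T.hyp.tu_mem) (T.odd_F r)
        (T.V_le_normalizer_F r T.hyp.tu_mem) (hE r hr hrp) hy)⟩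
  have htt : t * (t * u) = u := by rw [← mul_assoc, T.tt, one_mul]
  have hVZ : V ≤ normalizer (Z p (oddOf M) : Set G) :=
    Grp.le_normalizer_inf' (T.V_le_normalizer_F p)
      ((T.V_le_normalizer_F p).trans normalizer_le_normalizer_centralizer)
  have hZodd : Odd (Nat.card ↥(Z p (oddOf M))) := (T.odd_F p).of_dvd_nat (card_dvd_of_le inf_le_left)
  have htu : ∀ z ∈ Z p (oddOf M), t * u * z * (t * u)⁻¹ = z⁻¹ := fun z hz =>
    ThreeClass.inverted_of_fixed_free (T.hyp.mul_self T.hyp.tu_mem) hZodd (hVZ T.hyp.tu_mem)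
      (fun c hc hcc => by_contra fun hc1 => T.false_of_fixed_center hl hmax htwo hcent hc hc1 hcc) hz
  have huZ : ∀ z ∈ Z p (oddOf M), u * z * u⁻¹ = z⁻¹ := fun z hz =>
    ThreeClass.inverted_of_fixed_free T.uu hZodd (hVZ T.hyp.hu)
      (fun c hc hcc => by_contra fun hc1 => T.swap.false_of_fixed_center hl hmax htwo
        (fun r hr hrp y hy => ⟨(hcent r hr hrp y hy).1, (hcent r hr hrp y hy).1.mul_left (hcent r hr hrp y hy).2⟩)
        hc hc1 (htt.symm ▸ hcc)) hz
  have htZ : ∀ z ∈ Z p (oddOf M), Commute z t := fun z hz => by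
    refine (ThreeClass.commute_of_conj ?_).symm
    calc t * z * t⁻¹ = t * u * (u⁻¹ * z * u) * (t * u)⁻¹ := by group
      _ = z := by
        rw [T.hyp.inv_eq T.hyp.hu]
        conv_lhs => rw [show u * z * u = u * z * u⁻¹ by rw [T.hyp.inv_eq T.hyp.hu], huZ z hz]
        rw [htu _ (inv_mem hz), inv_inv]
  have hxn : x ∈ normalizer (Z p (oddOf (MulAut.conj m • M)) : Set G) := by
    have hxM' : x ∈ MulAut.conj m • M := T.le_shift (ThreeClass.mem_centralizer_singleton.2 hxu.symm)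
    exact Grp.le_normalizer_inf' (T.shift.M_le_normalizer_F p)
      ((T.shift.M_le_normalizer_F p).trans normalizer_le_normalizer_centralizer) hxM'
  obtain ⟨b, ⟨hbZ, hbx⟩, hb1⟩ := (bot_or_exists_ne_one _).resolve_left
    (ThreeClass.exists_fixed ((O_isPGroup p _).to_le inf_le_left) ((O_isPGroup p _).to_le (zpowers_le.2 hx))
      (zpowers_le.2 hxn) (Z_ne_bot (T.F_shift_ne_bot (T.F_ne_bot_of_mu hp))))
  obtain ⟨z, hz, hbz⟩ := T.exists_of_mem_F_shift hbZ.1
  have hzZ : z ∈ Z p (oddOf M) := by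
    refine ⟨hz, ThreeClass.mem_centralizer_of_commute fun y hy => ?_⟩
    have h1 := (ThreeClass.commute_of_mem_centralizer hbZ.2 (T.mem_F_shift hy)).conj m⁻¹
    rwa [hbz, show m⁻¹ * (m * z * m⁻¹) * m⁻¹⁻¹ = z by group, show m⁻¹ * (m * y * m⁻¹) * m⁻¹⁻¹ = y by group] at h1
  have hz1 : z ≠ 1 := fun e => hb1 (by rw [hbz, e, mul_one, mul_inv_cancel])
  refine ⟨p, hp.1, hp2, z, ThreeClass.mem_F_of_ppow (O_isPGroup p _) hz, htZ z hzZ, huZ z hzZ,
    ThreeClass.commute_of_mem_centralizer hzZ.2 hx, ?_, fun g hg => ?_⟩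
  · rw [← hbz]
    exact hcH (ThreeClass.commute_of_mem_centralizer hbx (mem_zpowers x))
  · refine T.normalizer_le_of_center hl hmax htwo (q := p) (zpowers_ne_bot.2 hz1) (zpowers_le.2 hzZ)
      (T.V_le_normalizer_zpowers ?_ (huZ z hzZ ▸ inv_mem (mem_zpowers z)))
      (centralizer_le_normalizer _ (ThreeClass.mem_centralizer_zpowers hg))
    rw [(htZ z hzZ).symm.eq, mul_inv_cancel_right]
    exact mem_zpowers z

theorem loc (hA : AlgDone) : ThreeClass.Loc (four (central σ n) τ) (central σ n) :=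
  ⟨fun _ hH hlt => h.above_centralizer hH hlt,
    fun _ _ _ _ T hH hVH _ _ _ _ _ _ hp hFH hor => h.constrained_of_moved hA T hH.1 hVH hp hFH hor⟩

theorem step (hA : AlgDone) : ThreeClass.Step (four (central σ n) τ) (central σ n) :=
  fun _ _ _ _ T hmax htwo _ hp _ hx hx1 hxt hxu hfix hH hXH _ _ _ _ _ =>
    h.constrained_of_only_moved hA (h.loc hA) T hmax htwo hp hx hx1 hxt hxu hfix hH hXH

end Hyp

end Cfsg.Agent.Invol.GW.Dihedral
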