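import Cfsg.Agent.Lib.Invol.GW.Dihedral.Four
import Cfsg.Agent.Lib.Invol.GW.Klein.Count
import Cfsg.Agent.Lib.Grp.Frattini

/-!
# Gorenstein–Walter, dihedral Sylow subgroup of order at least eight, maximal centraliser: the tools

If the centraliser of `t` is maximal and `O_l(U)` is nontrivial, a `t`-invariant `l`-group normalised by
`Ω₁Z(O_l(U))` is centralised by `t` (`trick`).  An invariant Sylow subgroup of `U` centralised by no reflection
is a Sylow subgroup of the group whose normaliser lies in the centraliser.  When every `l`-group is centralised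
by an involution, an `l`-group whose normaliser fuses a four group lies in `R`.
-/

set_option autoImplicit false
set_option linter.unusedSectionVars false
set_option linter.style.haveILetI false

namespace Cfsg.Agent.Invol.GW.Dihedral

open Subgroup Klein
open scoped Pointwise

universe u

variable {G : Type u} [Group G]

/-- Every `l`-subgroup is centralised by an involution. -/
def InvolCentral (G : Type u) [Group G] (l : ℕ) : Prop :=
  ∀ T : Subgroup G, IsPGroup l T → ∃ s : G, orderOf s = 2 ∧ ∀ y ∈ T, Commute s y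

/-- No reflection of the Sylow subgroup centralises `Q`. -/
def Moved (S : Subgroup G) (σ : G) (Q : Subgroup G) : Prop :=
  ∀ w ∈ S, w ∉ zpowers σ → ∃ y ∈ Q, ¬ Commute w y

theorem conj_mem_of_normalizer {H : Subgroup G} {g x : G} (hg : g ∈ normalizer (H : Set G)) (hx : x ∈ H) :
    g * x * g⁻¹ ∈ H :=
  (mem_normalizer_iff.1 hg x).1 hx

theorem orderOf_conj (g x : G) : orderOf (g * x * g⁻¹) = orderOf x := MulEquiv.orderOf_eq (MulAut.conj g) x

theorem commute_conj_of {T : Subgroup G} {v g : G} (hv : ∀ y ∈ T, Commute v y)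
    (hg : g ∈ normalizer (T : Set G)) : ∀ y ∈ T, Commute (g * v * g⁻¹) y := fun y hy => by
  have := (hv _ (conj_mem_of_normalizer (inv_mem hg) hy)).conj g
  rwa [show g * (g⁻¹ * y * g⁻¹⁻¹) * g⁻¹ = y by group] at this

namespace Hyp

variable [Finite G] {S : Sylow 2 G} {σ τ : G} {n : ℕ} (h : Hyp S σ τ n)
include h

/-! ## The core of the centraliser -/

theorem commute_central {x : G} (hx : x ∈ coreCent (central σ n)) : Commute x (central σ n) :=
  mem_centralizer_singleton_iff.1 (h.coreCent_le hx)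

theorem odd_orderOf {K : Subgroup G} (hK : Odd (Nat.card ↥K)) {x : G} (hx : x ∈ K) : Odd (orderOf x) :=
  Odd.of_dvd_nat hK (K.orderOf_dvd_natCard hx)

theorem exists_quot_pow {x : G} (hx : x ∈ centralizer ({central σ n} : Set G)) :
    x ^ 2 ^ n ∈ coreCent (central σ n) := by
  set C := centralizer ({central σ n} : Set G)
  set U := coreCent (central σ n)
  haveI : (U.subgroupOf C).Normal := normal_subgroupOf_of_le_normalizer h.le_normalizer_coreCent
  have hidx : (U.subgroupOf C).index = 2 ^ n := by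
    have h1 : Nat.card (U.subgroupOf C) * (U.subgroupOf C).index = Nat.card C := card_mul_index _
    rw [Nat.card_congr (subgroupOfEquivOfLe h.coreCent_le).toEquiv, h.card_centralizer] at h1
    exact mul_left_cancel₀ (Nat.card_pos (α := U)).ne' h1
  have h2 := Subgroup.pow_index_mem (H := U.subgroupOf C) (⟨x, hx⟩ : ↥C)
  rw [hidx] at h2
  exact mem_subgroupOf.1 h2

theorem mem_coreCent_of_odd {x : G} (hx : Commute x (central σ n)) (ho : Odd (orderOf x)) :
    x ∈ coreCent (central σ n) := by
  have h1 := h.exists_quot_pow (mem_centralizer_singleton_iff.2 hx.eq)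
  obtain ⟨k, hk⟩ := exists_pow_eq_self_of_coprime
    (x := x) (n := 2 ^ n) ((Nat.coprime_two_left.2 ho).pow_left n)
  exact hk ▸ pow_mem h1 k

theorem mem_fixR {x : G} :
    x ∈ fixR (central σ n) τ ↔ x ∈ coreCent (central σ n) ∧ Commute x τ :=
  and_congr_right fun _ => mem_centralizer_singleton_iff

theorem odd_fixR : Odd (Nat.card ↥(fixR (central σ n) τ)) := odd_of_le inf_le_left h.odd_coreCent

theorem commute_of_mem_fixR {x : G} (hx : x ∈ fixR (central σ n) τ) {v : G}
    (hv : v ∈ four (central σ n) τ) : Commute x v := by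
  obtain ⟨hx1, hx2⟩ := h.mem_fixR.1 hx
  rcases h.mem_four_tau.1 hv with e | e | e | e <;> rw [e]
  exacts [Commute.one_right x, h.commute_central hx1, hx2, (h.commute_central hx1).mul_right hx2]

theorem four_le_centralizer_of_le_fixR {P : Subgroup G} (hP : P ≤ fixR (central σ n) τ) :
    four (central σ n) τ ≤ centralizer (P : Set G) := fun v hv =>
  mem_centralizer_iff.2 fun _ hy => (h.commute_of_mem_fixR (hP hy) hv).eq

theorem mem_fixR_of_commute {x : G} (ho : Odd (orderOf x)) (h1 : Commute x (central σ n))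
    (h2 : Commute x τ) : x ∈ fixR (central σ n) τ := h.mem_fixR.2 ⟨h.mem_coreCent_of_odd h1 ho, h2⟩

theorem le_fixR {K : Subgroup G} (hK : Odd (Nat.card ↥K))
    (hc : ∀ x ∈ K, ∀ v ∈ four (central σ n) τ, Commute x v) : K ≤ fixR (central σ n) τ := fun x hx =>
  h.mem_fixR_of_commute (h.odd_orderOf hK hx) (hc x hx _ (left_mem_four _ _)) (hc x hx _ (right_mem_four _ _))

theorem isSolvable_coreCent : Group.IsSolvable ↥(coreCent (central σ n)) :=
  isSolvable_of_odd h.odd_coreCent

theorem coprime_four {K : Subgroup G} (hK : Odd (Nat.card ↥K)) :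
    (Nat.card (four (central σ n) τ)).Coprime (Nat.card ↥K) := by
  rw [h.isKleinFour_four.card_four, show (4 : ℕ) = 2 ^ 2 from rfl]
  exact (Nat.coprime_two_left.2 hK).pow_left 2

theorem four_le_normalizer_coreCent :
    four (central σ n) τ ≤ normalizer (coreCent (central σ n) : Set G) :=
  h.four_le_centralizer.trans h.le_normalizer_coreCent

theorem sylow_le_normalizer_coreCent :
    (S : Subgroup G) ≤ normalizer (coreCent (central σ n) : Set G) :=
  h.le_centralizer.trans h.le_normalizer_coreCent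

theorem normalizer_four_le_normalizer_fixR :
    normalizer (four (central σ n) τ : Set G) ≤ normalizer (fixR (central σ n) τ : Set G) := by
  intro g hg
  have key : ∀ g ∈ normalizer (four (central σ n) τ : Set G), ∀ x ∈ fixR (central σ n) τ,
      g * x * g⁻¹ ∈ fixR (central σ n) τ := by
    intro g hg x hx
    have hc : ∀ v ∈ four (central σ n) τ, Commute (g * x * g⁻¹) v := fun v hv => by
      have := (h.commute_of_mem_fixR hx (conj_mem_of_normalizer (inv_mem hg) hv)).conj g
      rwa [show g * (g⁻¹ * v * g⁻¹⁻¹) * g⁻¹ = v by group] at this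
    exact h.mem_fixR_of_commute (by rw [orderOf_conj]; exact h.odd_orderOf h.odd_fixR hx)
      (hc _ (left_mem_four _ _)) (hc _ (right_mem_four _ _))
  exact mem_normalizer_iff.2 fun x => ⟨key g hg x, fun hx => by
    simpa [mul_assoc] using key g⁻¹ (inv_mem hg) _ hx⟩

theorem fuse_mem_normalizer {g : G} (h1 : g * central σ n * g⁻¹ = τ)
    (h2 : g * τ * g⁻¹ = central σ n * τ) : g ∈ normalizer (four (central σ n) τ : Set G) :=
  mem_normalizer_four (h1 ▸ right_mem_four _ _) (h2 ▸ mul_mem (left_mem_four _ _) (right_mem_four _ _))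

/-- A fused four group is not inside the centraliser of `t`. -/
theorem not_fuses_of_le {L : Subgroup G} (hL : L ≤ centralizer ({central σ n} : Set G)) :
    ¬ Fuses L (central σ n) τ := by
  rintro ⟨g, hg, h1, -⟩
  refine h.central_ne_tau ?_
  rw [← h1, mem_centralizer_singleton_iff.1 (hL hg), mul_inv_cancel_right]

/-- An element of the 2-group `⟨t, τ⟩` closure: a 2-element centralising it lies in it. -/
theorem mem_four_of_commute {D : Subgroup G} (hD : IsPGroup 2 D) (hVD : four (central σ n) τ ≤ D) {x : G}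
    (hx : x ∈ D) (h1 : Commute x (central σ n)) (h2 : Commute x τ) : x ∈ four (central σ n) τ := by
  haveI : Fact (Nat.Prime 2) := ⟨Nat.prime_two⟩
  set K := four (central σ n) τ ⊔ zpowers x
  have hKD : K ≤ D := sup_le hVD (zpowers_le.2 hx)
  have hKC : K ≤ centralizer ({central σ n} : Set G) :=
    sup_le h.four_le_centralizer (zpowers_le.2 (mem_centralizer_singleton_iff.2 h1.eq))
  obtain ⟨c, hc, hcK⟩ := exists_conj_le_sylow S h.le_centralizer hKC (hD.to_le hKD)
  have hw := hcK τ (mem_sup_left (right_mem_four _ _))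
  have hct : c * central σ n * c⁻¹ = central σ n := by
    rw [mem_centralizer_singleton_iff.1 hc, mul_inv_cancel_right]
  have hwσ : c * τ * c⁻¹ ∉ zpowers σ := fun hmem => by
    refine h.central_ne_tau (mul_left_cancel (mul_right_cancel (hct.trans ?_)))
    refine (h.eq_central hmem ?_ ?_).symm
    · rw [show c * τ * c⁻¹ * (c * τ * c⁻¹) = c * (τ * τ) * c⁻¹ by group, h.tau_mul_self]
      group
    · rw [ne_eq, conj_eq_one_iff]
      exact h.tau_ne_one
  have h3 := h.data.centralizer_reflection h.two_pow_eq hw hwσ (hcK x (mem_sup_right (mem_zpowers x)))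
    (h2.conj c).eq
  rw [h.exp_eq] at h3
  refine h.mem_four_tau.2 ?_
  change _ ∨ c * x * c⁻¹ = central σ n ∨ _ ∨ c * x * c⁻¹ = central σ n * _ at h3
  rcases h3 with e | e | e | e
  · exact Or.inl (conj_eq_one_iff.1 e)
  · exact Or.inr (Or.inl (mul_left_cancel (mul_right_cancel (e.trans hct.symm))))
  · exact Or.inr (Or.inr (Or.inl (mul_left_cancel (mul_right_cancel e))))
  · refine Or.inr (Or.inr (Or.inr (mul_left_cancel (a := c) (mul_right_cancel (b := c⁻¹) ?_))))
    rw [e, show c * (central σ n * τ) * c⁻¹ = (c * central σ n * c⁻¹) * (c * τ * c⁻¹) by group, hct]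

/-! ## Groups centralised by involutions -/

/-- An invariant `l`-group is centralised by an involution of the four group. -/
theorem exists_four_centralizes {l : ℕ} (hI : InvolCentral G l) {T : Subgroup G} (hT : IsPGroup l T)
    (hTV : four (central σ n) τ ≤ normalizer (T : Set G)) :
    ∃ v ∈ four (central σ n) τ, v ≠ 1 ∧ ∀ y ∈ T, Commute v y := by
  haveI : Fact (Nat.Prime 2) := ⟨Nat.prime_two⟩
  obtain ⟨s, hs, hsT⟩ := hI T hT
  set X := normalizer (T : Set G) with hX
  obtain ⟨D, hD⟩ := (h.isPGroup_four.of_equiv (subgroupOfEquivOfLe hTV).symm).exists_le_sylow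
  set N := (centralizer (T : Set G)).subgroupOf X with hN
  haveI hNn : N.Normal := normal_subgroupOf_of_le_normalizer fun g hg => by
    refine mem_normalizer_iff.2 fun x => ⟨fun hx => ?_, fun hx => ?_⟩
    · exact mem_centralizer_iff.2 fun y hy =>
        (commute_conj_of (fun z hz => (mem_centralizer_iff.1 hx z hz).symm) hg y hy).eq.symm
    · refine mem_centralizer_iff.2 fun y hy => ?_
      have := commute_conj_of (v := g * x * g⁻¹) (fun z hz => (mem_centralizer_iff.1 hx z hz).symm)
        (inv_mem hg) y hy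
      rw [show g⁻¹ * (g * x * g⁻¹) * g⁻¹⁻¹ = x by group] at this
      exact this.eq.symm
  have hsX : s ∈ X := centralizer_le_normalizer _ (mem_centralizer_iff.2 fun y hy => (hsT y hy).eq.symm)
  have hsp : IsPGroup 2 (zpowers (⟨s, hsX⟩ : ↥X)) :=
    isPGroup_zpowers (n := 1) (by rw [Subgroup.orderOf_mk, hs, pow_one])
  obtain ⟨D', hD'⟩ := hsp.exists_le_sylow
  obtain ⟨c, hc⟩ := MulAction.exists_smul_eq ↥X D' D
  have hmem : c * (⟨s, hsX⟩ : ↥X) * c⁻¹ ∈ (N ⊓ (D : Subgroup ↥X) : Subgroup ↥X) := by
    refine ⟨hNn.conj_mem _ (mem_subgroupOf.2 (mem_centralizer_iff.2 fun y hy => (hsT y hy).eq.symm)) c, ?_⟩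
    rw [← hc, Sylow.coe_subgroup_smul]
    exact ⟨_, hD' (mem_zpowers _), rfl⟩
  haveI : Group.IsNilpotent ↥(D : Subgroup ↥X) := D.isPGroup'.isNilpotent
  have hne : N.subgroupOf (D : Subgroup ↥X) ≠ ⊥ := fun e => by
    have h1 : (⟨_, hmem.2⟩ : ↥(D : Subgroup ↥X)) ∈ N.subgroupOf (D : Subgroup ↥X) := hmem.1
    rw [e, mem_bot] at h1
    have h2 := orderOf_conj c (⟨s, hsX⟩ : ↥X)
    rw [show c * (⟨s, hsX⟩ : ↥X) * c⁻¹ = 1 from congrArg Subtype.val h1, orderOf_one, Subgroup.orderOf_mk,
      hs] at h2
    omega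
  obtain ⟨z, ⟨hzN, hzc⟩, hz1⟩ := (bot_or_exists_ne_one _).resolve_left
    (Grp.inf_center_ne_bot (N.subgroupOf (D : Subgroup ↥X)) hne)
  have hzV : ∀ v ∈ four (central σ n) τ, Commute ((z : ↥X) : G) v := fun v hv =>
    (congrArg (fun y : ↥(D : Subgroup ↥X) => ((y : ↥X) : G))
      (mem_center_iff.1 hzc ⟨⟨v, hTV hv⟩, hD (mem_subgroupOf.2 hv)⟩)).symm
  refine ⟨_, h.mem_four_of_commute (D := (D : Subgroup ↥X).map X.subtype) (D.isPGroup'.map _)
    (fun v hv => ⟨⟨v, hTV hv⟩, hD (mem_subgroupOf.2 hv), rfl⟩) ⟨z, z.2, rfl⟩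
    (hzV _ (left_mem_four _ _)) (hzV _ (right_mem_four _ _)), fun e => hz1 (Subtype.ext (Subtype.ext e)),
    fun y hy => ?_⟩
  exact (mem_centralizer_iff.1 (mem_subgroupOf.1 (mem_subgroupOf.1 hzN)) y hy).symm

/-- An invariant `l`-group whose normaliser fuses the four group lies in `R`. -/
theorem le_fixR_of_fuses {l : ℕ} (hI : InvolCentral G l) {T : Subgroup G} (hT : IsPGroup l T)
    (hodd : Odd (Nat.card ↥T)) (hTV : four (central σ n) τ ≤ normalizer (T : Set G))
    (hf : Fuses (normalizer (T : Set G)) (central σ n) τ) : T ≤ fixR (central σ n) τ := by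
  obtain ⟨v, hv, hv1, hvT⟩ := h.exists_four_centralizes hI hT hTV
  obtain ⟨g, hg, hgt, hgu⟩ := hf
  have hg3 : g * (central σ n * τ) * g⁻¹ = central σ n := by
    rw [show g * (central σ n * τ) * g⁻¹ = (g * central σ n * g⁻¹) * (g * τ * g⁻¹) by group, hgt, hgu,
      ← mul_assoc, ← h.commute_central_tau.eq, mul_assoc, h.tau_mul_self, mul_one]
  obtain ⟨ht, hu⟩ : (∀ y ∈ T, Commute (central σ n) y) ∧ ∀ y ∈ T, Commute τ y := by
    rcases h.mem_four_tau.1 hv with e | e | e | e
    · exact absurd e hv1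
    · rw [e] at hvT
      exact ⟨hvT, hgt ▸ commute_conj_of hvT hg⟩
    · rw [e] at hvT
      have h2 := commute_conj_of hvT hg
      rw [hgu] at h2
      have h3 := commute_conj_of h2 hg
      rw [hg3] at h3
      exact ⟨h3, hvT⟩
    · rw [e] at hvT
      have h3 := commute_conj_of hvT hg
      rw [hg3] at h3
      exact ⟨h3, hgt ▸ commute_conj_of h3 hg⟩
  exact fun y hy => h.mem_fixR_of_commute (h.odd_orderOf hodd hy) (ht y hy).symm (hu y hy).symm

/-- An invariant Sylow subgroup of the core of a fusing subgroup lies in `R`. -/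
theorem sylow_core_le_fixR {l : ℕ} [Fact l.Prime] (hI : InvolCentral G l) {L : Subgroup G}
    (hVL : four (central σ n) τ ≤ L) (hL : Fuses L (central σ n) τ) {X : Subgroup G}
    (hX : Grp.IsSylowIn l X (oddOf L)) (hXV : four (central σ n) τ ≤ normalizer (X : Set G)) :
    X ≤ fixR (central σ n) τ := by
  obtain ⟨g, hgL, hgt, hgu⟩ := hL
  set V := four (central σ n) τ with hV
  have hgV : g ∈ normalizer (V : Set G) := h.fuse_mem_normalizer hgt hgu
  have hOn := le_normalizer_oddOf L
  obtain ⟨c, ⟨hc, hcV⟩, hcX⟩ := Grp.invariant_sylow_conj V (oddOf L) (hVL.trans hOn)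
    (h.coprime_four (odd_card_oddOf L)) (Or.inr (isSolvable_of_odd (odd_card_oddOf L))) (X := MulAut.conj g • X)
    (hX.smul (Grp.mem_normalizer_iff_smul.1 (hOn hgL))) hX
    (fun v hv => by
      rw [Grp.mem_normalizer_iff_smul]
      have hv' : g⁻¹ * v * g ∈ V := by simpa using conj_mem_of_normalizer (inv_mem hgV) hv
      have h1 := Grp.mem_normalizer_iff_smul.1 (hXV hv')
      calc MulAut.conj v • MulAut.conj g • X = MulAut.conj g • MulAut.conj (g⁻¹ * v * g) • X := by
            rw [Grp.conj_smul_conj_smul, Grp.conj_smul_conj_smul]; group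
        _ = MulAut.conj g • X := by rw [h1])
    hXV
  have hcv : ∀ v ∈ V, c * v * c⁻¹ = v := fun v hv => by
    rw [← mem_centralizer_iff.1 hcV v hv, mul_inv_cancel_right]
  refine h.le_fixR_of_fuses hI hX.2.1 (odd_of_le hX.1 (odd_card_oddOf L)) hXV ⟨c * g, ?_, ?_, ?_⟩
  · rw [Grp.mem_normalizer_iff_smul, ← Grp.conj_smul_conj_smul]
    exact hcX
  · rw [show c * g * central σ n * (c * g)⁻¹ = c * (g * central σ n * g⁻¹) * c⁻¹ by group, hgt,
      hcv _ (right_mem_four _ _)]
  · rw [show c * g * τ * (c * g)⁻¹ = c * (g * τ * g⁻¹) * c⁻¹ by group, hgu,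
      hcv _ (mul_mem (left_mem_four _ _) (right_mem_four _ _))]

/-! ## Maximal centraliser -/

variable (hC : IsCoatom (centralizer ({central σ n} : Set G)))
include hC

theorem normalizer_eq {X : Subgroup G} (hX : X ≤ centralizer ({central σ n} : Set G)) (hX1 : X ≠ ⊥)
    (hn : centralizer ({central σ n} : Set G) ≤ normalizer (X : Set G)) :
    normalizer (X : Set G) = centralizer ({central σ n} : Set G) := by
  refine (hC.le_iff.1 hn).resolve_left fun htop => ?_
  haveI := h.simple
  haveI : X.Normal := normalizer_eq_top_iff.1 htop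
  rcases (inferInstance : X.Normal).eq_bot_or_eq_top with e | e
  · exact hX1 e
  · exact h.centralizer_ne_top (top_le_iff.1 (e ▸ hX))

/-- A subgroup of `P` normal in `C(t)` is trivial when the centraliser of `P` fuses. -/
theorem eq_bot_of_fuses {L P : Subgroup G} (hLP : L ≤ P) (hPC : P ≤ centralizer ({central σ n} : Set G))
    (hn : centralizer ({central σ n} : Set G) ≤ normalizer (L : Set G))
    (hf : Fuses (centralizer (P : Set G)) (central σ n) τ) : L = ⊥ := by
  by_contra h1
  refine h.not_fuses_of_le (le_refl _) (hf.mono ?_)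
  rw [← h.normalizer_eq hC (hLP.trans hPC) h1 hn]
  exact (centralizer_le hLP).trans (centralizer_le_normalizer _)

variable {l : ℕ} [Fact l.Prime] (hY : opOf l (coreCent (central σ n)) ≠ ⊥)
include hY

theorem odd_prime : Odd l := by
  obtain ⟨k, hk⟩ := IsPGroup.iff_card.1 (isPGroup_opOf l (coreCent (central σ n)))
  have hodd : Odd (Nat.card ↥(opOf l (coreCent (central σ n)))) := odd_of_le (opOf_le _ _) h.odd_coreCent
  rw [hk] at hodd
  rcases Nat.eq_zero_or_pos k with rfl | hk0
  · exact absurd (Subgroup.card_eq_one.1 (by rw [hk, pow_zero])) hY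
  · exact Odd.of_dvd_nat hodd (dvd_pow_self l hk0.ne')

theorem normalizer_omZ : normalizer (omZ l (opOf l (coreCent (central σ n))) : Set G) =
    centralizer ({central σ n} : Set G) :=
  h.normalizer_eq hC (((omZ_le _ _).trans (opOf_le _ _)).trans h.coreCent_le)
    (omZ_ne_bot (isPGroup_opOf l _) hY)
    ((h.le_normalizer_coreCent.trans (normalizer_le_normalizer_opOf l _)).trans (normalizer_le_omZ l _))

/-- A `t`-invariant `l`-group normalised by `Ω₁Z(O_l(U))` is centralised by `t`. -/
theorem trick {T : Subgroup G} (hT : IsPGroup l T) (ht : central σ n ∈ normalizer (T : Set G))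
    (hB : omZ l (opOf l (coreCent (central σ n))) ≤ normalizer (T : Set G)) :
    T ≤ centralizer ({central σ n} : Set G) := by
  set B := omZ l (opOf l (coreCent (central σ n)))
  have hBU : B ≤ coreCent (central σ n) := (omZ_le _ _).trans (opOf_le _ _)
  have hz : zpowers (central σ n) ≤ centralizer (T : Set G) := by
    refine Grp.thompson_PQ (p := l) B (zpowers (central σ n)) ((isPGroup_opOf l _).to_le (omZ_le _ _)) ?_
      (fun x hx => mem_centralizer_iff.2 fun y hy => ?_) T hT hB (zpowers_le.2 ht) ?_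
    · rw [Nat.card_zpowers, h.orderOf_central]
      exact Nat.coprime_two_left.2 (h.odd_prime hC hY)
    · obtain ⟨i, rfl⟩ := Subgroup.mem_zpowers_iff.1 hy
      exact ((h.commute_central (hBU hx)).zpow_right i).eq.symm
    · intro x hx
      rw [← Grp.centralizer_singleton_eq_zpowers]
      exact (h.normalizer_omZ hC hY).le (centralizer_le_normalizer _ hx.2)
  exact fun x hx => mem_centralizer_singleton_iff.2
    (mem_centralizer_iff.1 (hz (mem_zpowers _)) x hx)

variable {Q : Subgroup G} (hQ : Grp.IsSylowIn l Q (coreCent (central σ n)))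
include hQ

theorem centralizer_le_central : centralizer (Q : Set G) ≤ centralizer ({central σ n} : Set G) := by
  rw [← h.normalizer_omZ hC hY]
  exact (centralizer_le ((omZ_le _ _).trans (opOf_le_isSylowIn hQ))).trans (centralizer_le_normalizer _)

variable (hQS : (S : Subgroup G) ≤ normalizer (Q : Set G)) (hmov : Moved (S : Subgroup G) σ Q)
include hQS hmov

/-- `t` is the only involution centralising `Q`. -/
theorem eq_of_centralizes {s : G} (hs : orderOf s = 2) (hc : ∀ y ∈ Q, Commute s y) :
    s = central σ n := by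
  have hsC : s ∈ centralizer ({central σ n} : Set G) :=
    h.centralizer_le_central hC hY hQ (mem_centralizer_iff.2 fun y hy => (hc y hy).eq.symm)
  obtain ⟨a, ha, b, hb, rfl⟩ := h.exists_mul hsC
  have hss : a * b * (a * b) = 1 := by rw [← pow_two, ← hs, pow_orderOf_eq_one]
  have haU : b * a * b⁻¹ ∈ coreCent (central σ n) :=
    conj_mem_of_normalizer (h.sylow_le_normalizer_coreCent hb) ha
  have hbb : b * b = 1 := by
    have h1 : b * b ∈ coreCent (central σ n) ⊓ (S : Subgroup G) := by
      refine Subgroup.mem_inf.2 ⟨?_, mul_mem hb hb⟩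
      have : b * b = (a * (b * a * b⁻¹))⁻¹ := by
        refine eq_inv_of_mul_eq_one_right ?_
        rw [show a * (b * a * b⁻¹) * (b * b) = a * b * (a * b) by group, hss]
      rw [this]
      exact inv_mem (mul_mem ha haU)
    rwa [h.odd2.disj, mem_bot] at h1
  have hbi : b⁻¹ = b := inv_eq_of_mul_eq_one_right hbb
  have hba : b * a * b⁻¹ = a⁻¹ := by
    rw [hbi]
    exact eq_inv_of_mul_eq_one_right (by simpa [mul_assoc] using hss)
  have haN : a ∈ normalizer (Q : Set G) := by
    have haX : a * b ∈ normalizer (Q : Set G) :=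
      centralizer_le_normalizer _ (mem_centralizer_iff.2 fun y hy => (hc y hy).eq.symm)
    simpa using mul_mem haX (inv_mem (hQS hb))
  obtain ⟨k, hk⟩ := h.odd_orderOf h.odd_coreCent ha
  set c := a ^ (k + 1) with hcdef
  have hca : c * c = a := by
    rw [hcdef, ← pow_add, show k + 1 + (k + 1) = orderOf a + 1 by omega, pow_succ, pow_orderOf_eq_one, one_mul]
  have hbc : b * c⁻¹ * b⁻¹ = c := by
    rw [hcdef, ← inv_pow, ← conj_pow, show b * a⁻¹ * b⁻¹ = (b * a * b⁻¹)⁻¹ by group, hba, inv_inv]
  have hsb : c * b * c⁻¹ = a * b := by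
    rw [show c * b * c⁻¹ = c * (b * c⁻¹ * b⁻¹) * b by group, hbc, hca]
  have hbQ : ∀ y ∈ Q, Commute b y := by
    have := commute_conj_of hc (inv_mem (pow_mem haN (k + 1)))
    rwa [← hcdef, ← hsb, show c⁻¹ * (c * b * c⁻¹) * c⁻¹⁻¹ = b by group] at this
  by_cases hbσ : b ∈ zpowers σ
  · by_cases hb1 : b = 1
    · rw [hb1, mul_one] at hs
      have h2 := h.odd_orderOf h.odd_coreCent ha
      rw [hs] at h2
      exact absurd h2 (by decide)
    · have hbt := h.eq_central hbσ hbb hb1
      rw [← hsb, hbt, (h.commute_central (pow_mem ha _)).eq, mul_inv_cancel_right]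
  · obtain ⟨y, hy, hne⟩ := hmov b hb hbσ
    exact absurd (hbQ y hy) hne

theorem normalizer_le_central : normalizer (Q : Set G) ≤ centralizer ({central σ n} : Set G) := fun g hg => by
  have h1 := h.eq_of_centralizes hC hY hQ hQS hmov (s := g * central σ n * g⁻¹)
    ((orderOf_conj g _).trans h.orderOf_central)
    (commute_conj_of (fun y hy => (h.commute_central (hQ.1 hy)).symm) hg)
  exact mem_centralizer_singleton_iff.2 (mul_inv_eq_iff_eq_mul.1 h1)

theorem exists_sylow : ∃ P : Sylow l G, (P : Subgroup G) = Q := by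
  obtain ⟨P, hP⟩ := hQ.2.1.exists_le_sylow
  refine ⟨P, le_antisymm ?_ hP⟩
  by_contra hne
  have hlt : Q < (P : Subgroup G) := lt_of_le_of_ne hP fun e => hne e.ge
  have hnc := @Group.normalizerCondition_of_isNilpotent ↥(P : Subgroup G) _ P.isPGroup'.isNilpotent
  obtain ⟨x, hx, hxQ⟩ := Set.exists_of_ssubset (hnc (Q.subgroupOf (P : Subgroup G))
    (lt_top_iff_ne_top.mpr fun e => hlt.not_ge (Subgroup.subgroupOf_eq_top.mp e)))
  have hxn : (x : G) ∈ normalizer (Q : Set G) := mem_normalizer_fintype fun y hy => by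
    have := (mem_normalizer_iff.1 hx ⟨y, hP hy⟩).1 (mem_subgroupOf.2 hy)
    exact mem_subgroupOf.1 this
  have hxo : Odd (orderOf (x : G)) := by
    obtain ⟨k, hk⟩ := P.isPGroup' x
    exact Odd.of_dvd_nat ((h.odd_prime hC hY).pow (n := k))
      (orderOf_dvd_of_pow_eq_one (congrArg Subtype.val hk))
  have hxU := h.mem_coreCent_of_odd
    (mem_centralizer_singleton_iff.1 (h.normalizer_le_central hC hY hQ hQS hmov hxn)) hxo
  have heq := hQ.eq_of_le (Y := Q ⊔ zpowers (x : G)) le_sup_left (sup_le hQ.1 (zpowers_le.2 hxU))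
    (P.isPGroup'.to_le (sup_le hP (zpowers_le.2 x.2)))
  exact hxQ (mem_subgroupOf.2 (heq.ge (mem_sup_right (mem_zpowers _))))

theorem involCentral : InvolCentral G l := by
  intro T hT
  obtain ⟨P, hP⟩ := h.exists_sylow hC hY hQ hQS hmov
  obtain ⟨P', hP'⟩ := hT.exists_le_sylow
  obtain ⟨g, hg⟩ := MulAction.exists_smul_eq G P P'
  refine ⟨g * central σ n * g⁻¹, (orderOf_conj g _).trans h.orderOf_central, fun y hy => ?_⟩
  have hy' := hP' hy
  rw [← hg, Sylow.coe_subgroup_smul, hP] at hy'
  obtain ⟨q, hq, rfl⟩ := hy'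
  exact (h.commute_central (hQ.1 hq)).symm.conj g

theorem index_modEq : (centralizer ({central σ n} : Set G)).index ≡ 1 [MOD l] :=
  index_centralizer_modEq hQ.2.1 (fun y hy => (h.commute_central (hQ.1 hy)).symm) fun g hg =>
    h.eq_of_centralizes hC hY hQ hQS hmov ((orderOf_conj g _).trans h.orderOf_central) hg

end Hyp

end Cfsg.Agent.Invol.GW.Dihedral
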