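import Cfsg.Agent.Lib.Invol.GW.Dihedral.TwistedVanish

/-!
# Gorenstein–Walter, dihedral: the three configurations of a twisted block

`A j` (`j < r`) and `E` are the supports found in `TwistedCore`.  With a common pair `a`, `b` on which `E` agrees,
the alternating cubic sum is `-(a' - b')² / (a' b' (a' + b'))` in the signed weights.  The two exceptional
configurations with `r = 3` contradict the relation `∑ g² (H + E) / d = 0`.
-/

set_option autoImplicit false

namespace Cfsg.Agent.Invol.GW.Dihedral.TwistedCore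

variable {ι : Type*} [DecidableEq ι]

/-- The alternating sum of the vectors. -/
def alt {r : ℕ} (A : Fin r → ι → ℤ) (x : ι) : ℤ := ∑ j : Fin r, (-1 : ℤ) ^ ((j : ℕ) + 1) * A j x

theorem alt_sum {r : ℕ} (hr : Odd r) : ∑ j : Fin r, (-1 : ℤ) ^ ((j : ℕ) + 1) = -1 := by
  obtain ⟨k, rfl⟩ := hr
  induction k with
  | zero => simp
  | succ k ih =>
    rw [show 2 * (k + 1) + 1 = 2 * k + 1 + 1 + 1 by ring, Fin.sum_univ_castSucc, Fin.sum_univ_castSucc]
    simp only [Fin.val_castSucc, Fin.val_last]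
    rw [ih]
    simp [pow_succ, pow_mul]

omit [DecidableEq ι] in
theorem alt_const {r : ℕ} (hr : Odd r) (A : Fin r → ι → ℤ) {x : ι} {s : ℤ} (h : ∀ j, A j x = s) :
    alt A x = -s := by
  unfold alt
  simp only [h]
  rw [← Finset.sum_mul, alt_sum hr, neg_one_mul]

omit [DecidableEq ι] in
theorem alt_single {r : ℕ} (A : Fin r → ι → ℤ) {x : ι} (j : Fin r) (h : ∀ k, k ≠ j → A k x = 0) :
    alt A x = (-1) ^ ((j : ℕ) + 1) * A j x :=
  Finset.sum_eq_single j (fun k _ hk => by rw [h k hk, mul_zero]) fun hh => absurd (Finset.mem_univ j) hh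

omit [DecidableEq ι] in
theorem alt_zero {r : ℕ} (A : Fin r → ι → ℤ) {x : ι} (h : ∀ k, A k x = 0) : alt A x = 0 :=
  Finset.sum_eq_zero fun k _ => by rw [h k, mul_zero]

/-- A unit times a weight is the weight with a sign. -/
theorem signed {s : ℤ} {k : ℕ} (hs : s = 1 ∨ s = -1) (hk : 0 < k) :
    (s * (k : ℤ)).natAbs = k ∧ Int.sign (s * (k : ℤ)) = s := by
  have h1 : Int.sign (k : ℤ) = 1 := Int.sign_eq_one_of_pos (by exact_mod_cast hk)
  rcases hs with rfl | rfl <;> simp [h1]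

/-- The cubic term at a point in terms of the signed weight. -/
theorem term_val {s : ℤ} (hs : s = 1 ∨ s = -1) {k : ℕ} {g h e : ℤ} {G H : ℤ} (hG : G = s * g) (hH : H = s * h)
    (he : s * (k : ℤ) = e) : ((G : ℚ)) ^ 2 * (H : ℚ) / (k : ℚ) = (g : ℚ) ^ 2 * (h : ℚ) / (e : ℚ) := by
  subst hG hH he
  rcases hs with rfl | rfl <;> push_cast
  · ring
  · rw [neg_one_mul (k : ℚ), div_neg]; ring

/-- The common pair. -/
theorem generic {r : ℕ} (hr : Odd r) (S : Finset ι) (A : Fin r → ι → ℤ) (E : ι → ℤ) (d : ι → ℕ)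
    (hd : ∀ x, 0 < d x) (hdeg : ∀ j, ∑ x ∈ S, (d x : ℤ) * A j x = 0)
    (a b : ι) (sa sb : ℤ) (η : Fin r → ι) (hab : a ≠ b) (ha : a ∈ S) (hb : b ∈ S) (hη : ∀ j, η j ∈ S)
    (hηab : ∀ j, η j ≠ a ∧ η j ≠ b) (hinj : Function.Injective η)
    (hsa : sa = 1 ∨ sa = -1) (hsb : sb = 1 ∨ sb = -1) (hw : ∀ j, A j (η j) = 1 ∨ A j (η j) = -1)
    (hAa : ∀ j, A j a = sa) (hAb : ∀ j, A j b = sb)
    (hAz : ∀ j, ∀ x ∈ S, x ≠ a → x ≠ b → x ≠ η j → A j x = 0)
    (hEa : E a = sa) (hEb : E b = sb) (hEη : ∀ j, E (η j) = 0) :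
    ∃ (a b c : ι) (a' b' : ℤ), a ∈ S ∧ b ∈ S ∧ c ∈ S ∧ a'.natAbs = d a ∧ b'.natAbs = d b ∧
      2 * alt A a + E a = -Int.sign a' ∧ 2 * alt A b + E b = -Int.sign b' ∧
      (a' + b').natAbs = d c ∧ (2 * alt A c + E c = 2 ∨ 2 * alt A c + E c = -2) ∧
      ∑ x ∈ S, ((2 * alt A x + E x : ℤ) : ℚ) ^ 2 * ((alt A x : ℤ) : ℚ) / (d x : ℚ) =
        -((a' : ℚ) - b') ^ 2 / ((a' : ℚ) * b' * ((a' : ℚ) + b')) := by
  classical
  obtain ⟨j₀⟩ : Nonempty (Fin r) := ⟨⟨0, hr.pos⟩⟩
  have haltA : alt A a = -sa := alt_const hr A hAa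
  have haltB : alt A b = -sb := alt_const hr A hAb
  have haltη : ∀ j, alt A (η j) = (-1) ^ ((j : ℕ) + 1) * A j (η j) := fun j =>
    alt_single A j fun k hk => hAz k _ (hη j) (hηab j).1 (hηab j).2 fun e => hk (hinj e).symm
  set a' : ℤ := sa * (d a : ℕ) with ha'
  set b' : ℤ := sb * (d b : ℕ) with hb'
  have hc : ∀ j, A j (η j) * (d (η j) : ℕ) = -(a' + b') := fun j => by
    have e := hdeg j
    rw [← Finset.sum_subset (show ({a, b, η j} : Finset ι) ⊆ S by simp [Finset.insert_subset_iff, ha, hb, hη j])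
      (fun x hx hx' => by
        simp only [Finset.mem_insert, Finset.mem_singleton, not_or] at hx'
        rw [hAz j x hx hx'.1 hx'.2.1 hx'.2.2, mul_zero]),
      Finset.sum_insert (by simp [hab, (hηab j).1.symm]), Finset.sum_pair (hηab j).2.symm, hAa, hAb] at e
    rw [ha', hb']
    linarith
  obtain ⟨h1, h2⟩ := signed hsa (hd a)
  obtain ⟨h3, h4⟩ := signed hsb (hd b)
  refine ⟨a, b, η j₀, a', b', ha, hb, hη j₀, h1, h3, by rw [haltA, hEa, h2]; ring,
    by rw [haltB, hEb, h4]; ring, ?_, ?_, ?_⟩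
  · rw [show a' + b' = -(A j₀ (η j₀) * (d (η j₀) : ℕ)) by rw [hc j₀, neg_neg], Int.natAbs_neg]
    exact (signed (hw j₀) (hd _)).1
  · rw [haltη, hEη, add_zero]
    rcases neg_one_pow_eq_or ℤ ((j₀ : ℕ) + 1) with e | e <;> rcases hw j₀ with e' | e' <;>
      rw [e, e'] <;> norm_num
  · rw [← Finset.sum_subset (show insert a (insert b (Finset.univ.image η)) ⊆ S from
        Finset.insert_subset ha (Finset.insert_subset hb fun x hx => by
          obtain ⟨k, -, rfl⟩ := Finset.mem_image.1 hx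
          exact hη k)) fun x hx hx' => by
        simp only [Finset.mem_insert, Finset.mem_image, Finset.mem_univ, true_and, not_or, not_exists] at hx'
        rw [alt_zero A fun j => hAz j x hx hx'.1 hx'.2.1 (Ne.symm (hx'.2.2 j))]
        simp,
      Finset.sum_insert (by simp [hab, fun j => (hηab j).1]),
      Finset.sum_insert (by simp [fun j => (hηab j).2]), Finset.sum_image fun i _ j _ e => hinj e,
      term_val hsa (g := -1) (h := -1) (by rw [haltA, hEa]; ring) (by rw [haltA]; ring) ha'.symm,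
      term_val hsb (g := -1) (h := -1) (by rw [haltB, hEb]; ring) (by rw [haltB]; ring) hb'.symm]
    rw [Finset.sum_congr rfl (g := fun j : Fin r => (-4 / ((a' : ℚ) + b')) * (((-1 : ℤ) ^ ((j : ℕ) + 1) : ℤ) : ℚ))
      fun j _ => by
        rw [term_val (hw j) (g := 2 * (-1) ^ ((j : ℕ) + 1)) (h := (-1) ^ ((j : ℕ) + 1))
          (by rw [haltη, hEη]; ring) (by rw [haltη]; ring) (hc j)]
        rcases neg_one_pow_eq_or ℤ ((j : ℕ) + 1) with e | e <;> rw [e] <;> push_cast <;> rw [div_neg] <;> ring]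
    rw [← Finset.mul_sum, ← Int.cast_sum, alt_sum hr]
    have ha0 : (a' : ℚ) ≠ 0 := Int.cast_ne_zero.2 fun e => by have := hd a; rcases hsa with h | h <;> simp [ha', h] at e <;> omega
    have hb0 : (b' : ℚ) ≠ 0 := Int.cast_ne_zero.2 fun e => by have := hd b; rcases hsb with h | h <;> simp [hb', h] at e <;> omega
    have hab0 : (a' : ℚ) + b' ≠ 0 := by
      rw [← Int.cast_add]
      refine Int.cast_ne_zero.2 fun e => ?_
      have h5 := hc j₀
      rw [e] at h5
      have := hd (η j₀)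
      rcases hw j₀ with e' | e' <;> rw [e'] at h5 <;> omega
    push_cast
    field_simp
    ring

/-- The exceptional configuration over the ends of a pair. -/
theorem exotic_pair (S : Finset ι) (A : Fin 3 → ι → ℤ) (E : ι → ℤ) (d : ι → ℕ)
    (hd : ∀ x, 0 < d x) (hdeg : ∀ j, ∑ x ∈ S, (d x : ℤ) * A j x = 0) (hdegE : ∑ x ∈ S, (d x : ℤ) * E x = 0)
    (heq : ∑ x ∈ S, ((2 * alt A x + E x : ℤ) : ℚ) ^ 2 * ((alt A x + E x : ℤ) : ℚ) / (d x : ℚ) = 0)
    (p q : ι) (sp sq : ℤ) (η : Fin 3 → ι) (hpq : p ≠ q) (hp : p ∈ S) (hq : q ∈ S) (hη : ∀ j, η j ∈ S)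
    (hηpq : ∀ j, η j ≠ p ∧ η j ≠ q) (hinj : Function.Injective η)
    (hsp : sp = 1 ∨ sp = -1) (hsq : sq = 1 ∨ sq = -1) (hw : ∀ j, A j (η j) = 1 ∨ A j (η j) = -1)
    (hAp : ∀ j, A j p = sp) (hAq : ∀ j, A j q = sq)
    (hAz : ∀ j, ∀ x ∈ S, x ≠ p → x ≠ q → x ≠ η j → A j x = 0)
    (hEp : E p = sp) (hEη : ∀ j, E (η j) = A j (η j))
    (hEz : ∀ x ∈ S, x ≠ p → (∀ j, x ≠ η j) → E x = 0) : False := by
  classical
  set c : ℤ := -(sp * (d p : ℤ) + sq * (d q : ℤ)) with hcdef
  have hc : ∀ j, A j (η j) * (d (η j) : ℕ) = c := fun j => by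
    have e := hdeg j
    rw [← Finset.sum_subset (show ({p, q, η j} : Finset ι) ⊆ S by simp [Finset.insert_subset_iff, hp, hq, hη j])
      (fun x hx hx' => by
        simp only [Finset.mem_insert, Finset.mem_singleton, not_or] at hx'
        rw [hAz j x hx hx'.1 hx'.2.1 hx'.2.2, mul_zero]),
      Finset.sum_insert (by simp [hpq, (hηpq j).1.symm]), Finset.sum_pair (hηpq j).2.symm, hAp, hAq] at e
    rw [hcdef]
    linarith
  have hpd : sp * (d p : ℕ) = -3 * c := by
    have e := hdegE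
    rw [← Finset.sum_subset (show insert p (Finset.univ.image η) ⊆ S from
        Finset.insert_subset hp fun x hx => by
          obtain ⟨k, -, rfl⟩ := Finset.mem_image.1 hx
          exact hη k) (fun x hx hx' => by
        simp only [Finset.mem_insert, Finset.mem_image, Finset.mem_univ, true_and, not_or, not_exists] at hx'
        rw [hEz x hx hx'.1 fun j e => hx'.2 j e.symm, mul_zero]),
      Finset.sum_insert (by simp [fun j => (hηpq j).1]), Finset.sum_image fun i _ j _ e => hinj e,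
      Fin.sum_univ_three, hEp, hEη, hEη, hEη] at e
    have := hc 0; have := hc 1; have := hc 2
    linarith
  have hqd : sq * (d q : ℕ) = 2 * c := by rw [hcdef] at hpd ⊢; linarith
  have hc0 : (c : ℚ) ≠ 0 := Int.cast_ne_zero.2 fun h0 => by
    rw [h0, mul_zero] at hqd
    have := hd q
    rcases hsq with e | e <;> rw [e] at hqd <;> omega
  have haltp : alt A p = -sp := alt_const ⟨1, rfl⟩ A hAp
  have haltq : alt A q = -sq := alt_const ⟨1, rfl⟩ A hAq
  have hEq : E q = 0 := hEz q hq hpq.symm fun j => (hηpq j).2.symm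
  have haltη : ∀ j, alt A (η j) = (-1) ^ ((j : ℕ) + 1) * A j (η j) := fun j =>
    alt_single A j fun k hk => hAz k _ (hη j) (hηpq j).1 (hηpq j).2 fun e => hk (hinj e).symm
  rw [← Finset.sum_subset (show insert q (insert p (Finset.univ.image η)) ⊆ S from
      Finset.insert_subset hq (Finset.insert_subset hp fun x hx => by
        obtain ⟨k, -, rfl⟩ := Finset.mem_image.1 hx
        exact hη k)) (fun x hx hx' => by
      simp only [Finset.mem_insert, Finset.mem_image, Finset.mem_univ, true_and, not_or, not_exists] at hx'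
      rw [alt_zero A fun j => hAz j x hx hx'.2.1 hx'.1 (Ne.symm (hx'.2.2 j)),
        hEz x hx hx'.2.1 fun j e => hx'.2.2 j e.symm]
      simp),
    Finset.sum_insert (by simp [hpq.symm, fun j => (hηpq j).2]),
    Finset.sum_insert (by simp [fun j => (hηpq j).1]), Finset.sum_image fun i _ j _ e => hinj e,
    Fin.sum_univ_three,
    term_val hsq (g := -2) (h := -1) (by rw [haltq, hEq]; ring) (by rw [haltq, hEq]; ring) hqd,
    term_val hsp (g := -1) (h := 0) (by rw [haltp, hEp]; ring) (by rw [haltp, hEp]; ring) hpd,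
    term_val (hw 0) (g := -1) (h := 0) (by rw [haltη, hEη]; norm_num; ring) (by rw [haltη, hEη]; norm_num) (hc 0),
    term_val (hw 1) (g := 3) (h := 2) (by rw [haltη, hEη]; norm_num; ring) (by rw [haltη, hEη]; norm_num; ring) (hc 1),
    term_val (hw 2) (g := -1) (h := 0) (by rw [haltη, hEη]; norm_num; ring) (by rw [haltη, hEη]; norm_num) (hc 2)]
    at heq
  push_cast at heq
  field_simp at heq
  norm_num at heq

/-- The exceptional configuration in four points. -/
theorem exotic_four (S : Finset ι) (A : Fin 3 → ι → ℤ) (E : ι → ℤ) (d : ι → ℕ)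
    (hd : ∀ x, 0 < d x) (hdeg : ∀ j, ∑ x ∈ S, (d x : ℤ) * A j x = 0) (hdegE : ∑ x ∈ S, (d x : ℤ) * E x = 0)
    (heq : ∑ x ∈ S, ((2 * alt A x + E x : ℤ) : ℚ) ^ 2 * ((alt A x + E x : ℤ) : ℚ) / (d x : ℚ) = 0)
    (p : Fin 3 → ι) (p3 p4 : ι) (hp : ∀ j, p j ∈ S) (hp3 : p3 ∈ S) (hp4 : p4 ∈ S)
    (hinj : Function.Injective p) (h3 : ∀ j, p j ≠ p3) (h4 : ∀ j, p j ≠ p4) (h34 : p4 ≠ p3)
    (s : Fin 3 → ℤ) (s3 s4 : ℤ) (hs : ∀ j, s j = 1 ∨ s j = -1) (hs3 : s3 = 1 ∨ s3 = -1)
    (hs4 : s4 = 1 ∨ s4 = -1)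
    (hA : ∀ j i, A j (p i) = if i = j then 0 else s i) (hA3 : ∀ j, A j p3 = s3)
    (hAz : ∀ j, ∀ x ∈ S, x ≠ p3 → (∀ i, x ≠ p i) → A j x = 0)
    (hE : ∀ i, E (p i) = s i) (hE4 : E p4 = s4)
    (hEz : ∀ x ∈ S, x ≠ p4 → (∀ i, x ≠ p i) → E x = 0) : False := by
  classical
  have himg : Finset.univ.image p ⊆ S := fun x hx => by
    obtain ⟨k, -, rfl⟩ := Finset.mem_image.1 hx
    exact hp k
  set c : ℤ := s3 * (d p3 : ℤ) + (s 0 * (d (p 0) : ℤ) + s 1 * (d (p 1) : ℤ) + s 2 * (d (p 2) : ℤ)) with hcdef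
  have hAd : ∀ j, c - s j * (d (p j) : ℤ) = 0 := fun j => by
    have e := hdeg j
    rw [← Finset.sum_subset (show insert p3 (Finset.univ.image p) ⊆ S from Finset.insert_subset hp3 himg)
      (fun x hx hx' => by
        simp only [Finset.mem_insert, Finset.mem_image, Finset.mem_univ, true_and, not_or, not_exists] at hx'
        rw [hAz j x hx hx'.1 fun i e => hx'.2 i e.symm, mul_zero]),
      Finset.sum_insert (by simp [h3]), Finset.sum_image fun i _ j _ e => hinj e,
      Fin.sum_univ_three, hA, hA, hA, hA3] at e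
    rw [hcdef]
    fin_cases j <;> simp at e ⊢ <;> linarith
  have hd0 : s 0 * (d (p 0) : ℕ) = c := by have := hAd 0; linarith
  have hd1 : s 1 * (d (p 1) : ℕ) = c := by have := hAd 1; linarith
  have hd2 : s 2 * (d (p 2) : ℕ) = c := by have := hAd 2; linarith
  have hd3 : s3 * (d p3 : ℕ) = -2 * c := by
    have := hcdef
    linarith
  have hd4 : s4 * (d p4 : ℕ) = -3 * c := by
    have e := hdegE
    rw [← Finset.sum_subset (show insert p4 (Finset.univ.image p) ⊆ S from Finset.insert_subset hp4 himg)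
      (fun x hx hx' => by
        simp only [Finset.mem_insert, Finset.mem_image, Finset.mem_univ, true_and, not_or, not_exists] at hx'
        rw [hEz x hx hx'.1 fun i e => hx'.2 i e.symm, mul_zero]),
      Finset.sum_insert (by simp [h4]), Finset.sum_image fun i _ j _ e => hinj e,
      Fin.sum_univ_three, hE, hE, hE, hE4] at e
    linarith
  have hc0 : (c : ℚ) ≠ 0 := Int.cast_ne_zero.2 fun h0 => by
    rw [h0, mul_zero] at hd4
    have := hd p4
    rcases hs4 with e | e <;> rw [e] at hd4 <;> omega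
  have halt : ∀ i, alt A (p i) = -(if i = 0 then 0 else s i) + (if i = 1 then 0 else s i) -
      (if i = 2 then 0 else s i) := fun i => by
    unfold alt
    rw [Fin.sum_univ_three, hA, hA, hA]
    simp only [Fin.val_zero, Fin.val_one, Fin.val_two]
    ring
  have halt3 : alt A p3 = -s3 := alt_const ⟨1, rfl⟩ A hA3
  have halt4 : alt A p4 = 0 := alt_zero A fun j => hAz j p4 hp4 h34 fun i => (h4 i).symm
  have hE3 : E p3 = 0 := hEz p3 hp3 h34.symm fun i => (h3 i).symm
  rw [← Finset.sum_subset (show insert p4 (insert p3 (Finset.univ.image p)) ⊆ S from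
      Finset.insert_subset hp4 (Finset.insert_subset hp3 himg)) (fun x hx hx' => by
      simp only [Finset.mem_insert, Finset.mem_image, Finset.mem_univ, true_and, not_or, not_exists] at hx'
      rw [alt_zero A fun j => hAz j x hx hx'.2.1 fun i e => hx'.2.2 i e.symm,
        hEz x hx hx'.1 fun i e => hx'.2.2 i e.symm]
      simp),
    Finset.sum_insert (by simp [h34, h4]), Finset.sum_insert (by simp [h3]),
    Finset.sum_image fun i _ j _ e => hinj e, Fin.sum_univ_three,
    term_val hs4 (g := 1) (h := 1) (by rw [halt4, hE4]; ring) (by rw [halt4, hE4]; ring) hd4,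
    term_val hs3 (g := -2) (h := -1) (by rw [halt3, hE3]; ring) (by rw [halt3, hE3]; ring) hd3,
    term_val (hs 0) (g := 1) (h := 1) (by rw [halt, hE]; simp) (by rw [halt, hE]; simp) hd0,
    term_val (hs 1) (g := -3) (h := -1) (by rw [halt, hE]; simp; ring) (by rw [halt, hE]; simp) hd1,
    term_val (hs 2) (g := 1) (h := 1) (by rw [halt, hE]; simp) (by rw [halt, hE]; simp) hd2] at heq
  push_cast at heq
  field_simp at heq
  norm_num at heq

end Cfsg.Agent.Invol.GW.Dihedral.TwistedCore
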