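import Mathlib

/-!
# Gorenstein–Walter, dihedral: coefficients of functions on the rotations

For a primitive `m`th root of unity `ζ` and a function `g` of the exponents the numbers
`coef ζ m g k = m⁻¹ ∑_{l < m} g l (ζ^(-kl) - 1)` recover `g` at the exponents `0 < l < m` and carry orthogonality
relations on the rotations to inner products.
-/

set_option autoImplicit false

open scoped ComplexConjugate

namespace Cfsg.Agent.Invol.GW.Dihedral.Fourier

variable {ζ : ℂ} {m : ℕ}

/-- The coefficient. -/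
noncomputable def coef (ζ : ℂ) (m : ℕ) (g : ℕ → ℂ) (k : ℕ) : ℂ :=
  (m : ℂ)⁻¹ * ∑ l ∈ Finset.range m, g l * ((ζ ^ (m - k)) ^ l - 1)

theorem sum_pow (hζ : IsPrimitiveRoot ζ m) (j : ℕ) :
    ∑ l ∈ Finset.range m, (ζ ^ j) ^ l = if m ∣ j then (m : ℂ) else 0 := by
  split_ifs with hd
  · simp [(hζ.pow_eq_one_iff_dvd j).2 hd]
  · rw [geom_sum_eq (fun e => hd ((hζ.pow_eq_one_iff_dvd j).1 e)), ← pow_mul, mul_comm j, pow_mul,
      hζ.pow_eq_one, one_pow, sub_self, zero_div]

theorem exchange (hζ : IsPrimitiveRoot ζ m) (hm : 0 < m) {k l : ℕ} (hk : k ≤ m) (hl : l ≤ m) :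
    (ζ ^ (m - k)) ^ l = (ζ ^ (m - l)) ^ k := by
  have h0 : ζ ^ (k * l) ≠ 0 := pow_ne_zero _ (hζ.ne_zero hm.ne')
  refine mul_right_cancel₀ h0 ?_
  rw [← pow_mul, ← pow_mul, ← pow_add, ← pow_add, mul_comm k l, ← add_mul, mul_comm l k, mul_comm (m - k),
    mul_comm k l, ← mul_add, Nat.sub_add_cancel hk, Nat.sub_add_cancel hl, mul_comm l m, pow_mul, pow_mul,
    hζ.pow_eq_one, one_pow, one_pow]

theorem conj_pow_sub (hζ : IsPrimitiveRoot ζ m) (hm : 0 < m) {k : ℕ} (hk : k ≤ m) :
    conj (ζ ^ (m - k)) = ζ ^ k := by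
  have h1 : ‖ζ ^ (m - k)‖ = 1 := by rw [norm_pow, hζ.norm'_eq_one hm.ne', one_pow]
  have h2 : ζ ^ (m - k) * conj (ζ ^ (m - k)) = 1 := by
    rw [Complex.mul_conj, Complex.normSq_eq_norm_sq, h1]
    norm_num
  refine mul_left_cancel₀ (pow_ne_zero (m - k) (hζ.ne_zero hm.ne')) ?_
  rw [h2, ← pow_add, Nat.sub_add_cancel hk, hζ.pow_eq_one]

theorem coef_zero (hζ : IsPrimitiveRoot ζ m) (g : ℕ → ℂ) : coef ζ m g 0 = 0 := by
  simp [coef, hζ.pow_eq_one]

theorem inversion (hζ : IsPrimitiveRoot ζ m) (g : ℕ → ℂ) {l : ℕ} (hl : 0 < l) (hlm : l < m) :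
    ∑ k ∈ Finset.range m, coef ζ m g k * (ζ ^ l) ^ k = g l := by
  have hm : 0 < m := by omega
  have hm0 : (m : ℂ) ≠ 0 := Nat.cast_ne_zero.2 hm.ne'
  have hnd : ¬ m ∣ l := fun e => by have := Nat.le_of_dvd hl e; omega
  calc ∑ k ∈ Finset.range m, coef ζ m g k * (ζ ^ l) ^ k
      = (m : ℂ)⁻¹ * ∑ l' ∈ Finset.range m, g l' *
          (∑ k ∈ Finset.range m, (ζ ^ (m - l' + l)) ^ k - ∑ k ∈ Finset.range m, (ζ ^ l) ^ k) := by
        simp only [coef, Finset.mul_sum, Finset.sum_mul, ← Finset.sum_sub_distrib]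
        rw [Finset.sum_comm]
        refine Finset.sum_congr rfl fun l' hl' => Finset.sum_congr rfl fun k hk => ?_
        rw [pow_add ζ (m - l') l, mul_pow, exchange hζ hm (Finset.mem_range.1 hk).le (Finset.mem_range.1 hl').le]
        ring
    _ = (m : ℂ)⁻¹ * (g l * m) := by
        congr 1
        rw [Finset.sum_eq_single l (fun l' hl' hne => ?_) fun hh => absurd (Finset.mem_range.2 hlm) hh,
          Nat.sub_add_cancel hlm.le, sum_pow hζ, sum_pow hζ, if_pos dvd_rfl, if_neg hnd, sub_zero]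
        rw [sum_pow hζ, sum_pow hζ, if_neg hnd, if_neg ?_, sub_zero, mul_zero]
        rintro ⟨c, hc⟩
        have := Finset.mem_range.1 hl'
        rcases c with _ | _ | c
        · omega
        · omega
        · have : m * (c + 1 + 1) ≥ 2 * m := by nlinarith
          omega
    _ = g l := by field_simp

/-- The values at the middle. -/
theorem middle (hζ : IsPrimitiveRoot ζ m) {q : ℕ} (hm : m = 2 * q) (hq : 0 < q) (g : ℕ → ℂ) :
    ∑ k ∈ Finset.range m, coef ζ m g k * (-1 : ℂ) ^ k = g q := by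
  have hroot : ζ ^ q = -1 := by
    have e : (ζ ^ q) ^ 2 = 1 := by rw [← pow_mul, mul_comm, ← hm, hζ.pow_eq_one]
    exact (sq_eq_one_iff.1 e).resolve_left (hζ.pow_ne_one_of_pos_of_lt hq.ne' (by omega))
  rw [← hroot]
  exact inversion hζ g hq (by omega)

/-- The sum over the odd exponents sees only the middle coefficient. -/
theorem odd_sum (hζ : IsPrimitiveRoot ζ m) {q : ℕ} (hm : m = 2 * q) (hq : 0 < q) (g : ℕ → ℂ) :
    ∑ i ∈ Finset.range q, g (2 * i + 1) = -(q : ℂ) * coef ζ m g q := by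
  have hroot : ζ ^ q = -1 := by
    have e : (ζ ^ q) ^ 2 = 1 := by rw [← pow_mul, mul_comm, ← hm, hζ.pow_eq_one]
    exact (sq_eq_one_iff.1 e).resolve_left (hζ.pow_ne_one_of_pos_of_lt hq.ne' (by omega))
  rw [← Finset.sum_congr rfl fun i hi => inversion hζ g (show 0 < 2 * i + 1 by omega)
    (by have := Finset.mem_range.1 hi; omega), Finset.sum_comm]
  rw [Finset.sum_eq_single q (fun k hk hne => ?_) fun hh => absurd (Finset.mem_range.2 (by omega)) hh,
    ← Finset.mul_sum, Finset.sum_congr rfl (g := fun _ => (-1 : ℂ)) fun i _ => by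
      rw [← pow_mul, mul_comm, pow_mul, hroot, (odd_two_mul_add_one i).neg_one_pow], Finset.sum_const,
    Finset.card_range, nsmul_eq_mul]
  · ring
  · rcases Nat.eq_zero_or_pos k with rfl | hk0
    · simp [coef_zero hζ]
    rw [← Finset.mul_sum, Finset.sum_congr rfl (g := fun i => ζ ^ k * ((ζ ^ (2 * k)) ^ i)) fun i _ => by
      rw [← pow_mul, ← pow_mul, ← pow_add]; congr 1; ring, ← Finset.mul_sum]
    have hne1 : ζ ^ (2 * k) ≠ 1 := fun e => by
      obtain ⟨c, hc⟩ := (hζ.pow_eq_one_iff_dvd _).1 e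
      have := Finset.mem_range.1 hk
      rcases c with _ | _ | c
      · omega
      · omega
      · have : m * (c + 1 + 1) ≥ 2 * m := by nlinarith
        omega
    rw [geom_sum_eq hne1, ← pow_mul, show 2 * k * q = m * k by rw [hm]; ring, pow_mul, hζ.pow_eq_one, one_pow,
      sub_self, zero_div, mul_zero, mul_zero]

/-- Inner products of coefficients from the orthogonality on the rotations. -/
theorem gram (hζ : IsPrimitiveRoot ζ m) {ι : Type*} [Fintype ι] (g g' : ι → ℕ → ℂ) (a b : ℂ)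
    (hO : ∀ l l', 0 < l → l < m → 0 < l' → l' < m →
      ∑ ξ, g ξ l * conj (g' ξ l') = (m : ℂ) * ((if l = l' then a else 0) + if l + l' = m then b else 0))
    {k k' : ℕ} (hk0 : 0 < k) (hk : k < m) (hk0' : 0 < k') (hk' : k' < m) :
    ∑ ξ, coef ζ m (g ξ) k * conj (coef ζ m (g' ξ) k') =
      a * ((if k = k' then 1 else 0) + 1) + b * ((if k + k' = m then 1 else 0) + 1) := by
  have hm : 0 < m := by omega
  have hm0 : (m : ℂ) ≠ 0 := Nat.cast_ne_zero.2 hm.ne'
  calc ∑ ξ, coef ζ m (g ξ) k * conj (coef ζ m (g' ξ) k')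
      = (m : ℂ)⁻¹ * (m : ℂ)⁻¹ * ∑ l ∈ Finset.range m, ∑ l' ∈ Finset.range m,
          ((ζ ^ (m - k)) ^ l - 1) * ((ζ ^ k') ^ l' - 1) * ∑ ξ, g ξ l * conj (g' ξ l') := by
        simp only [coef, map_mul, map_inv₀, map_natCast, map_sum, map_sub, map_one, map_pow]
        simp only [← map_pow, conj_pow_sub hζ hm hk'.le]
        simp only [Finset.mul_sum, Finset.sum_mul]
        rw [Finset.sum_comm]
        conv_rhs => rw [Finset.sum_comm]
        refine Finset.sum_congr rfl fun l' _ => ?_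
        rw [Finset.sum_comm]
        exact Finset.sum_congr rfl fun l _ => Finset.sum_congr rfl fun ξ _ => by ring
    _ = (m : ℂ)⁻¹ * ∑ l ∈ Finset.range m, ((ζ ^ (m - k)) ^ l - 1) *
          (a * ((ζ ^ k') ^ l - 1) + b * ((ζ ^ (m - k')) ^ l - 1)) := by
        rw [mul_assoc, Finset.mul_sum]
        congr 1
        refine Finset.sum_congr rfl fun l hl => ?_
        rcases Nat.eq_zero_or_pos l with rfl | hl0
        · simp
        have hlm := Finset.mem_range.1 hl
        rw [Finset.sum_congr rfl (g := fun l' => (m : ℂ) * (((ζ ^ (m - k)) ^ l - 1) *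
          ((if l = l' then a * ((ζ ^ k') ^ l' - 1) else 0) +
            if l' = m - l then b * ((ζ ^ k') ^ l' - 1) else 0))) fun l' hl' => ?_]
        · rw [← Finset.mul_sum, ← Finset.mul_sum, Finset.sum_add_distrib, Finset.sum_ite_eq, Finset.sum_ite_eq',
            if_pos hl, if_pos (Finset.mem_range.2 (by omega)), inv_mul_cancel_left₀ hm0]
          congr 2
          rw [← pow_mul, exchange hζ hm hk'.le hlm.le, ← pow_mul, mul_comm k']
        · rcases Nat.eq_zero_or_pos l' with rfl | hl0'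
          · simp
          have hl'm := Finset.mem_range.1 hl'
          rw [hO l l' hl0 hlm hl0' hl'm, if_congr (show l' = m - l ↔ l + l' = m by omega) rfl rfl]
          split_ifs <;> ring
    _ = _ := by
        have e : ∀ j j' : ℕ, ∑ l ∈ Finset.range m, ((ζ ^ j) ^ l - 1) * ((ζ ^ j') ^ l - 1) =
            (if m ∣ j + j' then (m : ℂ) else 0) - (if m ∣ j then (m : ℂ) else 0) -
              (if m ∣ j' then (m : ℂ) else 0) + m := fun j j' => by
          rw [← sum_pow hζ, ← sum_pow hζ, ← sum_pow hζ,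
            show (m : ℂ) = ∑ _l ∈ Finset.range m, (1 : ℂ) by simp, ← Finset.sum_sub_distrib,
            ← Finset.sum_sub_distrib, ← Finset.sum_add_distrib]
          exact Finset.sum_congr rfl fun l _ => by rw [pow_add, mul_pow]; ring
        have hnd : ∀ j, 0 < j → j < m → ¬ m ∣ j := fun j h0 h1 h2 => by
          have := Nat.le_of_dvd h0 h2
          omega
        have hdv : ∀ j, 0 < j → j < 2 * m → (m ∣ j ↔ j = m) := fun j h0 h1 => by
          refine ⟨?_, fun h2 => h2 ▸ dvd_rfl⟩
          rintro ⟨c, rfl⟩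
          rcases c with _ | _ | c
          · omega
          · simp
          · nlinarith
        simp only [mul_add, mul_left_comm _ a, mul_left_comm _ b, Finset.sum_add_distrib, ← Finset.mul_sum, e,
          if_neg (hnd (m - k) (by omega) (by omega)), if_neg (hnd k' hk0' hk'),
          if_neg (hnd (m - k') (by omega) (by omega)),
          if_congr ((hdv (m - k + k') (by omega) (by omega)).trans (show m - k + k' = m ↔ k = k' by omega))
            rfl rfl,
          if_congr ((hdv (m - k + (m - k')) (by omega) (by omega)).trans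
            (show m - k + (m - k') = m ↔ k + k' = m by omega)) rfl rfl]
        split_ifs <;> field_simp <;> ring

end Cfsg.Agent.Invol.GW.Dihedral.Fourier
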