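import Cfsg.Agent.Lib.Invol.GW.Dihedral.TwistedPair
import Cfsg.Agent.Lib.Block.SecondMain
import Cfsg.Agent.Lib.Char.RealBlock
import Cfsg.Agent.Lib.Char.Clifford

/-!
# Gorenstein–Walter, dihedral case: two invariant characters of the core under one character

If `σ` centralises the core, a character of `G` sees at most one invariant irreducible character of the core next
to a linear one in the coset of the central involution: both would induce its block, so their central characters
would agree modulo 2 on the classes met by `R`.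
-/

set_option autoImplicit false
set_option linter.unusedSectionVars false
set_option linter.style.haveILetI false

open scoped ComplexConjugate

namespace Cfsg.Agent.Invol.GW.Dihedral

open Subgroup Klein Block

universe u

variable {G : Type u} [Group G] [Finite G] {S : Sylow 2 G} {σ τ : G} {n : ℕ}

namespace Hyp

variable (h : Hyp S σ τ n)
include h

theorem act_act (v : coreCent (central σ n)) : h.act (h.act v) = v := by
  refine Subtype.ext ?_
  rw [act_val, act_val, show τ * (τ * (v : G) * τ⁻¹) * τ⁻¹ = τ * τ * v * (τ * τ)⁻¹ by group, h.tau_mul_self]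
  simp

theorem act_eq_iff (v : coreCent (central σ n)) : h.act v = v ↔ (v : G) ∈ fixR (central σ n) τ := by
  show _ ↔ (v : G) ∈ coreCent (central σ n) ⊓ centralizer ({τ} : Set G)
  rw [Subgroup.mem_inf, and_iff_right v.2, mem_centralizer_singleton_iff, Subtype.ext_iff, act_val, mul_inv_eq_iff_eq_mul]
  exact eq_comm

/-- The normaliser of the Sylow subgroup lies in the centraliser. -/
theorem normalizer_sylow_le : normalizer ((S : Subgroup G) : Set G) ≤ centralizer ({central σ n} : Set G) := by
  intro g hg
  set t' := g * central σ n * g⁻¹ with ht'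
  have hmem : t' ∈ (S : Subgroup G) := (mem_normalizer_iff.1 hg _).1 h.central_mem
  have hσ' : g⁻¹ * σ * g ∈ (S : Subgroup G) := by
    have := (mem_normalizer_iff.1 (inv_mem hg) σ).1 h.hσ
    rwa [inv_inv] at this
  have hc : Commute t' σ := by
    have h1 : Commute (g⁻¹ * σ * g) (central σ n) := mem_centralizer_singleton_iff.1 (h.le_centralizer hσ')
    have h2 := h1.symm.conj g
    rwa [show g * (g⁻¹ * σ * g) * g⁻¹ = σ by group] at h2
  have hσσ : σ * σ ≠ 1 := fun e => by
    have h2 := orderOf_le_of_pow_eq_one (x := σ) (n := 2) (by norm_num) (by rw [pow_two]; exact e)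
    rw [h.orderσ] at h2
    have := h.four_le
    omega
  have hrot := h.data.centralizer_rotation (mem_zpowers σ) hσσ hmem hc.eq
  have h2 : orderOf t' = 2 := (MulEquiv.orderOf_eq (MulAut.conj g) _).trans h.orderOf_central
  have h3 := h.eq_central hrot (by rw [← pow_two, ← h2, pow_orderOf_eq_one])
    (fun e => by rw [e, orderOf_one] at h2; omega)
  exact mem_centralizer_singleton_iff.2 (mul_inv_eq_iff_eq_mul.1 (ht' ▸ h3))

variable (hσU : ∀ u ∈ coreCent (central σ n), Commute σ u)
include hσU

/-- Fusion of the fixed elements. -/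
theorem linear_eq_of_isConj {φ : ↥(coreCent (central σ n)) →* ℂˣ} (hφ : ∀ v, φ (h.act v) = φ v)
    {u u' : coreCent (central σ n)} (hu : h.act u = u) (hu' : h.act u' = u') (hconj : IsConj (u : G) (u' : G)) :
    φ u' = φ u := by
  haveI : Fact (Nat.Prime 2) := ⟨Nat.prime_two⟩
  have hcen : ∀ v : coreCent (central σ n), h.act v = v → (v : G) ∈ centralizer (S : Set G) := fun v hv => by
    refine mem_centralizer_iff.2 fun s hs => ?_
    have hf : ∀ w, (h.act w = v) = (w = v) := fun w => propext
      ⟨fun e => by rw [← h.act_act w, e, hv], fun e => by rw [e, hv]⟩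
    have h1 := h.invariant_conj hσU (φ := fun w => w = v) hf hs v
    have h2 : (⟨s * v * s⁻¹, h.conj_core (h.le_centralizer hs) v.2⟩ : coreCent (central σ n)) = v :=
      h1.mpr rfl
    exact mul_inv_eq_iff_eq_mul.1 (congrArg Subtype.val h2)
  obtain ⟨g, hg⟩ := isConj_iff.1 hconj
  obtain ⟨m, hm, hme⟩ := Sylow.conj_eq_normalizer_conj_of_mem_centralizer S (u : G) g⁻¹ (hcen u hu) (by
    rw [inv_inv, hg]; exact hcen u' hu')
  rw [inv_inv, hg] at hme
  obtain ⟨a, ha, s, hs, rfl⟩ := h.exists_mul (h.normalizer_sylow_le hm)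
  have e : u' = ⟨s⁻¹ * ((⟨a, ha⟩⁻¹ * u * ⟨a, ha⟩ : coreCent (central σ n)) : G) * s⁻¹⁻¹,
      h.conj_core (h.le_centralizer (inv_mem hs)) (_ : coreCent (central σ n)).2⟩ := by
    refine Subtype.ext (hme.trans ?_)
    simp only [Subgroup.coe_mul, Subgroup.coe_inv]
    group
  rw [e, h.invariant_conj hσU (φ := φ) hφ (inv_mem hs), map_mul, map_mul, map_inv]
  exact inv_mul_cancel_comm _ _

/-- The core centralises the rotations. -/
theorem le_centralizer_rotation {y : G} (hy : y ∈ zpowers σ) :
    coreCent (central σ n) ≤ centralizer ({y} : Set G) := fun _ hv =>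
  mem_centralizer_singleton_iff.2 (h.commute_rotation hσU hy hv).symm.eq

omit hσU in
/-- The centraliser of a nontrivial rotation lies in the centraliser of the central involution. -/
theorem centralizer_rotation_sub {y : G} (hy : y ∈ zpowers σ) (hy1 : y ≠ 1) :
    centralizer ({y} : Set G) ≤ centralizer ({central σ n} : Set G) := fun x hx =>
  mem_centralizer_singleton_iff.2 (by
    rw [← h.rotation_half hy hy1]
    exact ((show Commute x y from mem_centralizer_singleton_iff.1 hx).pow_right _).eq)

/-- An invariant character of the core in an irreducible character of the centraliser. -/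
theorem clifford_core {y : G} (hy : y ∈ zpowers σ) (hy1 : y ≠ 1) [Fintype ↥(coreCent (central σ n))]
    (η : IrrCharacter ↥(centralizer ({y} : Set G))) (lam : IrrCharacter ↥(coreCent (central σ n)))
    (hlam : h.twist (lam : coreCent (central σ n) → ℂ) = lam)
    (hne : classInner (fun v : coreCent (central σ n) =>
      (η : centralizer ({y} : Set G) → ℂ) ⟨v, h.le_centralizer_rotation hσU hy v.2⟩)
        (lam : coreCent (central σ n) → ℂ) ≠ 0)
    (v : coreCent (central σ n)) :
    (η : centralizer ({y} : Set G) → ℂ) ⟨v, h.le_centralizer_rotation hσU hy v.2⟩ * (lam : coreCent (central σ n) → ℂ) 1 =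
      (η : centralizer ({y} : Set G) → ℂ) 1 * (lam : coreCent (central σ n) → ℂ) v := by
  classical
  cases nonempty_fintype ↥(centralizer ({y} : Set G))
  haveI : ((coreCent (central σ n)).subgroupOf (centralizer ({y} : Set G))).Normal :=
    normal_subgroupOf_of_le_normalizer ((h.centralizer_rotation_sub hy hy1).trans h.le_normalizer_coreCent)
  set N := (coreCent (central σ n)).subgroupOf (centralizer ({y} : Set G)) with hN
  cases nonempty_fintype N
  set e : N ≃* ↥(coreCent (central σ n)) := subgroupOfEquivOfLe (h.le_centralizer_rotation hσU hy) with he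
  set θ : N → ℂ := fun m => (lam : coreCent (central σ n) → ℂ) (e m) with hθdef
  have hθ : IsIrrCharacter N θ := Char.IsIrr.comp_mulEquiv e lam.2
  have hfix : ∀ c : centralizer ({y} : Set G), Char.conjN N c θ = θ := fun c => funext fun m => by
    obtain ⟨a, ha, s, hs, hc⟩ := h.exists_mul (h.centralizer_rotation_sub hy hy1 c.2)
    have hm : (e m : coreCent (central σ n)) = ⟨((m : centralizer ({y} : Set G)) : G), m.2⟩ := rfl
    have h2 : ∀ w, (lam : coreCent (central σ n) → ℂ) (h.act w) = (lam : coreCent (central σ n) → ℂ) w :=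
      fun w => congrFun hlam w
    rw [Char.conjN_apply]
    show (lam : coreCent (central σ n) → ℂ) (e _) = (lam : coreCent (central σ n) → ℂ) (e m)
    rw [← h.invariant_conj hσU (φ := (lam : coreCent (central σ n) → ℂ)) h2 hs (e m),
      ← Char.IsIrr.classFun lam.2 ⟨s * ((e m : coreCent (central σ n)) : G) * s⁻¹,
        h.conj_core (h.le_centralizer hs) (e m).2⟩ ⟨a, ha⟩]
    refine congrArg _ (Subtype.ext ?_)
    show (c : G) * ((m : centralizer ({y} : Set G)) : G) * (c : G)⁻¹ =
      a * (s * ((m : centralizer ({y} : Set G)) : G) * s⁻¹) * a⁻¹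
    rw [← hc]
    group
  have hin : classInner (fun m : N => (η : centralizer ({y} : Set G) → ℂ) m) θ ≠ 0 := by
    refine fun h0 => hne (Eq.trans ?_ h0)
    simp only [classInner, hθdef]
    rw [Nat.card_congr e.toEquiv]
    refine congrArg _ (Fintype.sum_equiv e.symm.toEquiv _ _ fun w => ?_)
    rw [MulEquiv.toEquiv_eq_coe, MulEquiv.coe_toEquiv, MulEquiv.apply_symm_apply]
    rfl
  have horb : Char.conjOrbit N θ = {θ} := by
    ext ψ
    rw [Char.mem_conjOrbit, Finset.mem_singleton]
    exact ⟨fun ⟨c, hc⟩ => by rw [← hc, hfix], fun e' => ⟨1, by rw [hfix, e']⟩⟩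
  have hcl := Char.clifford N η.2 hθ hin
  rw [horb, Finset.sum_singleton] at hcl
  have hval : ∀ w : coreCent (central σ n),
      (η : centralizer ({y} : Set G) → ℂ) ⟨w, h.le_centralizer_rotation hσU hy w.2⟩ =
        classInner (fun m : N => (η : centralizer ({y} : Set G) → ℂ) m) θ *
          (lam : coreCent (central σ n) → ℂ) w := fun w => by
    have h1 := congrFun hcl (e.symm w)
    simp only [Pi.smul_apply, smul_eq_mul, hθdef, MulEquiv.apply_symm_apply] at h1
    exact h1
  rw [hval v, show (1 : centralizer ({y} : Set G)) =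
    ⟨((1 : coreCent (central σ n)) : G), h.le_centralizer_rotation hσU hy (1 : coreCent (central σ n)).2⟩ from Subtype.ext rfl, hval 1]
  ring

/-- A nonzero section comes from a character of the centraliser inducing the block. -/
theorem exists_inducing {y : G} (hy : y ∈ zpowers σ) (hy1 : y ≠ 1) [Fintype G] [Fintype ↥(coreCent (central σ n))] {M : Ideal AlgInt} (hM : IsPModular 2 M)
    (ξ : IrrCharacter G) (lam : coreCent (central σ n) → ℂ)
    (hne : proj (coreCent (central σ n)) lam (ξ : G → ℂ) y ≠ 0) :
    ∃ η : IrrCharacter ↥(centralizer ({y} : Set G)),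
      IsInducedBlock M (centralizer ({y} : Set G))
          (blockOf M (η : centralizer ({y} : Set G) → ℂ)) (blockOf M (ξ : G → ℂ)) ∧
        classInner (fun v : coreCent (central σ n) =>
          (η : centralizer ({y} : Set G) → ℂ) ⟨v, h.le_centralizer_rotation hσU hy v.2⟩) lam ≠ 0 := by
  classical
  haveI : Fact (Nat.Prime 2) := ⟨Nat.prime_two⟩
  cases nonempty_fintype ↥(centralizer ({y} : Set G))
  by_contra hno
  push Not at hno
  refine hne ?_
  set Q := Finset.univ.filter (fun η : IrrCharacter ↥(centralizer ({y} : Set G)) =>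
    IsInducedBlock M _ (blockOf M (η : centralizer ({y} : Set G) → ℂ)) (blockOf M (ξ : G → ℂ)))
  set cη : IrrCharacter ↥(centralizer ({y} : Set G)) → ℂ := fun η =>
    classInner (fun c : centralizer ({y} : Set G) => (ξ : G → ℂ) (y * (c : G)))
      (η : centralizer ({y} : Set G) → ℂ) with hcη
  have hval : ∀ v : coreCent (central σ n), (ξ : G → ℂ) ((v : G) * y) =
      ∑ η ∈ Q, cη η * (η : centralizer ({y} : Set G) → ℂ) ⟨v, h.le_centralizer_rotation hσU hy v.2⟩ := fun v => by
    have h1 := value_eq_sum_inducing hM (pPow_of_mem S.isPGroup' (h.data.zpowers_le hy)) (isPBlock_blockOf (M := M) ξ)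
      (y := ⟨(v : G), h.le_centralizer_rotation hσU hy v.2⟩) (by
        rw [Subgroup.orderOf_mk]
        exact fun hd => Nat.not_even_iff_odd.2 (h.odd_of_mem v.2) (even_iff_two_dvd.2 hd)) ξ
    rw [if_pos (mem_blockOf_self hM ξ)] at h1
    rw [← (h.commute_rotation hσU hy v.2).eq]
    exact h1.symm
  simp only [proj, hval]
  rw [show (fun v : coreCent (central σ n) => ∑ η ∈ Q,
      cη η * (η : centralizer ({y} : Set G) → ℂ) ⟨v, h.le_centralizer_rotation hσU hy v.2⟩) =
    ∑ η ∈ Q, cη η • fun v : coreCent (central σ n) =>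
      (η : centralizer ({y} : Set G) → ℂ) ⟨v, h.le_centralizer_rotation hσU hy v.2⟩ by
    funext v; simp, Char.classInner_sum_left]
  refine Finset.sum_eq_zero fun η hη => ?_
  rw [Char.classInner_smul_left, hno η (Finset.mem_filter.1 hη).2, mul_zero]

/-- The central character induced from the centraliser, at an element of the core. -/
theorem induced_value {y : G} (hy : y ∈ zpowers σ) (hy1 : y ≠ 1) [Fintype ↥(coreCent (central σ n))]
    (η : IrrCharacter ↥(centralizer ({y} : Set G))) (lam : IrrCharacter ↥(coreCent (central σ n)))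
    (hlam : h.twist (lam : coreCent (central σ n) → ℂ) = lam)
    (hne : classInner (fun v : coreCent (central σ n) =>
      (η : centralizer ({y} : Set G) → ℂ) ⟨v, h.le_centralizer_rotation hσU hy v.2⟩)
        (lam : coreCent (central σ n) → ℂ) ≠ 0)
    (v₀ : coreCent (central σ n)) [DecidablePred fun u : coreCent (central σ n) => IsConj (v₀ : G) (u : G)] :
    (lam : coreCent (central σ n) → ℂ) 1 *
        inducedCentralChar (centralizer ({y} : Set G)) (η : centralizer ({y} : Set G) → ℂ) v₀ =
      ∑ u : coreCent (central σ n), if IsConj (v₀ : G) (u : G) then (lam : coreCent (central σ n) → ℂ) u else 0 := by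
  classical
  cases nonempty_fintype ↥(centralizer ({y} : Set G))
  have hη0 : (η : centralizer ({y} : Set G) → ℂ) 1 ≠ 0 := by
    rw [charDeg_spec' η]; exact Nat.cast_ne_zero.2 (charDeg_pos η).ne'
  have hl0 : (lam : coreCent (central σ n) → ℂ) 1 ≠ 0 := by
    rw [charDeg_spec' lam]; exact Nat.cast_ne_zero.2 (charDeg_pos lam).ne'
  rw [inducedCentralChar, finsum_mem_eq_toFinset_sum, Finset.mul_sum, ← Finset.sum_filter]
  refine (Finset.sum_bij (fun (u : coreCent (central σ n)) _ => (⟨(u : G), h.le_centralizer_rotation hσU hy u.2⟩ : centralizer ({y} : Set G)))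
    (fun u hu => by simpa using hu) (fun a _ b _ e => Subtype.ext (congrArg Subtype.val e :)) (fun c hc => ?_)
    (fun u _ => ?_)).symm
  · have hconj : IsConj (v₀ : G) (c : G) := by simpa using hc
    have hodd : Odd (orderOf (c : G)) := by
      obtain ⟨g, hg⟩ := isConj_iff.1 hconj
      rw [← hg, show g * (v₀ : G) * g⁻¹ = MulAut.conj g (v₀ : G) from rfl, MulEquiv.orderOf_eq]
      exact h.odd_of_mem v₀.2
    exact ⟨⟨(c : G), h.mem_core_of_odd (h.centralizer_rotation_sub hy hy1 c.2) hodd⟩, by simpa using hconj, rfl⟩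
  · have := h.clifford_core hσU hy hy1 η lam hlam hne u
    field_simp
    linear_combination -this

/-- Two invariant characters of the core under one character. -/
theorem separation_fixed [Fintype G] [Fintype ↥(coreCent (central σ n))] {M : Ideal AlgInt} (hM : IsPModular 2 M)
    {φ : ↥(coreCent (central σ n)) →* ℂˣ} (hφ : ∀ v, φ (h.act v) = φ v)
    (lam : IrrCharacter ↥(coreCent (central σ n))) (hlam : h.twist (lam : coreCent (central σ n) → ℂ) = lam)
    (hne : (lam : coreCent (central σ n) → ℂ) ≠ fun v => (φ v : ℂ)) (ξ : IrrCharacter G)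
    (h1 : proj (coreCent (central σ n)) (lam : coreCent (central σ n) → ℂ) (ξ : G → ℂ) (central σ n) ≠ 0)
    {y : G} (hy : y ∈ zpowers σ) (hy1 : y ≠ 1) :
    proj (coreCent (central σ n)) (fun v => (φ v : ℂ)) (ξ : G → ℂ) y = 0 := by
  classical
  by_contra h2
  haveI : Fact (Nat.Prime 2) := ⟨Nat.prime_two⟩
  set μ : IrrCharacter ↥(coreCent (central σ n)) := ⟨fun v => (φ v : ℂ), Char.isIrr_linear φ⟩ with hμ
  have hμfix : h.twist (μ : coreCent (central σ n) → ℂ) = μ := funext fun v => by
    show ((φ (h.act v) : ℂˣ) : ℂ) = _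
    rw [hφ]
  have hJ1 : central σ n ≠ 1 := fun e => by
    have h0 := h.orderOf_central
    rw [e, orderOf_one] at h0
    omega
  obtain ⟨η, hη, hηl⟩ := h.exists_inducing hσU h.central_mem_zpowers hJ1 hM ξ _ h1
  obtain ⟨η', hη', hηl'⟩ := h.exists_inducing hσU hy hy1 hM ξ (μ : coreCent (central σ n) → ℂ) h2
  obtain ⟨d, hd⟩ := Char.IsChar.one_eq_nat (Char.IsIrr.isCharacter lam.2)
  have hint : ∀ u, MemLocalRing M ((lam : coreCent (central σ n) → ℂ) u) := fun u =>
    ring_of_integral hM (Char.IsChar.isIntegral (Char.IsIrr.isCharacter lam.2) u)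
  have hintφ : ∀ u, MemLocalRing M ((φ u : ℂˣ) : ℂ) := fun u =>
    ring_of_integral hM (Char.IsChar.isIntegral (Char.IsIrr.isCharacter μ.2) u)
  have hconjφ : ∀ u, conj ((φ u : ℂˣ) : ℂ) = ((φ u⁻¹ : ℂˣ) : ℂ) := fun u =>
    (Char.IsChar.apply_inv (Char.IsIrr.isCharacter μ.2) u).symm
  set F : coreCent (central σ n) → coreCent (central σ n) → ℂ := fun v₀ u =>
    if IsConj (v₀ : G) (u : G) then (lam : coreCent (central σ n) → ℂ) u - (d : ℂ) * (φ u : ℂ) else 0 with hF
  set R := Finset.univ.filter (fun u : coreCent (central σ n) => h.act u = u) with hR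
  have hconjact : ∀ u : coreCent (central σ n), IsConj (u : G) (h.act u : G) := fun u =>
    isConj_iff.2 ⟨τ, (h.act_val u).symm⟩
  have hfixsum : ∀ f : coreCent (central σ n) → ℂ, (∀ u, MemLocalRing M (f u)) → (∀ u, f (h.act u) = f u) →
      MemLocalIdeal M (∑ u, f u) → MemLocalIdeal M (∑ u ∈ R, f u) := by
    intro f hf hs htot
    have hinv := Cfsg.Agent.Char.RealBlock.ideal_sum_involutive hM (fun u => h.act u) h.act_act
      (F := fun u => if h.act u = u then 0 else f u) (fun u => by
        split_ifs
        exacts [ring_zero hM, hf u]) (fun u => by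
        by_cases hu : h.act u = u
        · simp only [hu, if_true, sub_self]; exact ideal_zero hM
        · have hu' : ¬ h.act (h.act u) = h.act u := fun e => hu (by rw [h.act_act] at e; exact e.symm)
          simp only [if_neg hu, if_neg hu', hs, sub_self]; exact ideal_zero hM)
      (fun u hu => by simp only [hu, if_true]; exact ideal_zero hM)
    have e : ∑ u ∈ R, f u = ∑ u, f u - ∑ u, (if h.act u = u then 0 else f u) := by
      rw [← Finset.sum_sub_distrib, hR, Finset.sum_filter]
      exact Finset.sum_congr rfl fun u _ => by split_ifs <;> ring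
    rw [e]
    exact ideal_sub hM htot hinv
  have hclass : ∀ v₀ : coreCent (central σ n), MemLocalIdeal M (∑ u ∈ R, F v₀ u) := by
    intro v₀
    refine hfixsum (F v₀) (fun u => ?_) (fun u => ?_) ?_
    · simp only [hF]
      split_ifs
      exacts [ring_sub hM (hint u) (ring_mul hM (ring_natCast hM d) (hintφ u)), ring_zero hM]
    · simp only [hF]
      refine if_congr ⟨fun e => e.trans (hconjact u).symm, fun e => e.trans (hconjact u)⟩ ?_ rfl
      rw [hφ, show (lam : coreCent (central σ n) → ℂ) (h.act u) = (lam : coreCent (central σ n) → ℂ) u from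
        congrFun hlam u]
    · have e1 := h.induced_value hσU h.central_mem_zpowers hJ1 η lam hlam hηl v₀
      have e2 := h.induced_value hσU hy hy1 η' μ hμfix hηl' v₀
      rw [show (μ : coreCent (central σ n) → ℂ) 1 = 1 by simp [hμ], one_mul] at e2
      have hd' := ideal_sub hM
        (hη.2.2 η (mem_blockOf_self hM η) ξ (mem_blockOf_self hM ξ) (v₀ : G))
        (hη'.2.2 η' (mem_blockOf_self hM η') ξ (mem_blockOf_self hM ξ) (v₀ : G))
      rw [sub_sub_sub_cancel_right] at hd'
      have hmul := ideal_mul_left hM (ring_natCast hM d) hd'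
      have e3 : ∑ u, F v₀ u = (d : ℂ) * (inducedCentralChar (centralizer ({central σ n} : Set G))
          (η : centralizer ({central σ n} : Set G) → ℂ) v₀ -
        inducedCentralChar (centralizer ({y} : Set G))
          (η' : centralizer ({y} : Set G) → ℂ) v₀) := by
        rw [mul_sub, ← hd, e1, e2, Finset.mul_sum, ← Finset.sum_sub_distrib]
        refine Finset.sum_congr rfl fun u _ => ?_
        simp only [hF, hμ, hd]
        split_ifs <;> ring
      rw [e3]
      exact hmul
  -- the classes
  have hsum1 : MemLocalIdeal M (∑ u ∈ R, conj ((φ u : ℂˣ) : ℂ) *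
      ((lam : coreCent (central σ n) → ℂ) u - (d : ℂ) * (φ u : ℂ))) := by
    rw [← Finset.sum_fiberwise_of_maps_to (g := fun u : coreCent (central σ n) => ConjClasses.mk (u : G))
      (t := R.image fun u : coreCent (central σ n) => ConjClasses.mk (u : G))
      (fun u hu => Finset.mem_image_of_mem _ hu)]
    refine ideal_sum hM fun k hk => ?_
    obtain ⟨v₀, hv₀, rfl⟩ := Finset.mem_image.1 hk
    rw [Finset.sum_congr rfl (g := fun u => conj ((φ v₀ : ℂˣ) : ℂ) * F v₀ u) fun u hu => by
      obtain ⟨huR, hu'⟩ := Finset.mem_filter.1 hu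
      have hc : IsConj (v₀ : G) (u : G) := (ConjClasses.mk_eq_mk_iff_isConj.1 hu').symm
      simp only [hF, if_pos hc]
      rw [h.linear_eq_of_isConj hσU hφ (Finset.mem_filter.1 hv₀).2 (Finset.mem_filter.1 huR).2 hc],
      ← Finset.mul_sum, hconjφ]
    refine ideal_mul_left hM (hintφ _) ?_
    rw [Finset.sum_filter]
    refine (congrArg (MemLocalIdeal M) (Finset.sum_congr rfl fun u _ => ?_)).mp (hclass v₀)
    simp only [hF]
    by_cases hc : IsConj (v₀ : G) (u : G)
    · rw [if_pos hc, if_pos (ConjClasses.mk_eq_mk_iff_isConj.2 hc.symm)]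
    · rw [if_neg hc, if_neg fun e => hc (ConjClasses.mk_eq_mk_iff_isConj.1 e).symm]
  have hone : ∀ u, conj ((φ u : ℂˣ) : ℂ) * (φ u : ℂ) = 1 := fun u => by
    rw [hconjφ, map_inv, ← Units.val_mul, inv_mul_cancel, Units.val_one]
  have hsum2 : MemLocalIdeal M (∑ u ∈ R, conj ((φ u : ℂˣ) : ℂ) * (lam : coreCent (central σ n) → ℂ) u) := by
    refine hfixsum _ (fun u => ring_mul hM (by rw [hconjφ]; exact hintφ _) (hint u)) (fun u => ?_) ?_
    · rw [hφ, show (lam : coreCent (central σ n) → ℂ) (h.act u) = (lam : coreCent (central σ n) → ℂ) u from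
        congrFun hlam u]
    · have h0 := Char.classInner_irr_ne lam.2 μ.2 hne
      rw [classInner, mul_eq_zero] at h0
      have h0' := h0.resolve_left (inv_ne_zero (Nat.cast_ne_zero.2 Nat.card_pos.ne'))
      rw [Finset.sum_congr rfl fun u _ => mul_comm _ _]
      exact h0' ▸ ideal_zero hM
  have h3 := ideal_sub hM hsum2 hsum1
  rw [← Finset.sum_sub_distrib, Finset.sum_congr rfl (g := fun _ => (d : ℂ)) fun u _ => by
    linear_combination (d : ℂ) * hone u, Finset.sum_const, nsmul_eq_mul] at h3
  rw [← Nat.cast_mul, ideal_natCast_iff hM] at h3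
  have hRcard : R.card = Nat.card ↥(fixR (central σ n) τ) := by
    rw [← Nat.card_eq_finsetCard]
    exact Nat.card_congr
      { toFun := fun u => ⟨(u.1 : G), (h.act_eq_iff u.1).1 (Finset.mem_filter.1 u.2).2⟩
        invFun := fun r => ⟨⟨(r : G), r.2.1⟩, Finset.mem_filter.2 ⟨Finset.mem_univ _, (h.act_eq_iff _).2 r.2⟩⟩
        left_inv := fun _ => rfl
        right_inv := fun _ => rfl }
  have hdodd : Odd d := Odd.of_dvd_nat h.odd_coreCent (Char.IsIrr.degree_dvd_card lam.2 hd)
  have hRodd : Odd R.card := by rw [hRcard]; exact odd_of_le inf_le_left h.odd_coreCent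
  exact Nat.not_even_iff_odd.2 (hRodd.mul hdodd) (even_iff_two_dvd.2 h3)

end Hyp

end Cfsg.Agent.Invol.GW.Dihedral
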