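import Cfsg.Agent.Lib.Invol.GW.Dihedral.Local
import Cfsg.Agent.Lib.Invol.GW.Dihedral.TwistedFourier

/-!
# Gorenstein–Walter, dihedral case: the sections of the rotations when `σ` centralises the core

`proj U lam ξ y` is the coefficient of `lam` in `v ↦ ξ (v y)` on the core.  Over the rotations these coefficients
are orthogonal; their Fourier coefficients are rational integers with the inner products of `Fourier.gram`.
-/

set_option autoImplicit false
set_option linter.unusedSectionVars false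
set_option linter.style.haveILetI false

open scoped ComplexConjugate

namespace Cfsg.Agent.Invol.GW.Dihedral

open Subgroup Klein Block

universe u

variable {G : Type u} [Group G]

/-- The coefficient of `lam` in the coset of `y`. -/
noncomputable def proj (U : Subgroup G) [Fintype U] (lam : U → ℂ) (ξ : G → ℂ) (y : G) : ℂ :=
  classInner (fun v : U => ξ ((v : G) * y)) lam

/-- The Fourier coefficient of a section. -/
noncomputable def coeff (σ : G) (n : ℕ) [Fintype ↥(coreCent (central σ n))] (ζ : ℂ)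
    (lam : coreCent (central σ n) → ℂ) (ξ : G → ℂ) (k : ℕ) : ℂ :=
  Fourier.coef ζ (2 ^ (n - 1)) (fun l => proj (coreCent (central σ n)) lam ξ (σ ^ l)) k

variable [Finite G] {S : Sylow 2 G} {σ τ : G} {n : ℕ}

namespace Hyp

variable (h : Hyp S σ τ n)
include h

/-- The action of the reflection on the core. -/
noncomputable def act : ↥(coreCent (central σ n)) ≃* ↥(coreCent (central σ n)) :=
  sylowConj (h.le_normalizer_coreCent (h.le_centralizer h.hτ))

theorem act_val (v : coreCent (central σ n)) : (h.act v : G) = τ * v * τ⁻¹ := rfl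

/-- The conjugate of a function on the core by the reflection. -/
noncomputable def twist (lam : coreCent (central σ n) → ℂ) : coreCent (central σ n) → ℂ :=
  fun v => lam (h.act v)

theorem twist_irr {lam : coreCent (central σ n) → ℂ} (hl : IsIrrCharacter ↥(coreCent (central σ n)) lam) :
    IsIrrCharacter ↥(coreCent (central σ n)) (h.twist lam) :=
  Char.IsIrr.comp_mulEquiv h.act hl

theorem twist_twist (lam : coreCent (central σ n) → ℂ) : h.twist (h.twist lam) = lam := funext fun v => by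
  refine congrArg lam (Subtype.ext ?_)
  rw [act_val, act_val, show τ * (τ * (v : G) * τ⁻¹) * τ⁻¹ = τ * τ * v * (τ * τ)⁻¹ by group, h.tau_mul_self]
  simp

/-- A nontrivial rotation has a power equal to the central involution. -/
theorem rotation_half {y : G} (hy : y ∈ zpowers σ) (hy1 : y ≠ 1) :
    y ^ (orderOf y / 2) = central σ n := by
  haveI : Fact (Nat.Prime 2) := ⟨Nat.prime_two⟩
  obtain ⟨k, hk⟩ := pPow_of_mem S.isPGroup' (h.data.zpowers_le hy)
  have hd : 2 ∣ orderOf y := by
    rw [hk]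
    refine dvd_pow_self 2 fun e => hy1 (orderOf_eq_one_iff.1 ?_)
    rw [hk, e, pow_zero]
  have h2 := orderOf_pow_orderOf_div (orderOf_pos y).ne' hd
  rcases h.data.rotation_involution h.two_pow_eq (pow_mem hy _)
    (by rw [← pow_two, ← h2, pow_orderOf_eq_one]) with e | e
  · rw [e, orderOf_one] at h2
    omega
  · rw [e, h.exp_eq, central]

theorem pow_injective {i j : ℕ} (hi : i < 2 ^ (n - 1)) (hj : j < 2 ^ (n - 1)) (e : σ ^ i = σ ^ j) : i = j :=
  pow_injOn_Iio_orderOf (by rw [Set.mem_Iio, h.orderσ]; exact hi) (by rw [Set.mem_Iio, h.orderσ]; exact hj) e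

theorem pow_ne_one {i : ℕ} (hi : 0 < i) (him : i < 2 ^ (n - 1)) : σ ^ i ≠ 1 :=
  pow_ne_one_of_lt_orderOf hi.ne' (by rwa [h.orderσ])

theorem inv_pow_eq {i : ℕ} (hi : i ≤ 2 ^ (n - 1)) : (σ ^ i)⁻¹ = σ ^ (2 ^ (n - 1) - i) :=
  inv_eq_of_mul_eq_one_left (by rw [← pow_add, Nat.sub_add_cancel hi, ← h.orderσ, pow_orderOf_eq_one])

variable (hσU : ∀ u ∈ coreCent (central σ n), Commute σ u)
include hσU

theorem commute_rotation {y : G} (hy : y ∈ zpowers σ) {u : G} (hu : u ∈ coreCent (central σ n)) :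
    Commute y u := by
  obtain ⟨i, rfl⟩ := Subgroup.mem_zpowers_iff.1 hy
  exact (hσU u hu).zpow_left i

/-- An element carrying `v y` to `w y'`, for rotations `y`, `y'`, lies in the centraliser. -/
theorem mem_centralizer_of_conj {y y' : G} (hy : y ∈ zpowers σ) (hy1 : y ≠ 1) (hy' : y' ∈ zpowers σ)
    (hy'1 : y' ≠ 1) {v w : G} (hv : v ∈ coreCent (central σ n)) (hw : w ∈ coreCent (central σ n)) {g : G}
    (e : g * (v * y) * g⁻¹ = w * y') : g ∈ centralizer ({central σ n} : Set G) := by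
  haveI : Fact (Nat.Prime 2) := ⟨Nat.prime_two⟩
  have hp : ∀ {z a : G}, z ∈ zpowers σ → a ∈ coreCent (central σ n) → IsPPart 2 (a * z) z :=
    fun {z a} hz ha => ⟨a, (h.commute_rotation hσU hz ha).eq, h.commute_rotation hσU hz ha,
      pPow_of_mem S.isPGroup' (h.data.zpowers_le hz), fun hd => by
        have := h.odd_of_mem ha
        exact (Nat.not_even_iff_odd.2 this) (even_iff_two_dvd.2 hd)⟩
  obtain ⟨a, ha, hc, ⟨k, hk⟩, ho⟩ := hp hy hv
  have h1 : IsPPart 2 (w * y') (g * y * g⁻¹) :=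
    ⟨g * a * g⁻¹, by rw [← e, ← ha]; group, hc.map (MulAut.conj g).toMonoidHom,
      ⟨k, by rw [show g * y * g⁻¹ = MulAut.conj g y from rfl, MulEquiv.orderOf_eq, hk]⟩,
      by rwa [show g * a * g⁻¹ = MulAut.conj g a from rfl, MulEquiv.orderOf_eq]⟩
  have h2 := pPart_unique h1 (hp hy' hw)
  refine mem_centralizer_singleton_iff.2 (mul_inv_eq_iff_eq_mul.1 ?_)
  conv_lhs => rw [← h.rotation_half hy hy1, ← conj_pow, h2]
  rw [← h.rotation_half hy' hy'1, ← h2]
  congr 2
  exact (MulEquiv.orderOf_eq (MulAut.conj g) y).symm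

/-- The conjugates of `v y` in the cosets of the core. -/
theorem sum_conjugators [Fintype G] [DecidableEq G] [Fintype ↥(coreCent (central σ n))] [Fintype ↥(S : Subgroup G)]
    {y y' : G} (hy : y ∈ zpowers σ) (hy1 : y ≠ 1) (hy' : y' ∈ zpowers σ) (hy'1 : y' ≠ 1)
    (v : coreCent (central σ n)) {μ : coreCent (central σ n) → ℂ}
    (hμ : IsClassFunction ↥(coreCent (central σ n)) μ) :
    ∑ w : coreCent (central σ n), μ w * ∑ g : G, (if g * ((v : G) * y) * g⁻¹ = (w : G) * y' then (1 : ℂ) else 0) =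
      (Nat.card ↥(coreCent (central σ n)) : ℂ) * ∑ s : ↥(S : Subgroup G),
        if (s : G) * y * (s : G)⁻¹ = y' then
          μ ⟨(s : G) * v * (s : G)⁻¹, h.conj_core (h.le_centralizer s.2) v.2⟩ else 0 := by
  classical
  set f : ↥(coreCent (central σ n)) × ↥(S : Subgroup G) → G := fun q => (q.1 : G) * (q.2 : G) with hf
  have hinj : Function.Injective f := by
    rintro ⟨a, b⟩ ⟨a', b'⟩ e
    have h1 : (a' : G)⁻¹ * a ∈ coreCent (central σ n) ⊓ (S : Subgroup G) := by
      refine Subgroup.mem_inf.2 ⟨mul_mem (inv_mem a'.2) a.2, ?_⟩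
      rw [show (a' : G)⁻¹ * a = (b' : G) * (b : G)⁻¹ by
        rw [eq_mul_inv_iff_mul_eq, mul_assoc, inv_mul_eq_iff_eq_mul]; exact e]
      exact mul_mem b'.2 (inv_mem b.2)
    rw [h.coreCent_inf, mem_bot, inv_mul_eq_one] at h1
    refine Prod.ext (Subtype.ext h1.symm) (Subtype.ext ?_)
    simp only [hf, h1] at e
    exact mul_left_cancel e
  have hsum : ∀ w : coreCent (central σ n),
      ∑ g : G, (if g * ((v : G) * y) * g⁻¹ = (w : G) * y' then (1 : ℂ) else 0) =
        ∑ q : ↥(coreCent (central σ n)) × ↥(S : Subgroup G),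
          if f q * ((v : G) * y) * (f q)⁻¹ = (w : G) * y' then (1 : ℂ) else 0 := fun w => by
    rw [← Finset.sum_image (f := fun g => if g * ((v : G) * y) * g⁻¹ = (w : G) * y' then (1 : ℂ) else 0)
      fun a _ b _ e => hinj e]
    refine (Finset.sum_subset (Finset.subset_univ _) fun g _ hg => if_neg fun e => hg ?_).symm
    obtain ⟨a, ha, b, hb, e'⟩ := h.exists_mul (h.mem_centralizer_of_conj hσU hy hy1 hy' hy'1 v.2 w.2 e)
    exact Finset.mem_image.2 ⟨(⟨a, ha⟩, ⟨b, hb⟩), Finset.mem_univ _, e'⟩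
  simp only [hsum, Finset.mul_sum]
  rw [Finset.sum_comm, Fintype.sum_prod_type, Finset.sum_comm]
  refine Finset.sum_congr rfl fun s _ => ?_
  rw [Nat.card_eq_fintype_card, ← Finset.card_univ, ← nsmul_eq_mul, ← Finset.sum_const]
  refine Finset.sum_congr rfl fun a _ => ?_
  set sv : coreCent (central σ n) := ⟨(s : G) * v * (s : G)⁻¹, h.conj_core (h.le_centralizer s.2) v.2⟩ with hsv
  have hrot : (s : G) * y * (s : G)⁻¹ ∈ zpowers σ := by
    rcases h.data.pow_conj s.2 hy with e | e <;> rw [e]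
    exacts [hy, inv_mem hy]
  have hprod : f (a, s) * ((v : G) * y) * (f (a, s))⁻¹ =
      ((a * sv * a⁻¹ : coreCent (central σ n)) : G) * ((s : G) * y * (s : G)⁻¹) := by
    simp only [hf, hsv, Subgroup.coe_mul, Subgroup.coe_inv]
    calc _ = (a : G) * ((s : G) * v * (s : G)⁻¹) * ((s : G) * y * (s : G)⁻¹ * (a : G)⁻¹) := by group
      _ = _ := by rw [((h.commute_rotation hσU hrot (inv_mem a.2))).eq]; group
  have hiff : ∀ w : coreCent (central σ n), f (a, s) * ((v : G) * y) * (f (a, s))⁻¹ = (w : G) * y' ↔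
      w = a * sv * a⁻¹ ∧ (s : G) * y * (s : G)⁻¹ = y' := by
    intro w
    rw [hprod]
    refine ⟨fun e => ?_, fun ⟨e1, e2⟩ => by rw [e1, e2]⟩
    have h1 : (w : G)⁻¹ * ((a * sv * a⁻¹ : coreCent (central σ n)) : G) ∈
        coreCent (central σ n) ⊓ (S : Subgroup G) := by
      refine Subgroup.mem_inf.2 ⟨mul_mem (inv_mem w.2) (a * sv * a⁻¹).2, ?_⟩
      rw [show (w : G)⁻¹ * ((a * sv * a⁻¹ : coreCent (central σ n)) : G) = y' * ((s : G) * y * (s : G)⁻¹)⁻¹ by
        rw [eq_mul_inv_iff_mul_eq, mul_assoc, inv_mul_eq_iff_eq_mul]; exact e]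
      exact mul_mem (h.data.zpowers_le hy') (inv_mem (h.data.zpowers_le hrot))
    rw [h.coreCent_inf, mem_bot, inv_mul_eq_one] at h1
    have h1' : w = a * sv * a⁻¹ := Subtype.ext h1
    rw [h1'] at e
    exact ⟨h1', mul_left_cancel e⟩
  simp only [hiff, mul_ite, mul_one, mul_zero]
  by_cases hs : (s : G) * y * (s : G)⁻¹ = y'
  · simp only [hs, and_true, if_true, Finset.sum_ite_eq', Finset.mem_univ]
    exact hμ sv a
  · simp [hs]

/-- The orthogonality of the sections. -/
theorem proj_orth [Fintype G] [Fintype ↥(coreCent (central σ n))] (lam mu : IrrCharacter ↥(coreCent (central σ n)))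
    {i j : ℕ} (hi : 0 < i) (him : i < 2 ^ (n - 1)) (hj : 0 < j) (hjm : j < 2 ^ (n - 1))
    [Decidable ((mu : coreCent (central σ n) → ℂ) = (lam : coreCent (central σ n) → ℂ))]
    [Decidable (h.twist (mu : coreCent (central σ n) → ℂ) = (lam : coreCent (central σ n) → ℂ))] :
    ∑ ξ : IrrCharacter G, proj (coreCent (central σ n)) (lam : _ → ℂ) (ξ : G → ℂ) (σ ^ i) *
        conj (proj (coreCent (central σ n)) (mu : _ → ℂ) (ξ : G → ℂ) (σ ^ j)) =
      ((2 ^ (n - 1) : ℕ) : ℂ) *
        ((if i = j then (if (mu : coreCent (central σ n) → ℂ) = lam then 1 else 0) else 0) +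
          if i + j = 2 ^ (n - 1) then (if h.twist (mu : coreCent (central σ n) → ℂ) = lam then 1 else 0) else 0) := by
  classical
  cases nonempty_fintype ↥(S : Subgroup G)
  have hU0 : (Nat.card ↥(coreCent (central σ n)) : ℂ) ≠ 0 := Nat.cast_ne_zero.2 Nat.card_pos.ne'
  set F : G → ℂ := fun x => if x * σ ^ i * x⁻¹ = σ ^ j then
    ∑ v : (coreCent (central σ n)), conj ((lam : (coreCent (central σ n)) → ℂ) v) *
      (if hx : x * (v : G) * x⁻¹ ∈ (coreCent (central σ n)) then (mu : (coreCent (central σ n)) → ℂ) ⟨_, hx⟩ else 0) else 0 with hF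
  calc ∑ ξ : IrrCharacter G, proj (coreCent (central σ n)) (lam : _ → ℂ) (ξ : G → ℂ) (σ ^ i) *
        conj (proj (coreCent (central σ n)) (mu : _ → ℂ) (ξ : G → ℂ) (σ ^ j))
      = ((Nat.card ↥(coreCent (central σ n)) : ℂ))⁻¹ * (Nat.card ↥(coreCent (central σ n)) : ℂ)⁻¹ * ∑ v : (coreCent (central σ n)), conj ((lam : (coreCent (central σ n)) → ℂ) v) *
          ∑ w : (coreCent (central σ n)), (mu : (coreCent (central σ n)) → ℂ) w *
            ∑ g : G, (if g * ((v : G) * σ ^ i) * g⁻¹ = (w : G) * σ ^ j then (1 : ℂ) else 0) := by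
        simp only [← Dih.sum_irr_conjugators, proj, classInner, map_mul, map_inv₀, map_natCast, map_sum,
          Complex.conj_conj, Finset.mul_sum, Finset.sum_mul]
        rw [Finset.sum_comm]
        conv_rhs => rw [Finset.sum_comm]
        refine Finset.sum_congr rfl fun w _ => ?_
        rw [Finset.sum_comm]
        exact Finset.sum_congr rfl fun v _ => Finset.sum_congr rfl fun ξ _ => by ring
    _ = ((Nat.card ↥(coreCent (central σ n)) : ℂ))⁻¹ * ∑ s : ↥(S : Subgroup G), F s := by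
        rw [mul_assoc]
        congr 1
        rw [Finset.sum_congr rfl fun v _ => by
          rw [h.sum_conjugators hσU (h.data.gen_pow_mem i) (h.pow_ne_one hi him) (h.data.gen_pow_mem j)
            (h.pow_ne_one hj hjm) v (Char.IsIrr.classFun mu.2)]]
        simp only [Finset.mul_sum]
        rw [Finset.sum_comm]
        refine Finset.sum_congr rfl fun s _ => ?_
        simp only [hF]
        split_ifs with hs
        · refine Finset.sum_congr rfl fun v _ => ?_
          rw [dif_pos (h.conj_core (h.le_centralizer s.2) v.2)]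
          field_simp
        · simp
    _ = _ := by
        have h1 : ∀ l, F (σ ^ l) = if i = j then ∑ v : (coreCent (central σ n)), conj ((lam : (coreCent (central σ n)) → ℂ) v) * (mu : (coreCent (central σ n)) → ℂ) v else 0 :=
          fun l => by
            have e : σ ^ l * σ ^ i * (σ ^ l)⁻¹ = σ ^ i := by
              rw [((Commute.refl σ).pow_pow l i).eq, mul_inv_cancel_right]
            simp only [hF, e]
            refine if_congr ⟨h.pow_injective him hjm, fun e' => by rw [e']⟩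
              (Finset.sum_congr rfl fun v _ => ?_) rfl
            have ev : σ ^ l * (v : G) * (σ ^ l)⁻¹ = v := by
              rw [((hσU v v.2).pow_left l).eq, mul_inv_cancel_right]
            rw [dif_pos (by rw [ev]; exact v.2)]
            exact congrArg _ (congrArg _ (Subtype.ext ev))
        have h2 : ∀ l, F (τ * σ ^ l) =
            if i + j = 2 ^ (n - 1) then ∑ v : (coreCent (central σ n)), conj ((lam : (coreCent (central σ n)) → ℂ) v) * h.twist (mu : (coreCent (central σ n)) → ℂ) v else 0 :=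
          fun l => by
            have e : τ * σ ^ l * σ ^ i * (τ * σ ^ l)⁻¹ = σ ^ (2 ^ (n - 1) - i) := by
              rw [show τ * σ ^ l * σ ^ i * (τ * σ ^ l)⁻¹ = τ * (σ ^ l * σ ^ i * (σ ^ l)⁻¹) * τ⁻¹ by group,
                ((Commute.refl σ).pow_pow l i).eq, mul_inv_cancel_right, ← conj_pow, h.rel, inv_pow,
                h.inv_pow_eq him.le]
            simp only [hF, e]
            refine if_congr ⟨fun e' => ?_, fun e' => by rw [show 2 ^ (n - 1) - i = j by omega]⟩
              (Finset.sum_congr rfl fun v _ => ?_) rfl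
            · have := h.pow_injective (by omega) hjm e'
              omega
            have ev : τ * σ ^ l * (v : G) * (τ * σ ^ l)⁻¹ = τ * v * τ⁻¹ := by
              rw [show τ * σ ^ l * (v : G) * (τ * σ ^ l)⁻¹ = τ * (σ ^ l * v * (σ ^ l)⁻¹) * τ⁻¹ by group,
                ((hσU v v.2).pow_left l).eq, mul_inv_cancel_right]
            rw [dif_pos (by rw [ev]; exact (h.act v).2)]
            exact congrArg _ (congrArg _ (Subtype.ext ev))
        have hin : ∀ μ' : (coreCent (central σ n)) → ℂ, IsIrrCharacter ↥(coreCent (central σ n)) μ' → ∀ [Decidable (μ' = (lam : (coreCent (central σ n)) → ℂ))],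
            ∑ v : (coreCent (central σ n)), conj ((lam : (coreCent (central σ n)) → ℂ) v) * μ' v =
              (Nat.card ↥(coreCent (central σ n)) : ℂ) * if μ' = (lam : (coreCent (central σ n)) → ℂ) then 1 else 0 := fun μ' hμ' _ => by
          rw [← Char.classInner_irr_eq_ite hμ' lam.2, classInner, mul_inv_cancel_left₀ hU0]
          exact Finset.sum_congr rfl fun v _ => mul_comm _ _
        rw [h.data.sum_elements h.hτ h.rel F]
        simp only [h1, h2, Finset.sum_const, Finset.card_range, nsmul_eq_mul, hin _ mu.2,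
          hin _ (h.twist_irr mu.2)]
        split_ifs <;> field_simp <;> ring

/-- The sections are orthogonal to the degrees. -/
theorem proj_degree [Fintype G] [Fintype ↥(coreCent (central σ n))] (lam : coreCent (central σ n) → ℂ) {y : G}
    (hy : y ∈ zpowers σ) (hy1 : y ≠ 1) :
    ∑ ξ : IrrCharacter G, proj (coreCent (central σ n)) lam (ξ : G → ℂ) y * (ξ : G → ℂ) 1 = 0 := by
  classical
  simp only [proj, classInner, Finset.mul_sum, Finset.sum_mul]
  rw [Finset.sum_comm]
  refine Finset.sum_eq_zero fun v _ => ?_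
  have hne : (v : G) * y ≠ 1 := fun e => hy1 (by
    have h1 : y ∈ coreCent (central σ n) ⊓ (S : Subgroup G) :=
      Subgroup.mem_inf.2 ⟨eq_inv_of_mul_eq_one_right e ▸ inv_mem v.2, h.data.zpowers_le hy⟩
    rwa [h.coreCent_inf, mem_bot] at h1)
  have h0 : ∑ ξ : IrrCharacter G, (ξ : G → ℂ) ((v : G) * y) * conj ((ξ : G → ℂ) 1) = 0 := by
    rw [Dih.sum_irr_conjugators]
    exact Finset.sum_eq_zero fun g _ => if_neg fun e => hne (conj_eq_one_iff.1 e)
  rw [Finset.sum_congr rfl (g := fun ξ : IrrCharacter G => ((Nat.card ↥(coreCent (central σ n)) : ℂ)⁻¹ *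
    conj (lam v)) * ((ξ : G → ℂ) ((v : G) * y) * conj ((ξ : G → ℂ) 1))) fun ξ _ => by
      rw [charDeg_spec' ξ, Complex.conj_natCast]; ring, ← Finset.mul_sum, h0, mul_zero]

theorem coeff_degree [Fintype G] [Fintype ↥(coreCent (central σ n))] (ζ : ℂ)
    (lam : coreCent (central σ n) → ℂ) (k : ℕ) :
    ∑ ξ : IrrCharacter G, coeff σ n ζ lam (ξ : G → ℂ) k * (ξ : G → ℂ) 1 = 0 := by
  simp only [coeff, Fourier.coef, Finset.mul_sum, Finset.sum_mul]
  rw [Finset.sum_comm]
  refine Finset.sum_eq_zero fun l hl => ?_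
  rcases Nat.eq_zero_or_pos l with rfl | hl0
  · simp
  rw [Finset.sum_congr rfl (g := fun ξ : IrrCharacter G => (((2 ^ (n - 1) : ℕ) : ℂ)⁻¹ *
    ((ζ ^ (2 ^ (n - 1) - k)) ^ l - 1)) *
      (proj (coreCent (central σ n)) lam (ξ : G → ℂ) (σ ^ l) * (ξ : G → ℂ) 1)) fun ξ _ => by ring,
    ← Finset.mul_sum, h.proj_degree hσU lam (h.data.gen_pow_mem l) (h.pow_ne_one hl0 (Finset.mem_range.1 hl)),
    mul_zero]

theorem coeff_gram [Fintype G] [Fintype ↥(coreCent (central σ n))] {ζ : ℂ}
    (hζ : IsPrimitiveRoot ζ (2 ^ (n - 1))) (lam mu : IrrCharacter ↥(coreCent (central σ n)))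
    {k k' : ℕ} (hk0 : 0 < k) (hk : k < 2 ^ (n - 1)) (hk0' : 0 < k') (hk' : k' < 2 ^ (n - 1))
    [Decidable ((mu : coreCent (central σ n) → ℂ) = (lam : coreCent (central σ n) → ℂ))]
    [Decidable (h.twist (mu : coreCent (central σ n) → ℂ) = (lam : coreCent (central σ n) → ℂ))] :
    ∑ ξ : IrrCharacter G, coeff σ n ζ (lam : _ → ℂ) (ξ : G → ℂ) k *
        conj (coeff σ n ζ (mu : _ → ℂ) (ξ : G → ℂ) k') =
      (if (mu : coreCent (central σ n) → ℂ) = lam then 1 else 0) * ((if k = k' then 1 else 0) + 1) +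
        (if h.twist (mu : coreCent (central σ n) → ℂ) = lam then 1 else 0) *
          ((if k + k' = 2 ^ (n - 1) then 1 else 0) + 1) :=
  Fourier.gram hζ _ _ _ _ (fun _ _ hl hlm hl' hl'm => h.proj_orth hσU lam mu hl hlm hl' hl'm) hk0 hk hk0' hk'

/-- The coefficients are rational integers. -/
theorem coeff_int [Fintype G] [Fintype ↥(coreCent (central σ n))] {ζ : ℂ}
    (hζ : IsPrimitiveRoot ζ (2 ^ (n - 1))) {lam : coreCent (central σ n) → ℂ}
    (hlam : IsCharacter ↥(coreCent (central σ n)) lam) (ξ : IrrCharacter G) {k : ℕ} (hk : k ≤ 2 ^ (n - 1)) :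
    ∃ z : ℤ, coeff σ n ζ lam (ξ : G → ℂ) k = z := by
  classical
  cases nonempty_fintype ↥(zpowers σ)
  have hm0 : 0 < 2 ^ (n - 1) := by positivity
  have hzc : Nat.card ↥(zpowers σ) = 2 ^ (n - 1) := h.data.card_zpowers
  let Φ : ↥(coreCent (central σ n)) × ↥(zpowers σ) →* G :=
    MonoidHom.noncommCoprod (coreCent (central σ n)).subtype (zpowers σ).subtype fun u z =>
      (h.commute_rotation hσU z.2 u.2).symm
  have hΦ : ∀ q, Φ q = (q.1 : G) * (q.2 : G) := fun _ => rfl
  have key : ∀ j : ℕ, ∃ c : ℕ, ((2 ^ (n - 1) : ℕ) : ℂ)⁻¹ * ∑ l ∈ Finset.range (2 ^ (n - 1)),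
      proj (coreCent (central σ n)) lam (ξ : G → ℂ) (σ ^ l) * conj ((ζ ^ j) ^ l) = c := by
    intro j
    have hz1 : (ζ ^ j) ^ orderOf σ = 1 := by
      rw [h.orderσ, ← pow_mul, mul_comm, pow_mul, hζ.pow_eq_one, one_pow]
    set zu : ℂˣ := Units.mk0 (ζ ^ j) (pow_ne_zero _ (hζ.ne_zero hm0.ne')) with hzu
    have hgen : ∀ z : ↥(zpowers σ), z ∈ zpowers (⟨σ, mem_zpowers σ⟩ : ↥(zpowers σ)) := fun z => by
      obtain ⟨i, hi⟩ := Subgroup.mem_zpowers_iff.1 z.2
      exact Subgroup.mem_zpowers_iff.2 ⟨i, Subtype.ext (by simpa using hi)⟩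
    have hdvd : orderOf zu ∣ orderOf (⟨σ, mem_zpowers σ⟩ : ↥(zpowers σ)) := by
      rw [Subgroup.orderOf_mk]
      exact orderOf_dvd_of_pow_eq_one (Units.ext (by rw [Units.val_pow_eq_pow_val, hzu, Units.val_mk0, hz1, Units.val_one]))
    let χk : ↥(zpowers σ) →* ℂˣ := monoidHomOfForallMemZpowers hgen hdvd
    have hχk : ∀ l : ℕ, ((χk ⟨σ ^ l, pow_mem (mem_zpowers σ) l⟩ : ℂˣ) : ℂ) = (ζ ^ j) ^ l := fun l => by
      rw [show (⟨σ ^ l, pow_mem (mem_zpowers σ) l⟩ : ↥(zpowers σ)) = ⟨σ, mem_zpowers σ⟩ ^ l from Subtype.ext rfl,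
        map_pow]
      simp [χk, hzu]
    obtain ⟨c, hc⟩ := Char.IsChar.classInner_nat (Char.IsChar.comp Φ (irr_isChar ξ))
      (Char.IsChar.mul (Char.IsChar.comp (MonoidHom.fst ↥(coreCent (central σ n)) ↥(zpowers σ)) hlam)
        (Char.IsChar.comp (MonoidHom.snd ↥(coreCent (central σ n)) ↥(zpowers σ)) (Char.IsIrr.isCharacter (Char.isIrr_linear χk))))
    refine ⟨c, ?_⟩
    rw [← hc]
    simp only [proj, classInner, Nat.card_prod, hzc, Nat.cast_mul, mul_inv, Fintype.sum_prod_type, Finset.mul_sum,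
      Finset.sum_mul]
    rw [Finset.sum_comm]
    refine Finset.sum_congr rfl fun v _ => ?_
    rw [← Fintype.sum_equiv (finEquivZPowers (isOfFinOrder_of_finite σ)) _ _ (fun _ => rfl),
      ← (finCongr h.orderσ).symm.sum_comp, ← Fin.sum_univ_eq_sum_range]
    refine Finset.sum_congr rfl fun l _ => ?_
    rw [finEquivZPowers_apply]
    simp only [hΦ, Pi.mul_apply, MonoidHom.coe_fst, MonoidHom.coe_snd,
      finCongr_symm, finCongr_apply, Fin.coe_cast, Subgroup.coe_subtype, map_mul]
    rw [hχk]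
    ring
  obtain ⟨c, hc⟩ := key k
  obtain ⟨c₀, hc₀⟩ := key 0
  refine ⟨(c : ℤ) - c₀, ?_⟩
  push_cast
  rw [← hc, ← hc₀, coeff, Fourier.coef, ← mul_sub, ← Finset.sum_sub_distrib]
  congr 1
  refine Finset.sum_congr rfl fun l _ => ?_
  rw [← Fourier.conj_pow_sub hζ hm0 hk, map_pow, Complex.conj_conj, pow_zero, one_pow, map_one, mul_one]
  ring

end Hyp

end Cfsg.Agent.Invol.GW.Dihedral
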