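import Cfsg.Agent.Lib.Invol.GW.Dihedral.Blocks
import Cfsg.Agent.Lib.Invol.GW.Dihedral.TwistedProj

/-!
# Gorenstein–Walter, dihedral case: pairs of involutions against a linear character of the core

For a linear character `φ` of the core fixed by the reflection, the products of two involutions in the cosets of
the rotations see `φ` as trivial: the sum `∑ ξ(t)² / ξ(1) · proj φ ξ` is the sum over the principal block.
-/

set_option autoImplicit false
set_option linter.unusedSectionVars false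
set_option linter.style.haveILetI false

open scoped ComplexConjugate

namespace Cfsg.Agent.Invol.GW.Dihedral

open Subgroup Klein Block

universe u

variable {G : Type u} [Group G] [Finite G] {S : Sylow 2 G} {σ τ : G} {n : ℕ}

namespace Hyp

variable (h : Hyp S σ τ n)
include h

/-- The decomposition `U S` is unique. -/
theorem eq_of_mul_eq {a a' z z' : G} (ha : a ∈ coreCent (central σ n)) (ha' : a' ∈ coreCent (central σ n))
    (hz : z ∈ (S : Subgroup G)) (hz' : z' ∈ (S : Subgroup G)) (e : a * z = a' * z') : a = a' ∧ z = z' := by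
  have h1 : a'⁻¹ * a ∈ coreCent (central σ n) ⊓ (S : Subgroup G) := by
    refine Subgroup.mem_inf.2 ⟨mul_mem (inv_mem ha') ha, ?_⟩
    rw [show a'⁻¹ * a = z' * z⁻¹ by rw [eq_mul_inv_iff_mul_eq, mul_assoc, inv_mul_eq_iff_eq_mul]; exact e]
    exact mul_mem hz' (inv_mem hz)
  rw [h.coreCent_inf, mem_bot, inv_mul_eq_one] at h1
  subst h1
  exact ⟨rfl, mul_left_cancel e⟩

variable (hσU : ∀ u ∈ coreCent (central σ n), Commute σ u)
include hσU

theorem fixR_eq : fixR (central σ n) (σ * τ) = fixR (central σ n) τ := by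
  ext x
  refine and_congr_right fun hx => ?_
  have hc : Commute σ x := hσU x hx
  show x ∈ centralizer ({σ * τ} : Set G) ↔ x ∈ centralizer ({τ} : Set G)
  rw [mem_centralizer_singleton_iff, mem_centralizer_singleton_iff]
  refine ⟨fun e => ?_, fun e => ?_⟩
  · have h1 : Commute x (σ⁻¹ * (σ * τ)) := hc.symm.inv_right.mul_right e
    rw [inv_mul_cancel_left] at h1
    exact h1.eq
  · exact (hc.symm.mul_right (show Commute x τ from e)).eq

theorem idx_eq : idx σ (σ * τ) n = idx σ τ n := by rw [idx, idx, h.fixR_eq hσU]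

/-- A function fixed by the reflection is fixed by the Sylow subgroup. -/
theorem invariant_conj {α : Sort*} {φ : ↥(coreCent (central σ n)) → α} (hφ : ∀ v, φ (h.act v) = φ v) {s : G}
    (hs : s ∈ (S : Subgroup G)) (v : coreCent (central σ n)) :
    φ ⟨s * v * s⁻¹, h.conj_core (h.le_centralizer hs) v.2⟩ = φ v := by
  rcases h.data.cases s hs with hr | ⟨-, -, hsσ⟩
  · exact congrArg φ (Subtype.ext (show s * (v : G) * s⁻¹ = v by
      rw [(h.commute_rotation hσU hr v.2).eq, mul_inv_cancel_right]))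
  · have hz : s * τ⁻¹ ∈ zpowers σ := by
      refine h.data.centralizer_rotation (mem_zpowers σ) (fun e => ?_) (mul_mem hs (inv_mem h.hτ)) ?_
      · have h2 := orderOf_le_of_pow_eq_one (x := σ) (n := 2) (by norm_num) (by rw [pow_two]; exact e)
        rw [h.orderσ] at h2
        have := h.four_le
        omega
      · have e1 : τ⁻¹ * σ = σ⁻¹ * τ⁻¹ := by
          have := h.rel
          rw [mul_inv_eq_iff_eq_mul] at this
          rw [inv_mul_eq_iff_eq_mul, ← mul_assoc, eq_mul_inv_iff_mul_eq, eq_comm, mul_inv_eq_iff_eq_mul.2]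
          rw [mul_assoc, this, mul_inv_cancel_left]
        rw [mul_inv_eq_iff_eq_mul] at hsσ
        calc s * τ⁻¹ * σ = s * σ⁻¹ * τ⁻¹ := by rw [mul_assoc, e1, mul_assoc]
          _ = σ * (s * τ⁻¹) := by
            rw [show s * σ⁻¹ = σ * s by
              rw [mul_inv_eq_iff_eq_mul, mul_assoc, hsσ, mul_inv_cancel_left], mul_assoc]
    rw [← hφ v]
    refine congrArg φ (Subtype.ext ?_)
    rw [h.act_val]
    have hc : Commute (s * τ⁻¹) (τ * v * τ⁻¹) := h.act_val v ▸ h.commute_rotation hσU hz (h.act v).2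
    calc s * (v : G) * s⁻¹ = (s * τ⁻¹) * (τ * v * τ⁻¹) * (s * τ⁻¹)⁻¹ := by group
      _ = _ := by rw [hc.eq, mul_inv_cancel_right]

/-- The products of two involutions see the character as trivial. -/
theorem pair_trivial [Fintype G] [DecidableEq G] {φ : ↥(coreCent (central σ n)) →* ℂˣ}
    (hφ : ∀ v, φ (h.act v) = φ v) {y : G} (hy : y ∈ zpowers σ) (hy1 : y ≠ 1) (v : coreCent (central σ n))
    (hv : ∑ p : G × G, (if p.1 * central σ n * p.1⁻¹ * (p.2 * central σ n * p.2⁻¹) = ((v : G) * y)⁻¹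
      then (1 : ℂ) else 0) ≠ 0) : φ v = 1 := by
  obtain ⟨⟨g, k⟩, -, hp⟩ := Finset.exists_ne_zero_of_sum_ne_zero hv
  have e : g * central σ n * g⁻¹ * (k * central σ n * k⁻¹) = ((v : G) * y)⁻¹ := by
    by_contra hno
    exact hp (if_neg hno)
  have hJ : central σ n * central σ n = 1 := by rw [← pow_two, ← h.orderOf_central, pow_orderOf_eq_one]
  set a := g * central σ n * g⁻¹ with ha
  set b := k * central σ n * k⁻¹ with hb
  have haa : a * a = 1 := by
    rw [ha, show g * central σ n * g⁻¹ * (g * central σ n * g⁻¹) = g * (central σ n * central σ n) * g⁻¹ by group, hJ]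
    group
  have hbb : b * b = 1 := by
    rw [hb, show k * central σ n * k⁻¹ * (k * central σ n * k⁻¹) = k * (central σ n * central σ n) * k⁻¹ by group, hJ]
    group
  have hai : a⁻¹ = a := inv_eq_of_mul_eq_one_left haa
  have hinv : a * ((v : G) * y) * a⁻¹ = ((v : G) * y)⁻¹ := by
    rw [show (v : G) * y = b * a by
      rw [← inv_inv ((v : G) * y), ← e, mul_inv_rev, hai, inv_eq_of_mul_eq_one_left hbb]]
    rw [hai, mul_inv_rev, hai, inv_eq_of_mul_eq_one_left hbb]
    calc a * (b * a) * a = a * b * (a * a) := by group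
      _ = a * b := by rw [haa, mul_one]
  have hyS := h.data.zpowers_le hy
  have haC : a ∈ centralizer ({central σ n} : Set G) :=
    h.mem_centralizer_of_inverted v.2 (h.le_centralizer hyS) (h.rotation_half hy hy1) hinv
  obtain ⟨u₀, hu₀, s, hs, e'⟩ := h.exists_mul haC
  have hrot : s * y * s⁻¹ ∈ zpowers σ := by
    rcases h.data.pow_conj hs hy with e1 | e1 <;> rw [e1]
    exacts [hy, inv_mem hy]
  have hsplit : a * ((v : G) * y) * a⁻¹ = (u₀ * (s * v * s⁻¹) * u₀⁻¹) * (s * y * s⁻¹) := by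
    rw [← e']
    calc _ = u₀ * (s * v * s⁻¹) * ((s * y * s⁻¹) * u₀⁻¹) := by group
      _ = _ := by rw [(h.commute_rotation hσU hrot (inv_mem hu₀)).eq]; group
  rw [hinv, mul_inv_rev, ((h.commute_rotation hσU hy v.2).inv_inv).eq] at hsplit
  obtain ⟨e1, -⟩ := h.eq_of_mul_eq (inv_mem v.2)
    (mul_mem (mul_mem hu₀ (h.conj_core (h.le_centralizer hs) v.2)) (inv_mem hu₀))
    (inv_mem hyS) (h.data.zpowers_le hrot) hsplit
  have e2 : φ v⁻¹ = φ v := by
    rw [show v⁻¹ = (⟨u₀, hu₀⟩ : coreCent (central σ n)) *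
        ⟨s * v * s⁻¹, h.conj_core (h.le_centralizer hs) v.2⟩ * ⟨u₀, hu₀⟩⁻¹ from Subtype.ext e1,
      map_mul, map_mul, map_inv, h.invariant_conj hσU (φ := φ) hφ hs v]
    exact mul_inv_cancel_comm _ _
  have h2 : φ v ^ 2 = 1 := by
    rw [pow_two]
    exact mul_eq_one_iff_eq_inv.2 (by rw [← map_inv, e2])
  obtain ⟨j, hj⟩ := h.odd_of_mem v.2
  have h3 : φ v ^ orderOf (v : G) = 1 := by
    rw [← map_pow, show v ^ orderOf (v : G) = 1 by rw [Subgroup.orderOf_coe]; exact pow_orderOf_eq_one v, map_one]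
  rwa [hj, pow_succ, pow_mul, h2, one_pow, one_mul] at h3

variable (P : Principal S σ τ n)

/-- The pair identity of the twisted sections. -/
theorem pair_identity {M : Ideal AlgInt} (hM : IsPModular 2 M) [Fintype G]
    [Fintype ↥(coreCent (central σ n))] {φ : ↥(coreCent (central σ n)) →* ℂˣ} (hφ : ∀ v, φ (h.act v) = φ v)
    {d : ℕ} (hd : d = 2 ^ (n - 2) ∨ (Odd d ∧ d < 2 ^ (n - 1))) :
    ∑ ξ : IrrCharacter G, (ξ : G → ℂ) (central σ n) ^ 2 / (ξ : G → ℂ) 1 *
        proj (coreCent (central σ n)) (fun v => (φ v : ℂ)) (ξ : G → ℂ) (σ ^ d) =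
      ((P.x : ℂ) - P.δ) ^ 2 / ((P.x : ℂ) * ((P.x : ℂ) + P.δ)) := by
  classical
  haveI : Fact (Nat.Prime 2) := ⟨Nat.prime_two⟩
  have hlt := h.half_lt
  have hdm : d < 2 ^ (n - 1) := by rcases hd with e | e <;> omega
  have hd0 : 0 < d := by
    rcases hd with e | ⟨e, -⟩
    · omega
    · exact e.pos
  have hy : σ ^ d ∈ zpowers σ := h.data.gen_pow_mem d
  have hy1 := h.pow_ne_one hd0 hdm
  have hyS := h.data.zpowers_le hy
  have hle : centralizer ({σ ^ d} : Set G) ≤ centralizer ({central σ n} : Set G) :=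
    h.centralizer_rotation_le (e := orderOf (σ ^ d) / 2) (by rw [pow_mul]; exact h.rotation_half hy hy1)
  have hidx : ∃ k : ℕ, ((coreCent (central σ n)).subgroupOf (centralizer ({σ ^ d} : Set G))).index = 2 ^ k := by
    haveI := h.core_normal
    have hdvd : (coreCent (central σ n)).relIndex (centralizer ({σ ^ d} : Set G)) ∣ 2 ^ n := by
      rw [← relIndex_subgroupOf hle, ← h.core_index]
      exact relIndex_dvd_index_of_normal _ _
    obtain ⟨j, -, hj⟩ := (Nat.dvd_prime_pow Nat.prime_two).1 hdvd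
    exact ⟨j, hj⟩
  set f : IrrCharacter G → ℂ := fun ξ => (ξ : G → ℂ) (central σ n) ^ 2 / (ξ : G → ℂ) 1 with hf
  have hU0 : (Nat.card ↥(coreCent (central σ n)) : ℂ) ≠ 0 := Nat.cast_ne_zero.2 Nat.card_pos.ne'
  have hG0 : (Nat.card G : ℂ) ≠ 0 := Nat.cast_ne_zero.2 Nat.card_pos.ne'
  have hK : ∀ v : coreCent (central σ n),
      conj ((φ v : ℂˣ) : ℂ) * ∑ ξ : IrrCharacter G, f ξ * (ξ : G → ℂ) ((v : G) * σ ^ d) =
        ∑ ξ : IrrCharacter G, f ξ * (ξ : G → ℂ) ((v : G) * σ ^ d) := fun v => by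
    by_cases hv : φ v = 1
    · rw [hv]; simp
    · have h0 : ∑ ξ : IrrCharacter G, f ξ * (ξ : G → ℂ) ((v : G) * σ ^ d) = 0 := by
        refine (mul_eq_zero.1 ?_).resolve_left hG0
        rw [hf, Dih.pair_function]
        by_contra hne
        exact hv (h.pair_trivial hσU hφ hy hy1 v hne)
      rw [h0, mul_zero]
  have hB : ∑ ξ : IrrCharacter G, f ξ * proj (coreCent (central σ n)) (fun v => (φ v : ℂ)) (ξ : G → ℂ) (σ ^ d) =
      ∑ᶠ ξ ∈ principalBlock M G, f ξ * (ξ : G → ℂ) (σ ^ d) := by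
    rw [finsum_mem_block, Finset.sum_filter]
    calc _ = (Nat.card ↥(coreCent (central σ n)) : ℂ)⁻¹ * ∑ v : coreCent (central σ n),
          conj ((φ v : ℂˣ) : ℂ) * ∑ ξ : IrrCharacter G, f ξ * (ξ : G → ℂ) ((v : G) * σ ^ d) := by
          simp only [proj, classInner, Finset.mul_sum]
          rw [Finset.sum_comm]
          exact Finset.sum_congr rfl fun v _ => Finset.sum_congr rfl fun ξ _ => by ring
      _ = (Nat.card ↥(coreCent (central σ n)) : ℂ)⁻¹ * ∑ ξ : IrrCharacter G, f ξ *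
          ∑ v : coreCent (central σ n), (ξ : G → ℂ) ((v : G) * σ ^ d) := by
          simp only [hK, Finset.mul_sum]
          rw [Finset.sum_comm]
      _ = _ := by
          rw [Finset.mul_sum]
          refine Finset.sum_congr rfl fun ξ _ => ?_
          rw [Dih.coset_sum hM (coreCent (central σ n)) (pPow_of_mem S.isPGroup' hyS)
            (h.le_normalizer_coreCent (h.le_centralizer hyS)) (hle.trans h.le_normalizer_coreCent)
            (fun hd => (Nat.not_even_iff_odd.2 h.odd_coreCent) (even_iff_two_dvd.2 hd)) hidx ξ]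
          split_ifs
          · rw [mul_left_comm, inv_mul_cancel_left₀ hU0]
          · rw [mul_zero, mul_zero]
  rw [hB]
  have e := h.pair_equation hM hd
  simp only [h.idx_eq hσU] at e
  rw [show (if Even d then (idx σ τ n : ℂ) ^ 2 + (idx σ τ n : ℂ) ^ 2 else 2 * (idx σ τ n : ℂ) * idx σ τ n) =
    2 * (idx σ τ n : ℂ) ^ 2 by split_ifs <;> ring] at e
  have hadd := P.idx_add
  rw [h.idx_eq hσU] at hadd
  have ha : (idx σ τ n : ℂ) = (P.m : ℂ) * P.Θ := by
    have : idx σ τ n = P.m * P.Θ := by rw [mul_assoc] at hadd; omega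
    rw [this, Nat.cast_mul]
  have hG : (Nat.card G : ℂ) = (2 : ℂ) ^ (n - 1) * (Nat.card ↥(coreCent (central σ n)) : ℂ) * (P.m : ℂ) ^ 2 *
      (P.x : ℂ) * ((P.x : ℂ) + P.δ) := by
    have := congrArg (fun z : ℤ => (z : ℂ)) (P.card_eq h)
    push_cast at this
    exact this
  have hX : (P.x : ℂ) - P.δ = (2 : ℂ) ^ n * P.Θ := by
    have := congrArg (fun z : ℤ => (z : ℂ)) P.two_pow_theta
    push_cast at this
    exact this
  have hq : (2 : ℂ) ^ (n - 1) = 2 * ((2 ^ (n - 2) : ℕ) : ℂ) := by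
    push_cast
    rw [← pow_succ']
    congr 1
    have := h.three
    omega
  have hxd : (P.x : ℂ) * ((P.x : ℂ) + P.δ) ≠ 0 := by
    refine mul_ne_zero (Nat.cast_ne_zero.2 P.x_pos.ne') ?_
    have := P.add_pos h
    exact_mod_cast this.ne'
  have hm0 : (P.m : ℂ) ≠ 0 := Nat.cast_ne_zero.2 P.m_odd.pos.ne'
  have hq0 : ((2 ^ (n - 2) : ℕ) : ℂ) ≠ 0 := Nat.cast_ne_zero.2 (by positivity)
  rw [eq_div_iff hxd, hX]
  refine mul_left_cancel₀ (show (2 : ℂ) * ((2 ^ (n - 2) : ℕ) : ℂ) * (P.m : ℂ) ^ 2 *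
    (Nat.card ↥(coreCent (central σ n)) : ℂ) ^ 2 ≠ 0 from
      mul_ne_zero (mul_ne_zero (mul_ne_zero two_ne_zero hq0) (pow_ne_zero 2 hm0)) (pow_ne_zero 2 hU0)) ?_
  rw [hG, hq, ha] at e
  simp only [hf]
  linear_combination e

end Hyp

end Cfsg.Agent.Invol.GW.Dihedral
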