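import Mathlib

/-!
# Gorenstein–Walter, dihedral: short vectors in a twisted block

A family of vectors of norm two with inner products one kills every short vector orthogonal to it.
-/

set_option autoImplicit false

namespace Cfsg.Agent.Invol.GW.Dihedral.TwistedCore

variable {ι : Type*} [DecidableEq ι]

/-- A short vector orthogonal to positive weights consists of units. -/
theorem units (S : Finset ι) (d : ι → ℕ) (hd : ∀ x, 0 < d x) (v : ι → ℤ) {N : ℕ} (hN : N ≤ 4)
    (hv : ∑ x ∈ S, v x * v x = N) (hdeg : ∑ x ∈ S, (d x : ℤ) * v x = 0) :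
    ∃ T ⊆ S, T.card = N ∧ (∀ x ∈ T, v x = 1 ∨ v x = -1) ∧ ∀ x ∈ S, x ∉ T → v x = 0 := by
  classical
  have hpm : ∀ x ∈ S, v x = 0 ∨ v x = 1 ∨ v x = -1 := by
    intro x hx
    by_contra hno
    push Not at hno
    obtain ⟨h0, h1, h2⟩ := hno
    have h4 : 4 ≤ v x * v x := by
      rcases (show v x ≤ -2 ∨ 2 ≤ v x by omega) with h | h <;> nlinarith
    rw [← Finset.add_sum_erase S _ hx] at hv hdeg
    have hnn : ∀ y ∈ S.erase x, 0 ≤ v y * v y := fun y _ => mul_self_nonneg (v y)
    have hN' : (N : ℤ) ≤ 4 := by exact_mod_cast hN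
    have hz : ∀ y ∈ S.erase x, v y = 0 := fun y hy => mul_self_eq_zero.1
      ((Finset.sum_eq_zero_iff_of_nonneg hnn).1 (by linarith [Finset.sum_nonneg hnn]) y hy)
    rw [Finset.sum_eq_zero fun y hy => by rw [hz y hy, mul_zero], add_zero] at hdeg
    rcases mul_eq_zero.1 hdeg with h | h
    · have := hd x; omega
    · exact h0 h
  refine ⟨S.filter fun x => v x ≠ 0, Finset.filter_subset _ _, ?_, fun x hx => ?_, fun x hx hx' => ?_⟩
  · rw [← Finset.sum_subset (Finset.filter_subset (fun x => v x ≠ 0) S) fun x hx hx' => by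
      rw [not_not.1 fun h => hx' (Finset.mem_filter.2 ⟨hx, h⟩)]; norm_num,
      Finset.sum_congr rfl (g := fun _ => (1 : ℤ)) fun x hx => by
        obtain ⟨hxS, hx0⟩ := Finset.mem_filter.1 hx
        rcases (hpm x hxS).resolve_left hx0 with e | e <;> rw [e] <;> norm_num,
      Finset.sum_const, nsmul_eq_mul, mul_one] at hv
    exact_mod_cast hv
  · obtain ⟨hxS, hx0⟩ := Finset.mem_filter.1 hx
    exact (hpm x hxS).resolve_left hx0
  · exact not_not.1 fun h => hx' (Finset.mem_filter.2 ⟨hx, h⟩)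

/-- The inner product over a support. -/
theorem dot_support (S T : Finset ι) (hT : T ⊆ S) {v : ι → ℤ} (hv : ∀ x ∈ S, x ∉ T → v x = 0) (f : ι → ℤ) :
    ∑ x ∈ S, v x * f x = ∑ x ∈ T, v x * f x :=
  (Finset.sum_subset hT fun x hx hx' => by rw [hv x hx hx', zero_mul]).symm

/-- Vectors of norm two with inner products one kill short vectors orthogonal to them. -/
theorem vanish (S : Finset ι) (d : ι → ℕ) (hd : ∀ x, 0 < d x) {K : Type*} [Fintype K] [DecidableEq K]
    (hK : 3 ≤ Fintype.card K) (V : K → ι → ℤ)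
    (hg : ∀ k l, ∑ x ∈ S, V k x * V l x = (if k = l then 1 else 0) + 1)
    (hVd : ∀ k, ∑ x ∈ S, (d x : ℤ) * V k x = 0) (u : ι → ℤ) (hu : ∑ x ∈ S, u x * u x ≤ 4)
    (hud : ∑ x ∈ S, (d x : ℤ) * u x = 0) (huV : ∀ k, ∑ x ∈ S, V k x * u x = 0) :
    ∀ k, ∀ x ∈ S, V k x ≠ 0 → u x = 0 := by
  classical
  have hpq : ∀ k, ∃ p q, p ∈ S ∧ q ∈ S ∧ p ≠ q ∧ V k p = 1 ∧ V k q = -1 ∧ d p = d q ∧
      ∀ x ∈ S, x ≠ p → x ≠ q → V k x = 0 := by
    intro k
    obtain ⟨T, hTS, hT, hpm, hz⟩ := units S d hd (V k) (N := 2) (by norm_num)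
      (by rw [hg, if_pos rfl]; norm_num) (hVd k)
    obtain ⟨p, q, hne, rfl⟩ := Finset.card_eq_two.1 hT
    have hp : p ∈ S := hTS (by simp)
    have hq : q ∈ S := hTS (by simp)
    have hz' : ∀ x ∈ S, x ≠ p → x ≠ q → V k x = 0 := fun x hx h1 h2 => hz x hx (by simp [h1, h2])
    have hdd := hVd k
    rw [← Finset.sum_subset hTS (fun x hx hx' => by rw [hz x hx hx', mul_zero]), Finset.sum_pair hne] at hdd
    have hdp : (0 : ℤ) < d p := by exact_mod_cast hd p
    have hdq : (0 : ℤ) < d q := by exact_mod_cast hd q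
    rcases hpm p (by simp) with e | e <;> rcases hpm q (by simp) with e' | e' <;> rw [e, e'] at hdd
    · omega
    · exact ⟨p, q, hp, hq, hne, e, e', by omega, hz'⟩
    · exact ⟨q, p, hq, hp, hne.symm, e', e, by omega, fun x hx h1 h2 => hz' x hx h2 h1⟩
    · omega
  choose p q hp hq hne hVp hVq hdpq hVz using hpq
  have hdot : ∀ k (f : ι → ℤ), ∑ x ∈ S, V k x * f x = f (p k) - f (q k) := fun k f => by
    rw [dot_support S {p k, q k} (by simp [Finset.insert_subset_iff, hp k, hq k])
      (fun x hx hx' => by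
        simp only [Finset.mem_insert, Finset.mem_singleton, not_or] at hx'
        exact hVz k x hx hx'.1 hx'.2) f, Finset.sum_pair (hne k), hVp, hVq]
    ring
  have hVval : ∀ k x, x ∈ S → V k x = (if x = p k then 1 else 0) - (if x = q k then 1 else 0) := by
    intro k x hx
    by_cases h1 : x = p k
    · rw [h1, hVp, if_pos rfl, if_neg (hne k)]; norm_num
    by_cases h2 : x = q k
    · rw [h2, hVq, if_neg (hne k).symm, if_pos rfl]; norm_num
    rw [hVz k x hx h1 h2, if_neg h1, if_neg h2]; norm_num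
  have hshare : ∀ k l, k ≠ l → (p k = p l ∧ q k ≠ q l) ∨ (p k ≠ p l ∧ q k = q l) := by
    intro k l hkl
    have e := (hdot k (V l)).symm.trans (hg k l)
    rw [hVval l _ (hp k), hVval l _ (hq k), if_neg hkl] at e
    by_cases h1 : p k = p l <;> by_cases h2 : q k = q l
    · rw [if_pos h1, if_neg (h1 ▸ hne l), if_neg (h2 ▸ (hne l).symm), if_pos h2] at e; omega
    · exact .inl ⟨h1, h2⟩
    · exact .inr ⟨h1, h2⟩
    · rw [if_neg h1, if_neg h2] at e
      split_ifs at e <;> omega
  have hup : ∀ k, u (p k) = u (q k) := fun k => by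
    have e := (hdot k u).symm.trans (huV k)
    omega
  obtain ⟨k₀⟩ : Nonempty K := Fintype.card_pos_iff.1 (by omega)
  -- one centre and distinct ends of the same weight
  obtain ⟨c, η, hcS, hηS, hηinj, hcη, hdη, huη, hmem⟩ : ∃ (c : ι) (η : K → ι), c ∈ S ∧ (∀ k, η k ∈ S) ∧
      Function.Injective η ∧ (∀ k, η k ≠ c) ∧ (∀ k, d (η k) = d c) ∧ (∀ k, u (η k) = u c) ∧
      ∀ k, ∀ x ∈ S, V k x ≠ 0 → x = c ∨ x = η k := by
    have hall : (∀ k, p k = p k₀) ∨ (∀ k, q k = q k₀) := by
      by_contra hno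
      push Not at hno
      obtain ⟨⟨k, hk⟩, ⟨l, hl⟩⟩ := hno
      have hk0 : k ≠ k₀ := fun e => hk (by rw [e])
      have hl0 : l ≠ k₀ := fun e => hl (by rw [e])
      have h1 := ((hshare k k₀ hk0).resolve_left fun e => hk e.1).2
      have h2 := ((hshare l k₀ hl0).resolve_right fun e => hl e.2).1
      have hkl : k ≠ l := fun e => hk (e ▸ h2)
      rcases hshare k l hkl with ⟨e, -⟩ | ⟨-, e⟩
      · exact hk (e.trans h2)
      · exact hl (e.symm.trans h1)
    rcases hall with hall | hall
    · refine ⟨p k₀, q, hp k₀, hq, fun k l e => ?_, fun k e => hne k ((hall k).trans e.symm),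
        fun k => by rw [← hdpq, hall], fun k => by rw [← hup, hall], fun k x hx hx0 => ?_⟩
      · by_contra hkl
        rcases hshare k l hkl with ⟨-, h⟩ | ⟨h, -⟩
        · exact h e
        · exact h ((hall k).trans (hall l).symm)
      · by_contra hno
        push Not at hno
        exact hx0 (hVz k x hx (by rw [hall]; exact hno.1) hno.2)
    · refine ⟨q k₀, p, hq k₀, hp, fun k l e => ?_, fun k e => hne k (e.trans (hall k).symm),
        fun k => by rw [hdpq, hall], fun k => by rw [hup, hall], fun k x hx hx0 => ?_⟩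
      · by_contra hkl
        rcases hshare k l hkl with ⟨-, h⟩ | ⟨h, -⟩
        · exact h ((hall k).trans (hall l).symm)
        · exact h e
      · by_contra hno
        push Not at hno
        exact hx0 (hVz k x hx hno.2 (by rw [hall]; exact hno.1))
  -- the short vector is constant on the family
  have hc : u c = 0 := by
    by_contra hc
    set Q := insert c (Finset.univ.image η)
    have hQS : Q ⊆ S := Finset.insert_subset hcS fun x hx => by
      obtain ⟨k, -, rfl⟩ := Finset.mem_image.1 hx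
      exact hηS k
    have hQ : Q.card = Fintype.card K + 1 := by
      rw [Finset.card_insert_of_notMem (by simp [hcη]), Finset.card_image_of_injective _ hηinj, Finset.card_univ]
    have hconst : ∀ x ∈ Q, u x = u c ∧ d x = d c := fun x hx => by
      rcases Finset.mem_insert.1 hx with rfl | hx
      · exact ⟨rfl, rfl⟩
      · obtain ⟨k, -, rfl⟩ := Finset.mem_image.1 hx
        exact ⟨huη k, hdη k⟩
    rw [← Finset.sum_sdiff hQS, Finset.sum_congr rfl (s₁ := Q) (g := fun _ => u c * u c) fun x hx => by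
      rw [(hconst x hx).1], Finset.sum_const, nsmul_eq_mul, hQ] at hu
    have hnn := fun x (_ : x ∈ S \ Q) => mul_self_nonneg (u x)
    have h1 : 1 ≤ u c * u c := by
      have := mul_self_pos.2 hc
      omega
    have hK' : (3 : ℤ) ≤ Fintype.card K := by exact_mod_cast hK
    push_cast at hu
    have hz : ∀ x ∈ S \ Q, u x = 0 := fun x hx => mul_self_eq_zero.1
      ((Finset.sum_eq_zero_iff_of_nonneg hnn).1 (by nlinarith [Finset.sum_nonneg hnn]) x hx)
    rw [← Finset.sum_sdiff hQS, Finset.sum_eq_zero fun x hx => by rw [hz x hx, mul_zero], zero_add,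
      Finset.sum_congr rfl (g := fun _ => (d c : ℤ) * u c) fun x hx => by
        rw [(hconst x hx).1, (hconst x hx).2], Finset.sum_const, nsmul_eq_mul, hQ] at hud
    have := hd c
    rcases mul_eq_zero.1 hud with h | h
    · omega
    · rcases mul_eq_zero.1 h with h | h
      · omega
      · exact hc h
  intro k x hx hx0
  rcases hmem k x hx hx0 with rfl | rfl
  · exact hc
  · rw [huη, hc]

end Cfsg.Agent.Invol.GW.Dihedral.TwistedCore
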