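import Cfsg.Agent.Lib.Invol.GW.Dihedral.TwistedInduced
import Cfsg.Agent.Lib.Invol.GW.Dihedral.TwistedVanish

/-!
# Gorenstein–Walter, dihedral case: a character meeting the linear character meets nothing else

If `σ` centralises the core and the section of `ξ` at the central involution meets the invariant linear character
`φ`, then `ξ (v t) = proj φ ξ t · φ v` on the core: an invariant second character is excluded by
`separation_fixed`, a moved one by the combinatorics of its family of vectors of norm two.
-/

set_option autoImplicit false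
set_option linter.unusedSectionVars false
set_option linter.style.haveILetI false

open scoped ComplexConjugate

namespace Cfsg.Agent.Invol.GW.Dihedral

open Subgroup Klein Block

universe u

variable {G : Type u} [Group G] [Finite G] {S : Sylow 2 G} {σ τ : G} {n : ℕ}

namespace Hyp

variable (h : Hyp S σ τ n) (hσU : ∀ u ∈ coreCent (central σ n), Commute σ u)
include h hσU

theorem proj_central [Fintype ↥(coreCent (central σ n))] {ζ : ℂ} (hζ : IsPrimitiveRoot ζ (2 ^ (n - 1)))
    (lam : coreCent (central σ n) → ℂ) (ξ : G → ℂ) :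
    ∑ k ∈ Finset.range (2 ^ (n - 1)), coeff σ n ζ lam ξ k * (-1 : ℂ) ^ k =
      proj (coreCent (central σ n)) lam ξ (central σ n) :=
  Fourier.middle hζ (q := 2 ^ (n - 2)) (by rw [← pow_succ']; congr 1; have := h.three; omega) (by positivity)
    (fun l => proj (coreCent (central σ n)) lam ξ (σ ^ l))

/-- A moved character of the core excludes the linear one. -/
theorem separation_moved [Fintype G] [Fintype ↥(coreCent (central σ n))]
    {φ : ↥(coreCent (central σ n)) →* ℂˣ} (hφ : ∀ v, φ (h.act v) = φ v)
    (lam : IrrCharacter ↥(coreCent (central σ n))) (hlam : h.twist (lam : coreCent (central σ n) → ℂ) ≠ lam)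
    (ξ : IrrCharacter G)
    (h1 : proj (coreCent (central σ n)) (lam : coreCent (central σ n) → ℂ) (ξ : G → ℂ) (central σ n) ≠ 0)
    {l : ℕ} (hl : 0 < l) (hlm : l < 2 ^ (n - 1)) :
    proj (coreCent (central σ n)) (fun v => (φ v : ℂ)) (ξ : G → ℂ) (σ ^ l) = 0 := by
  classical
  set μ : IrrCharacter ↥(coreCent (central σ n)) := ⟨fun v => (φ v : ℂ), Char.isIrr_linear φ⟩ with hμ
  have hμfix : h.twist (μ : coreCent (central σ n) → ℂ) = μ := funext fun v => by
    show ((φ (h.act v) : ℂˣ) : ℂ) = _
    rw [hφ]
  have hne : (μ : coreCent (central σ n) → ℂ) ≠ lam := fun e => hlam (by rw [← e, hμfix])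
  set m := 2 ^ (n - 1) with hm
  have hm4 : 4 ≤ m := h.four_le
  have hζ : IsPrimitiveRoot (Complex.exp (2 * Real.pi * Complex.I / (m : ℕ))) m :=
    Complex.isPrimitiveRoot_exp _ (by omega)
  generalize Complex.exp (2 * Real.pi * Complex.I / (m : ℕ)) = ζ at hζ
  choose V hV using fun (k : Fin (m - 1)) (η : IrrCharacter G) =>
    h.coeff_int hσU hζ (Char.IsIrr.isCharacter lam.2) η (k := (k : ℕ) + 1) (by omega)
  set d : IrrCharacter G → ℕ := fun η => charDegree (η : G → ℂ) with hddef
  have hd : ∀ η, 0 < d η := fun η => charDeg_pos η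
  have hgV : ∀ k l, ∑ η : IrrCharacter G, V k η * V l η = (if k = l then 1 else 0) + 1 := fun k l => by
    apply Int.cast_injective (α := ℂ)
    have e := h.coeff_gram hσU hζ lam lam (k := (k : ℕ) + 1) (k' := (l : ℕ) + 1) (by omega) (by omega) (by omega)
      (by omega)
    simp only [hV, map_intCast, if_neg hlam, zero_mul, add_zero, if_true, one_mul] at e
    push_cast
    rw [e]
    simp only [add_left_inj, Fin.val_inj]
  have hVd : ∀ k, ∑ η : IrrCharacter G, (d η : ℤ) * V k η = 0 := fun k => by
    apply Int.cast_injective (α := ℂ)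
    have e := h.coeff_degree hσU ζ (lam : coreCent (central σ n) → ℂ) ((k : ℕ) + 1)
    simp only [hV, charDeg_spec'] at e
    push_cast
    rw [← e]
    exact Finset.sum_congr rfl fun η _ => mul_comm _ _
  -- some coefficient is nonzero
  obtain ⟨k, hk⟩ : ∃ k, V k ξ ≠ 0 := by
    by_contra hno
    push Not at hno
    refine h1 ?_
    rw [← h.proj_central hσU hζ]
    refine Finset.sum_eq_zero fun k hk => ?_
    rcases Nat.eq_zero_or_pos k with rfl | hk0
    · rw [coeff, Fourier.coef_zero hζ, zero_mul]
    · have hkm := Finset.mem_range.1 hk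
      obtain ⟨j, rfl⟩ : ∃ j, k = j + 1 := ⟨k - 1, by omega⟩
      rw [hV ⟨j, by omega⟩ ξ, hno, Int.cast_zero, zero_mul]
  rw [← Fourier.inversion hζ (fun i => proj (coreCent (central σ n)) (fun v => (φ v : ℂ)) (ξ : G → ℂ) (σ ^ i)) hl hlm]
  refine Finset.sum_eq_zero fun j hj => ?_
  rcases Nat.eq_zero_or_pos j with rfl | hj0
  · rw [Fourier.coef_zero hζ, zero_mul]
  show coeff σ n ζ (fun v => ((φ v : ℂˣ) : ℂ)) (ξ : G → ℂ) j * _ = 0
  have hjm := Finset.mem_range.1 hj
  choose u hu using fun η : IrrCharacter G =>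
    h.coeff_int hσU hζ (Char.IsIrr.isCharacter μ.2) η (k := j) hjm.le
  have hnorm : ∑ η : IrrCharacter G, u η * u η ≤ 4 := by
    have e := h.coeff_gram hσU hζ μ μ (k := j) (k' := j) hj0 hjm hj0 hjm
    simp only [hu, map_intCast, hμfix, if_true, one_mul] at e
    have e' : ((∑ η : IrrCharacter G, u η * u η : ℤ) : ℂ) =
        ((2 + ((if j + j = m then 1 else 0) + 1) : ℤ) : ℂ) := by
      push_cast
      rw [e]
      split_ifs <;> norm_num
    rw [Int.cast_injective e']
    split_ifs <;> norm_num
  have hud : ∑ η : IrrCharacter G, (d η : ℤ) * u η = 0 := by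
    apply Int.cast_injective (α := ℂ)
    have e := h.coeff_degree hσU ζ (μ : coreCent (central σ n) → ℂ) j
    simp only [hu, charDeg_spec'] at e
    push_cast
    rw [← e]
    exact Finset.sum_congr rfl fun η _ => mul_comm _ _
  have huV : ∀ k, ∑ η : IrrCharacter G, V k η * u η = 0 := fun k => by
    apply Int.cast_injective (α := ℂ)
    have e := h.coeff_gram hσU hζ lam μ (k := (k : ℕ) + 1) (k' := j) (by omega) (by omega) hj0 hjm
    simp only [hV, hu, map_intCast, hμfix, if_neg hne, zero_mul, add_zero] at e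
    push_cast
    exact e
  have h0 := TwistedCore.vanish Finset.univ d hd (K := Fin (m - 1)) (by rw [Fintype.card_fin]; omega) V hgV hVd u
    hnorm hud huV k ξ (Finset.mem_univ _) hk
  rw [show (fun v => ((φ v : ℂˣ) : ℂ)) = (μ : coreCent (central σ n) → ℂ) from rfl, hu ξ, h0, Int.cast_zero,
    zero_mul]

/-- A character meeting `φ` at some rotation meets nothing else at the central involution. -/
theorem separated [Fintype G] [Fintype ↥(coreCent (central σ n))] {M : Ideal AlgInt} (hM : IsPModular 2 M)
    {φ : ↥(coreCent (central σ n)) →* ℂˣ} (hφ : ∀ v, φ (h.act v) = φ v) (ξ : IrrCharacter G)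
    {l : ℕ} (hl : 0 < l) (hlm : l < 2 ^ (n - 1))
    (hne : proj (coreCent (central σ n)) (fun v => (φ v : ℂ)) (ξ : G → ℂ) (σ ^ l) ≠ 0)
    (v : coreCent (central σ n)) :
    (ξ : G → ℂ) ((v : G) * central σ n) =
      proj (coreCent (central σ n)) (fun v => (φ v : ℂ)) (ξ : G → ℂ) (central σ n) * (φ v : ℂ) := by
  classical
  set μ : IrrCharacter ↥(coreCent (central σ n)) := ⟨fun v => (φ v : ℂ), Char.isIrr_linear φ⟩ with hμ
  have hcf : IsClassFunction ↥(coreCent (central σ n))
      (fun w : coreCent (central σ n) => (ξ : G → ℂ) ((w : G) * central σ n)) := fun a b => by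
    have hc : (b : G) * (a : G) * (b : G)⁻¹ * central σ n = (b : G) * ((a : G) * central σ n) * (b : G)⁻¹ := by
      rw [mul_assoc _ _ (central σ n), ((h.commute_core b.2).inv_left).eq]
      group
    show (ξ : G → ℂ) (((b * a * b⁻¹ : coreCent (central σ n)) : G) * central σ n) = _
    rw [Subgroup.coe_mul, Subgroup.coe_mul, Subgroup.coe_inv, hc]
    exact irr_classFun ξ _ _
  have hexp := congrFun (Char.classFunction_expansion hcf) v
  rw [Char.sum_irr_apply] at hexp
  rw [hexp, Finset.sum_eq_single μ (fun lam _ hlam => ?_) fun hh => absurd (Finset.mem_univ _) hh]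
  · rfl
  · have h0 : proj (coreCent (central σ n)) (lam : coreCent (central σ n) → ℂ) (ξ : G → ℂ) (central σ n) = 0 := by
      by_contra h1
      by_cases hfix : h.twist (lam : coreCent (central σ n) → ℂ) = lam
      · exact hne (h.separation_fixed hσU hM hφ lam hfix (fun e => hlam (Subtype.ext e)) ξ h1
          (h.data.gen_pow_mem l) (h.pow_ne_one hl hlm))
      · exact hne (h.separation_moved hσU hφ lam hfix ξ h1 hl hlm)
    show proj (coreCent (central σ n)) (lam : coreCent (central σ n) → ℂ) (ξ : G → ℂ) (central σ n) * _ = 0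
    rw [h0, zero_mul]

end Hyp

end Cfsg.Agent.Invol.GW.Dihedral
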