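import Cfsg.Agent.Lib.Invol.GW.Dihedral.Blocks
import Cfsg.Agent.Lib.Char.Galois

/-!
# Gorenstein–Walter, dihedral case: the degree data of `A₇`

When `δ = -1` and `Θ(1) = 2` the character `Θ` is `1 + l` with a linear character `l`, whose conjugates under `S`
are permuted by the Galois group: one element of `S` inverts the core, which has exponent three.
-/

set_option autoImplicit false
set_option linter.unusedSectionVars false
set_option linter.style.haveILetI false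

namespace Cfsg.Agent.Invol.GW.Dihedral

open Subgroup Klein Block
open scoped ComplexConjugate

universe u

variable {G : Type u} [Group G] [Finite G] {S : Sylow 2 G} {σ τ : G} {n : ℕ}

/-- The inner product of two linear characters. -/
theorem sum_units_mul_inv {U : Type*} [Group U] [Fintype U] (μ l : U →* ℂˣ) [Decidable (μ = l)] :
    ∑ u : U, ((μ u : ℂˣ) : ℂ) * (((l u)⁻¹ : ℂˣ) : ℂ) = if μ = l then (Fintype.card U : ℂ) else 0 := by
  set f : U →* ℂˣ := μ * l⁻¹ with hf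
  have hrw : ∀ u, ((μ u : ℂˣ) : ℂ) * (((l u)⁻¹ : ℂˣ) : ℂ) = ((f u : ℂˣ) : ℂ) := fun u => by
    simp [hf]
  simp only [hrw]
  split_ifs with e
  · simp [hf, e]
  · refine sum_hom_units_eq_zero ((Units.coeHom ℂ).comp f) fun h1 => e ?_
    refine MonoidHom.ext fun u => ?_
    have h2 : ((f u : ℂˣ) : ℂ) = 1 := DFunLike.congr_fun h1 u
    have h3 : f u = 1 := Units.ext h2
    rw [hf, MonoidHom.mul_apply, MonoidHom.inv_apply, mul_inv_eq_one] at h3
    exact h3

/-- A symmetry of a sum of linear characters hits the character in the sum. -/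
theorem exists_eq_of_sum_eq {U : Type*} [Group U] [Fintype U] {ι : Type*} [Fintype ι] (μ ν : ι → U →* ℂˣ)
    (h : ∀ u, ∑ i, ((μ i u : ℂˣ) : ℂ) = ∑ i, ((ν i u : ℂˣ) : ℂ)) (i₀ : ι) : ∃ i, ν i = μ i₀ := by
  classical
  have h1 : ∑ u : U, (∑ i, ((μ i u : ℂˣ) : ℂ)) * (((μ i₀ u)⁻¹ : ℂˣ) : ℂ) =
      ∑ u : U, (∑ i, ((ν i u : ℂˣ) : ℂ)) * (((μ i₀ u)⁻¹ : ℂˣ) : ℂ) := by simp only [h]
  simp only [Finset.sum_mul] at h1
  replace h1 := (Finset.sum_comm.trans h1).trans Finset.sum_comm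
  simp only [sum_units_mul_inv, Finset.sum_ite, Finset.sum_const,
    nsmul_eq_mul, mul_zero, add_zero] at h1
  have h2 : (Finset.univ.filter fun i => μ i = μ i₀).card = (Finset.univ.filter fun i => ν i = μ i₀).card :=
    Nat.cast_injective (R := ℂ) (mul_right_cancel₀ (Nat.cast_ne_zero.2 Fintype.card_ne_zero) h1)
  have h3 : 0 < (Finset.univ.filter fun i => μ i = μ i₀).card :=
    Finset.card_pos.2 ⟨i₀, Finset.mem_filter.2 ⟨Finset.mem_univ _, rfl⟩⟩
  rw [h2] at h3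
  obtain ⟨i, hi⟩ := Finset.card_pos.1 h3
  exact ⟨i, (Finset.mem_filter.1 hi).2⟩

namespace Principal

variable (P : Principal S σ τ n)

set_option maxHeartbeats 800000 in
/-- A linear character whose conjugates separate the core and contain its inverse and its square. -/
theorem exists_linear (h : Hyp S σ τ n) (hΘ : P.Θ = 2) (hδ : P.δ = -1) :
    ∃ l : G → ℂˣ,
      (∀ a ∈ coreCent (central σ n), ∀ b ∈ coreCent (central σ n), l (a * b) = l a * l b) ∧
      (∀ a ∈ coreCent (central σ n), (∀ s ∈ (S : Subgroup G), l (s * a * s⁻¹) = 1) → a = 1) ∧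
      (∃ s ∈ (S : Subgroup G), ∀ a ∈ coreCent (central σ n), l (s * a * s⁻¹) = (l a)⁻¹) ∧
      (∃ s ∈ (S : Subgroup G), ∀ a ∈ coreCent (central σ n), l (s * a * s⁻¹) = l a ^ 2) := by
  classical
  cases nonempty_fintype ↥(S : Subgroup G)
  cases nonempty_fintype ↥(coreCent (central σ n))
  set U := coreCent (central σ n) with hU
  obtain ⟨Θc, -, h1, hform, htriv⟩ := P.exists_theta h
  obtain ⟨Ψ, hΨ, hΨe⟩ := htriv hδ
  obtain ⟨lam, hlam⟩ := Char.linearHom_of_isCharacter hΨ (by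
    have := hΨe 1
    rw [h1, hΘ] at this
    push_cast at this
    linear_combination -this)
  let cj : ↥(S : Subgroup G) → ↥U → ↥U := fun s u =>
    ⟨(s : G) * u * (s : G)⁻¹, h.conj_core (h.le_centralizer s.2) u.2⟩
  have hmulc : ∀ s u v, cj s (u * v) = cj s u * cj s v := fun s u v =>
    Subtype.ext (by simp only [cj, Subgroup.coe_mul]; group)
  let μ : ↥(S : Subgroup G) → ↥U →* ℂˣ := fun s =>
    lam.comp (MonoidHom.mk' (cj s) (hmulc s))
  have hμ : ∀ s u, μ s u = lam (cj s u) := fun s u => rfl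
  set Φ : ↥U → ℂ := fun u => ∑ s : ↥(S : Subgroup G), ((μ s u : ℂˣ) : ℂ) with hΦ
  have hχ : ∀ u : ↥U, (P.χ : G → ℂ) u = (2 : ℂ) ^ n - 1 + Φ u := fun u => by
    rw [hform u, hδ, Finset.sum_congr rfl (g := fun s => 1 + ((μ s u : ℂˣ) : ℂ)) fun s _ => by
      rw [hΨe, hlam]; rfl, Finset.sum_add_distrib, Finset.sum_const, nsmul_eq_mul, Finset.card_univ,
      ← Nat.card_eq_fintype_card, h.card_sylow]
    push_cast
    simp only [hΦ]
    ring
  have hmu1 : μ 1 = lam := MonoidHom.ext fun u => congrArg lam (Subtype.ext (by simp [cj]))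
  -- the values are rational integers
  have hconj : ∀ u, Φ u = ∑ s : ↥(S : Subgroup G), (((μ s)⁻¹ u : ℂˣ) : ℂ) := fun u => by
    obtain ⟨z, hz⟩ := P.int_value u
    have h2 : conj (Φ u) = Φ u := by
      have h3 : Φ u = (z : ℂ) - ((2 : ℂ) ^ n - 1) := by rw [← hz, hχ u]; ring
      rw [h3]; simp [map_ofNat]
    rw [← h2, hΦ]
    simp only [map_sum]
    refine Finset.sum_congr rfl fun s _ => ?_
    rw [MonoidHom.inv_apply]
    have hfin : ‖((μ s u : ℂˣ) : ℂ)‖ = 1 := by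
      refine Complex.norm_eq_one_of_pow_eq_one (n := Nat.card ↥U) ?_ Nat.card_pos.ne'
      rw [← Units.val_pow_eq_pow_val, ← map_pow, pow_card_eq_one', map_one, Units.val_one]
    rw [Units.val_inv_eq_inv_val, Complex.inv_eq_conj hfin]
  have hk : (2 : ℕ).Coprime (Nat.card ↥U) := Nat.coprime_two_left.2 h.odd_coreCent
  have hsq : ∀ u, Φ u = ∑ s : ↥(S : Subgroup G), (((μ s) (u ^ 2) : ℂˣ) : ℂ) := fun u => by
    obtain ⟨g, hg⟩ := Char.exists_galois (G := ↥U) 2 hk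
    have h2 := hg (fun u : ↥U => (P.χ : G → ℂ) u) (Char.IsChar.res (irr_isChar P.χ) U) u
    obtain ⟨z, hz⟩ := P.int_value u
    rw [hz, map_intCast, ← hz] at h2
    simp only [hχ] at h2
    exact add_left_cancel h2
  let ν : ↥(S : Subgroup G) → ↥U →* ℂˣ := fun s => μ s * μ s
  have hν : ∀ s u, ν s u = μ s (u ^ 2) := fun s u => by
    rw [pow_two, map_mul]; rfl
  obtain ⟨s₀, hs₀⟩ := exists_eq_of_sum_eq μ (fun s => (μ s)⁻¹) hconj 1
  obtain ⟨s₁, hs₁⟩ := exists_eq_of_sum_eq μ ν (fun u => by simp only [hν]; exact hsq u) 1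
  let L : G → ℂˣ := fun g => if hg : g ∈ U then lam ⟨g, hg⟩ else 1
  have hL : ∀ u : ↥U, L u = lam u := fun u => dif_pos u.2
  have hLc : ∀ (s : ↥(S : Subgroup G)) (a : G) (ha : a ∈ U), L ((s : G) * a * (s : G)⁻¹) = μ s ⟨a, ha⟩ :=
    fun s a ha => hL (cj s ⟨a, ha⟩)
  refine ⟨L, fun a ha b hb => ?_, fun a ha hall => ?_, ?_, ?_⟩
  · have := map_mul lam ⟨a, ha⟩ ⟨b, hb⟩
    rw [← hL, ← hL, ← hL] at this
    exact this
  · refine P.faithful h ?_
    rw [show a = ((⟨a, ha⟩ : ↥U) : G) from rfl, hχ,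
      show (P.χ : G → ℂ) 1 = (P.χ : G → ℂ) ((1 : ↥U) : G) from rfl, hχ]
    congr 1
    refine Finset.sum_congr rfl fun s _ => ?_
    rw [map_one, ← hLc s a ha, hall s s.2]
  · refine ⟨(s₀ : G), s₀.2, fun a ha => ?_⟩
    rw [hLc s₀ a ha, show L a = lam ⟨a, ha⟩ from hL ⟨a, ha⟩, ← hmu1, ← hs₀, MonoidHom.inv_apply, inv_inv]
  · refine ⟨(s₁⁻¹ : ↥(S : Subgroup G)), (s₁⁻¹).2, fun a ha => ?_⟩
    rw [hLc s₁⁻¹ a ha, show L a = lam ⟨a, ha⟩ from hL ⟨a, ha⟩]
    have hback : cj s₁ (cj s₁⁻¹ ⟨a, ha⟩) = ⟨a, ha⟩ := Subtype.ext (by simp [cj, mul_assoc])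
    have h2 : ν s₁ (cj s₁⁻¹ ⟨a, ha⟩) = μ 1 (cj s₁⁻¹ ⟨a, ha⟩) := by rw [hs₁]
    rw [hmu1] at h2
    rw [hμ, ← h2]
    show μ s₁ _ * μ s₁ _ = _
    rw [hμ, hback, pow_two]

end Principal

end Cfsg.Agent.Invol.GW.Dihedral
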