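import Cfsg.Agent.Lib.Invol.GW.Dihedral.TwoClassBasic
import Cfsg.Agent.Lib.Invol.GW.Dihedral.TwoClassTheta
import Cfsg.Agent.Lib.Invol.GW.Endgame
import Cfsg.Agent.Lib.Invol.GW.Klein.ThreeClassBasic

/-!
# Gorenstein–Walter, dihedral: the two-class subgroup with the degree data of `A₇`

The core `U` of `C(t)` is elementary of order three or nine.  With three the element `σ` has a centraliser of
order four; with nine the core `K` of `M` is abelian of order `81`, `|G : M| = 35` and a Sylow 3-subgroup of `M`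
fixes a second coset, so that two conjugates of `K` would meet in a subgroup centralised by an element permuting
`t`, `τ`, `t τ`.
-/

set_option autoImplicit false
set_option linter.unusedSectionVars false
set_option linter.style.haveILetI false

namespace Cfsg.Agent.Invol.GW.Dihedral

open Subgroup Klein
open scoped commutatorElement

universe u

variable {G : Type u} [Group G] [Finite G]

/-- A group of exponent three has at most nine elements if two characters separate it. -/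
theorem card_le_nine {U : Subgroup G} {l : G → ℂˣ} (τ : G) (h3 : ∀ x ∈ U, l x ^ 3 = 1 ∧ l (τ * x * τ⁻¹) ^ 3 = 1)
    (hinj : ∀ x ∈ U, ∀ y ∈ U, l x = l y → l (τ * x * τ⁻¹) = l (τ * y * τ⁻¹) → x = y) : Nat.card ↥U ≤ 9 := by
  haveI : NeZero (3 : ℕ) := ⟨by norm_num⟩
  have hle : Nat.card (rootsOfUnity 3 ℂ) ≤ 3 := by
    exact card_rootsOfUnity ℂ 3
  have h1 := Nat.card_le_card_of_injective (α := ↥U) (β := rootsOfUnity 3 ℂ × rootsOfUnity 3 ℂ)
    (fun x => (⟨l x, (mem_rootsOfUnity 3 _).2 (h3 x x.2).1⟩, ⟨l (τ * x * τ⁻¹), (mem_rootsOfUnity 3 _).2 (h3 x x.2).2⟩))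
    fun x y e => Subtype.ext (hinj x x.2 y y.2 (congrArg Subtype.val (congrArg Prod.fst e))
      (congrArg Subtype.val (congrArg Prod.snd e)))
  rw [Nat.card_prod] at h1
  exact h1.trans (Nat.mul_le_mul hle hle)

variable {S : Sylow 2 G} {σ τ : G} {n : ℕ}

namespace Hyp

variable (h : Hyp S σ τ n)
include h

/-- The elements of `S` act on what commutes with `t` like `1`, `τ`, `σ` or `σ τ` when `n = 3`. -/
theorem conj_cases (hn : n = 3) {s : G} (hs : s ∈ (S : Subgroup G)) :
    (∀ x, Commute x (central σ n) → s * x * s⁻¹ = x) ∨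
      (∀ x, Commute x (central σ n) → s * x * s⁻¹ = τ * x * τ⁻¹) ∨
      (∀ x, Commute x (central σ n) → s * x * s⁻¹ = σ * x * σ⁻¹) ∨
      ∀ x, Commute x (central σ n) → s * x * s⁻¹ = σ * (τ * x * τ⁻¹) * σ⁻¹ := by
  have hrot : ∀ y ∈ zpowers σ, (∀ x, Commute x (central σ n) → y * x * y⁻¹ = x) ∨
      ∀ x, Commute x (central σ n) → y * x * y⁻¹ = σ * x * σ⁻¹ := by
    intro y hy
    have hc : central σ n = σ ^ (2 : ℤ) := by
      rw [central, hn]; norm_num [zpow_ofNat]
    obtain ⟨k, rfl⟩ := mem_zpowers_iff.1 hy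
    obtain ⟨j, rfl | rfl⟩ := k.even_or_odd'
    · refine Or.inl fun x hx => ?_
      rw [hc] at hx
      rw [zpow_mul, (hx.symm.zpow_left j).eq, mul_inv_cancel_right]
    · refine Or.inr fun x hx => ?_
      rw [hc] at hx
      rw [add_comm, zpow_add, zpow_mul, zpow_one, mul_assoc σ, (hx.symm.zpow_left j).eq]
      group
  by_cases hsσ : s ∈ zpowers σ
  · rcases hrot s hsσ with e | e
    exacts [Or.inl e, Or.inr (Or.inr (Or.inl e))]
  -- a product of two reflections
  have hsw : s * τ ∈ zpowers σ := by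
    by_contra hne
    obtain ⟨-, -, h1⟩ := (h.data.cases _ (mul_mem hs h.hτ)).resolve_left hne
    obtain ⟨-, -, h2⟩ := (h.data.cases s hs).resolve_left hsσ
    refine h.sigma_sq_ne_one (eq_inv_iff_mul_eq_one.1 ?_)
    rw [← h1, show s * τ * σ * (s * τ)⁻¹ = s * (τ * σ * τ⁻¹) * s⁻¹ by group, h.rel,
      show s * σ⁻¹ * s⁻¹ = (s * σ * s⁻¹)⁻¹ by group, h2, inv_inv]
  have hback : ∀ x, s * x * s⁻¹ = s * τ * (τ * x * τ⁻¹) * (s * τ)⁻¹ := fun x => by
    rw [show s * τ * (τ * x * τ⁻¹) * (s * τ)⁻¹ = s * (τ * τ) * x * (τ * τ)⁻¹ * s⁻¹ by group, h.tau_mul_self]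
    group
  have hτc : ∀ x, Commute x (central σ n) → Commute (τ * x * τ⁻¹) (central σ n) := fun x hx => by
    have := hx.conj τ
    rwa [show τ * central σ n * τ⁻¹ = central σ n by rw [← h.commute_central_tau.eq, mul_inv_cancel_right]] at this
  rcases hrot _ hsw with e | e
  · exact Or.inr (Or.inl fun x hx => by rw [hback, e _ (hτc x hx)])
  · refine Or.inr (Or.inr (Or.inr fun x hx => ?_))
    rw [hback, e _ (hτc x hx)]

set_option maxHeartbeats 800000 in
/-- The structure of the core for the degree data of `A₇`. -/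
theorem core_shape (P : Principal S σ τ n) (hn : n = 3) (hΘ : P.Θ = 2) (hδ : P.δ = -1)
    (hidx : idx σ (σ * τ) n = 3 * idx σ τ n) :
    (Nat.card ↥(coreCent (central σ n)) = 3 ∨ Nat.card ↥(coreCent (central σ n)) = 9) ∧
      Nat.card ↥(fixR (central σ n) τ) = 3 ∧ fixR (central σ n) (σ * τ) = ⊥ := by
  classical
  set U := coreCent (central σ n) with hUdef
  set R := fixR (central σ n) τ with hRdef
  set R1 := fixR (central σ n) (σ * τ) with hR1def
  have hodd := h.odd_coreCent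
  obtain ⟨l, hmul, hfaith, ⟨s₀, hs₀, hinv⟩, ⟨s₁, hs₁, hsqr⟩⟩ := P.exists_linear h hΘ hδ
  have hcomm : ∀ {a b : G}, a ∈ U → b ∈ U → a * b = b * a := fun ha hb => P.commute_of_le_two h (by omega) ha hb
  have hcU : ∀ {s x : G}, s ∈ (S : Subgroup G) → x ∈ U → s * x * s⁻¹ ∈ U := fun hs hx =>
    h.conj_core (h.le_centralizer hs) hx
  have hl1 : l 1 = 1 := by
    have := hmul 1 (one_mem _) 1 (one_mem _)
    rw [one_mul] at this
    exact mul_eq_left.1 this.symm
  have hlinv : ∀ x ∈ U, l x⁻¹ = (l x)⁻¹ := fun x hx => by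
    refine eq_inv_of_mul_eq_one_left ?_
    rw [← hmul _ (inv_mem hx) _ hx, inv_mul_cancel, hl1]
  have hlpow : ∀ x ∈ U, ∀ k : ℕ, l (x ^ k) = l x ^ k := fun x hx k => by
    induction k with
    | zero => simpa using hl1
    | succ k ih => rw [pow_succ, pow_succ, hmul _ (pow_mem hx k) _ hx, ih]
  -- the squares of elements of `S` centralise, so do commutators
  have hact := fun {s : G} (hs : s ∈ (S : Subgroup G)) => h.conj_cases hn hs
  have htt : ∀ x, τ * (τ * x * τ⁻¹) * τ⁻¹ = x := fun x => by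
    rw [show τ * (τ * x * τ⁻¹) * τ⁻¹ = (τ * τ) * x * (τ * τ)⁻¹ by group, h.tau_mul_self]; group
  have hrr : ∀ x, Commute x (central σ n) → σ * (σ * x * σ⁻¹) * σ⁻¹ = x := fun x hx => by
    have hss : σ * σ = central σ n := by rw [central, hn]; norm_num [pow_two]
    rw [show σ * (σ * x * σ⁻¹) * σ⁻¹ = (σ * σ) * x * (σ * σ)⁻¹ by group, hss, ← hx.eq, mul_inv_cancel_right]
  have hτc : ∀ x, Commute x (central σ n) → Commute (τ * x * τ⁻¹) (central σ n) := fun x hx => by
    have := hx.conj τ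
    rwa [show τ * central σ n * τ⁻¹ = central σ n by rw [← h.commute_central_tau.eq, mul_inv_cancel_right]] at this
  have hswap : ∀ x, Commute x (central σ n) → τ * (σ * x * σ⁻¹) * τ⁻¹ = σ * (τ * x * τ⁻¹) * σ⁻¹ := fun x hx => by
    have hτc : Commute (τ * x * τ⁻¹) (central σ n) := by
      have := hx.conj τ
      rwa [show τ * central σ n * τ⁻¹ = central σ n by rw [← h.commute_central_tau.eq, mul_inv_cancel_right]] at this
    calc τ * (σ * x * σ⁻¹) * τ⁻¹ = (τ * σ * τ⁻¹) * (τ * x * τ⁻¹) * (τ * σ * τ⁻¹)⁻¹ := by group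
      _ = σ⁻¹ * (τ * x * τ⁻¹) * σ := by rw [h.rel, inv_inv]
      _ = σ⁻¹ * (σ * (σ * (τ * x * τ⁻¹) * σ⁻¹) * σ⁻¹) * σ := by rw [hrr _ hτc]
      _ = σ * (τ * x * τ⁻¹) * σ⁻¹ := by group
  -- exponent three
  have hl3 : ∀ x ∈ U, l x ^ 3 = 1 := by
    intro x hx
    have hx' : Commute x (central σ n) := h.commute_core hx
    have hinvol : s₁ * (s₁ * x * s₁⁻¹) * s₁⁻¹ = x := by
      have hxc := h.commute_core (hcU hs₁ hx)
      rcases hact hs₁ with e | e | e | e <;> rw [e _ hxc, e _ hx']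
      · exact htt x
      · exact hrr x hx'
      · rw [hswap _ (hτc x hx'), htt, hrr x hx']
    have h4 : l x ^ 4 = l x := by
      have := hsqr _ (hcU hs₁ hx)
      rw [hinvol, hsqr x hx, ← pow_mul] at this
      exact this.symm
    rwa [pow_succ, mul_eq_right] at h4
  have hx3 : ∀ x ∈ U, x ^ 3 = 1 := fun x hx => hfaith _ (pow_mem hx 3) fun s hs => by
    rw [← conj_pow, hlpow _ (hcU hs hx), hl3 _ (hcU hs hx)]
  have hU1 : U ≠ ⊥ := fun e => by
    have h2 := h.idx_mul
    have h3 := h.symm.idx_mul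
    rw [← hUdef, e, card_bot] at h2 h3
    have := Nat.eq_one_of_mul_eq_one_right h2
    have := Nat.eq_one_of_mul_eq_one_right h3
    omega
  -- the indices
  have hr : Nat.card ↥R = 3 * Nat.card ↥R1 := by
    have e1 := h.idx_mul
    have e2 := h.symm.idx_mul
    rw [hidx] at e2
    refine Nat.eq_of_mul_eq_mul_left h.idx_pos ?_
    rw [← hRdef] at e1
    rw [← hR1def] at e2
    rw [e1, ← e2]
    ring
  have hfix : ∀ {w : G} {x : G}, w ∈ (S : Subgroup G) → x ∈ fixR (central σ n) w → w * x * w⁻¹ = x :=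
    fun {w x} _ hx => by rw [← (show Commute x w from mem_centralizer_singleton_iff.1 hx.2).eq, mul_inv_cancel_right]
  have hone : ∀ x ∈ U, x = x⁻¹ → x = 1 := fun x hx e => eq_one_of_odd hodd hx (mul_eq_one_iff_eq_inv.2 e)
  -- the inverting element
  have hsx : ∀ x ∈ U, s₀ * x * s₀⁻¹ = x⁻¹ := by
    intro x hx
    refine eq_inv_of_mul_eq_one_left (hfaith _ (mul_mem (hcU hs₀ hx) hx) fun s hs => ?_)
    have hxs := hcU hs hx
    have e : s * (s₀ * x * s₀⁻¹) * s⁻¹ = s₀ * (s * x * s⁻¹) * s₀⁻¹ := by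
      have hx' : Commute x (central σ n) := h.commute_core hx
      have h1 := h.commute_core (hcU hs₀ hx)
      have h2 := h.commute_core hxs
      rcases hact hs with a | a | a | a <;> rcases hact hs₀ with b | b | b | b <;>
        rw [a _ h1, b _ h2, a _ hx', b _ hx'] <;>
        first
          | rfl
          | exact hswap x hx'
          | exact (hswap x hx').symm
          | rw [hswap _ (hτc x hx')]
          | rw [hswap x hx', hrr _ (hτc x hx')]
    rw [show s * (s₀ * x * s₀⁻¹ * x) * s⁻¹ = (s * (s₀ * x * s₀⁻¹) * s⁻¹) * (s * x * s⁻¹) by group, e,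
      hmul _ (hcU hs₀ hxs) _ hxs, hinv _ hxs, inv_mul_cancel]
  -- `s₀` acts like `σ` or `σ τ`
  have hcase : (∀ x ∈ U, σ * x * σ⁻¹ = x⁻¹) ∨ ∀ x ∈ U, σ * τ * x * (σ * τ)⁻¹ = x⁻¹ := by
    rcases hact hs₀ with e | e | e | e
    · refine absurd ((eq_bot_iff_forall _).2 fun x hx => hone x hx ?_) hU1
      rw [← hsx x hx, e x (h.commute_core hx)]
    · exfalso
      have hR : R = ⊥ := (eq_bot_iff_forall _).2 fun x hx => hone x hx.1 (by
        rw [← hsx x hx.1, e x (h.commute_core hx.1), hfix h.hτ hx])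
      rw [hR, card_bot] at hr
      omega
    · exact Or.inl fun x hx => by rw [← e x (h.commute_core hx)]; exact hsx x hx
    · refine Or.inr fun x hx => ?_
      rw [show σ * τ * x * (σ * τ)⁻¹ = σ * (τ * x * τ⁻¹) * σ⁻¹ by group, ← e x (h.commute_core hx)]
      exact hsx x hx
  -- at most nine elements
  have h9 : Nat.card ↥U ≤ 9 := by
    refine card_le_nine τ (fun x hx => ⟨hl3 x hx, hl3 _ (hcU h.hτ hx)⟩) fun x hx y hy e1 e2 => ?_
    refine mul_inv_eq_one.1 (hfaith _ (mul_mem hx (inv_mem hy)) fun s hs => ?_)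
    have hz : x * y⁻¹ ∈ U := mul_mem hx (inv_mem hy)
    have hz1 : l (x * y⁻¹) = 1 := by rw [hmul _ hx _ (inv_mem hy), hlinv y hy, e1, mul_inv_cancel]
    have hz2 : l (τ * (x * y⁻¹) * τ⁻¹) = 1 := by
      rw [show τ * (x * y⁻¹) * τ⁻¹ = (τ * x * τ⁻¹) * (τ * y * τ⁻¹)⁻¹ by group,
        hmul _ (hcU h.hτ hx) _ (inv_mem (hcU h.hτ hy)), hlinv _ (hcU h.hτ hy), e2, mul_inv_cancel]
    have hzc := h.commute_core hz
    have hzτ := hcU h.hτ hz
    have hz1' : l (x * y⁻¹)⁻¹ = 1 := by rw [hlinv _ hz, hz1, inv_one]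
    have hz2' : l (τ * (x * y⁻¹) * τ⁻¹)⁻¹ = 1 := by rw [hlinv _ hzτ, hz2, inv_one]
    rcases hact hs with a | a | a | a <;> rw [a _ hzc]
    · exact hz1
    · exact hz2
    · rcases hcase with b | b
      · rw [b _ hz]; exact hz1'
      · have h1 := b _ hzτ
        rw [show σ * τ * (τ * (x * y⁻¹) * τ⁻¹) * (σ * τ)⁻¹ = σ * (τ * (τ * (x * y⁻¹) * τ⁻¹) * τ⁻¹) * σ⁻¹ by group,
          htt] at h1
        rw [h1]; exact hz2'
    · rcases hcase with b | b
      · rw [b _ hzτ]
        exact hz2'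
      · rw [show σ * (τ * (x * y⁻¹) * τ⁻¹) * σ⁻¹ = σ * τ * (x * y⁻¹) * (σ * τ)⁻¹ by group, b _ hz]
        exact hz1'
  have hr1 : R1 = ⊥ := by
    rcases hcase with b | b
    swap
    · exact (eq_bot_iff_forall _).2 fun x hx => hone x hx.1 (by
        rw [← b x hx.1]; exact (hfix (mul_mem h.hσ h.hτ) hx).symm)
    have hd : R ⊓ R1 = ⊥ := (eq_bot_iff_forall _).2 fun x ⟨hx, hx'⟩ => hone x hx.1 (by
      rw [← b x hx.1]
      calc x = σ * τ * x * (σ * τ)⁻¹ := (hfix (mul_mem h.hσ h.hτ) hx').symm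
        _ = σ * (τ * x * τ⁻¹) * σ⁻¹ := by group
        _ = σ * x * σ⁻¹ := by rw [hfix h.hτ hx])
    have hle := Nat.card_le_card_of_injective (α := ↥R × ↥R1) (β := ↥U)
      (fun p => ⟨p.1 * p.2, mul_mem p.1.2.1 p.2.2.1⟩) (by
        rintro ⟨a, b'⟩ ⟨c, d⟩ e
        have e' : (a : G) * b' = c * d := congrArg Subtype.val e
        have hm : (c : G)⁻¹ * a ∈ R ⊓ R1 := Subgroup.mem_inf.2 ⟨mul_mem (inv_mem c.2) a.2, by
          rw [show (c : G)⁻¹ * a = d * (b' : G)⁻¹ by
            rw [eq_mul_inv_iff_mul_eq, mul_assoc, e']; group]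
          exact mul_mem d.2 (inv_mem b'.2)⟩
        rw [hd, mem_bot, inv_mul_eq_one] at hm
        have hac : c = a := Subtype.ext hm
        subst hac
        exact Prod.ext rfl (Subtype.ext (mul_left_cancel e')))
    rw [Nat.card_prod, hr] at hle
    refine Subgroup.card_eq_one.1 ?_
    have h0 : 0 < Nat.card ↥R1 := Nat.card_pos
    nlinarith [h9]
  have hr3 : Nat.card ↥R = 3 := by rw [hr, hr1, card_bot]
  refine ⟨?_, hr3, hr1⟩
  haveI : Fact (Nat.Prime 3) := ⟨Nat.prime_three⟩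
  have hp : IsPGroup 3 ↥U := fun x => ⟨1, Subtype.ext (by simpa using hx3 x x.2)⟩
  obtain ⟨k, hk⟩ := IsPGroup.iff_card.1 hp
  rw [hk] at h9
  rcases k with _ | _ | _ | k
  · exact absurd (Subgroup.card_eq_one.1 (by rw [hk, pow_zero])) hU1
  · exact Or.inl (by rw [hk, pow_one])
  · exact Or.inr (by rw [hk]; norm_num)
  · rw [pow_succ, pow_succ, pow_succ] at h9
    have := Nat.one_le_pow k 3 (by norm_num)
    omega

/-- With a core of order three the element `σ` leads to the small groups. -/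
theorem psl_or_seven_of_three (hn : n = 3) (h3 : Nat.card ↥(coreCent (central σ n)) = 3)
    (hR : Nat.card ↥(fixR (central σ n) τ) = 3) (hR1 : fixR (central σ n) (σ * τ) = ⊥) :
    IsPSLTwoOrSeven G := by
  haveI := h.simple
  refine small_of_order_four h.not_isMulCommutative S (by
      have e := h.equiv
      rwa [show 2 ^ (n - 1) = 4 by rw [hn]; norm_num] at e) σ
    (by rw [h.orderσ, hn]; norm_num) fun c hc ho => ?_
  have hct : Commute c (central σ n) := (show Commute c σ from hc).pow_right _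
  have hcU := h.mem_core_of_odd (mem_centralizer_singleton_iff.2 hct.eq) ho
  have hU : fixR (central σ n) τ = coreCent (central σ n) :=
    eq_of_le_of_card_ge inf_le_left (by rw [h3, hR])
  have hcτ : Commute c τ := mem_centralizer_singleton_iff.1 (hU ▸ hcU : c ∈ fixR (central σ n) τ).2
  have : c ∈ fixR (central σ n) (σ * τ) :=
    ⟨hcU, mem_centralizer_singleton_iff.2 ((show Commute c σ from hc).mul_right hcτ).eq⟩
  rwa [hR1, mem_bot] at this

end Hyp

end Cfsg.Agent.Invol.GW.Dihedral
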